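import Mathlib
import Cfsg.Agent.Lib.Char.ClassAlgebra
import Cfsg.Agent.Lib.Char.Ortho
import Cfsg.Agent.Lib.Invol.Dihedral
import Cfsg.Agent.Lib.Invol.Counting

/-!
Characters evaluated on involutions: integrality, parity, orthogonality sums, counting of
pairs of involutions with given product.
-/

set_option autoImplicit false

namespace CfsgLib.InvolChar

open scoped ComplexConjugate

universe u

variable {G : Type u} [Group G] [Finite G]

/-- The degree of an irreducible character, as a natural number. -/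
noncomputable def deg (χ : Cfsg.IrrCharacter G) : ℕ :=
  (CfsgLib.Char.exists_degree_pos χ.2).choose

theorem deg_pos (χ : Cfsg.IrrCharacter G) : 0 < deg χ :=
  (CfsgLib.Char.exists_degree_pos χ.2).choose_spec.1

theorem deg_spec (χ : Cfsg.IrrCharacter G) : (χ : G → ℂ) 1 = deg χ :=
  (CfsgLib.Char.exists_degree_pos χ.2).choose_spec.2

theorem exists_int_value (χ : Cfsg.IrrCharacter G) {x : G} (hx : x * x = 1) :
    ∃ c : ℤ, (χ : G → ℂ) x = (c : ℂ) ∧ Even ((deg χ : ℤ) - c) ∧ |c| ≤ (deg χ : ℤ) := by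
  obtain ⟨n, ρ, hirr, hρ⟩ := χ.2
  obtain ⟨z, hz, hs⟩ := CfsgLib.Char.exists_roots_char ρ x
  have hd : Module.finrank ℂ (Fin n → ℂ) = deg χ := by
    have h1 := deg_spec χ
    rw [← hρ, Representation.char_one] at h1
    exact_mod_cast h1
  have hz2 : ∀ i, z i = 1 ∨ z i = -1 := by
    intro i
    have h2 : orderOf x ∣ 2 := orderOf_dvd_of_pow_eq_one (by rw [sq]; exact hx)
    obtain ⟨k, hk⟩ := h2
    have h3 : z i ^ 2 = 1 := by rw [hk, pow_mul, hz i, one_pow]
    exact sq_eq_one_iff.1 h3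
  classical
  let e : Fin (Module.finrank ℂ (Fin n → ℂ)) → ℤ := fun i => if z i = 1 then 1 else -1
  have he : ∀ i, (e i : ℂ) = z i := by
    intro i
    rcases hz2 i with h | h
    · simp [e, h]
    · rw [h]; simp [e, h, show (-1 : ℂ) ≠ 1 by norm_num]
  refine ⟨∑ i, e i, ?_, ?_, ?_⟩
  · rw [← hρ, hs]; push_cast
    exact Finset.sum_congr rfl fun i _ => (he i).symm
  · have : (deg χ : ℤ) = ∑ _i : Fin (Module.finrank ℂ (Fin n → ℂ)), (1 : ℤ) := by simp [← hd]
    rw [this, ← Finset.sum_sub_distrib]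
    refine Finset.even_sum _ fun i _ => ?_
    by_cases h : z i = 1 <;> simp [e, h]
  · refine (Finset.abs_sum_le_sum_abs _ _).trans (le_of_eq ?_)
    rw [← hd]
    have : ∀ i, |e i| = 1 := fun i => by by_cases h : z i = 1 <;> simp [e, h]
    simp [this]

/-- The integer value of an irreducible character at an involution. -/
noncomputable def intVal (χ : Cfsg.IrrCharacter G) {x : G} (hx : x * x = 1) : ℤ :=
  (exists_int_value χ hx).choose

theorem intVal_spec (χ : Cfsg.IrrCharacter G) {x : G} (hx : x * x = 1) :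
    (χ : G → ℂ) x = (intVal χ hx : ℂ) :=
  (exists_int_value χ hx).choose_spec.1

theorem intVal_parity (χ : Cfsg.IrrCharacter G) {x : G} (hx : x * x = 1) :
    Even ((deg χ : ℤ) - intVal χ hx) :=
  (exists_int_value χ hx).choose_spec.2.1

theorem intVal_one (χ : Cfsg.IrrCharacter G) {x : G} (hx : x * x = 1) (h : x = 1) :
    intVal χ hx = (deg χ : ℤ) := by
  have h1 := intVal_spec χ hx
  subst h
  rw [deg_spec χ] at h1
  exact_mod_cast h1.symm

theorem intVal_irrOne {x : G} (hx : x * x = 1) :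
    intVal (CfsgLib.Char.irrOne : Cfsg.IrrCharacter G) hx = 1 := by
  have h := intVal_spec (CfsgLib.Char.irrOne : Cfsg.IrrCharacter G) hx
  rw [CfsgLib.Char.irrOne_apply] at h
  exact_mod_cast h.symm

theorem deg_irrOne : deg (CfsgLib.Char.irrOne : Cfsg.IrrCharacter G) = 1 := by
  have h := deg_spec (CfsgLib.Char.irrOne : Cfsg.IrrCharacter G)
  rw [CfsgLib.Char.irrOne_apply] at h
  exact_mod_cast h.symm

theorem intVal_isConj (χ : Cfsg.IrrCharacter G) {x y : G} (hx : x * x = 1) (hy : y * y = 1)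
    (h : IsConj x y) : intVal χ hx = intVal χ hy := by
  have h1 : (χ : G → ℂ) x = (χ : G → ℂ) y :=
    CfsgLib.Char.isClassFunction_iff.1 (CfsgLib.Char.isClassFunction_of_isIrr χ.2) x y h
  rw [intVal_spec χ hx, intVal_spec χ hy] at h1
  exact_mod_cast h1

/-- A linear character is multiplicative on involution values. -/
theorem intVal_mul_of_deg_one (χ : Cfsg.IrrCharacter G) (hd : deg χ = 1) {x y : G}
    (hx : x * x = 1) (hy : y * y = 1) (hxy : (x * y) * (x * y) = 1) :
    intVal χ hxy = intVal χ hx * intVal χ hy := by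
  have h1 : (χ : G → ℂ) 1 = 1 := by rw [deg_spec χ, hd]; norm_num
  have h2 := CfsgLib.Char.linear_map_mul (CfsgLib.Char.isCharacter_of_isIrr χ.2) h1 x y
  rw [intVal_spec χ hx, intVal_spec χ hy, intVal_spec χ hxy] at h2
  exact_mod_cast h2

theorem sum_intVal_sq {x : G} (hx : x * x = 1) :
    ∑ χ : Cfsg.IrrCharacter G, intVal χ hx ^ 2 =
      (Nat.card ↥(Subgroup.centralizer ({x} : Set G)) : ℤ) := by
  classical
  haveI := Fintype.ofFinite G
  have h := CfsgLib.Char.second_orthogonality x x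
  rw [if_pos (IsConj.refl x)] at h
  simp only [fun χ : Cfsg.IrrCharacter G => intVal_spec χ hx, map_intCast] at h
  have h2 : ((∑ χ : Cfsg.IrrCharacter G, intVal χ hx ^ 2 : ℤ) : ℂ) =
      ((Nat.card ↥(Subgroup.centralizer ({x} : Set G)) : ℤ) : ℂ) := by
    push_cast
    rw [← h]
    exact Finset.sum_congr rfl fun χ _ => sq _
  exact_mod_cast h2

theorem sum_intVal_mul {x y : G} (hx : x * x = 1) (hy : y * y = 1) (h : ¬ IsConj x y) :
    ∑ χ : Cfsg.IrrCharacter G, intVal χ hx * intVal χ hy = 0 := by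
  classical
  haveI := Fintype.ofFinite G
  have h' := CfsgLib.Char.second_orthogonality x y
  rw [if_neg h] at h'
  simp only [fun χ : Cfsg.IrrCharacter G => intVal_spec χ hx,
    fun χ : Cfsg.IrrCharacter G => intVal_spec χ hy, map_intCast] at h'
  have h2 : ((∑ χ : Cfsg.IrrCharacter G, intVal χ hx * intVal χ hy : ℤ) : ℂ) = ((0 : ℤ) : ℂ) := by
    push_cast
    exact h'
  exact_mod_cast h2

theorem sum_deg_mul_intVal {x : G} (hx : x * x = 1) (h : x ≠ 1) :
    ∑ χ : Cfsg.IrrCharacter G, (deg χ : ℤ) * intVal χ hx = 0 := by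
  classical
  haveI := Fintype.ofFinite G
  have h' := CfsgLib.Char.sum_degree_mul_apply x
  rw [if_neg h] at h'
  simp only [fun χ : Cfsg.IrrCharacter G => intVal_spec χ hx,
    fun χ : Cfsg.IrrCharacter G => deg_spec χ] at h'
  have h2 : ((∑ χ : Cfsg.IrrCharacter G, (deg χ : ℤ) * intVal χ hx : ℤ) : ℂ) = ((0 : ℤ) : ℂ) := by
    push_cast
    exact h'
  exact_mod_cast h2

/-- Class multiplication with given integer character values. -/
theorem pairs_eq_gen (a b c : G) (A B C : Cfsg.IrrCharacter G → ℤ)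
    (hA : ∀ χ : Cfsg.IrrCharacter G, (χ : G → ℂ) a = (A χ : ℂ))
    (hB : ∀ χ : Cfsg.IrrCharacter G, (χ : G → ℂ) b = (B χ : ℂ))
    (hC : ∀ χ : Cfsg.IrrCharacter G, (χ : G → ℂ) c = (C χ : ℂ)) :
    (Nat.card ↥(Subgroup.centralizer ({a} : Set G)) : ℚ) *
      (Nat.card ↥(Subgroup.centralizer ({b} : Set G)) : ℚ) *
      (Nat.card {p : G × G // IsConj a p.1 ∧ IsConj b p.2 ∧ p.1 * p.2 = c} : ℚ) =
    (Nat.card G : ℚ) * ∑ χ : Cfsg.IrrCharacter G, ((A χ * B χ * C χ : ℤ) : ℚ) / (deg χ : ℚ) := by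
  classical
  haveI := Fintype.ofFinite G
  have h := CfsgLib.Char.card_classProduct_eq a b c
  simp only [hA, hB, hC, fun χ : Cfsg.IrrCharacter G => deg_spec χ, map_intCast] at h
  have eA : (Nat.card {x : G // IsConj a x} : ℂ) *
      (Nat.card ↥(Subgroup.centralizer ({a} : Set G)) : ℂ) = (Nat.card G : ℂ) := by
    exact_mod_cast CfsgLib.Invol.card_conjugates_mul a
  have eB : (Nat.card {x : G // IsConj b x} : ℂ) *
      (Nat.card ↥(Subgroup.centralizer ({b} : Set G)) : ℂ) = (Nat.card G : ℂ) := by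
    exact_mod_cast CfsgLib.Invol.card_conjugates_mul b
  have hG : (Nat.card G : ℂ) ≠ 0 := by exact_mod_cast Nat.card_pos.ne'
  have key : (Nat.card ↥(Subgroup.centralizer ({a} : Set G)) : ℂ) *
      (Nat.card ↥(Subgroup.centralizer ({b} : Set G)) : ℂ) *
      (Nat.card {p : G × G // IsConj a p.1 ∧ IsConj b p.2 ∧ p.1 * p.2 = c} : ℂ) =
      (Nat.card G : ℂ) * ∑ χ : Cfsg.IrrCharacter G, ((A χ * B χ * C χ : ℤ) : ℂ) / (deg χ : ℂ) := by
    rw [h]
    set CA := (Nat.card ↥(Subgroup.centralizer ({a} : Set G)) : ℂ) with hCA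
    set CB := (Nat.card ↥(Subgroup.centralizer ({b} : Set G)) : ℂ) with hCB
    push_cast
    field_simp
    rw [show CA * CB * (Nat.card {x : G // IsConj a x} : ℂ) * (Nat.card {x : G // IsConj b x} : ℂ)
      = ((Nat.card {x : G // IsConj a x} : ℂ) * CA) * ((Nat.card {x : G // IsConj b x} : ℂ) * CB)
        by ring, eA, eB]
    ring
  apply_fun (fun q : ℚ => (q : ℂ)) using Rat.cast_injective
  push_cast at key ⊢
  exact key

/-- Class multiplication for elements whose square is `1`, with rational values: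
`|C(a)| |C(b)| · #{(u,v) ∈ aᴳ × bᴳ : uv = c} = |G| · ∑ χ(a) χ(b) χ(c) / χ(1)`. -/
theorem pairs_eq {a b c : G} (ha : a * a = 1) (hb : b * b = 1) (hc : c * c = 1) :
    (Nat.card ↥(Subgroup.centralizer ({a} : Set G)) : ℚ) *
      (Nat.card ↥(Subgroup.centralizer ({b} : Set G)) : ℚ) *
      (Nat.card {p : G × G // IsConj a p.1 ∧ IsConj b p.2 ∧ p.1 * p.2 = c} : ℚ) =
    (Nat.card G : ℚ) * ∑ χ : Cfsg.IrrCharacter G,
      ((intVal χ ha * intVal χ hb * intVal χ hc : ℤ) : ℚ) / (deg χ : ℚ) :=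
  pairs_eq_gen a b c _ _ _ (fun χ : Cfsg.IrrCharacter G => intVal_spec χ ha) (fun χ => intVal_spec χ hb)
    (fun χ => intVal_spec χ hc)

/-- A real element of order dividing `4` has integral character values, congruent to the value
at its square modulo `2`. -/
theorem exists_int_value_four (χ : Cfsg.IrrCharacter G) {x : G} (hx : x ^ 4 = 1)
    (hreal : IsConj x x⁻¹) (hx2 : x * x * (x * x) = 1) :
    ∃ c : ℤ, (χ : G → ℂ) x = (c : ℂ) ∧ Even (intVal χ hx2 - c) := by
  obtain ⟨n, ρ, hirr, hρ⟩ := χ.2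
  obtain ⟨z, hz, hs⟩ := CfsgLib.Char.exists_roots_char_pow ρ x
  have hz4 : ∀ i, z i = 1 ∨ z i = -1 ∨ z i = Complex.I ∨ z i = -Complex.I := by
    intro i
    obtain ⟨k, hk⟩ := orderOf_dvd_of_pow_eq_one hx
    have h4 : z i ^ 4 = 1 := by rw [hk, pow_mul, hz i, one_pow]
    have h : (z i - 1) * ((z i + 1) * ((z i - Complex.I) * (z i + Complex.I))) = 0 := by
      linear_combination h4 - (z i ^ 2 - 1) * Complex.I_sq
    rcases mul_eq_zero.1 h with h | h
    · left; exact sub_eq_zero.1 h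
    rcases mul_eq_zero.1 h with h | h
    · right; left; exact eq_neg_of_add_eq_zero_left h
    rcases mul_eq_zero.1 h with h | h
    · right; right; left; exact sub_eq_zero.1 h
    · right; right; right; exact eq_neg_of_add_eq_zero_left h
  classical
  let r : Fin (Module.finrank ℂ (Fin n → ℂ)) → ℤ := fun i =>
    if z i = 1 then 1 else if z i = -1 then -1 else 0
  let m : Fin (Module.finrank ℂ (Fin n → ℂ)) → ℤ := fun i =>
    if z i = Complex.I then 1 else if z i = -Complex.I then -1 else 0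
  have key : ∀ i, z i = (r i : ℂ) + (m i : ℂ) * Complex.I ∧ z i ^ 2 = ((r i ^ 2 - m i ^ 2 : ℤ) : ℂ)
      ∧ Even (r i ^ 2 - r i) ∧ Even (m i ^ 2 - m i) := by
    intro i
    rcases hz4 i with h | h | h | h <;> simp only [r, m, h] <;>
      norm_num [Complex.ext_iff, Complex.I_sq, pow_two]
  have h1 : (χ : G → ℂ) x = ((∑ i, r i : ℤ) : ℂ) + ((∑ i, m i : ℤ) : ℂ) * Complex.I := by
    rw [← hρ, ← pow_one x, hs 1]
    push_cast
    rw [Finset.sum_mul, ← Finset.sum_add_distrib]
    exact Finset.sum_congr rfl fun i _ => by rw [pow_one]; exact (key i).1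
  have him : (∑ i, m i) = 0 := by
    have hc : (starRingEnd ℂ) ((χ : G → ℂ) x) = (χ : G → ℂ) x := by
      rw [← CfsgLib.Char.char_inv (CfsgLib.Char.isCharacter_of_isIrr χ.2)]
      exact (CfsgLib.Char.isClassFunction_iff.1 (CfsgLib.Char.isClassFunction_of_isIrr χ.2) _ _ hreal).symm
    have := congrArg Complex.im hc
    rw [Complex.conj_im, h1] at this
    have h' : (((∑ i, m i : ℤ) : ℤ) : ℝ) = 0 := by
      simp only [Complex.add_im, Complex.mul_im, Complex.intCast_re, Complex.intCast_im,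
        Complex.I_re, Complex.I_im] at this
      linarith
    exact_mod_cast h'
  refine ⟨∑ i, r i, by rw [h1, him]; simp, ?_⟩
  have h2 : intVal χ hx2 = ∑ i, (r i ^ 2 - m i ^ 2) := by
    have e : (χ : G → ℂ) (x ^ 2) = (χ : G → ℂ) (x * x) := by rw [sq]
    have := e.trans (intVal_spec χ hx2)
    conv_lhs at this => rw [← hρ, hs 2, Finset.sum_congr rfl fun i _ => (key i).2.1]
    exact_mod_cast this.symm
  rw [h2, show (∑ i, (r i ^ 2 - m i ^ 2)) - ∑ i, r i =
    (∑ i, (r i ^ 2 - r i)) - (∑ i, (m i ^ 2 - m i)) - ∑ i, m i by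
      simp only [Finset.sum_sub_distrib]; ring, him, sub_zero]
  exact (Finset.even_sum _ fun i _ => (key i).2.2.1).sub (Finset.even_sum _ fun i _ => (key i).2.2.2)

end CfsgLib.InvolChar
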