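import Mathlib
import Cfsg.Agent.Lib.SLSteinberg.Inject
import Cfsg.Agent.Lib.Classical.SLBasic
import Cfsg.Agent.Lib.Classical.GLOrder

/-!
`SL₄(2) ≅ A₈`, from the Steinberg relations.
-/

set_option autoImplicit false

namespace CfsgLib.A8

open Matrix

/-- Images of the elementary transvections of `SL₄(2)` in `A₈`. -/
def σ : Fin 4 → Fin 4 → Equiv.Perm (Fin 8)
  | 0, 1 => Equiv.swap 0 1 * Equiv.swap 2 3 * Equiv.swap 4 5 * Equiv.swap 6 7
  | 0, 2 => Equiv.swap 0 7 * Equiv.swap 1 6 * Equiv.swap 2 5 * Equiv.swap 3 4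
  | 0, 3 => Equiv.swap 0 2 * Equiv.swap 1 3 * Equiv.swap 4 6 * Equiv.swap 5 7
  | 1, 0 => Equiv.swap 0 1 * Equiv.swap 2 4 * Equiv.swap 3 7 * Equiv.swap 5 6
  | 1, 2 => Equiv.swap 0 2 * Equiv.swap 1 4 * Equiv.swap 3 6 * Equiv.swap 5 7
  | 1, 3 => Equiv.swap 0 5 * Equiv.swap 1 6 * Equiv.swap 2 7 * Equiv.swap 3 4
  | 2, 0 => Equiv.swap 0 6 * Equiv.swap 1 5 * Equiv.swap 2 7 * Equiv.swap 3 4
  | 2, 1 => Equiv.swap 0 3 * Equiv.swap 1 2 * Equiv.swap 4 6 * Equiv.swap 5 7
  | 2, 3 => Equiv.swap 0 1 * Equiv.swap 2 3 * Equiv.swap 4 7 * Equiv.swap 5 6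
  | 3, 0 => Equiv.swap 0 4 * Equiv.swap 1 2 * Equiv.swap 3 6 * Equiv.swap 5 7
  | 3, 1 => Equiv.swap 0 6 * Equiv.swap 1 7 * Equiv.swap 2 5 * Equiv.swap 3 4
  | 3, 2 => Equiv.swap 0 1 * Equiv.swap 2 4 * Equiv.swap 3 5 * Equiv.swap 6 7
  | _, _ => 1

/-- Elementary matrices over `ZMod 2`. -/
def T (i j : Fin 4) : Matrix (Fin 4) (Fin 4) (ZMod 2) :=
  Matrix.of fun a b => if a = b ∨ (a = i ∧ b = j) then 1 else 0

theorem σ_sq : ∀ i j, σ i j * σ i j = 1 := by decide +kernel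

theorem σ_sign : ∀ i j, Equiv.Perm.sign (σ i j) = 1 := by decide +kernel

theorem σ_ne : σ 0 1 ≠ 1 := by decide +kernel

theorem σ_comm0' : ∀ i j k l : Fin 4,
    (i = j ∨ k = l ∨ i = l ∨ j = k) ∨ σ i j * σ k l = σ k l * σ i j := by
  decide +kernel

theorem σ_comm0 (i j k l : Fin 4) (h1 : i ≠ j) (h2 : k ≠ l) (h3 : i ≠ l) (h4 : j ≠ k) :
    σ i j * σ k l = σ k l * σ i j :=
  (σ_comm0' i j k l).resolve_left fun h => by rcases h with h | h | h | h <;> contradiction

theorem σ_comm1 : ∀ i j k : Fin 4, i ≠ j → j ≠ k → i ≠ k → σ i j * σ j k * σ i j = σ i k * σ j k := by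
  decide +kernel

theorem T_sq : ∀ i j, i ≠ j → T i j * T i j = 1 := by decide +kernel

theorem T_comm0 : ∀ i j k l : Fin 4, i ≠ j → k ≠ l → i ≠ l → j ≠ k → T i j * T k l = T k l * T i j := by
  decide +kernel

theorem T_comm1 : ∀ i j k : Fin 4, i ≠ j → j ≠ k → i ≠ k → T i j * T j k * T i j = T i k * T j k := by
  decide +kernel

theorem T_eq {i j : Fin 4} (h : i ≠ j) :
    Matrix.transvection i j (1 : ZMod 2) = T i j := by
  ext a b
  simp only [Matrix.transvection, Matrix.add_apply, Matrix.one_apply, Matrix.single_apply, T, Matrix.of_apply]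
  by_cases hab : a = b
  · subst hab
    simp only [true_or, if_true]
    rw [if_neg (fun hh => h (hh.1.trans hh.2.symm)), add_zero]
  · simp [hab, eq_comm]

theorem zmod_two_cases : ∀ t : ZMod 2, t = 0 ∨ t = 1 := by decide

/-- The pair of a transvection and its image. -/
noncomputable def pr (i j : Fin 4) :
    Matrix.SpecialLinearGroup (Fin 4) (ZMod 2) × ↥(alternatingGroup (Fin 8)) :=
  if h : i = j then 1 else (SpecialLinearGroup.transvection h 1, ⟨σ i j, σ_sign i j⟩)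

theorem pr_fst {i j : Fin 4} (h : i ≠ j) : ((pr i j).1 : Matrix (Fin 4) (Fin 4) (ZMod 2)) = T i j := by
  rw [pr, dif_neg h, ← T_eq h]; rfl

theorem pr_snd {i j : Fin 4} (h : i ≠ j) : ((pr i j).2 : Equiv.Perm (Fin 8)) = σ i j := by
  rw [pr, dif_neg h]

theorem pr_ext {a b : Matrix.SpecialLinearGroup (Fin 4) (ZMod 2) × ↥(alternatingGroup (Fin 8))}
    (h1 : (a.1 : Matrix (Fin 4) (Fin 4) (ZMod 2)) = b.1)
    (h2 : (a.2 : Equiv.Perm (Fin 8)) = b.2) : a = b :=
  Prod.ext (Subtype.ext h1) (Subtype.ext h2)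

theorem pr_sq {i j : Fin 4} (h : i ≠ j) : pr i j * pr i j = 1 :=
  pr_ext (by
      show ((pr i j).1 : Matrix (Fin 4) (Fin 4) (ZMod 2)) * ((pr i j).1 : Matrix (Fin 4) (Fin 4) (ZMod 2)) = 1
      rw [pr_fst h, T_sq i j h])
    (by rw [Prod.snd_mul, Subgroup.coe_mul, pr_snd h, σ_sq]; rfl)

/-- `SL₄(2) ≅ A₈`, sending each elementary transvection to its table entry. -/
theorem sl4_equiv_spec : ∃ θ : Matrix.SpecialLinearGroup (Fin 4) (ZMod 2) ≃* ↥(alternatingGroup (Fin 8)),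
    ∀ i j (s : Matrix.SpecialLinearGroup (Fin 4) (ZMod 2)), i ≠ j →
      (s : Matrix (Fin 4) (Fin 4) (ZMod 2)) = T i j → ((θ s : ↥(alternatingGroup (Fin 8))) : Equiv.Perm (Fin 8)) = σ i j := by
  classical
  haveI : Fact (Nat.Prime 2) := ⟨Nat.prime_two⟩
  let S := Matrix.SpecialLinearGroup (Fin 4) (ZMod 2)
  let A := ↥(alternatingGroup (Fin 8))
  let H : Subgroup (S × A) := Subgroup.closure {g | ∃ i j, i ≠ j ∧ g = pr i j}
  let x : Fin 4 → Fin 4 → ZMod 2 → ↥H := fun i j t =>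
    if h : i = j ∨ t = 0 then 1 else
      ⟨pr i j, Subgroup.subset_closure ⟨i, j, fun e => h (Or.inl e), rfl⟩⟩
  have x0 : ∀ i j, x i j 0 = 1 := fun i j => dif_pos (Or.inr rfl)
  have x1 : ∀ i j, i ≠ j → (x i j 1 : S × A) = pr i j := fun i j h => by
    simp only [x]
    rw [dif_neg (by rintro (e | e); exacts [h e, one_ne_zero e])]
  have hC : CfsgLib.SLSteinberg.StComm x := by
    refine ⟨?_, ?_, ?_⟩
    · intro i j t u hij
      rcases zmod_two_cases t with rfl | rfl <;> rcases zmod_two_cases u with rfl | rfl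
      · rw [add_zero, x0, one_mul]
      · rw [zero_add, x0, one_mul]
      · rw [add_zero, x0, mul_one]
      · rw [show (1 : ZMod 2) + 1 = 0 from rfl, x0]
        apply Subtype.ext
        rw [Subgroup.coe_mul, x1 i j hij, pr_sq hij]; rfl
    · intro i j k l hij hkl hil hjk t u
      rcases zmod_two_cases t with rfl | rfl <;> rcases zmod_two_cases u with rfl | rfl
      iterate 3 (first | (rw [x0]; exact Commute.one_left _) | (rw [x0 k l]; exact Commute.one_right _))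
      refine Subtype.ext ?_
      rw [Subgroup.coe_mul, Subgroup.coe_mul, x1 i j hij, x1 k l hkl]
      refine pr_ext ?_ ?_
      · show ((pr i j).1 : Matrix (Fin 4) (Fin 4) (ZMod 2)) * ((pr k l).1 : Matrix (Fin 4) (Fin 4) (ZMod 2)) =
          ((pr k l).1 : Matrix (Fin 4) (Fin 4) (ZMod 2)) * ((pr i j).1 : Matrix (Fin 4) (Fin 4) (ZMod 2))
        rw [pr_fst hij, pr_fst hkl]
        exact T_comm0 i j k l hij hkl hil hjk
      · simp only [Prod.snd_mul, Subgroup.coe_mul, pr_snd hij, pr_snd hkl]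
        exact σ_comm0 i j k l hij hkl hil hjk
    · intro i j k hij hjk hik t u
      rcases zmod_two_cases t with rfl | rfl <;> rcases zmod_two_cases u with rfl | rfl
      · simp [x0]
      · simp [x0]
      · simp [x0]
      refine Subtype.ext ?_
      rw [show (1 : ZMod 2) * 1 = 1 from rfl, Subgroup.coe_mul, Subgroup.coe_mul, Subgroup.coe_inv,
        x1 i j hij, x1 j k hjk, inv_eq_of_mul_eq_one_right (pr_sq hij), Subgroup.coe_mul, x1 i k hik,
        x1 j k hjk]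
      refine pr_ext ?_ ?_
      · show ((pr i j).1 : Matrix (Fin 4) (Fin 4) (ZMod 2)) * ((pr j k).1 : Matrix (Fin 4) (Fin 4) (ZMod 2)) *
            ((pr i j).1 : Matrix (Fin 4) (Fin 4) (ZMod 2)) =
          ((pr i k).1 : Matrix (Fin 4) (Fin 4) (ZMod 2)) * ((pr j k).1 : Matrix (Fin 4) (Fin 4) (ZMod 2))
        rw [pr_fst hij, pr_fst hjk, pr_fst hik]
        exact T_comm1 i j k hij hjk hik
      · simp only [Prod.snd_mul, Subgroup.coe_mul, pr_snd hij, pr_snd hjk, pr_snd hik]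
        exact σ_comm1 i j k hij hjk hik
  have hR := hC.toRel (by decide)
  let φ : ↥H →* S := (MonoidHom.fst S A).comp H.subtype
  let ψ : ↥H →* A := (MonoidHom.snd S A).comp H.subtype
  have hφx : ∀ i j (t : ZMod 2), i ≠ j → ((φ (x i j t) : S) : Matrix (Fin 4) (Fin 4) (ZMod 2)) = transvection i j t := by
    intro i j t hij
    rcases zmod_two_cases t with rfl | rfl
    · rw [x0, map_one, transvection_zero]; rfl
    · show (((x i j 1 : S × A)).1 : Matrix (Fin 4) (Fin 4) (ZMod 2)) = _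
      rw [x1 i j hij, pr_fst hij, T_eq hij]
  have hgen : Subgroup.closure {g | ∃ i j, i ≠ j ∧ ∃ t, g = x i j t} = ⊤ := by
    rw [eq_top_iff]
    have : (⊤ : Subgroup ↥H) = Subgroup.closure ((fun g : ↥H => (g : S × A)) ⁻¹' {g | ∃ i j, i ≠ j ∧ g = pr i j}) :=
      (Subgroup.closure_closure_coe_preimage).symm
    rw [this, Subgroup.closure_le]
    rintro g ⟨i, j, hij, hg⟩
    exact Subgroup.subset_closure ⟨i, j, hij, 1, Subtype.ext (hg.trans (x1 i j hij).symm)⟩
  have hinj := CfsgLib.SLSteinberg.exists_hom x hR φ hφx hgen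
  have hsurj : Function.Surjective φ := MonoidHom.range_eq_top.1
    (CfsgLib.Classical.SL_le_of_transvections _ fun i j hij c => ⟨x i j c, Subtype.ext (hφx i j c hij)⟩)
  let e : ↥H ≃* S := MulEquiv.ofBijective φ ⟨hinj, hsurj⟩
  let θ : S →* A := ψ.comp e.symm.toMonoidHom
  have hθ : θ (φ (x 0 1 1)) ≠ 1 := by
    show ψ (e.symm (e (x 0 1 1))) ≠ 1
    rw [MulEquiv.symm_apply_apply]
    intro h
    apply σ_ne
    have h1 : ((x 0 1 1 : S × A)).2 = 1 := h
    rw [x1 0 1 (by decide)] at h1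
    rw [← pr_snd (i := 0) (j := 1) (by decide), h1]; rfl
  have hS := CfsgLib.Classical.card_SL_mul (F := ZMod 2) (q := 2) (ZMod.card 2) 4 (by norm_num)
  have hcS : Nat.card S = 20160 := by
    have h1 : (2 - 1) * Nat.card S = 20160 := hS.trans (by norm_num [Fin.prod_univ_four])
    omega
  have hcA : Nat.card A = 20160 := by
    rw [nat_card_alternatingGroup, Nat.card_fin]
    norm_num [Nat.factorial]
  have hZ : Subgroup.center S = ⊥ := by
    rw [Subgroup.eq_bot_iff_forall]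
    intro z hz
    obtain ⟨r, hr, hrz⟩ := Matrix.SpecialLinearGroup.mem_center_iff.1 hz
    rcases zmod_two_cases r with rfl | rfl
    · rw [Fintype.card_fin, zero_pow (by norm_num)] at hr; exact absurd hr zero_ne_one
    · exact Subtype.ext (by rw [← hrz]; simp)
  haveI : IsSimpleGroup S := by
    haveI : IsSimpleGroup (ProjectiveSpecialLinearGroup (Fin 4) (ZMod 2)) :=
      CfsgLib.Classical.isSimpleGroup_PSL (by simp)
    exact ((QuotientGroup.quotientBot.symm).trans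
      (QuotientGroup.quotientMulEquivOfEq hZ.symm)).isSimpleGroup
  have hker : θ.ker = ⊥ := (inferInstance : θ.ker.Normal).eq_bot_or_eq_top.resolve_right
    fun h => hθ (MonoidHom.mem_ker.1 (h ▸ Subgroup.mem_top _))
  refine ⟨MulEquiv.ofBijective θ ((Nat.bijective_iff_injective_and_card θ).2
    ⟨(MonoidHom.ker_eq_bot_iff θ).1 hker, hcS.trans hcA.symm⟩), fun i j s hij hs => ?_⟩
  have hs' : s = φ (x i j 1) := Subtype.ext (by rw [hs, hφx i j 1 hij, T_eq hij])
  subst hs'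
  show ((ψ (e.symm (e (x i j 1))) : A) : Equiv.Perm (Fin 8)) = σ i j
  rw [MulEquiv.symm_apply_apply]
  show (((x i j 1 : S × A)).2 : Equiv.Perm (Fin 8)) = σ i j
  rw [x1 i j hij, pr_snd hij]

/-- `SL₄(2) ≅ A₈`. -/
theorem sl4_equiv : Nonempty (Matrix.SpecialLinearGroup (Fin 4) (ZMod 2) ≃* ↥(alternatingGroup (Fin 8))) :=
  let ⟨θ, _⟩ := sl4_equiv_spec
  ⟨θ⟩

end CfsgLib.A8
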