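import Mathlib
import Cfsg.Agent.Lib.InvolChar.A8
import Cfsg.Agent.Lib.PGroup.Basic
import Cfsg.Agent.Lib.LocalEven.CharP
import Cfsg.Agent.Lib.Solvable.CoprimeAction

/-!
`GL₄(2) ≅ A₈`; groups of characteristic 2 with small Frattini quotient of the 2-core act in `A₈`.
-/

set_option autoImplicit false

namespace CfsgLib.A8

open Matrix
open scoped commutatorElement

/-- If every invertible matrix has determinant one, `GL = SL`. -/
def glEquivSL {K : Type*} [CommRing K] {ι : Type*} [Fintype ι] [DecidableEq ι]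
    (hdet : ∀ g : GL ι K, (g : Matrix ι ι K).det = 1) : GL ι K ≃* SpecialLinearGroup ι K where
  toFun g := ⟨g, hdet g⟩
  invFun s := SpecialLinearGroup.toGL s
  left_inv _ := Units.ext rfl
  right_inv _ := Subtype.ext rfl
  map_mul' _ _ := Subtype.ext rfl

theorem det_eq_one (g : GL (Fin 4) (ZMod 2)) : (g : Matrix (Fin 4) (Fin 4) (ZMod 2)).det = 1 := by
  haveI : Fact (Nat.Prime 2) := ⟨Nat.prime_two⟩
  have hu : IsUnit (g : Matrix (Fin 4) (Fin 4) (ZMod 2)).det :=
    (Matrix.isUnit_iff_isUnit_det (g : Matrix (Fin 4) (Fin 4) (ZMod 2))).1 g.isUnit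
  generalize (g : Matrix (Fin 4) (Fin 4) (ZMod 2)).det = d at hu
  exact (zmod_two_cases d).resolve_left hu.ne_zero

/-- `GL₄(2) ≅ A₈`. -/
theorem gl4_equiv : Nonempty (GL (Fin 4) (ZMod 2) ≃* ↥(alternatingGroup (Fin 8))) := by
  obtain ⟨e⟩ := sl4_equiv
  exact ⟨(glEquivSL det_eq_one).trans e⟩

/-- A group of exponent two and order at most 16 has automorphism group inside `A₈`. -/
theorem exists_aut_hom {V : Type*} [Group V] [Finite V] (h2 : ∀ v : V, v ^ 2 = 1)
    (h16 : Nat.card V ≤ 2 ^ 4) :
    ∃ f : MulAut V →* ↥(alternatingGroup (Fin 8)), Function.Injective f := by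
  classical
  haveI : Fact (Nat.Prime 2) := ⟨Nat.prime_two⟩
  obtain ⟨e8⟩ := gl4_equiv
  have hcomm : ∀ a b : V, a * b = b * a := fun a b => by
    have hi : ∀ c : V, c⁻¹ = c := fun c => inv_eq_of_mul_eq_one_right (by rw [← sq, h2])
    rw [← hi (a * b), _root_.mul_inv_rev, hi, hi]
  letI : CommGroup V := { ‹Group V› with mul_comm := hcomm }
  letI : Module (ZMod 2) (Additive V) := AddCommGroup.zmodModule fun v => by
    apply Additive.toMul.injective
    rw [toMul_nsmul, toMul_zero]
    exact h2 _
  have hd : Module.finrank (ZMod 2) (Additive V) ≤ 4 := by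
    have h := Module.natCard_eq_pow_finrank (K := ZMod 2) (V := Additive V)
    rw [Nat.card_zmod] at h
    have hV : Nat.card (Additive V) = Nat.card V := Nat.card_congr Additive.toMul
    rw [hV] at h
    exact (Nat.pow_le_pow_iff_right (by norm_num : 1 < 2)).1 (h ▸ h16)
  set d := Module.finrank (ZMod 2) (Additive V)
  haveI : Module.Finite (ZMod 2) (Additive V) := Module.Finite.of_finite
  obtain ⟨L⟩ : Nonempty ((Additive V × (Fin (4 - d) → ZMod 2)) ≃ₗ[ZMod 2] (Fin 4 → ZMod 2)) :=
    FiniteDimensional.nonempty_linearEquiv_of_finrank_eq (by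
      rw [Module.finrank_prod, Module.finrank_fin_fun, Module.finrank_fin_fun]; omega)
  let toL : MulAut V → ((Additive V) ≃ₗ[ZMod 2] (Additive V)) := fun g =>
    { (MulEquiv.toAdditive g : Additive V ≃+ Additive V) with
      map_smul' := fun c x => ZMod.map_smul (MulEquiv.toAdditive g : Additive V ≃+ Additive V).toAddMonoidHom c x }
  let M : MulAut V →* LinearMap.GeneralLinearGroup (ZMod 2) (Fin 4 → ZMod 2) :=
    { toFun := fun g => LinearMap.GeneralLinearGroup.ofLinearEquiv
        ((L.symm.trans ((toL g).prodCongr (LinearEquiv.refl _ _))).trans L)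
      map_one' := Units.ext (LinearMap.ext fun x => by
        show L ((L.symm x).1, (L.symm x).2) = x
        exact L.apply_symm_apply x)
      map_mul' := fun a b => Units.ext (LinearMap.ext fun x => by
        show L (Additive.ofMul ((a * b) (Additive.toMul (L.symm x).1)), (L.symm x).2) =
          L (Additive.ofMul (a (Additive.toMul (L.symm (L (Additive.ofMul (b (Additive.toMul (L.symm x).1)),
            (L.symm x).2))).1)), (L.symm (L (Additive.ofMul (b (Additive.toMul (L.symm x).1)),
            (L.symm x).2))).2)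
        rw [L.symm_apply_apply]
        rfl) }
  let N : LinearMap.GeneralLinearGroup (ZMod 2) (Fin 4 → ZMod 2) ≃* GL (Fin 4) (ZMod 2) :=
    Matrix.GeneralLinearGroup.toLin.symm
  refine ⟨(e8.toMonoidHom.comp N.toMonoidHom).comp M, (e8.injective.comp N.injective).comp ?_⟩
  intro a b hab
  refine MulEquiv.ext fun v => ?_
  have h := LinearMap.congr_fun (congrArg Units.val hab) (L (Additive.ofMul v, 0))
  change L (Additive.ofMul (a (Additive.toMul (L.symm (L (Additive.ofMul v, 0))).1)), (L.symm (L (Additive.ofMul v, 0))).2) =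
    L (Additive.ofMul (b (Additive.toMul (L.symm (L (Additive.ofMul v, 0))).1)), (L.symm (L (Additive.ofMul v, 0))).2) at h
  rw [L.symm_apply_apply] at h
  exact congrArg (fun p => Additive.toMul p.1) (L.injective h)

/-- The action on the Frattini quotient of a normal subgroup. -/
noncomputable def frattiniAct {X : Type*} [Group X] (R : Subgroup X) [R.Normal] :
    X →* MulAut (↥R ⧸ frattini ↥R) where
  toFun x := QuotientGroup.congr _ _ (MulAut.conjNormal x)
    (Subgroup.characteristic_iff_map_eq.1 inferInstance _)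
  map_one' := MulEquiv.ext fun v => by
    induction v using QuotientGroup.induction_on with
    | _ r =>
      show ((MulAut.conjNormal (1 : X) r : R) : ↥R ⧸ frattini ↥R) = (r : ↥R ⧸ frattini ↥R)
      rw [map_one]; rfl
  map_mul' x y := MulEquiv.ext fun v => by
    induction v using QuotientGroup.induction_on with
    | _ r =>
      show ((MulAut.conjNormal (x * y) r : R) : ↥R ⧸ frattini ↥R) =
        ((MulAut.conjNormal x (MulAut.conjNormal y r) : R) : ↥R ⧸ frattini ↥R)
      rw [map_mul]; rfl

/-- In a group of characteristic `p`, `O_p` is the kernel of the action on its Frattini quotient. -/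
theorem ker_frattiniAct {X : Type*} [Group X] [Finite X] {p : ℕ} [Fact p.Prime]
    (hX : CfsgLib.LocalEven.HasCharP p X) :
    (frattiniAct (Cfsg.pCore p X)).ker = Cfsg.pCore p X := by
  set R := Cfsg.pCore p X with hR
  have hRp : IsPGroup p R := CfsgLib.Cores.isPGroup_pCore p
  refine le_antisymm ?_ fun x hx => ?_
  · refine CfsgLib.Cores.le_pCore (CfsgLib.LocalEven.isPGroup_of_forall_coprime fun x hxK hxo => ?_)
    refine hX.eq_one hxo fun v hv => ?_
    set C := (Subgroup.centralizer ({x} : Set X)).subgroupOf R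
    suffices hC : C ⊔ frattini ↥R = ⊤ by
      have h1 : C = ⊤ := CfsgLib.PGroup.eq_top_of_sup_frattini hC
      have h2 : (⟨v, hv⟩ : R) ∈ C := h1 ▸ Subgroup.mem_top _
      exact (Subgroup.mem_centralizer_singleton_iff.1 (Subgroup.mem_subgroupOf.1 h2)).symm
    rw [eq_top_iff]
    intro u _
    set Φ := (frattini ↥R).map R.subtype with hΦ
    have hxu : ∀ (a : X), a ∈ (frattiniAct R).ker → ∀ r : R, ⁅a, (r : X)⁆ ∈ Φ := by
      intro a ha r
      have h := MulEquiv.congr_fun (MonoidHom.mem_ker.1 ha) (r : ↥R ⧸ frattini ↥R)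
      have h1 : ((MulAut.conjNormal a r : R) : ↥R ⧸ frattini ↥R) = (r : ↥R ⧸ frattini ↥R) := h
      rw [QuotientGroup.eq] at h1
      have h3 : MulAut.conjNormal a r * r⁻¹ ∈ frattini ↥R := by
        have h4 := (inferInstance : (frattini ↥R).Normal).conj_mem _ (inv_mem h1) r
        simpa [mul_assoc] using h4
      exact ⟨_, h3, by simp [commutatorElement_def]⟩
    have hnorm : Subgroup.zpowers x ≤ Subgroup.normalizer (Φ : Set X) := by
      have hΦn : Φ.Normal := ⟨by
        rintro _ ⟨r, hr, rfl⟩ g
        exact ⟨MulAut.conjNormal g r, (Subgroup.characteristic_iff_map_eq.1 inferInstance _).le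
          ⟨r, hr, rfl⟩, MulAut.conjNormal_apply g r⟩⟩
      rw [Subgroup.normalizer_eq_top]; exact le_top
    have hcop : (Nat.card (Subgroup.zpowers x)).Coprime (Nat.card Φ) := by
      rw [Nat.card_zpowers]
      obtain ⟨k, hk⟩ := IsPGroup.iff_card.1 ((hRp.to_subgroup (frattini ↥R)).map R.subtype)
      rw [hk]
      exact hxo.pow_right k
    obtain ⟨n, hn, hnu⟩ := CfsgLib.Solvable.exists_mul_mem_centralizer (Subgroup.zpowers x) Φ hnorm hcop
      (Or.inl inferInstance) (u : X)
      (fun a ha => hxu a (Subgroup.zpowers_le.2 hxK ha) u)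
    obtain ⟨n', hn', rfl⟩ := hn
    have h5 : n' * u ∈ C := by
      rw [Subgroup.mem_subgroupOf, Subgroup.mem_centralizer_singleton_iff]
      exact (Subgroup.mem_centralizer_iff.1 hnu x (Subgroup.mem_zpowers x)).symm
    rw [show u = n'⁻¹ * (n' * u) by rw [inv_mul_cancel_left]]
    exact mul_mem (inv_mem (Subgroup.mem_sup_right hn')) (Subgroup.mem_sup_left h5)
  · refine MonoidHom.mem_ker.2 (MulEquiv.ext fun v => ?_)
    induction v using QuotientGroup.induction_on with
    | _ r =>
      show ((MulAut.conjNormal x r : R) : ↥R ⧸ frattini ↥R) = (r : ↥R ⧸ frattini ↥R)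
      have h : MulAut.conjNormal x r = ⟨x, hx⟩ * r * (⟨x, hx⟩ : R)⁻¹ := Subtype.ext (MulAut.conjNormal_apply x r)
      rw [h, QuotientGroup.mk_mul, QuotientGroup.mk_mul, QuotientGroup.mk_inv,
        CfsgLib.PGroup.quotient_frattini_comm hRp (QuotientGroup.mk (⟨x, hx⟩ : R)), mul_inv_cancel_right]

end CfsgLib.A8
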