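import Mathlib
import Cfsg.Agent.Lib.InvolChar.SmallAut
import Cfsg.Agent.Lib.SmallGroups.Basic
import Cfsg.Agent.Lib.SmallSimple.Order168
import Cfsg.Agent.Lib.Classical.SLBasic
import Cfsg.Agent.Lib.Classical22.CharSimple
import Cfsg.Agent.Lib.Recognition.SimplePower
import Cfsg.Agent.Lib.Solvable.MinimalNormal
import Cfsg.Agent.Lib.Cores.Basic
import Cfsg.Agent.Lib.Char.Burnside
import Cfsg.Agent.S0493

/-!
Subgroups of `A₈ ≅ GL₄(2)` with trivial `O₂` and trivial odd core.
-/

set_option autoImplicit false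
set_option maxHeartbeats 1000000

namespace CfsgLib.InvolChar.SubgroupsA8

open Equiv Equiv.Perm MulAction

theorem add_cancel_two : ∀ p q : ZMod 2, p + q + q = p := by decide

theorem smul_cancel_two : ∀ p q r : ZMod 2, p + q * r + q * r = p := by decide

theorem self_add_two : ∀ p : ZMod 2, p + p = 0 := by decide

variable {G : Type*} [Group G] [Finite G]

/-- An involution inverting a seven-cycle on at most eight points is odd. -/
theorem sign_of_inverts {k : ℕ} (hk : k ≤ 8) (s g : Perm (Fin k)) (hs : orderOf s = 7) (hg : g * g = 1)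
    (hinv : g * s * g⁻¹ = s⁻¹) : sign g = -1 := by
  classical
  have hgg : ∀ x, g (g x) = x := fun x => by rw [← Perm.mul_apply, hg, Perm.one_apply]
  obtain ⟨m, hm⟩ := cycleType_prime_order (σ := s) (hs ▸ (by norm_num : Nat.Prime 7))
  have hcard : s.support.card = 7 := by
    have h1 := sum_cycleType_le s
    rw [hm, Multiset.sum_replicate, hs, smul_eq_mul, Fintype.card_fin] at h1
    rw [← sum_cycleType, hm, Multiset.sum_replicate, hs, smul_eq_mul]
    omega
  have hcyc : s.IsCycle := by
    rw [← card_cycleType_eq_one, hm, Multiset.card_replicate]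
    have h1 := sum_cycleType_le s
    rw [hm, Multiset.sum_replicate, hs, smul_eq_mul, Fintype.card_fin] at h1
    omega
  have hconj : ∀ (i : ℕ) x, g ((s ^ i) x) = (s ^ i)⁻¹ (g x) := by
    intro i x
    have e : g * s ^ i * g⁻¹ = (s ^ i)⁻¹ := by rw [← conj_pow, hinv, inv_pow]
    rw [← e, inv_eq_of_mul_eq_one_right hg]
    simp [hgg]
  obtain ⟨b, hb⟩ : s.support.Nonempty := Finset.card_pos.1 (by omega)
  have hgb : g b ∈ s.support := by
    rw [mem_support] at hb ⊢
    intro e
    have h1 := hconj 1 b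
    rw [pow_one, (Perm.inv_eq_iff_eq.2 e.symm : s⁻¹ (g b) = g b)] at h1
    have h2 : g (s b) = g b := h1
    exact hb (g.injective h2)
  obtain ⟨j, hjb⟩ := hcyc.exists_pow_eq (mem_support.1 hb) (mem_support.1 hgb)
  have hper : ∀ n, (s ^ n) b = (s ^ (n % 7)) b := fun n => by
    conv_lhs => rw [← pow_mod_orderOf, hs]
  have hinj : ∀ a c, a < 7 → c < 7 → (s ^ a) b = (s ^ c) b → a = c := by
    intro a c ha hc e
    have := (hcyc.pow_eq_pow_iff).2 ⟨b, mem_support.1 hb, e⟩
    exact pow_injOn_Iio_orderOf (by rwa [Set.mem_Iio, hs]) (by rwa [Set.mem_Iio, hs]) this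
  set c := (s ^ (4 * j)) b with hc
  have hcs : c ∈ s.support := pow_apply_mem_support.2 hb
  have hsupp : g.support = s.support.erase c := by
    have outside : ∀ x, x ∉ s.support → g x = x := by
      intro x hx
      by_contra hne
      have hgx : g x ∉ s.support := by
        rw [notMem_support] at hx ⊢
        have h1 := hconj 1 x
        rw [pow_one, hx] at h1
        exact (Perm.inv_eq_iff_eq.1 h1.symm).symm
      have h2 : ({x, g x} : Finset (Fin k)) ⊆ s.supportᶜ := by
        intro y hy
        simp only [Finset.mem_insert, Finset.mem_singleton] at hy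
        rcases hy with rfl | rfl <;> simpa [Finset.mem_compl] using ‹_ ∉ s.support›
      have h3 := Finset.card_le_card h2
      rw [Finset.card_pair (Ne.symm hne), Finset.card_compl, hcard, Fintype.card_fin] at h3
      omega
    have hfix : ∀ a, a < 7 → (g ((s ^ a) b) = (s ^ a) b ↔ (2 * a) % 7 = j % 7) := by
      intro a _
      rw [hconj, Perm.inv_eq_iff_eq, ← hjb, ← Perm.mul_apply, ← pow_add, hper j, hper (a + a)]
      refine ⟨fun e => ?_, fun e => by rw [show a + a = 2 * a by ring, e]⟩
      have := hinj _ _ (Nat.mod_lt _ (by norm_num)) (Nat.mod_lt _ (by norm_num)) e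
      rw [show 2 * a = a + a by ring]; omega
    ext x
    rw [Finset.mem_erase, mem_support (f := g)]
    by_cases hx : x ∈ s.support
    · obtain ⟨a', rfl⟩ := hcyc.exists_pow_eq (mem_support.1 hb) (mem_support.1 hx)
      simp only [hx, and_true]
      obtain ⟨a, ha7, hae⟩ : ∃ a, a < 7 ∧ (s ^ a') b = (s ^ a) b := ⟨a' % 7, Nat.mod_lt _ (by norm_num), hper a'⟩
      rw [hae]
      rw [Ne, hfix a ha7, hc, hper (4 * j), Ne]
      refine not_congr ⟨fun e => by congr 1; congr 1; omega, fun e => ?_⟩
      have := hinj a _ ha7 (Nat.mod_lt _ (by norm_num)) e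
      omega
    · simp [hx, outside x hx]
  have hg1 : g ≠ 1 := by
    rintro rfl
    rw [support_one] at hsupp
    have := congrArg Finset.card hsupp
    rw [Finset.card_erase_of_mem hcs, hcard] at this
    simp at this
  obtain ⟨n, hn⟩ := cycleType_prime_order (σ := g)
    (by rw [orderOf_eq_prime (p := 2) (by rw [pow_two]; exact hg) hg1]; exact Nat.prime_two)
  rw [orderOf_eq_prime (p := 2) (by rw [pow_two]; exact hg) hg1] at hn
  have hsum : g.cycleType.sum = 6 := by
    rw [sum_cycleType, hsupp, Finset.card_erase_of_mem hcs, hcard]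
  rw [sign_of_cycleType, hsum, hn, Multiset.card_replicate]
  rw [hn, Multiset.sum_replicate, smul_eq_mul] at hsum
  rw [show n + 1 = 3 by omega]
  decide

/-- In an even permutation group on seven or eight points, the normalizer of a subgroup of order seven
has order dividing twenty-one. -/
theorem normalizer_seven {k : ℕ} (hk : k ≤ 8) (φ : G →* Perm (Fin k)) (hφ : Function.Injective φ)
    (hsgn : ∀ g, sign (φ g) = 1) (P : Subgroup G) (hP : Nat.card P = 7) :
    Nat.card (Subgroup.normalizer (P : Set G)) ∣ 21 := by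
  classical
  haveI : Fact (Nat.Prime 7) := ⟨by norm_num⟩
  haveI : Fact (Nat.Prime 2) := ⟨Nat.prime_two⟩
  haveI : IsCyclic P := isCyclic_of_prime_card hP
  obtain ⟨⟨x, hxP⟩, hx⟩ := exists_prime_orderOf_dvd_card' (G := P) 7 (by rw [hP])
  rw [Subgroup.orderOf_mk] at hx
  have hPz : P = Subgroup.zpowers x :=
    (Subgroup.eq_of_le_of_card_ge (Subgroup.zpowers_le.2 hxP) (by rw [Nat.card_zpowers, hx, hP])).symm
  set s := φ x with hs
  have hos : orderOf s = 7 := by rw [hs, orderOf_injective φ hφ, hx]
  set N := Subgroup.normalizer (P : Set G) with hN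
  let f : N →* MulAut P := P.normalizerMonoidHom
  have hker : Nat.card f.ker ∣ 7 := by
    obtain ⟨m, hm⟩ := cycleType_prime_order (σ := s) (hos ▸ (by norm_num : Nat.Prime 7))
    have hm0 : m = 0 := by
      have h1 := sum_cycleType_le s
      rw [hm, Multiset.sum_replicate, hos, smul_eq_mul, Fintype.card_fin] at h1
      omega
    have hC : Nat.card (Subgroup.centralizer ({s} : Set (Perm (Fin k)))) = 7 := by
      have h1 := sum_cycleType_le s
      rw [nat_card_centralizer, hm, hm0, hos]
      rw [hm, hm0, hos] at h1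
      simp [Fintype.card_fin] at h1 ⊢
      omega
    rw [← hC]
    let i : f.ker →* Subgroup.centralizer ({s} : Set (Perm (Fin k))) :=
      ((φ.comp N.subtype).comp f.ker.subtype).codRestrict _ fun g => by
        rw [Subgroup.mem_centralizer_singleton_iff]
        have h := g.2
        rw [MonoidHom.mem_ker] at h
        have h2 : ((g : N) : G) * x * ((g : N) : G)⁻¹ = x := congrArg Subtype.val (DFunLike.congr_fun h ⟨x, hxP⟩ : (f (g : N)) ⟨x, hxP⟩ = (⟨x, hxP⟩ : P))
        show φ ((g : N) : G) * φ x = φ x * φ ((g : N) : G)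
        rw [← map_mul, ← map_mul, mul_inv_eq_iff_eq_mul.1 h2]
    refine Subgroup.card_dvd_of_injective i fun a b h => ?_
    exact Subtype.ext (Subtype.ext (hφ (congrArg Subtype.val h)))
  have hrange : Nat.card f.range ∣ 6 := by
    have h6 : Nat.card (MulAut P) = 6 := by
      rw [IsCyclic.card_mulAut, hP]; decide
    rw [← h6]; exact Subgroup.card_subgroup_dvd_card _
  have h42 : Nat.card N ∣ 7 * 6 := by
    rw [← Subgroup.card_mul_index f.ker, Subgroup.index_ker]
    exact mul_dvd_mul hker hrange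
  have hodd : ¬ 2 ∣ Nat.card N := by
    intro h2
    obtain ⟨⟨g, hgN⟩, hg⟩ := exists_prime_orderOf_dvd_card' (G := N) 2 h2
    rw [Subgroup.orderOf_mk] at hg
    have hg2 : g * g = 1 := by rw [← pow_two, ← hg, pow_orderOf_eq_one]
    have hmem : g * x * g⁻¹ ∈ P := (Subgroup.mem_normalizer_iff.1 hgN x).1 hxP
    rw [hPz] at hmem
    obtain ⟨a, ha⟩ := hmem
    have ha2 : x ^ (a * a) = x := by
      show x ^ (a * a) = x
      rw [zpow_mul, show x ^ a = g * x * g⁻¹ from ha, conj_zpow, show x ^ a = g * x * g⁻¹ from ha,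
        inv_eq_of_mul_eq_one_right hg2]
      simp only [mul_assoc, hg2, mul_one]
      rw [← mul_assoc, hg2, one_mul]
    have h7 : (7 : ℤ) ∣ a * a - 1 := by
      have := orderOf_dvd_iff_zpow_eq_one.2 (show x ^ (a * a - 1) = 1 by
        rw [zpow_sub, zpow_one, ha2, mul_inv_cancel])
      rwa [hx] at this
    rw [show a * a - 1 = (a - 1) * (a + 1) by ring] at h7
    rcases (Int.prime_iff_natAbs_prime.2 (by norm_num) : Prime (7 : ℤ)).dvd_or_dvd h7 with h | h
    · have hcomm : g * x * g⁻¹ = x := by
        rw [← show x ^ a = g * x * g⁻¹ from ha]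
        obtain ⟨c, hc⟩ := h
        rw [show a = 7 * c + 1 by omega, zpow_add_one, zpow_mul]
        simp [show x ^ (7 : ℕ) = 1 by rw [← hx, pow_orderOf_eq_one]]
      have hmemk : (⟨g, hgN⟩ : N) ∈ f.ker := by
        rw [MonoidHom.mem_ker]
        refine MulEquiv.ext fun y => Subtype.ext ?_
        show g * (y : G) * g⁻¹ = y
        obtain ⟨i, hi⟩ := (hPz ▸ y.2 : (y : G) ∈ Subgroup.zpowers x)
        rw [← hi, ← conj_zpow, hcomm]
      have h1 : orderOf (⟨⟨g, hgN⟩, hmemk⟩ : f.ker) ∣ Nat.card f.ker := orderOf_dvd_natCard _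
      rw [Subgroup.orderOf_mk, Subgroup.orderOf_mk, hg] at h1
      have := h1.trans hker
      norm_num at this
    · have hinv : g * x * g⁻¹ = x⁻¹ := by
        rw [← show x ^ a = g * x * g⁻¹ from ha]
        obtain ⟨c, hc⟩ := h
        rw [show a = 7 * c - 1 by omega, zpow_sub_one, zpow_mul]
        simp [show x ^ (7 : ℕ) = 1 by rw [← hx, pow_orderOf_eq_one]]
      have := sign_of_inverts hk s (φ g) hos (by rw [← map_mul, hg2, map_one])
        (by rw [hs, ← map_inv, ← map_mul, ← map_mul, hinv, map_inv])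
      rw [hsgn] at this
      exact absurd this (by decide)
  have hcop : Nat.Coprime (Nat.card N) 2 := (Nat.prime_two.coprime_iff_not_dvd.2 hodd).symm
  exact hcop.dvd_of_dvd_mul_right (by norm_num at h42 ⊢; exact h42)

/-- The possible orders of `N(P)` and the number of Sylow 7-subgroups. -/
theorem sylow_seven_count [IsSimpleGroup G] (hnc : ¬ IsMulCommutative G) {k : ℕ} (hk : k ≤ 8)
    (φ : G →* Perm (Fin k)) (hφ : Function.Injective φ) (h7 : 7 ∣ Nat.card G) :
    ∃ n, Nat.card G = 21 * n ∧ n % 7 = 1 ∧ n ≠ 1 := by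
  haveI : Fact (Nat.Prime 7) := ⟨by norm_num⟩
  have hd : Nat.card G ∣ k.factorial := by
    have := Subgroup.card_dvd_of_injective φ hφ
    rwa [Nat.card_perm, Nat.card_fin] at this
  obtain ⟨P⟩ : Nonempty (Sylow 7 G) := inferInstance
  have hP : Nat.card (P : Subgroup G) = 7 := by
    obtain ⟨a, ha⟩ := IsPGroup.iff_card.1 P.isPGroup'
    have h8 : 7 ^ a ∣ (8).factorial :=
      ha ▸ ((Subgroup.card_subgroup_dvd_card _).trans (hd.trans (Nat.factorial_dvd_factorial hk)))
    have ha1 : a ≤ 1 := by
      by_contra h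
      have : 7 ^ 2 ∣ (8).factorial := (pow_dvd_pow 7 (by omega)).trans h8
      norm_num [Nat.factorial] at this
    have ha0 : a ≠ 0 := by
      rintro rfl
      have := P.not_dvd_index
      have hm := Subgroup.card_mul_index (P : Subgroup G)
      rw [ha, pow_zero, one_mul] at hm
      exact this (hm ▸ h7)
    rw [ha, show a = 1 by omega, pow_one]
  have hN := normalizer_seven hk φ hφ (fun g => SmallGroups.sign_eq_one_of_simple hnc φ g) _ hP
  have hN7 : Nat.card (Subgroup.normalizer ((P : Subgroup G) : Set G)) ≠ 7 := by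
    intro e
    refine SmallGroups.card_normalizer_ne_of_isMulCommutative hnc h7 P ?_
    haveI := isCyclic_of_prime_card (p := 7) e
    exact ⟨⟨fun a b => IsCyclic.commGroup.mul_comm a b⟩⟩
  have h7N : 7 ∣ Nat.card (Subgroup.normalizer ((P : Subgroup G) : Set G)) :=
    (dvd_of_eq hP.symm).trans (Subgroup.card_dvd_of_le Subgroup.le_normalizer)
  have h21 : Nat.card (Subgroup.normalizer ((P : Subgroup G) : Set G)) = 21 := by
    have hle := Nat.le_of_dvd (by norm_num) hN
    obtain ⟨c, hc⟩ := h7N
    rw [hc] at hN hN7 hle ⊢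
    have : c ≤ 3 := by omega
    interval_cases c <;> omega
  refine ⟨Nat.card (Sylow 7 G), ?_, SmallGroups.mod_eq_one_card_sylow, SmallGroups.card_sylow_ne_one hnc h7⟩
  rw [← SmallGroups.card_sylow_mul_card_normalizer P, h21, mul_comm]

/-- An index bound. -/
theorem index_gt [IsSimpleGroup G] (hnc : ¬ IsMulCommutative G) (H : Subgroup G) (hH : H ≠ ⊤) {m : ℕ}
    (hm : ¬ 2 * Nat.card G ∣ m.factorial) : m < H.index := by
  by_contra hle
  exact hm ((SmallGroups.two_mul_card_dvd_factorial hnc H hH).trans (Nat.factorial_dvd_factorial (by omega)))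

/-- A primitive group on eight points with a five-cycle has order divisible by 1680. -/
theorem five_cycle {T : Subgroup (Perm (Fin 8))} (hp : IsPreprimitive T (Fin 8)) {g : Perm (Fin 8)}
    (hg : g ∈ T) (h5 : orderOf g = 5) : 1680 ∣ Nat.card T := by
  classical
  obtain ⟨m, hm⟩ := cycleType_prime_order (σ := g) (h5 ▸ (by norm_num : Nat.Prime 5))
  have h1 := sum_cycleType_le g
  rw [hm, Multiset.sum_replicate, h5, smul_eq_mul, Fintype.card_fin] at h1
  obtain rfl : m = 0 := by omega
  have hcyc : g.IsCycle := by rw [← card_cycleType_eq_one, hm]; rfl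
  have hcs : g.support.card = 5 := by rw [← sum_cycleType, hm, h5]; rfl
  have hsc : Set.ncard ((g.support : Set (Fin 8))ᶜ) = 2 + 1 := by
    rw [Set.ncard_compl, Set.ncard_coe_finset, hcs, Nat.card_fin]
  have := isPretransitive_of_isCycle_mem (G := T) hcyc hg
  have h4 : IsMultiplyPreprimitive T (Fin 8) (2 + 2) := by
    refine hp.isMultiplyPreprimitive hsc (by rw [Nat.card_fin]; norm_num) ?_
    apply IsPreprimitive.of_prime_card
    convert! (by norm_num : Nat.Prime 5)
    rw [Nat.card_eq_fintype_card, Fintype.card_subtype, ← hcs]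
    congr 1
    ext x
    simp [SubMulAction.mem_ofFixingSubgroup_iff]
  have h4' := h4.isMultiplyPretransitive
  rw [show (2 + 2 : ℕ) = 4 from rfl] at h4'
  have e0 : Fin 4 ↪ Fin 8 := Fin.castLEEmb (by norm_num)
  have horb : orbit T e0 = Set.univ := Set.eq_univ_of_forall fun y => h4'.exists_smul_eq e0 y
  have h1680 : (stabilizer T e0).index = Nat.card (Fin 4 ↪ Fin 8) :=
    (MulAction.index_stabilizer T e0).trans ((congrArg Set.ncard horb).trans (Set.ncard_univ _))
  rw [Nat.card_eq_fintype_card, Fintype.card_embedding_eq, Fintype.card_fin, Fintype.card_fin] at h1680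
  have := Subgroup.index_dvd_card (stabilizer T e0)
  rw [h1680] at this
  simpa [Nat.descFactorial] using this

/-- No simple subgroup of order 1344 in `A₈`. -/
theorem no_1344 [IsSimpleGroup G] (hnc : ¬ IsMulCommutative G) (h : Nat.card G = 1344)
    (ψ : G →* GL (Fin 4) (ZMod 2)) (hψ : Function.Injective ψ) : False := by
  classical
  haveI : Fact (Nat.Prime 2) := ⟨Nat.prime_two⟩
  letI : MulAction G (Fin 4 → ZMod 2) :=
    { smul := fun g v => (ψ g : Matrix (Fin 4) (Fin 4) (ZMod 2)).mulVec v
      one_smul := fun v => by show (ψ 1 : Matrix (Fin 4) (Fin 4) (ZMod 2)).mulVec v = v; simp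
      mul_smul := fun g g' v => by
        show (ψ (g * g') : Matrix (Fin 4) (Fin 4) (ZMod 2)).mulVec v =
          (ψ g : Matrix (Fin 4) (Fin 4) (ZMod 2)).mulVec ((ψ g' : Matrix (Fin 4) (Fin 4) (ZMod 2)).mulVec v)
        rw [map_mul, Units.val_mul, Matrix.mulVec_mulVec] }
  have hsmul : ∀ (g : G) (v : Fin 4 → ZMod 2), g • v = (ψ g : Matrix (Fin 4) (Fin 4) (ZMod 2)).mulVec v :=
    fun _ _ => rfl
  obtain ⟨S⟩ : Nonempty (Sylow 2 G) := inferInstance
  have hSc : Nat.card (S : Subgroup G) = 2 ^ 6 :=
    SmallGroups.card_sylow_eq (m := 21) (by rw [h]; norm_num) (by norm_num) S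
  have hcardV : Nat.card (Fin 4 → ZMod 2) = 16 := by simp
  obtain ⟨v, hv, hv0⟩ : ∃ v : Fin 4 → ZMod 2, (∀ g ∈ (S : Subgroup G), g • v = v) ∧ v ≠ 0 := by
    have hmod := S.isPGroup'.card_modEq_card_fixedPoints (Fin 4 → ZMod 2)
    rw [hcardV] at hmod
    have h0 : (0 : Fin 4 → ZMod 2) ∈ fixedPoints (S : Subgroup G) (Fin 4 → ZMod 2) := fun g => by
      show (g : G) • (0 : Fin 4 → ZMod 2) = 0
      rw [hsmul, Matrix.mulVec_zero]
    by_contra hno
    push Not at hno
    have hset : fixedPoints (S : Subgroup G) (Fin 4 → ZMod 2) = {0} := by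
      ext w
      exact ⟨fun hw => hno w fun g hg => hw ⟨g, hg⟩, fun hw => by rw [Set.mem_singleton_iff.1 hw]; exact h0⟩
    rw [hset, Nat.card_eq_fintype_card, Set.card_singleton] at hmod
    exact absurd hmod (by decide)
  set K := stabilizer G v with hK
  have hSK : (S : Subgroup G) ≤ K := fun g hg => hv g hg
  have hfix : ∀ g : G, g • v = v := by
    have hKtop : K = ⊤ := by
      by_contra hne
      have hd : K.index ∣ 21 := by
        have h1 := Subgroup.index_dvd_of_le hSK
        have h2 := Subgroup.card_mul_index (S : Subgroup G)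
        rw [hSc, h] at h2
        rwa [show (S : Subgroup G).index = 21 by omega] at h1
      have hgt := index_gt hnc K hne (m := 7) (by rw [h]; norm_num [Nat.factorial])
      have hle := Nat.le_of_dvd (by norm_num) hd
      have h21 : K.index = 21 := by interval_cases hki : K.index <;> omega
      have : Nat.card (orbit G v) ≤ Nat.card (Fin 4 → ZMod 2) :=
        Nat.card_le_card_of_injective Subtype.val Subtype.val_injective
      rw [Nat.card_coe_set_eq, ← MulAction.index_stabilizer, ← hK, h21, hcardV] at this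
      omega
    intro g
    exact (show g ∈ K by rw [hKtop]; trivial)
  -- the transvections with centre `v`
  let E : Subgroup (GL (Fin 4) (ZMod 2)) :=
    { carrier := {g | (g : Matrix (Fin 4) (Fin 4) (ZMod 2)).mulVec v = v ∧ ∀ w,
        (g : Matrix (Fin 4) (Fin 4) (ZMod 2)).mulVec w = w ∨
        (g : Matrix (Fin 4) (Fin 4) (ZMod 2)).mulVec w = w + v}
      one_mem' := ⟨by simp, fun w => Or.inl (by simp)⟩
      mul_mem' := by
        rintro a b ⟨ha, ha'⟩ ⟨hb, hb'⟩
        refine ⟨by rw [Units.val_mul, ← Matrix.mulVec_mulVec, hb, ha], fun w => ?_⟩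
        rw [Units.val_mul, ← Matrix.mulVec_mulVec]
        rcases hb' w with e | e <;> rw [e]
        · exact ha' w
        · rw [Matrix.mulVec_add, ha]
          rcases ha' w with e' | e' <;> rw [e']
          · exact Or.inr rfl
          · left
            ext i
            simp only [Pi.add_apply]
            exact add_cancel_two _ _
      inv_mem' := by
        rintro a ⟨ha, ha'⟩
        have key : ∀ u w, (a : Matrix (Fin 4) (Fin 4) (ZMod 2)).mulVec u = w →
            ((a⁻¹ : GL (Fin 4) (ZMod 2)) : Matrix (Fin 4) (Fin 4) (ZMod 2)).mulVec w = u := fun u w e => by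
          rw [← e, Matrix.mulVec_mulVec, ← Units.val_mul, inv_mul_cancel, Units.val_one, Matrix.one_mulVec]
        refine ⟨key v v ha, fun w => ?_⟩
        rcases ha' w with e | e
        · exact Or.inl (key w w e)
        · refine Or.inr (key _ _ ?_)
          rw [Matrix.mulVec_add, ha, e]
          ext i
          simp only [Pi.add_apply]
          exact add_cancel_two _ _ }
  have hEsq : ∀ a ∈ E, a * a = 1 := by
    rintro a ⟨ha, ha'⟩
    refine Units.ext (Matrix.mulVec_injective (funext fun w => ?_))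
    rw [Units.val_mul, Units.val_one, Matrix.one_mulVec, ← Matrix.mulVec_mulVec]
    rcases ha' w with e | e
    · rw [e, e]
    · rw [e, Matrix.mulVec_add, ha, e]
      ext i
      simp only [Pi.add_apply]
      exact add_cancel_two _ _
  have hnorm : ∀ g : G, ∀ a ∈ E, ψ g * a * (ψ g)⁻¹ ∈ E := by
    rintro g a ⟨ha, ha'⟩
    have hg : (ψ g : Matrix (Fin 4) (Fin 4) (ZMod 2)).mulVec v = v := hfix g
    have hgi : (((ψ g)⁻¹ : GL (Fin 4) (ZMod 2)) : Matrix (Fin 4) (Fin 4) (ZMod 2)).mulVec v = v := by
      conv_lhs => rw [← hg]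
      rw [Matrix.mulVec_mulVec, ← Units.val_mul, inv_mul_cancel, Units.val_one, Matrix.one_mulVec]
    refine ⟨by rw [Units.val_mul, Units.val_mul, ← Matrix.mulVec_mulVec, hgi, ← Matrix.mulVec_mulVec, ha, hg],
      fun w => ?_⟩
    rw [Units.val_mul, Units.val_mul, ← Matrix.mulVec_mulVec, ← Matrix.mulVec_mulVec]
    rcases ha' ((((ψ g)⁻¹ : GL (Fin 4) (ZMod 2)) : Matrix (Fin 4) (Fin 4) (ZMod 2)).mulVec w) with e | e <;>
      rw [e]
    · left
      rw [Matrix.mulVec_mulVec, ← Units.val_mul, mul_inv_cancel, Units.val_one, Matrix.one_mulVec]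
    · right
      rw [Matrix.mulVec_add, hg, Matrix.mulVec_mulVec, ← Units.val_mul, mul_inv_cancel, Units.val_one,
        Matrix.one_mulVec]
  -- a nontrivial transvection
  obtain ⟨a, ha⟩ : ∃ a, v a = 1 := by
    by_contra hno
    push Not at hno
    exact hv0 (funext fun i => (CfsgLib.A8.zmod_two_cases (v i)).resolve_right (hno i))
  let f : Fin 4 → ZMod 2 := fun i => if i = a + 1 then 1 else if i = a then v (a + 1) else 0
  have hfv : f ⬝ᵥ v = 0 := by
    simp only [f, dotProduct, Fin.sum_univ_four]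
    fin_cases a <;> simp_all [self_add_two]
  have hfne : f (a + 1) = 1 := by simp [f]
  let M : Matrix (Fin 4) (Fin 4) (ZMod 2) := 1 + Matrix.vecMulVec v f
  have hMw : ∀ w, M.mulVec w = w + (f ⬝ᵥ w) • v := by
    intro w
    rw [Matrix.add_mulVec, Matrix.one_mulVec, Matrix.vecMulVec_mulVec]
    congr 1
    ext i; simp [mul_comm]
  have hMsq : M * M = 1 := by
    refine Matrix.mulVec_injective (funext fun w => ?_)
    rw [← Matrix.mulVec_mulVec, hMw, Matrix.one_mulVec, hMw, dotProduct_add, dotProduct_smul, hfv]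
    ext i
    simp only [Pi.add_apply, Pi.smul_apply, smul_eq_mul, mul_zero, add_zero]
    exact smul_cancel_two _ _ _
  let m : GL (Fin 4) (ZMod 2) := ⟨M, M, hMsq, hMsq⟩
  have hmE : m ∈ E := by
    refine ⟨by show M.mulVec v = v; rw [hMw, hfv, zero_smul, add_zero], fun w => ?_⟩
    show M.mulVec w = w ∨ M.mulVec w = w + v
    rw [hMw]
    rcases CfsgLib.A8.zmod_two_cases (f ⬝ᵥ w) with e | e <;> rw [e]
    · left; rw [zero_smul, add_zero]
    · right; rw [one_smul]
  have hm1 : m ≠ 1 := fun e => by
    have h1 := congrArg (fun X : GL (Fin 4) (ZMod 2) => (X : Matrix (Fin 4) (Fin 4) (ZMod 2)) a (a + 1)) e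
    simp [m, M, Matrix.vecMulVec_apply, ha, hfne, Matrix.one_apply] at h1
  -- `E` lies in the image of `S`
  set P := (S : Subgroup G).map ψ with hPdef
  have hPn : P ≤ Subgroup.normalizer (E : Set (GL (Fin 4) (ZMod 2))) := by
    rintro _ ⟨g, -, rfl⟩
    rw [Subgroup.mem_normalizer_iff]
    intro b
    refine ⟨hnorm g b, fun hb => ?_⟩
    have := hnorm g⁻¹ _ hb
    simp only [map_inv, inv_inv] at this
    rw [show (ψ g)⁻¹ * (ψ g * b * (ψ g)⁻¹) * ψ g = b by group] at this
    exact this
  have hE2 : IsPGroup 2 E := fun x => ⟨1, Subtype.ext (by simpa [pow_two] using hEsq _ x.2)⟩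
  have hsup : IsPGroup 2 ↥(P ⊔ E) := (S.isPGroup'.map ψ).to_sup_of_normal_right' hE2 hPn
  have hle : E ≤ P := by
    obtain ⟨b, hb⟩ := IsPGroup.iff_card.1 hsup
    have hd : 2 ^ b ∣ 20160 := by
      obtain ⟨e⟩ := CfsgLib.A8.gl4_equiv
      have h1 : Nat.card (GL (Fin 4) (ZMod 2)) = 20160 := by
        rw [Nat.card_congr e.toEquiv, nat_card_alternatingGroup, Nat.card_fin]; rfl
      exact hb ▸ h1 ▸ Subgroup.card_subgroup_dvd_card _
    have hb6 : b ≤ 6 := by
      by_contra hlt
      have : 2 ^ 7 ∣ 20160 := (pow_dvd_pow 2 (by omega)).trans hd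
      norm_num at this
    have hPc : Nat.card P = 2 ^ 6 := by rw [hPdef, Subgroup.card_map_of_injective hψ, hSc]
    have := Subgroup.eq_of_le_of_card_ge (le_sup_left : P ≤ P ⊔ E)
      (by rw [hPc, hb]; exact Nat.pow_le_pow_right (by norm_num) hb6)
    rw [this]; exact le_sup_right
  have hn : (E.comap ψ).Normal := ⟨fun x hx g => by
    rw [Subgroup.mem_comap, map_mul, map_mul, map_inv]; exact hnorm g _ hx⟩
  rcases hn.eq_bot_or_eq_top with hb | ht
  · obtain ⟨g, -, hg⟩ := hle hmE
    have : g ∈ E.comap ψ := by rw [Subgroup.mem_comap, hg]; exact hmE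
    rw [hb, Subgroup.mem_bot] at this
    exact hm1 (by rw [← hg, this, map_one])
  · refine hnc ⟨⟨fun x y => hψ ?_⟩⟩
    have hmem : ∀ g, ψ g ∈ E := fun g => (ht ▸ Subgroup.mem_top g : g ∈ E.comap ψ)
    have hsq := fun g => hEsq _ (hmem g)
    have hxy := hsq (x * y)
    rw [map_mul] at hxy
    rw [map_mul, map_mul]
    calc ψ x * ψ y = ψ x * (ψ x * ψ y * (ψ x * ψ y)) * ψ y := by rw [hxy, mul_one]
      _ = ψ x * ψ x * ψ y * ψ x * (ψ y * ψ y) := by group
      _ = ψ y * ψ x := by rw [hsq x, hsq y, one_mul, mul_one]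

/-- The orders of simple transitive groups of degree at most eight. -/
theorem small_transitive [IsSimpleGroup G] (hnc : ¬ IsMulCommutative G) {k : ℕ} (hk : k ≤ 8)
    (φ : G →* Perm (Fin k)) (hφ : Function.Injective φ) (htr : ∀ x y, ∃ g, φ g x = y) :
    5 ≤ k ∧ (2 * Nat.card G = k.factorial ∨ (k = 6 ∧ Nat.card G = 60) ∨
      ((k = 7 ∨ k = 8) ∧ Nat.card G = 168)) := by
  classical
  set n := Nat.card G with hn
  have h60 : 60 ≤ n := by
    by_contra hlt
    have hc : ¬ IsCyclic G := fun hc => hnc ⟨⟨fun a b => IsCyclic.commGroup.mul_comm a b⟩⟩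
    have := Cfsg.Agent.S0493.result hc (by omega)
    omega
  have hle : φ.range ≤ alternatingGroup (Fin k) := by
    rintro _ ⟨g, rfl⟩
    exact mem_alternatingGroup.2 (SmallGroups.sign_eq_one_of_simple hnc φ g)
  set A := alternatingGroup (Fin k) with hA
  have hcardT : Nat.card φ.range = n := (Nat.card_congr (MonoidHom.ofInjective hφ).toEquiv).symm
  have hk2 : 2 ≤ k := by
    by_contra hlt
    have hd := Subgroup.card_dvd_of_injective φ hφ
    rw [Nat.card_perm, Nat.card_fin, ← hn] at hd
    have := Nat.le_of_dvd (Nat.factorial_pos k) hd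
    have := Nat.factorial_le (show k ≤ 1 by omega)
    simp only [Nat.factorial_one] at this
    omega
  haveI : Nontrivial (Fin k) := Fin.nontrivial_iff_two_le.2 hk2
  have hA2 : 2 * Nat.card A = k.factorial := by
    rw [hA, two_mul_nat_card_alternatingGroup, Nat.card_perm, Nat.card_fin]
  have hdA : n ∣ Nat.card A := hcardT ▸ Subgroup.card_dvd_of_le hle
  have hk5 : 5 ≤ k := by
    by_contra hlt
    have h1 := Nat.le_of_dvd Nat.card_pos hdA
    have h2 := Nat.factorial_le (show k ≤ 4 by omega)
    simp [Nat.factorial] at h2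
    omega
  refine ⟨hk5, ?_⟩
  by_cases htop : φ.range.subgroupOf A = ⊤
  · left
    rw [← hcardT, ← hA2, ← Nat.card_congr (Subgroup.subgroupOfEquivOfLe hle).toEquiv, htop, Subgroup.card_top]
  haveI : IsSimpleGroup A := alternatingGroup.isSimpleGroup (by rwa [Nat.card_fin])
  have hAnc : ¬ IsMulCommutative A := by
    intro hc
    haveI := hc
    refine hnc ⟨⟨fun a b => hφ ?_⟩⟩
    have := congrArg Subtype.val (hc.is_comm.comm ⟨φ a, hle ⟨a, rfl⟩⟩ ⟨φ b, hle ⟨b, rfl⟩⟩)
    simpa using this
  have hidx : n * (φ.range.subgroupOf A).index = Nat.card A := by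
    rw [← hcardT, ← Nat.card_congr (Subgroup.subgroupOfEquivOfLe hle).toEquiv, Subgroup.card_mul_index]
  have hbd := index_gt hAnc _ htop (m := k - 1) (by
    rw [hA2]
    intro hd
    have h1 := Nat.le_of_dvd (Nat.factorial_pos _) hd
    have h2 : (k - 1).factorial * 1 < (k - 1).factorial * k :=
      Nat.mul_lt_mul_of_pos_left (by omega) (Nat.factorial_pos _)
    rw [mul_comm ((k - 1).factorial) k, Nat.mul_factorial_pred (by omega)] at h2
    omega)
  have hA' : 2 * (n * (φ.range.subgroupOf A).index) = k.factorial := by rw [hidx, hA2]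
  -- transitivity gives `k ∣ n`
  have hkn : k ∣ n := by
    letI : MulAction G (Fin k) := MulAction.compHom (Fin k) φ
    haveI : IsPretransitive G (Fin k) := ⟨fun x y => htr x y⟩
    have := MulAction.index_stabilizer_of_transitive G (⟨0, by omega⟩ : Fin k)
    rw [Nat.card_fin] at this
    exact this ▸ Subgroup.index_dvd_card _
  set i := (φ.range.subgroupOf A).index with hi
  have hnle : k * n ≤ k.factorial / 2 := by
    rw [Nat.le_div_iff_mul_le (by norm_num), ← hA']
    have : k ≤ i := by omega
    nlinarith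
  rcases (show k = 5 ∨ k = 6 ∨ k = 7 ∨ k = 8 by omega) with rfl | rfl | rfl | rfl
  · norm_num [Nat.factorial] at hnle; omega
  · right; left
    norm_num [Nat.factorial] at hnle
    exact ⟨rfl, by omega⟩
  · right; right
    refine ⟨Or.inl rfl, ?_⟩
    obtain ⟨c, hc, hc7, hc1⟩ := sylow_seven_count hnc (by norm_num) φ hφ hkn
    rw [← hn] at hc
    norm_num [Nat.factorial] at hA' hnle
    have hcd : c ∣ 120 := by
      refine Nat.dvd_of_mul_dvd_mul_left (show 0 < 21 by norm_num) ?_
      rw [← hc]; exact ⟨i, by omega⟩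
    have hc17 : c ≤ 17 := by omega
    have hcases : c = 8 ∨ c = 15 := by omega
    rcases hcases with rfl | rfl
    · omega
    exfalso
    haveI : Fact (Nat.Prime 5) := ⟨by norm_num⟩
    have h315 : Nat.card G = 5 ^ 1 * 63 := by omega
    have h5 : Nat.card (Sylow 5 G) = 21 := by
      have h1 := SmallGroups.card_sylow_mem_filter (p := 5) h315 (by norm_num)
      have h2 := SmallGroups.card_sylow_ne_one (p := 5) hnc (by omega)
      rw [show (Finset.range (63 + 1)).filter (fun d => 63 % d = 0 ∧ d % 5 = 1) = {1, 21} by decide] at h1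
      simp only [Finset.mem_insert, Finset.mem_singleton] at h1
      omega
    obtain ⟨P⟩ : Nonempty (Sylow 5 G) := inferInstance
    have hNc : Nat.card (Subgroup.normalizer ((P : Subgroup G) : Set G)) = 15 := by
      have := SmallGroups.card_sylow_mul_card_normalizer P
      norm_num at h315
      rw [h5, h315] at this
      omega
    have hPc : Nat.card (P : Subgroup G) = 5 := by simpa using SmallGroups.card_sylow_eq h315 (by norm_num) P
    haveI : IsCyclic (P : Subgroup G) := isCyclic_of_prime_card hPc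
    refine SmallGroups.not_normalizer_le_centralizer hnc (p := 5) (by omega) P fun g hg => ?_
    let f := (P : Subgroup G).normalizerMonoidHom
    have h4 : Nat.card f.range ∣ 4 := by
      have : Nat.card (MulAut (P : Subgroup G)) = 4 := by rw [IsCyclic.card_mulAut, hPc]; decide
      rw [← this]; exact Subgroup.card_subgroup_dvd_card _
    have h15 : Nat.card f.range ∣ 15 := hNc ▸ Subgroup.card_range_dvd f
    have h1 : Nat.card f.range = 1 := Nat.eq_one_of_dvd_coprimes (by norm_num : Nat.Coprime 4 15) h4 h15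
    have hmem : f ⟨g, hg⟩ = 1 := by
      have : f ⟨g, hg⟩ ∈ f.range := ⟨_, rfl⟩
      rwa [Subgroup.eq_bot_of_card_eq _ h1, Subgroup.mem_bot] at this
    rw [Subgroup.mem_centralizer_iff]
    intro y hy
    have h2 : g * y * g⁻¹ = y :=
      congrArg Subtype.val (DFunLike.congr_fun hmem ⟨y, hy⟩ : (f ⟨g, hg⟩) ⟨y, hy⟩ = (⟨y, hy⟩ : (P : Subgroup G)))
    exact (mul_inv_eq_iff_eq_mul.1 h2).symm
  · right; right
    refine ⟨Or.inr rfl, ?_⟩
    norm_num [Nat.factorial] at hA' hnle
    have hd : n ∣ 20160 := ⟨i, by omega⟩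
    have hsol : ∀ p q a b : ℕ, p.Prime → q.Prime → ¬ Nat.card G ∣ p ^ a * q ^ b := by
      intro p q a b hp hq hpq
      refine Recognition.SimplePower.not_isSolvable_of_simple ?_ (Char.isSolvable_of_card_eq_pow_mul_pow hp hq hpq)
      by_contra hno
      push Not at hno
      exact hnc ⟨⟨hno⟩⟩
    letI : MulAction G (Fin 8) := MulAction.compHom (Fin 8) φ
    by_cases h5 : 5 ∣ n
    · exfalso
      haveI : Fact (Nat.Prime 5) := ⟨by norm_num⟩
      obtain ⟨x, hx⟩ := exists_prime_orderOf_dvd_card' (G := G) 5 h5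
      haveI : IsPretransitive φ.range (Fin 8) := ⟨fun a b => by
        obtain ⟨g, hg⟩ := htr a b
        exact ⟨⟨φ g, g, rfl⟩, hg⟩⟩
      let e : G ≃* φ.range := MonoidHom.ofInjective hφ
      haveI : Nontrivial φ.range := e.symm.surjective.nontrivial
      haveI : IsSimpleGroup φ.range := IsSimpleGroup.isSimpleGroup_of_surjective e.toMonoidHom e.surjective
      have hncr : ¬ IsMulCommutative φ.range := fun hc =>
        hnc ⟨⟨fun a b => e.injective (by rw [map_mul, map_mul]; exact hc.is_comm.comm _ _)⟩⟩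
      have hprim : IsPreprimitive φ.range (Fin 8) := by
        rw [← isCoatom_stabilizer_iff_preprimitive φ.range (0 : Fin 8)]
        have hst := MulAction.index_stabilizer_of_transitive φ.range (0 : Fin 8)
        rw [Nat.card_fin] at hst
        refine ⟨fun ht => ?_, fun K hK => ?_⟩
        · rw [ht, Subgroup.index_top] at hst; omega
        by_contra hne
        have hgt := index_gt hncr K hne (m := 4) (by
          rw [hcardT]
          intro hd
          have h2 := Nat.le_of_dvd (Nat.factorial_pos _) hd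
          rw [show Nat.factorial 4 = 24 from rfl] at h2
          omega)
        have hmul := Subgroup.relIndex_mul_index hK.le
        rw [hst] at hmul
        have h1 : (stabilizer φ.range (0 : Fin 8)).relIndex K ≠ 1 := fun e1 =>
          hK.not_ge (Subgroup.relIndex_eq_one.1 e1)
        rcases Nat.eq_zero_or_pos ((stabilizer φ.range (0 : Fin 8)).relIndex K) with h0 | h0
        · rw [h0] at hmul; omega
        · have := Nat.mul_le_mul_right K.index
            (show 2 ≤ (stabilizer φ.range (0 : Fin 8)).relIndex K by omega)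
          omega
      have h1680 := five_cycle hprim (g := φ x) ⟨x, rfl⟩ (by rw [orderOf_injective φ hφ, hx])
      rw [hcardT] at h1680
      have hn1680 : n = 1680 := by omega
      obtain ⟨c, hc, hc7, hc1⟩ := sylow_seven_count hnc le_rfl φ hφ (by omega)
      omega
    by_cases h7 : 7 ∣ n
    · obtain ⟨c, hc, hc7, hc1⟩ := sylow_seven_count hnc le_rfl φ hφ h7
      rw [← hn] at hc
      have hcop : Nat.Coprime n 5 := ((by norm_num : Nat.Prime 5).coprime_iff_not_dvd.2 h5).symm
      have h4032 : n ∣ 4032 := hcop.dvd_of_dvd_mul_right (by norm_num; exact hd)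
      have hcd : c ∣ 192 := Nat.dvd_of_mul_dvd_mul_left (show 0 < 21 by norm_num) (by rw [← hc]; exact h4032)
      have hc120 : c ≤ 120 := by omega
      have hcases : c = 8 ∨ c = 64 := by
        have hmem : c ∈ (Nat.divisors 192).filter (fun d => d % 7 = 1 ∧ d ≠ 1) :=
          Finset.mem_filter.2 ⟨Nat.mem_divisors.2 ⟨hcd, by norm_num⟩, hc7, hc1⟩
        rw [show (Nat.divisors 192).filter (fun d => d % 7 = 1 ∧ d ≠ 1) = {8, 64} by decide +kernel] at hmem
        simpa using hmem
      rcases hcases with rfl | rfl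
      · omega
      exfalso
      obtain ⟨e⟩ := CfsgLib.A8.gl4_equiv
      let φA : G →* ↥(alternatingGroup (Fin 8)) := φ.codRestrict _ fun g => hle ⟨g, rfl⟩
      exact no_1344 hnc (by omega) (e.symm.toMonoidHom.comp φA)
        (e.symm.injective.comp fun a b h => hφ (congrArg Subtype.val h))
    · exfalso
      have hcop : Nat.Coprime n 35 := by
        rw [show (35 : ℕ) = 5 * 7 by norm_num]
        exact Nat.Coprime.mul_right ((by norm_num : Nat.Prime 5).coprime_iff_not_dvd.2 h5).symm
          ((by norm_num : Nat.Prime 7).coprime_iff_not_dvd.2 h7).symm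
      exact hsol 2 3 6 2 Nat.prime_two Nat.prime_three (hcop.dvd_of_dvd_mul_right (by norm_num; exact hd))

instance gl3_simple : IsSimpleGroup (GL (Fin 3) (ZMod 2)) := by
  haveI : Fact (Nat.Prime 2) := ⟨Nat.prime_two⟩
  haveI := CfsgLib.Classical.isSimpleGroup_PSL (ι := Fin 3) (F := ZMod 2) (by simp)
  have hdet : ∀ g : GL (Fin 3) (ZMod 2), (g : Matrix (Fin 3) (Fin 3) (ZMod 2)).det = 1 := fun g =>
    (CfsgLib.A8.zmod_two_cases _).resolve_left
      ((Matrix.isUnit_iff_isUnit_det (g : Matrix (Fin 3) (Fin 3) (ZMod 2))).1 g.isUnit).ne_zero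
  let e := CfsgLib.A8.glEquivSL hdet
  have hc : Subgroup.center (Matrix.SpecialLinearGroup (Fin 3) (ZMod 2)) = ⊥ := by
    rw [eq_bot_iff]
    intro A hA
    obtain ⟨r, hr, hA⟩ := Matrix.SpecialLinearGroup.mem_center_iff.1 hA
    rw [Subgroup.mem_bot]
    apply Subtype.ext
    rw [← hA]
    rcases CfsgLib.A8.zmod_two_cases r with rfl | rfl
    · simp at hr
    · simp
  let e2 : Matrix.ProjectiveSpecialLinearGroup (Fin 3) (ZMod 2) ≃* Matrix.SpecialLinearGroup (Fin 3) (ZMod 2) :=
    (QuotientGroup.quotientMulEquivOfEq hc).trans QuotientGroup.quotientBot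
  haveI : Nontrivial (GL (Fin 3) (ZMod 2)) := (e2.trans e.symm).symm.surjective.nontrivial
  exact IsSimpleGroup.isSimpleGroup_of_surjective (e2.trans e.symm).toMonoidHom (e2.trans e.symm).surjective

theorem gl3_card : Nat.card (GL (Fin 3) (ZMod 2)) = 168 := by
  haveI : Fact (Nat.Prime 2) := ⟨Nat.prime_two⟩
  rw [Matrix.card_GL_field]
  simp [ZMod.card, Fin.prod_univ_three]

/-- An almost simple group with socle of order sixty and the possible outer index is `A₅` or `S₅`. -/
theorem alt_or_sym {H : Type*} [Group H] [Finite H] {k : ℕ} (hk : 2 ≤ k) (ρ : H →* Perm (Fin k))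
    (hρ : Function.Injective ρ) (N : Subgroup H) (hN : 2 * Nat.card N = k.factorial) :
    Nonempty (H ≃* alternatingGroup (Fin k)) ∨ Nonempty (H ≃* Perm (Fin k)) := by
  classical
  haveI : Nontrivial (Fin k) := Fin.nontrivial_iff_two_le.2 hk
  have hd : Nat.card H ∣ k.factorial := by
    have := Subgroup.card_dvd_of_injective ρ hρ
    rwa [Nat.card_perm, Nat.card_fin] at this
  obtain ⟨c, hc⟩ := Subgroup.card_subgroup_dvd_card N
  obtain ⟨d, hd⟩ := hd
  have hNpos : 0 < Nat.card N := Nat.card_pos
  have hcd : c * d = 2 := Nat.eq_of_mul_eq_mul_left hNpos (by rw [← mul_assoc, ← hc, ← hd, ← hN, mul_comm])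
  rcases (Nat.dvd_prime Nat.prime_two).1 ⟨d, hcd.symm⟩ with rfl | rfl
  · left
    have hidx : ρ.range.index = 2 := by
      have h1 := Subgroup.card_mul_index ρ.range
      rw [← Nat.card_congr (MonoidHom.ofInjective hρ).toEquiv, Nat.card_perm, Nat.card_fin, hd] at h1
      have : d = 2 := by omega
      rw [this] at h1
      exact Nat.eq_of_mul_eq_mul_left Nat.card_pos h1
    exact ⟨(MonoidHom.ofInjective hρ).trans
      (MulEquiv.subgroupCongr (Equiv.Perm.eq_alternatingGroup_of_index_eq_two hidx))⟩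
  · right
    refine ⟨MulEquiv.ofBijective ρ ((Nat.bijective_iff_injective_and_card _).2 ⟨hρ, ?_⟩)⟩
    rw [Nat.card_perm, Nat.card_fin, hc, ← hN, mul_comm]

/-- A simple group of order sixty has five Sylow 2-subgroups. -/
theorem card_sylow_two_sixty [IsSimpleGroup G] (hnc : ¬ IsMulCommutative G) (h : Nat.card G = 60) :
    Nat.card (Sylow 2 G) = 5 := by
  haveI : Fact (Nat.Prime 2) := ⟨Nat.prime_two⟩
  have hcard : Nat.card G = 2 ^ 2 * 15 := by omega
  have h2 : 2 ∣ Nat.card G := by omega
  have h1 := SmallGroups.card_sylow_mem_filter (p := 2) hcard (by norm_num)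
  have hne := SmallGroups.card_sylow_ne_one (p := 2) hnc h2
  have hfac := SmallGroups.two_mul_card_dvd_factorial_card_sylow (p := 2) hnc h2
  rw [show (Finset.range (15 + 1)).filter (fun d => 15 % d = 0 ∧ d % 2 = 1) = {1, 3, 5, 15} by decide] at h1
  simp only [Finset.mem_insert, Finset.mem_singleton] at h1
  rcases h1 with h1 | h1 | h1 | h1
  · exact absurd h1 hne
  · rw [h1, h] at hfac; norm_num [Nat.factorial] at hfac
  · exact h1
  · exfalso
    obtain ⟨P⟩ : Nonempty (Sylow 2 G) := inferInstance
    have hmul := SmallGroups.card_sylow_mul_card_normalizer P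
    rw [h1, h] at hmul
    refine SmallGroups.card_normalizer_ne_of_isMulCommutative hnc h2 P ?_
    exact IsPGroup.isMulCommutative_of_card_eq_prime_sq (p := 2) (by omega)

/-- A nontrivial subgroup of `A₈` without nontrivial normal subgroup of `2`-power or odd order. -/
theorem classify {H : Type*} [Group H] [Finite H] (φ : H →* Perm (Fin 8)) (hφ : Function.Injective φ)
    (hsgn : ∀ h, sign (φ h) = 1) [Nontrivial H] (hO2 : Cfsg.pCore 2 H = ⊥) (hO : Cfsg.pPrimeCore 2 H = ⊥) :
    (∃ n : ℕ, 5 ≤ n ∧ n ≤ 8 ∧ Nonempty (H ≃* alternatingGroup (Fin n))) ∨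
    Nonempty (H ≃* Perm (Fin 5)) ∨ Nonempty (H ≃* Perm (Fin 6)) ∨ Nonempty (H ≃* GL (Fin 3) (ZMod 2)) := by
  classical
  have hd8 : Nat.card H ∣ 20160 := by
    have h1 : Nat.card (alternatingGroup (Fin 8)) = 20160 := by
      rw [nat_card_alternatingGroup, Nat.card_fin]; rfl
    rw [← h1]
    exact Subgroup.card_dvd_of_injective (φ.codRestrict _ fun g => mem_alternatingGroup.2 (hsgn g))
      fun a b h => hφ (congrArg Subtype.val h)
  -- minimal normal subgroups are simple
  have key : ∀ M : Subgroup H, M.Normal → M ≠ ⊥ → (∀ K : Subgroup H, K.Normal → K ≤ M → K = ⊥ ∨ K = M) →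
      IsSimpleGroup M ∧ ¬ IsMulCommutative M ∧ (5 ∣ Nat.card M ∨ 7 ∣ Nat.card M) := by
    intro M hMn hM hmin
    haveI := hMn
    haveI : Nontrivial M := M.nontrivial_iff_ne_bot.2 hM
    have hns : ¬ Group.IsSolvable M := by
      intro hsol
      obtain ⟨p, a, hp, ha, hpM, hcard⟩ := CfsgLib.Solvable.exists_pow_card_of_minimal_normal M hM hmin hsol
      rcases eq_or_ne p 2 with rfl | hp2
      · exact hM (le_bot_iff.1 (hO2 ▸ le_sSup ⟨hMn, hpM⟩))
      · exact hM (le_bot_iff.1 (hO ▸ le_sSup ⟨hMn,
          hcard ▸ ((Nat.coprime_primes hp Nat.prime_two).2 hp2).pow_left a⟩))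
    have hchar : ∀ K : Subgroup M, K.Characteristic → K = ⊥ ∨ K = ⊤ := by
      intro K hK
      haveI := hK
      rcases hmin (K.map M.subtype) inferInstance (Subgroup.map_subtype_le K) with h | h
      · exact Or.inl (Subgroup.map_injective M.subtype_injective (h.trans (Subgroup.map_bot _).symm))
      · refine Or.inr (Subgroup.map_injective M.subtype_injective (h.trans ?_))
        rw [← MonoidHom.range_eq_map, Subgroup.range_subtype]
    obtain ⟨S, _, hSs, m, hm1, ⟨e⟩⟩ := CfsgLib.Classical22.charSimple_iff.1 hchar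
    haveI : Finite (Fin m → S) := Finite.of_equiv _ e.toEquiv
    haveI : Finite S := Finite.of_injective
      (fun s : S => (Pi.mulSingle (⟨0, by omega⟩ : Fin m) s : Fin m → S))
      (Pi.mulSingle_injective (M := fun _ : Fin m => S) _)
    have hcardM : Nat.card M = Nat.card S ^ m := by
      rw [Nat.card_congr e.toEquiv, Nat.card_fun, Nat.card_fin]
    have hdM : Nat.card M ∣ 20160 := (Subgroup.card_subgroup_dvd_card M).trans hd8
    obtain ⟨p, q, r, hp, hq, hr, hpq, hpr, hqr, dp, dq, dr⟩ := CfsgLib.Recognition.SimplePower.exists_three_primes hns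
    obtain ⟨l, hl, hl5, hdl⟩ : ∃ l, l.Prime ∧ 5 ≤ l ∧ l ∣ Nat.card M := by
      have h5 : ∀ x : ℕ, x.Prime → x < 5 → x = 2 ∨ x = 3 := by
        intro x hx hlt; interval_cases x <;> first | omega | norm_num at hx
      by_contra hno
      push Not at hno
      have a1 := h5 p hp (Nat.lt_of_not_le fun h => hno p hp h dp)
      have a2 := h5 q hq (Nat.lt_of_not_le fun h => hno q hq h dq)
      have a3 := h5 r hr (Nat.lt_of_not_le fun h => hno r hr h dr)
      omega
    have hl57 : l = 5 ∨ l = 7 := by
      have hmem : l ∈ Nat.primeFactors 20160 := Nat.mem_primeFactors.2 ⟨hl, hdl.trans hdM, by norm_num⟩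
      have hpf : Nat.primeFactors 20160 ⊆ {2, 3, 5, 7} := by
        intro x hx
        obtain ⟨hx1, hx2, -⟩ := Nat.mem_primeFactors.1 hx
        have h20 : 20160 = 2 ^ 6 * 3 ^ 2 * 5 * 7 := by norm_num
        rw [h20] at hx2
        simp only [Finset.mem_insert, Finset.mem_singleton]
        rcases (Nat.Prime.dvd_mul hx1).1 hx2 with h | h
        · rcases (Nat.Prime.dvd_mul hx1).1 h with h | h
          · rcases (Nat.Prime.dvd_mul hx1).1 h with h | h
            · exact Or.inl ((Nat.prime_dvd_prime_iff_eq hx1 Nat.prime_two).1 (hx1.dvd_of_dvd_pow h))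
            · exact Or.inr (Or.inl ((Nat.prime_dvd_prime_iff_eq hx1 Nat.prime_three).1 (hx1.dvd_of_dvd_pow h)))
          · exact Or.inr (Or.inr (Or.inl ((Nat.prime_dvd_prime_iff_eq hx1 (by norm_num)).1 h)))
        · exact Or.inr (Or.inr (Or.inr ((Nat.prime_dvd_prime_iff_eq hx1 (by norm_num)).1 h)))
      have := hpf hmem
      simp only [Finset.mem_insert, Finset.mem_singleton] at this
      omega
    have hm : m = 1 := by
      by_contra hne
      have hlS : l ∣ Nat.card S := hl.dvd_of_dvd_pow (hcardM ▸ hdl)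
      have h2 : l ^ 2 ∣ 20160 :=
        ((pow_dvd_pow_of_dvd hlS 2).trans (pow_dvd_pow _ (by omega))).trans (hcardM ▸ hdM)
      rcases hl57 with rfl | rfl <;> norm_num at h2
    subst hm
    refine ⟨?_, fun hc => hns ?_, hl57.imp (fun h => by rwa [h] at hdl) (fun h => by rwa [h] at hdl)⟩
    · let e' : M ≃* S := e.trans (MulEquiv.funUnique (Fin 1) S)
      haveI := hSs
      exact IsSimpleGroup.isSimpleGroup_of_surjective e'.symm.toMonoidHom e'.symm.surjective
    · haveI := hc
      exact Group.isSolvable_of_comm fun a b => hc.is_comm.comm a b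
  obtain ⟨N, hNn, hN, hmin⟩ := CfsgLib.Solvable.exists_minimal_normal (G := H)
  haveI := hNn
  obtain ⟨hNs, hNnc, hN57⟩ := key N hNn hN hmin
  haveI := hNs
  have hdM : ∀ M : Subgroup H, Nat.card M ∣ 20160 := fun M => (Subgroup.card_subgroup_dvd_card M).trans hd8
  -- no centralizer
  have hC : Subgroup.centralizer (N : Set H) = ⊥ := by
    by_contra hC
    obtain ⟨M, hMn, hM, hMC, hMmin⟩ := CfsgLib.Solvable.exists_minimal_normal_le (Subgroup.centralizer (N : Set H)) hC
    obtain ⟨hMs, hMnc, hM57⟩ := key M hMn hM hMmin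
    have hinf : M ⊓ N = ⊥ := by
      rcases hMmin (M ⊓ N) inferInstance inf_le_left with h | h
      · exact h
      · exfalso
        rcases hmin M hMn (h ▸ inf_le_right) with h' | h'
        · exact hM h'
        · subst h'
          exact hMnc ⟨⟨fun a b => Subtype.ext ((Subgroup.mem_centralizer_iff.1 (hMC a.2) b b.2).symm)⟩⟩
    have hmul : Nat.card M * Nat.card N ∣ 20160 := by
      let f : M × N →* H := M.subtype.noncommCoprod N.subtype fun a b =>
        (Subgroup.mem_centralizer_iff.1 (hMC a.2) b b.2).symm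
      have hf : Function.Injective f := by
        rw [injective_iff_map_eq_one]
        rintro ⟨a, b⟩ hab
        have h1 : (a : H) * b = 1 := hab
        have h2 : (a : H) ∈ M ⊓ N :=
          ⟨a.2, (eq_inv_of_mul_eq_one_left h1).symm ▸ N.inv_mem b.2⟩
        rw [hinf, Subgroup.mem_bot] at h2
        rw [h2, one_mul] at h1
        exact Prod.ext (Subtype.ext h2) (Subtype.ext h1)
      rw [← Nat.card_prod]
      exact (Subgroup.card_dvd_of_injective f hf).trans hd8
    obtain ⟨A, B, hAB, hA, hB⟩ : ∃ A B : Subgroup H, (∀ a ∈ A, ∀ b ∈ B, Commute a b) ∧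
        5 ∣ Nat.card A ∧ 7 ∣ Nat.card B := by
      have hcomm : ∀ a ∈ M, ∀ b ∈ N, Commute a b := fun a ha b hb =>
        (Subgroup.mem_centralizer_iff.1 (hMC ha) b hb).symm
      rcases hM57 with h | h <;> rcases hN57 with h' | h'
      · exact absurd ((mul_dvd_mul h h').trans hmul) (by norm_num)
      · exact ⟨M, N, hcomm, h, h'⟩
      · exact ⟨N, M, fun a ha b hb => (hcomm b hb a ha).symm, h', h⟩
      · exact absurd ((mul_dvd_mul h h').trans hmul) (by norm_num)
    haveI : Fact (Nat.Prime 5) := ⟨by norm_num⟩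
    haveI : Fact (Nat.Prime 7) := ⟨by norm_num⟩
    obtain ⟨a, ha⟩ := exists_prime_orderOf_dvd_card' (G := A) 5 hA
    obtain ⟨b, hb⟩ := exists_prime_orderOf_dvd_card' (G := B) 7 hB
    have ha5 : orderOf (φ a) = 5 := by rw [orderOf_injective φ hφ, Subgroup.orderOf_coe, ha]
    obtain ⟨m, hm⟩ := cycleType_prime_order (σ := φ (a : H)) (ha5 ▸ (by norm_num : Nat.Prime 5))
    have hm1 := sum_cycleType_le (φ (a : H))
    rw [hm, Multiset.sum_replicate, ha5, smul_eq_mul, Fintype.card_fin] at hm1
    obtain rfl : m = 0 := by omega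
    have hcard : Nat.card (Subgroup.centralizer ({φ (a : H)} : Set (Perm (Fin 8)))) = 30 := by
      rw [nat_card_centralizer, hm, ha5]
      simp [Fintype.card_fin, Nat.factorial]
    have hmem : φ (b : H) ∈ Subgroup.centralizer ({φ (a : H)} : Set (Perm (Fin 8))) :=
      Subgroup.mem_centralizer_singleton_iff.2 (((hAB a a.2 b b.2).map φ).symm.eq)
    have h7 := Subgroup.orderOf_dvd_natCard _ hmem
    rw [orderOf_injective φ hφ, Subgroup.orderOf_coe, hb, hcard] at h7
    norm_num at h7
  -- the moved points of `N`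
  let O : Set (Fin 8) := {x | ∃ g : N, φ g x ≠ x}
  have hOinv : ∀ h x, x ∈ O → φ h x ∈ O := by
    rintro h x ⟨g, hg⟩
    refine ⟨⟨h * g * h⁻¹, hNn.conj_mem g g.2 h⟩, fun e => hg ?_⟩
    simp only [map_mul, map_inv, Perm.mul_apply] at e
    have e' : φ h (φ g x) = φ h x := by simpa using e
    exact (φ h).injective e'
  have horbit : ∀ a ∈ O, ∀ x ∈ O, ∃ g : N, φ g a = x := by
    intro a ha x hx
    letI : MulAction N (Fin 8) := MulAction.compHom (Fin 8) (φ.comp N.subtype)
    have big : ∀ y ∈ O, 5 ≤ Nat.card (orbit N y) := by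
      intro y hy
      obtain ⟨g, hg⟩ := hy
      have hK : stabilizer N y ≠ ⊤ := fun ht => hg (ht ▸ Subgroup.mem_top g : g ∈ stabilizer N y)
      have h1 := index_gt hNnc _ hK (m := 4) (by
        intro hd
        have hl := Nat.le_of_dvd (Nat.factorial_pos _) hd
        rw [show Nat.factorial 4 = 24 from rfl] at hl
        obtain ⟨h57, -⟩ : (60 ≤ Nat.card N) ∧ True := ⟨by
          by_contra hlt
          have := Cfsg.Agent.S0493.result (G := N) (fun hc => hNnc ⟨⟨fun a b => IsCyclic.commGroup.mul_comm a b⟩⟩) (by omega)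
          omega, trivial⟩
        omega)
      rw [index_stabilizer, ← Nat.card_coe_set_eq] at h1
      omega
    by_contra hno
    push Not at hno
    have hdis : Disjoint (orbit N a) (orbit N x) := by
      rw [Set.disjoint_left]
      rintro w ⟨g, rfl⟩ ⟨g', hg'⟩
      refine hno (g'⁻¹ * g) ?_
      show φ ((g'⁻¹ * g : N) : H) a = x
      have e : φ (g' : H) x = φ (g : H) a := hg'
      rw [Subgroup.coe_mul, map_mul, Perm.mul_apply, ← e, Subgroup.coe_inv, map_inv]
      simp
    have h1 := big a ha
    have h2 := big x hx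
    have h3 := Set.ncard_union_eq hdis
    have h4 := Set.ncard_le_card (orbit N a ∪ orbit N x)
    rw [Nat.card_fin] at h4
    rw [Nat.card_coe_set_eq] at h1 h2
    omega
  -- the action on the moved points
  let ρ : H →* Perm O :=
    { toFun := fun h => ⟨fun x => ⟨φ h x, hOinv h x x.2⟩, fun x => ⟨φ h⁻¹ x, hOinv _ x x.2⟩,
        fun x => Subtype.ext (by simp), fun x => Subtype.ext (by simp)⟩
      map_one' := Equiv.ext fun x => Subtype.ext (by simp)
      map_mul' := fun g h => Equiv.ext fun x => Subtype.ext (by simp) }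
  have hρ : Function.Injective ρ := by
    rw [injective_iff_map_eq_one]
    intro h hh
    have hfixO : ∀ x ∈ O, φ h x = x := fun x hx => congrArg Subtype.val (DFunLike.congr_fun hh ⟨x, hx⟩ : ρ h ⟨x, hx⟩ = ⟨x, hx⟩)
    have hmem : h ∈ Subgroup.centralizer (N : Set H) := by
      rw [Subgroup.mem_centralizer_iff]
      intro g hg
      apply hφ
      ext x : 1
      rw [map_mul, map_mul, Perm.mul_apply, Perm.mul_apply]
      by_cases hx : x ∈ O
      · rw [hfixO x hx, hfixO _ (hOinv g x hx)]
      · have hfix : ∀ z, z ∉ O → φ g z = z := fun z hz => by_contra fun e => hz ⟨⟨g, hg⟩, e⟩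
        have hhx : φ h x ∉ O := fun hm => hx (by
          have := hOinv h⁻¹ _ hm
          simpa using this)
        rw [hfix x hx, hfix _ hhx]
    rw [hC, Subgroup.mem_bot] at hmem
    exact hmem
  obtain ⟨k, ⟨eO⟩⟩ : ∃ k, Nonempty (O ≃ Fin k) := ⟨_, ⟨Finite.equivFin O⟩⟩
  have hk : k ≤ 8 := by
    have h1 := Nat.card_congr eO
    rw [Nat.card_coe_set_eq, Nat.card_fin] at h1
    have h2 := Set.ncard_le_card O
    rw [Nat.card_fin] at h2
    omega
  let ψ : H →* Perm (Fin k) := eO.permCongrHom.toMonoidHom.comp ρ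
  have hψ : Function.Injective ψ := eO.permCongrHom.injective.comp hρ
  have hψs : 7 ≤ k → ∀ h, sign (ψ h) = 1 := by
    intro hk7 h
    have e1 : sign (ψ h) = sign (ρ h) := Equiv.Perm.sign_permCongr eO _
    rw [e1, ← hsgn h]
    have hout : ∀ x, x ∉ O → φ h x = x := by
      intro x hx
      by_contra hne
      have hhx : φ h x ∉ O := fun hm => hx (by
        have := hOinv h⁻¹ _ hm
        simpa using this)
      have hs : ({x, φ h x} : Set (Fin 8)) ⊆ Oᶜ := by
        rintro y (rfl | rfl) <;> assumption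
      have := Set.ncard_le_ncard hs
      rw [Set.ncard_pair (Ne.symm hne), Set.ncard_compl, ← Nat.card_coe_set_eq, Nat.card_congr eO, Nat.card_fin,
        Nat.card_fin] at this
      omega
    have e2 := Equiv.Perm.sign_subtypePerm (φ h) (p := fun x => x ∈ O) (fun x => ⟨fun hm => by
      have := hOinv h⁻¹ _ hm
      simpa using this, hOinv h x⟩) (fun x hx => by_contra fun hxo => hx (hout x hxo))
    rw [← e2]
    congr 1
    exact Equiv.ext fun x => rfl
  have hψN : ∀ x y, ∃ g : N, ψ g x = y := by
    intro x y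
    obtain ⟨g, hg⟩ := horbit _ (eO.symm x).2 _ (eO.symm y).2
    refine ⟨g, eO.symm.injective (Subtype.ext ?_)⟩
    simp [ψ, ρ, hg]
  obtain ⟨hk5, hcases⟩ := small_transitive hNnc hk (ψ.comp N.subtype) (hψ.comp N.subtype_injective) hψN
  rcases hcases with hfull | ⟨rfl, h60⟩ | ⟨hk78, h168⟩
  · rcases alt_or_sym (by omega) ψ hψ N hfull with h | h
    · exact Or.inl ⟨k, hk5, hk, h⟩
    · obtain ⟨e⟩ := h
      rcases (show k = 5 ∨ k = 6 ∨ 7 ≤ k by omega) with rfl | rfl | h7
      · exact Or.inr (Or.inl ⟨e⟩)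
      · exact Or.inr (Or.inr (Or.inl ⟨e⟩))
      · exfalso
        haveI : Nontrivial (Fin k) := Fin.nontrivial_iff_two_le.2 (by omega)
        have hc : Nat.card H = k.factorial := by
          rw [Nat.card_congr e.toEquiv, Nat.card_perm, Nat.card_fin]
        have hA := Subgroup.card_dvd_of_injective
          (ψ.codRestrict (alternatingGroup (Fin k)) fun g => mem_alternatingGroup.2 (hψs h7 g))
          fun a b h => hψ (congrArg Subtype.val h)
        have h2 := two_mul_nat_card_alternatingGroup (α := Fin k)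
        rw [Nat.card_perm, Nat.card_fin, ← hc] at h2
        have := Nat.le_of_dvd Nat.card_pos hA
        have := (Nat.card_pos : 0 < Nat.card H)
        omega
  · -- socle of order sixty
    haveI : Fact (Nat.Prime 2) := ⟨Nat.prime_two⟩
    have h5 := card_sylow_two_sixty hNnc h60
    obtain ⟨eS⟩ : Nonempty (Sylow 2 N ≃ Fin 5) := ⟨(Finite.equivFin _).trans (finCongr h5)⟩
    let τ : H →* Perm (Sylow 2 N) :=
      { toFun := fun h => MulAction.toPerm (MulAut.conjNormal h : MulAut N)
        map_one' := Equiv.ext fun P => by simp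
        map_mul' := fun g h => Equiv.ext fun P => by simp [mul_smul] }
    have hτ : Function.Injective τ := by
      rw [← MonoidHom.ker_eq_bot_iff]
      by_contra hne
      obtain ⟨M, hMn, hM, hMle, hMmin⟩ := CfsgLib.Solvable.exists_minimal_normal_le τ.ker hne
      have hNker : ¬ N ≤ τ.ker := by
        intro hle
        obtain ⟨P⟩ : Nonempty (Sylow 2 N) := inferInstance
        refine SmallGroups.normalizer_sylow_ne_top hNnc (p := 2) (by omega) P (eq_top_iff.2 fun g _ => ?_)
        have h1 : (MulAut.conjNormal (g : H) : MulAut N) • P = P := DFunLike.congr_fun (hle g.2) P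
        have e : (MulAut.conjNormal (g : H) : MulAut N) = MulAut.conj g :=
          MulEquiv.ext fun y => Subtype.ext (by simp)
        rw [e] at h1
        exact Sylow.smul_eq_iff_mem_normalizer.1 h1
      have hMN : M ⊓ N = ⊥ := by
        rcases hmin (M ⊓ N) inferInstance inf_le_right with h | h
        · exact h
        · exact absurd ((h ▸ inf_le_left : N ≤ M).trans hMle) hNker
      have : M ≤ Subgroup.centralizer (N : Set H) := by
        intro m hm
        rw [Subgroup.mem_centralizer_iff]
        intro g hg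
        exact ((Subgroup.commute_of_normal_of_disjoint _ _ hMn hNn (disjoint_iff.2 hMN)) m g hm hg).symm.eq
      rw [hC, le_bot_iff] at this
      exact hM this
    rcases alt_or_sym (by norm_num) (eS.permCongrHom.toMonoidHom.comp τ) (eS.permCongrHom.injective.comp hτ) N
      (by rw [h60]; rfl) with h | h
    · exact Or.inl ⟨5, le_rfl, by norm_num, h⟩
    · exact Or.inr (Or.inl h)
  · -- socle of order 168
    refine Or.inr (Or.inr (Or.inr ?_))
    haveI : Fact (Nat.Prime 7) := ⟨by norm_num⟩
    have hG7 : Nat.card N = 7 ^ 1 * 24 := by omega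
    have h7d : 7 ∣ Nat.card N := by omega
    have hn : Nat.card (Sylow 7 N) = 8 := by
      have h1 := SmallGroups.card_sylow_mem_filter (p := 7) hG7 (by norm_num)
      have h2 := SmallGroups.card_sylow_ne_one (p := 7) hNnc h7d
      rw [show (Finset.range (24 + 1)).filter (fun d => 24 % d = 0 ∧ d % 7 = 1) = {1, 8} by decide] at h1
      simp only [Finset.mem_insert, Finset.mem_singleton] at h1
      omega
    obtain ⟨P⟩ : Nonempty (Sylow 7 N) := inferInstance
    have hPc : Nat.card ((P : Subgroup N).map N.subtype) = 7 := by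
      rw [Subgroup.card_map_of_injective N.subtype_injective]
      simpa using SmallGroups.card_sylow_eq hG7 (by norm_num) P
    have hnorm := normalizer_seven hk ψ hψ (hψs (by omega)) _ hPc
    have hsup := Sylow.normalizer_sup_eq_top P
    set K := Subgroup.normalizer (((P : Subgroup N).map N.subtype : Subgroup H) : Set H) with hK
    have hN21 : Nat.card (Subgroup.normalizer ((P : Subgroup N) : Set N)) = 21 := by
      have := SmallGroups.card_sylow_mul_card_normalizer P
      rw [hn, h168] at this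
      omega
    have hmem : ∀ g ∈ Subgroup.normalizer ((P : Subgroup N) : Set N), (g : H) ∈ K := by
      intro g hg
      rw [hK, Subgroup.mem_normalizer_iff]
      intro y
      constructor
      · rintro ⟨w, hw, rfl⟩
        exact ⟨g * w * g⁻¹, (Subgroup.mem_normalizer_iff.1 hg w).1 hw, by simp⟩
      · rintro ⟨w, hw, he⟩
        refine ⟨g⁻¹ * w * g, (Subgroup.mem_normalizer_iff.1 hg _).2 ?_, ?_⟩
        · rw [show g * (g⁻¹ * w * g) * g⁻¹ = w by group]; exact hw
        · simp only [Subgroup.coe_subtype] at he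
          simp only [map_mul, map_inv, Subgroup.coe_subtype, he]
          group
    have h21 : 21 ≤ Nat.card (N.subgroupOf K) := by
      rw [← hN21]
      refine Nat.card_le_card_of_injective (fun g => ⟨⟨((g : N) : H), hmem g g.2⟩, (g : N).2⟩) fun a b h => ?_
      exact Subtype.ext (Subtype.ext (congrArg (fun z : N.subgroupOf K => ((z : K) : H)) h))
    have hidx : N.index = 1 := by
      have h1 := Subgroup.card_mul_index (N.subgroupOf K)
      have h2 : (N.subgroupOf K).index = N.index := by
        show N.relIndex K = N.index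
        rw [← Subgroup.relIndex_top_right N, ← hsup, sup_comm, Subgroup.relIndex_sup_left]
      rw [h2] at h1
      have h3 := Nat.le_of_dvd (by norm_num) hnorm
      rw [← h1] at h3
      have h4 := Nat.mul_le_mul_right N.index h21
      have h5 : N.index ≠ 0 := Subgroup.index_ne_zero_of_finite
      omega
    have htop : N = ⊤ := Subgroup.index_eq_one.1 hidx
    obtain ⟨e1⟩ := CfsgLib.SmallSimple.O168.nonempty_iso (G := N) h168
    obtain ⟨e2⟩ := CfsgLib.SmallSimple.O168.nonempty_iso (G := GL (Fin 3) (ZMod 2)) gl3_card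
    exact ⟨(Subgroup.topEquiv (G := H)).symm.trans ((MulEquiv.subgroupCongr htop.symm).trans (e1.trans e2.symm))⟩

end CfsgLib.InvolChar.SubgroupsA8
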