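import Mathlib
import Cfsg.Prelude.Def_Local
import Cfsg.Agent.Lib.Char.Burnside
import Cfsg.Agent.Lib.Cores.Basic
import Cfsg.Agent.Lib.Solvable.MinimalNormal
import Cfsg.Agent.Lib.InvolChar.SubgroupsA8
import Cfsg.Agent.S0493

/-!
Nonsolvable subgroups of `A₈` with a nontrivial normal subgroup of odd order: the odd core is
generated by a three-cycle and the quotient is `A₅` or `S₅`.
-/

set_option autoImplicit false
set_option linter.style.haveILetI false

namespace CfsgLib.InvolChar.A8Normalizer

open Equiv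

/-- Extension of solvable by solvable. -/
theorem isSolvable_of_normal {G : Type*} [Group G] (N : Subgroup G) [N.Normal]
    (hN : Group.IsSolvable N) (hQ : Group.IsSolvable (G ⧸ N)) : Group.IsSolvable G := by
  refine Group.isSolvable_of_ker_le_range N.subtype (QuotientGroup.mk' N) ?_
  rw [QuotientGroup.ker_mk', Subgroup.range_subtype]

/-- Solvability from a homomorphism with solvable kernel and solvable codomain. -/
theorem isSolvable_of_hom {G H : Type*} [Group G] [Group H] (f : G →* H)
    (hk : Group.IsSolvable f.ker) (hH : Group.IsSolvable H) : Group.IsSolvable G := by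
  refine Group.isSolvable_of_ker_le_range f.ker.subtype f ?_
  rw [Subgroup.range_subtype]

/-- Groups of order less than sixty are solvable. -/
theorem isSolvable_of_card_lt_sixty :
    ∀ {G : Type*} [Group G] [Finite G], Nat.card G < 60 → Group.IsSolvable G := by
  intro G _ _ h
  obtain ⟨n, hn⟩ : ∃ n, n = Nat.card G := ⟨_, rfl⟩
  induction n using Nat.strong_induction_on generalizing G with
  | _ n ih =>
    subst hn
    rcases subsingleton_or_nontrivial G with hs | hnt
    · exact Group.isSolvable_of_comm fun a b => Subsingleton.elim _ _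
    by_cases hsimp : IsSimpleGroup G
    · by_cases hc : IsCyclic G
      · exact Group.isSolvable_of_comm fun a b => IsCyclic.commGroup.mul_comm a b
      · have := Cfsg.Agent.S0493.result hc (G := G) (by omega)
        omega
    · obtain ⟨N, hN, hNb, hNt⟩ : ∃ N : Subgroup G, N.Normal ∧ N ≠ ⊥ ∧ N ≠ ⊤ := by
        by_contra hno
        push Not at hno
        exact hsimp { eq_bot_or_eq_top_of_normal := fun N hN => or_iff_not_imp_left.2 (hno N hN) }
      haveI := hN
      have h1 : Nat.card N < Nat.card G := by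
        rcases (Subgroup.card_le_card_group N).lt_or_eq with h' | h'
        · exact h'
        · exact absurd ((Subgroup.card_eq_iff_eq_top N).1 h') hNt
      have h2 := CfsgLib.Solvable.card_quotient_lt N hNb
      exact isSolvable_of_normal N (ih _ h1 (by omega) rfl) (ih _ h2 (by omega) rfl)

/-- Groups whose order divides `315` are solvable. -/
theorem isSolvable_of_card_dvd_315 {G : Type*} [Group G] [Finite G] (h : Nat.card G ∣ 315) :
    Group.IsSolvable G := by
  classical
  haveI : Fact (Nat.Prime 5) := ⟨by norm_num⟩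
  by_cases h5 : 5 ∣ Nat.card G
  swap
  · have hco : (Nat.card G).Coprime 5 := ((by norm_num : Nat.Prime 5).coprime_iff_not_dvd.2 h5).symm
    have hd : Nat.card G ∣ 3 ^ 2 * 7 ^ 1 := hco.dvd_of_dvd_mul_right (by norm_num; exact h)
    exact CfsgLib.Char.isSolvable_of_card_eq_pow_mul_pow Nat.prime_three (by norm_num) hd
  obtain ⟨P⟩ : Nonempty (Sylow 5 G) := inferInstance
  obtain ⟨m, hm⟩ := id h5
  have hPc : Nat.card (P : Subgroup G) = 5 := by
    rw [P.card_eq_multiplicity]
    have hm5 : ¬ 5 ∣ m := fun ⟨k, hk⟩ => by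
      have : 25 ∣ 315 := Dvd.dvd.trans ⟨k, by rw [hm, hk]; ring⟩ h
      norm_num at this
    have hm0 : m ≠ 0 := fun h0 => Nat.card_pos.ne' (by rw [hm, h0, mul_zero] : Nat.card G = 0)
    rw [hm, Nat.factorization_mul (by norm_num) hm0, Finsupp.add_apply,
      Nat.Prime.factorization_self (by norm_num), Nat.factorization_eq_zero_of_not_dvd hm5]
    rfl
  haveI : IsCyclic (P : Subgroup G) := isCyclic_of_prime_card hPc
  have hnc : Subgroup.normalizer ((P : Subgroup G) : Set G) ≤
      Subgroup.centralizer ((P : Subgroup G) : Set G) := by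
    let f := MulAut.conjNormal (H := ((P : Subgroup G).subgroupOf (Subgroup.normalizer ((P : Subgroup G) : Set G))))
    intro x hx
    have hodd : Odd (Nat.card (Subgroup.normalizer ((P : Subgroup G) : Set G))) :=
      Odd.of_dvd_nat (by decide : Odd 315) ((Subgroup.card_subgroup_dvd_card _).trans h)
    have hA : f ⟨x, hx⟩ ^ 4 = 1 := by
      refine orderOf_dvd_iff_pow_eq_one.1 ((orderOf_dvd_natCard _).trans ?_)
      haveI : IsCyclic ((P : Subgroup G).subgroupOf (Subgroup.normalizer ((P : Subgroup G) : Set G))) :=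
        isCyclic_of_surjective _ (Subgroup.subgroupOfEquivOfLe Subgroup.le_normalizer).symm.surjective
      rw [Nat.card_congr (IsCyclic.mulAutMulEquiv _).toEquiv,
        Nat.card_congr (Subgroup.subgroupOfEquivOfLe Subgroup.le_normalizer).toEquiv, hPc,
        Nat.card_eq_fintype_card, ZMod.card_units_eq_totient]
      decide
    have h1 : f ⟨x, hx⟩ = 1 := by
      refine orderOf_eq_one_iff.1 (Nat.dvd_one.1 ?_)
      have hd1 : orderOf (f ⟨x, hx⟩) ∣ orderOf (⟨x, hx⟩ : Subgroup.normalizer ((P : Subgroup G) : Set G)) :=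
        orderOf_map_dvd f _
      have hd2 := hd1.trans (orderOf_dvd_natCard _)
      have hd3 := Odd.of_dvd_nat hodd hd2
      have hd4 := orderOf_dvd_of_pow_eq_one hA
      have hcop : Nat.Coprime (orderOf (f ⟨x, hx⟩)) (2 ^ 2) :=
        (Nat.coprime_two_right.2 hd3).pow_right 2
      exact dvd_of_eq (Nat.Coprime.eq_one_of_dvd hcop hd4)
    refine Subgroup.mem_centralizer_iff.2 fun v hv => ?_
    have h2 := congrArg (fun (e : MulAut _) => ((e ⟨⟨v, Subgroup.le_normalizer hv⟩, hv⟩ :
      (P : Subgroup G).subgroupOf (Subgroup.normalizer ((P : Subgroup G) : Set G))) : G)) h1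
    simp only [f, MulAut.one_apply] at h2
    change x * v * x⁻¹ = v at h2
    exact (mul_inv_eq_iff_eq_mul.1 h2).symm
  have hK := MonoidHom.ker_transferSylow_isComplement' P hnc
  set K := (MonoidHom.transferSylow P hnc).ker
  have hKc := hK.card_mul_card
  rw [hPc] at hKc
  have hKd : Nat.card K ∣ 3 ^ 2 * 7 ^ 1 := by
    obtain ⟨c, hc⟩ := h
    exact ⟨c, Nat.eq_of_mul_eq_mul_left (show 0 < 5 by norm_num) (by
      rw [← hKc] at hc; norm_num; linarith)⟩
  exact isSolvable_of_hom (MonoidHom.transferSylow P hnc)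
    (CfsgLib.Char.isSolvable_of_card_eq_pow_mul_pow Nat.prime_three (by norm_num) hKd)
    (Group.isSolvable_of_comm fun a b => IsCyclic.commGroup.mul_comm a b)

variable {Q : Type*} [Group Q] [Finite Q]

/-- The centralizer of a normal subgroup with small centralizer image is solvable. -/
theorem isSolvable_centralizer {P : Type*} [Group P] [Finite P] (φ : Q →* P)
    (hφ : Function.Injective φ) (M : Subgroup Q) {g : Q} (hg : g ∈ M)
    (hC : Nat.card (Subgroup.centralizer ({φ g} : Set P)) < 60) :
    Group.IsSolvable (Subgroup.centralizer (M : Set Q)) := by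
  refine isSolvable_of_card_lt_sixty (lt_of_le_of_lt ?_ hC)
  refine Nat.card_le_card_of_injective (fun c => ⟨φ c, ?_⟩)
    fun a b hab => Subtype.ext (hφ (congrArg Subtype.val hab))
  rw [Subgroup.mem_centralizer_singleton_iff, ← map_mul, ← map_mul,
    Subgroup.mem_centralizer_iff.1 c.2 g hg]

theorem ker_conjNormal (M : Subgroup Q) [M.Normal] :
    (MulAut.conjNormal (H := M) : Q →* MulAut M).ker ≤ Subgroup.centralizer (M : Set Q) := by
  intro x hx
  refine Subgroup.mem_centralizer_iff.2 fun v hv => ?_
  have h2 := congrArg (fun e : MulAut M => ((e ⟨v, hv⟩ : M) : Q)) (MonoidHom.mem_ker.1 hx)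
  simp only [MulAut.conjNormal_apply, MulAut.one_apply] at h2
  exact (mul_inv_eq_iff_eq_mul.1 h2).symm

/-- A group with a normal cyclic subgroup with small centralizer image is solvable. -/
theorem isSolvable_of_normal_prime {P : Type*} [Group P] [Finite P] (φ : Q →* P)
    (hφ : Function.Injective φ) (M : Subgroup Q) [M.Normal] [IsCyclic M] {g : Q} (hg : g ∈ M)
    (hC : Nat.card (Subgroup.centralizer ({φ g} : Set P)) < 60) : Group.IsSolvable Q := by
  haveI := isSolvable_centralizer φ hφ M hg hC
  refine isSolvable_of_hom (MulAut.conjNormal (H := M)) ?_ (Group.isSolvable_of_comm fun a b => ?_)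
  · exact Group.isSolvable_of_isSolvable_injective (Subgroup.inclusion_injective (ker_conjNormal M))
  · exact (IsCyclic.mulAutMulEquiv M).injective (by rw [map_mul, map_mul, mul_comm])

/-- Automorphism groups of groups of order nine. -/
theorem card_mulAut_nine {M : Type*} [Group M] [Finite M] (h : Nat.card M = 9) :
    Nat.card (MulAut M) ≤ 48 := by
  classical
  haveI := Fintype.ofFinite M
  by_cases hc : ∃ a : M, Subgroup.zpowers a = ⊤
  · obtain ⟨a, ha⟩ := hc
    refine le_trans (Nat.card_le_card_of_injective (fun φ : MulAut M => φ a) ?_) (by omega)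
    intro φ ψ hpq
    refine MulEquiv.toMonoidHom_injective (MonoidHom.eq_of_eqOn_dense
      (s := {a}) (by rw [← Subgroup.zpowers_eq_closure, ha]) ?_)
    rintro _ rfl
    exact hpq
  push Not at hc
  haveI : Fact (Nat.Prime 3) := ⟨Nat.prime_three⟩
  have hz : ∀ a : M, a ≠ 1 → Nat.card (Subgroup.zpowers a) = 3 := by
    intro a ha
    have hd : Nat.card (Subgroup.zpowers a) ∣ 3 ^ 2 := (Subgroup.card_subgroup_dvd_card _).trans (dvd_of_eq (h.trans (by norm_num)))
    obtain ⟨i, hi, he⟩ := (Nat.dvd_prime_pow Nat.prime_three).1 hd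
    interval_cases i
    · exfalso; exact ha ((Subgroup.zpowers_eq_bot).1 (Subgroup.card_eq_one.1 he))
    · exact he
    · exact absurd ((Subgroup.card_eq_iff_eq_top _).1 (by rw [he, h]; norm_num)) (hc a)
  obtain ⟨a, ha⟩ : ∃ a : M, a ≠ 1 := by
    haveI : Nontrivial M := Finite.one_lt_card_iff_nontrivial.1 (by omega)
    exact exists_ne 1
  obtain ⟨b, hb⟩ : ∃ b : M, b ∉ Subgroup.zpowers a := by
    by_contra hno
    push Not at hno
    exact hc a ((Subgroup.eq_top_iff' _).2 hno)
  have hgen : Subgroup.closure ({a, b} : Set M) = ⊤ := by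
    set K := Subgroup.closure ({a, b} : Set M)
    have hle : Subgroup.zpowers a ≤ K := Subgroup.zpowers_le.2 (Subgroup.subset_closure (by simp))
    have hd : Nat.card K ∣ 3 ^ 2 := (Subgroup.card_subgroup_dvd_card _).trans (dvd_of_eq (h.trans (by norm_num)))
    obtain ⟨i, hi, he⟩ := (Nat.dvd_prime_pow Nat.prime_three).1 hd
    have h3 := Subgroup.card_le_of_le hle
    rw [hz a ha] at h3
    interval_cases i
    · omega
    · exfalso
      have : Subgroup.zpowers a = K := Subgroup.eq_of_le_of_card_ge hle (by rw [hz a ha, he]; norm_num)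
      exact hb (this ▸ Subgroup.subset_closure (by simp))
    · exact (Subgroup.card_eq_iff_eq_top _).1 (by rw [he, h]; norm_num)
  let S := Σ x : {x : M // x ≠ 1}, {y : M // y ∉ Subgroup.zpowers (x : M)}
  have hS : Nat.card S = 48 := by
    rw [Nat.card_sigma]
    have h1 : ∀ x : {x : M // x ≠ 1}, Nat.card {y : M // y ∉ Subgroup.zpowers (x : M)} = 6 := by
      intro x
      rw [Nat.card_eq_fintype_card, Fintype.card_subtype_compl, ← Nat.card_eq_fintype_card, h,
        ← Nat.card_eq_fintype_card]
      have := hz x x.2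
      rw [show Nat.card {y : M // y ∈ Subgroup.zpowers (x : M)} = 3 from this]
    rw [Finset.sum_congr rfl (fun x _ => h1 x), Finset.sum_const, Finset.card_univ,
      ← Nat.card_eq_fintype_card, Nat.card_eq_fintype_card, Fintype.card_subtype_compl,
      Fintype.card_subtype_eq, ← Nat.card_eq_fintype_card, h]
    rfl
  refine le_trans (Nat.card_le_card_of_injective (fun φ : MulAut M =>
    (⟨⟨φ a, fun e => ha (φ.injective (e.trans (map_one φ).symm))⟩, ⟨φ b, ?_⟩⟩ : S)) ?_) hS.le
  · rintro ⟨k, hk⟩
    exact hb ⟨k, φ.injective ((map_zpow φ a k).trans hk)⟩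
  · intro φ ψ hpq
    have h1 : φ a = ψ a := congrArg (fun s : S => ((s.1 : {x : M // x ≠ 1}) : M)) hpq
    have h2 : φ b = ψ b := congrArg (fun s : S => ((s.2 : {y : M // y ∉ _}) : M)) hpq
    refine MulEquiv.toMonoidHom_injective (MonoidHom.eq_of_eqOn_dense hgen ?_)
    rintro x (rfl | rfl)
    · exact h1
    · exact h2

/-- Centralizers of elements of odd prime order other than three-cycles. -/
theorem card_centralizer_lt (g : Perm (Fin 8)) {p : ℕ} (hp : p.Prime) (hp2 : p ≠ 2)
    (hg : orderOf g = p) (h3 : ¬ g.IsThreeCycle) :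
    Nat.card (Subgroup.centralizer ({g} : Set (Perm (Fin 8)))) < 60 := by
  classical
  obtain ⟨m, hm⟩ := Perm.cycleType_prime_order (σ := g) (hg ▸ hp)
  rw [hg] at hm
  have hsum := Perm.sum_cycleType_le g
  rw [hm, Multiset.sum_replicate, Fintype.card_fin, smul_eq_mul] at hsum
  rw [Perm.nat_card_centralizer, hm, Multiset.sum_replicate, Multiset.prod_replicate, Fintype.card_fin,
    Multiset.toFinset_replicate, if_neg (by omega), Finset.prod_singleton,
    Multiset.count_replicate_self, smul_eq_mul]
  have hp8 : p ≤ 8 := le_trans (Nat.le_mul_of_pos_left p (Nat.succ_pos m)) hsum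
  have hm7 : m ≤ 3 := by
    by_contra hh
    have := Nat.mul_le_mul (show 5 ≤ m + 1 by omega) hp.two_le
    omega
  interval_cases p <;> first | (exfalso; norm_num at hp; done) | (exfalso; exact hp2 rfl) | skip
  all_goals interval_cases m <;> first | (exfalso; omega) | (norm_num [Nat.factorial]; done) | skip
  all_goals exact absurd hm h3

/-- Commuting three-cycles generate three-cycles only in one group of order three. -/
theorem support_mul_of_commute (a b : Perm (Fin 8)) (ha : a.IsThreeCycle) (hb : b.IsThreeCycle)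
    (hab : a * b = b * a) {x : Fin 8} (hx : b x ≠ x) (hxa : a x = x) : ¬ (a * b).IsThreeCycle := by
  classical
  have hfix : ∀ i : ℤ, a ((b ^ i) x) = (b ^ i) x := fun i => by
    have h : Commute a (b ^ i) := (show Commute a b from hab).zpow_right i
    rw [← Perm.mul_apply, h.eq, Perm.mul_apply, hxa]
  have hdis : Perm.Disjoint a b := by
    intro y
    by_cases hy : b y = y
    · exact Or.inr hy
    · obtain ⟨i, hi⟩ := hb.isCycle.sameCycle hx hy
      exact Or.inl (hi ▸ hfix i)
  intro h
  have h1 := hdis.card_support_mul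
  rw [h.card_support, ha.card_support, hb.card_support] at h1
  omega

/-- An even permutation fixing everything fixed by a three-cycle is a power of it. -/
theorem mem_zpowers_of_fixed {α : Type*} [Fintype α] [DecidableEq α] {a h : Perm α}
    (ha : a.IsThreeCycle) (hh : Perm.sign h = 1) (hfix : ∀ x, a x = x → h x = x) :
    h ∈ Subgroup.zpowers a := by
  classical
  obtain ⟨x0, hx0, -⟩ := ha.isCycle
  have hmem : ∀ x, h x ≠ x → a x ≠ x := fun x hx e => hx (hfix x e)
  have hx1 : a (h x0) ≠ h x0 := by
    intro e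
    exact hx0 ((h.injective (hfix _ e)).symm ▸ e)
  obtain ⟨i, hi⟩ := ha.isCycle.sameCycle hx0 hx1
  refine Subgroup.mem_zpowers_iff.2 ⟨i, ?_⟩
  set k := (a ^ i)⁻¹ * h with hk
  have hk0 : k x0 = x0 := by
    rw [hk, Perm.mul_apply, ← hi, ← Perm.mul_apply, inv_mul_cancel, Perm.one_apply]
  have hks : k.support ⊆ a.support.erase x0 := by
    intro x hx
    rw [Perm.mem_support] at hx
    rw [Finset.mem_erase, Perm.mem_support]
    refine ⟨fun e => hx (e ▸ hk0), fun e => hx ?_⟩
    rw [hk, Perm.mul_apply, hfix x e, Perm.inv_eq_iff_eq]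
    exact (Perm.zpow_apply_eq_self_of_apply_eq_self e i).symm
  have hcard : k.support.card ≤ 2 := by
    have := Finset.card_le_card hks
    rw [Finset.card_erase_of_mem (Perm.mem_support.2 hx0), ha.card_support] at this
    exact this
  have hk1 : k = 1 := by
    rcases Nat.lt_or_eq_of_le hcard with hlt | heq
    · refine Perm.card_support_eq_zero.1 ?_
      have := Perm.card_support_ne_one k
      omega
    · exfalso
      have hs := (Perm.card_support_eq_two.1 heq).sign_eq
      rw [hk, map_mul, map_inv, map_zpow, ha.sign, hh] at hs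
      simp at hs
  rw [hk, inv_mul_eq_one] at hk1
  exact hk1

/-- A nonsolvable subgroup of `A₈` with nontrivial odd core. -/
theorem odd_core_case (φ : Q →* Perm (Fin 8)) (hφ : Function.Injective φ)
    (hsgn : ∀ q, Perm.sign (φ q) = 1) (hns : ¬ Group.IsSolvable Q) (hO : Cfsg.pPrimeCore 2 Q ≠ ⊥) :
    Nat.card (Cfsg.pCore 3 Q) = 3 ∧
      (Nonempty (Q ⧸ Cfsg.pCore 3 Q ≃* alternatingGroup (Fin 5)) ∨
        Nonempty (Q ⧸ Cfsg.pCore 3 Q ≃* Perm (Fin 5))) := by
  classical
  have hd8 : Nat.card Q ∣ 20160 := by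
    have h1 : Nat.card (alternatingGroup (Fin 8)) = 20160 := by
      rw [nat_card_alternatingGroup, Nat.card_fin]; rfl
    rw [← h1]
    exact Subgroup.card_dvd_of_injective (φ.codRestrict _ fun g => Perm.mem_alternatingGroup.2 (hsgn g))
      fun a b h => hφ (congrArg Subtype.val h)
  haveI : (Cfsg.pPrimeCore 2 Q).Normal := Subgroup.sSup_normal _ fun _ h => h.1
  obtain ⟨M, hMn, hM, hMO, hmin⟩ := CfsgLib.Solvable.exists_minimal_normal_le _ hO
  haveI := hMn
  have hcop : (Nat.card M).Coprime 2 :=
    Nat.Coprime.coprime_dvd_left (Subgroup.card_dvd_of_le hMO) (CfsgLib.Cores.coprime_card_pPrimeCore 2)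
  have h315 : Nat.card M ∣ 315 := by
    have h1 : Nat.card M ∣ 2 ^ 6 * 315 := (Subgroup.card_subgroup_dvd_card M).trans hd8
    exact (hcop.pow_right 6).dvd_of_dvd_mul_left h1
  obtain ⟨p, k, hp, hk, hpM, hcard⟩ :=
    CfsgLib.Solvable.exists_pow_card_of_minimal_normal M hM hmin (isSolvable_of_card_dvd_315 h315)
  haveI := Fact.mk hp
  have hp2 : p ≠ 2 := fun e => by
    rw [hcard, e] at hcop
    have h2 := (Nat.coprime_pow_left_iff (Nat.pos_of_ne_zero (by omega)) _ _).1 hcop
    norm_num at h2
  rw [hcard] at h315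
  have hp357 : p = 3 ∨ p = 5 ∨ p = 7 := by
    have h1 : p ∣ 3 ^ 2 * 5 * 7 := (dvd_pow_self p (by omega)).trans h315
    rcases (Nat.Prime.dvd_mul hp).1 h1 with h | h
    · rcases (Nat.Prime.dvd_mul hp).1 h with h | h
      · exact Or.inl ((Nat.prime_dvd_prime_iff_eq hp Nat.prime_three).1 (hp.dvd_of_dvd_pow h))
      · exact Or.inr (Or.inl ((Nat.prime_dvd_prime_iff_eq hp (by norm_num)).1 h))
    · exact Or.inr (Or.inr ((Nat.prime_dvd_prime_iff_eq hp (by norm_num)).1 h))
  have hk2 : (p = 3 ∧ k ≤ 2) ∨ k = 1 := by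
    rcases hp357 with rfl | rfl | rfl
    · refine Or.inl ⟨rfl, ?_⟩
      by_contra hh
      have := (pow_dvd_pow 3 (show 3 ≤ k by omega)).trans h315
      norm_num at this
    all_goals
      refine Or.inr ?_
      by_contra hh
      have := (pow_dvd_pow _ (show 2 ≤ k by omega)).trans h315
      norm_num at this
  -- the nine case
  have hk1 : k = 1 := by
    rcases hk2 with ⟨rfl, hk2⟩ | h
    swap
    · exact h
    by_contra hne
    have hk' : k = 2 := by omega
    subst hk'
    haveI : IsMulCommutative M := IsPGroup.isMulCommutative_of_card_eq_prime_sq hcard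
    have h9 : Nat.card M = 9 := by rw [hcard]; rfl
    obtain ⟨z, hz, hz3⟩ : ∃ z ∈ M, Nat.card (Subgroup.centralizer ({φ z} : Set (Perm (Fin 8)))) < 60 := by
      by_contra hno
      push Not at hno
      have hthree : ∀ z ∈ M, z ≠ 1 → orderOf z = 3 → (φ z).IsThreeCycle := by
        intro z hz _ ho
        by_contra hn
        exact absurd (hno z hz) (not_le.2 (card_centralizer_lt _ Nat.prime_three (by norm_num)
          (by rw [orderOf_injective φ hφ, ho]) hn))
      obtain ⟨a, ha⟩ := exists_prime_orderOf_dvd_card' (G := M) 3 (by rw [h9]; norm_num)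
      have haM : orderOf (a : Q) = 3 := by rw [Subgroup.orderOf_coe, ha]
      have hA : (φ a).IsThreeCycle := hthree a a.2 (fun e => by rw [e, orderOf_one] at haM; omega) haM
      obtain ⟨b, hb⟩ : ∃ b : M, b ∉ Subgroup.zpowers a := by
        by_contra hn
        push Not at hn
        have := (Subgroup.card_eq_iff_eq_top _).2 ((Subgroup.eq_top_iff' _).2 hn)
        rw [Nat.card_zpowers, ha, h9] at this
        omega
      have hex : ∀ c : M, c ∉ Subgroup.zpowers a → orderOf (c : Q) = 3 := by
        intro c hc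
        have hne : c ≠ 1 := fun e => hc (e ▸ one_mem _)
        rw [Subgroup.orderOf_coe]
        obtain ⟨i, hi, hi'⟩ := (Nat.dvd_prime_pow Nat.prime_three).1
          ((orderOf_dvd_natCard c).trans (dvd_of_eq hcard))
        interval_cases i
        · exact absurd (orderOf_eq_one_iff.1 (by rw [hi']; rfl)) hne
        · rw [hi', pow_one]
        · exfalso
          have hord : orderOf (c : Q) = 9 := by rw [Subgroup.orderOf_coe, hi']; rfl
          have hd : Nat.card (Subgroup.centralizer ({φ c} : Set (Perm (Fin 8)))) < 60 := by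
            obtain ⟨m, hm⟩ : ∃ m, m = (φ (c : Q)).cycleType := ⟨_, rfl⟩
            have h9' : (φ (c : Q)).cycleType.lcm = 9 := by
              rw [Perm.lcm_cycleType, orderOf_injective φ hφ, hord]
            exfalso
            have hall : ∀ n ∈ (φ (c : Q)).cycleType, n ∣ 3 := by
              intro n hn
              have h1 : n ∣ 9 := h9' ▸ Multiset.dvd_lcm hn
              have h2 : n ≤ 8 := le_trans (Multiset.le_sum_of_mem hn)
                (le_trans (Perm.sum_cycleType_le _) (by simp))
              have : 1 < n := Perm.one_lt_of_mem_cycleType hn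
              interval_cases n <;> norm_num at h1 <;> norm_num
            have := Multiset.lcm_dvd.2 hall
            rw [h9'] at this
            norm_num at this
          exact absurd (hno c c.2) (not_le.2 hd)
      have hbo := hex b hb
      have hB : (φ b).IsThreeCycle := hthree b b.2 (fun e => by rw [e, orderOf_one] at hbo; omega) hbo
      have habnot : a * b ∉ Subgroup.zpowers a := fun h => hb (by
        have := mul_mem (inv_mem (Subgroup.mem_zpowers a)) h
        rwa [inv_mul_cancel_left] at this)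
      have habo := hex _ habnot
      have hAB : (φ (a * b : M)).IsThreeCycle := hthree _ (a * b).2 (fun e => by rw [e, orderOf_one] at habo; omega) habo
      have hne : ∃ x, φ b x ≠ x ∧ φ a x = x := by
        by_contra hn
        push Not at hn
        have := mem_zpowers_of_fixed hA (hsgn b) fun x hx => by
          by_contra h'
          exact hn x h' hx
        obtain ⟨i, hi⟩ := Subgroup.mem_zpowers_iff.1 this
        exact hb (Subgroup.mem_zpowers_iff.2 ⟨i, Subtype.ext (hφ (by
          rw [SubgroupClass.coe_zpow, map_zpow, hi]))⟩)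
      obtain ⟨x, hx1, hx2⟩ := hne
      refine support_mul_of_commute _ _ hA hB ?_ hx1 hx2 (by rwa [← map_mul])
      rw [← map_mul, ← map_mul, ← Subgroup.coe_mul, ← Subgroup.coe_mul, mul_comm']
    haveI := isSolvable_centralizer φ hφ M hz hz3
    exact hns (isSolvable_of_hom (MulAut.conjNormal (H := M))
      (Group.isSolvable_of_isSolvable_injective (Subgroup.inclusion_injective (ker_conjNormal M)))
      (isSolvable_of_card_lt_sixty (by have := card_mulAut_nine h9; omega)))
  subst hk1
  rw [pow_one] at hcard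
  haveI : IsCyclic M := isCyclic_of_prime_card hcard
  obtain ⟨a, ha⟩ := exists_prime_orderOf_dvd_card' (G := M) p (by rw [hcard])
  have hA : (φ a).IsThreeCycle := by
    by_contra hn
    refine hns (isSolvable_of_normal_prime φ hφ M a.2 (card_centralizer_lt _ hp hp2 ?_ hn))
    rw [orderOf_injective φ hφ, Subgroup.orderOf_coe, ha]
  have hp3 : p = 3 := by
    rw [← ha, ← Subgroup.orderOf_coe, ← orderOf_injective φ hφ, hA.orderOf]
  subst hp3
  haveI : Fact (Nat.Prime 3) := ⟨Nat.prime_three⟩
  have hgen : ∀ m : M, m ∈ Subgroup.zpowers a := by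
    intro m
    have : Subgroup.zpowers a = ⊤ := (Subgroup.card_eq_iff_eq_top _).1 (by rw [Nat.card_zpowers, ha, hcard])
    rw [this]; trivial
  -- action on the fixed points
  let T := {x : Fin 8 // φ a x = x}
  have hinv : ∀ q : Q, ∀ x : Fin 8, (φ a (φ q x) = φ q x ↔ φ a x = x) := by
    have hone : ∀ q : Q, ∀ x : Fin 8, φ a x = x → φ a (φ q x) = φ q x := by
      intro q x hx
      obtain ⟨i, hi⟩ := Subgroup.mem_zpowers_iff.1
        (hgen ⟨q⁻¹ * a * q, by simpa using hMn.conj_mem _ a.2 q⁻¹⟩)
      have hi' : φ (q⁻¹ * a * q) x = x := by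
        have h1 : ((a ^ i : M) : Q) = q⁻¹ * a * q := congrArg Subtype.val hi
        rw [← h1, SubgroupClass.coe_zpow, map_zpow]
        exact Perm.zpow_apply_eq_self_of_apply_eq_self hx i
      have e : φ q (φ (q⁻¹ * a * q) x) = φ q x := by rw [hi']
      rwa [← Perm.mul_apply, ← map_mul, ← mul_assoc, ← mul_assoc, mul_inv_cancel, one_mul, map_mul,
        Perm.mul_apply] at e
    intro q x
    refine ⟨fun h => ?_, hone q x⟩
    have := hone q⁻¹ _ h
    rwa [← Perm.mul_apply (φ q⁻¹), ← map_mul, inv_mul_cancel, map_one, Perm.one_apply] at this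
  let ρ : Q →* Perm T :=
    { toFun := fun q => (φ q).subtypePerm (fun x => hinv q x)
      map_one' := Equiv.ext fun x => Subtype.ext (by simp)
      map_mul' := fun q r => Equiv.ext fun x => Subtype.ext (by simp) }
  have hker : ρ.ker = M := by
    ext q
    rw [MonoidHom.mem_ker]
    constructor
    · intro hq
      have hfix : ∀ x, φ a x = x → φ q x = x := fun x hx =>
        congrArg Subtype.val (Perm.congr_fun hq (⟨x, hx⟩ : T))
      obtain ⟨i, hi⟩ := Subgroup.mem_zpowers_iff.1 (mem_zpowers_of_fixed hA (hsgn q) hfix)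
      rw [← map_zpow] at hi
      exact hφ hi ▸ zpow_mem a.2 i
    · intro hq
      obtain ⟨i, hi⟩ := Subgroup.mem_zpowers_iff.1 (hgen ⟨q, hq⟩)
      refine Equiv.ext fun x => Subtype.ext ?_
      have h1 : ((a ^ i : M) : Q) = q := congrArg Subtype.val hi
      show φ q x.1 = x.1
      rw [← h1, SubgroupClass.coe_zpow, map_zpow]
      exact Perm.zpow_apply_eq_self_of_apply_eq_self x.2 i
  have hT : Fintype.card T = 5 := by
    have h1 : (Finset.univ.filter fun x : Fin 8 => φ a x = x) = (φ a).supportᶜ := by
      ext x; simp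
    rw [Fintype.card_subtype, h1, Finset.card_compl, hA.card_support]
    rfl
  let eT := (Fintype.equivFinOfCardEq hT).permCongrHom
  let σ : Q ⧸ M →* Perm (Fin 5) :=
    eT.toMonoidHom.comp ((QuotientGroup.kerLift ρ).comp (QuotientGroup.quotientMulEquivOfEq hker.symm).toMonoidHom)
  have hσ : Function.Injective σ :=
    eT.injective.comp ((QuotientGroup.kerLift_injective ρ).comp (MulEquiv.injective _))
  have hnsM : ¬ Group.IsSolvable (Q ⧸ M) := fun h =>
    hns (isSolvable_of_normal M (Group.isSolvable_of_comm fun x y => IsCyclic.commGroup.mul_comm x y) h)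
  have hdvd : Nat.card (Q ⧸ M) ∣ 120 := by
    have := Subgroup.card_dvd_of_injective σ hσ
    rwa [Nat.card_perm, Nat.card_fin] at this
  have hiso : Nonempty (Q ⧸ M ≃* alternatingGroup (Fin 5)) ∨ Nonempty (Q ⧸ M ≃* Perm (Fin 5)) := by
    have h60 : Nat.card (Q ⧸ M) = 60 ∨ Nat.card (Q ⧸ M) = 120 := by
      obtain ⟨c, hc⟩ := hdvd
      have h1 : 60 ≤ Nat.card (Q ⧸ M) := not_lt.1 fun h => hnsM (isSolvable_of_card_lt_sixty h)
      have h2 : c ≤ 2 := by nlinarith
      interval_cases c <;> omega
    rcases h60 with h | h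
    · exact CfsgLib.InvolChar.SubgroupsA8.alt_or_sym (by norm_num) σ hσ ⊤
        (by rw [Subgroup.card_top, h]; rfl)
    · exact Or.inr ⟨MulEquiv.ofBijective σ ((Nat.bijective_iff_injective_and_card _).2
        ⟨hσ, by rw [h, Nat.card_perm, Nat.card_fin]; rfl⟩)⟩
  have hcore : Cfsg.pCore 3 Q = M := by
    refine le_antisymm ?_ (CfsgLib.Cores.le_pCore hpM)
    set P := (Cfsg.pCore 3 Q).map (QuotientGroup.mk' M) with hP
    haveI : P.Normal := Subgroup.Normal.map inferInstance _ (QuotientGroup.mk'_surjective M)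
    suffices hb : P = ⊥ by
      intro x hx
      have : QuotientGroup.mk' M x ∈ P := ⟨x, hx, rfl⟩
      rw [hb, Subgroup.mem_bot] at this
      exact (QuotientGroup.eq_one_iff x).1 this
    by_contra hb
    have hPp : IsPGroup 3 P := (CfsgLib.Cores.isPGroup_pCore 3).map _
    obtain ⟨j, hj⟩ := IsPGroup.iff_card.1 hPp
    have hj1 : j = 1 := by
      have h1 : 3 ^ j ∣ 120 := hj ▸ (Subgroup.card_subgroup_dvd_card P).trans hdvd
      have h0 : j ≠ 0 := fun h0 => hb (Subgroup.card_eq_one.1 (by rw [hj, h0]; rfl))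
      by_contra hh
      have := (pow_dvd_pow 3 (show 2 ≤ j by omega)).trans h1
      norm_num at this
    rw [hj1, pow_one] at hj
    haveI : IsCyclic P := isCyclic_of_prime_card hj
    obtain ⟨c, hc⟩ := exists_prime_orderOf_dvd_card' (G := P) 3 (by rw [hj])
    refine hnsM (isSolvable_of_normal_prime σ hσ P c.2 ?_)
    have ho : orderOf (σ c) = 3 := by rw [orderOf_injective σ hσ, Subgroup.orderOf_coe, hc]
    obtain ⟨m, hm⟩ := Perm.cycleType_prime_order (σ := σ c) (ho ▸ Nat.prime_three)
    have hsum := Perm.sum_cycleType_le (σ c)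
    rw [hm, Multiset.sum_replicate, ho, smul_eq_mul, Fintype.card_fin] at hsum
    have hm0 : m = 0 := by omega
    rw [Perm.nat_card_centralizer, hm, hm0, ho, Fintype.card_fin]
    decide
  refine ⟨hcore.symm ▸ hcard, ?_⟩
  exact hiso.imp (fun ⟨e⟩ => ⟨(QuotientGroup.quotientMulEquivOfEq hcore).trans e⟩)
    (fun ⟨e⟩ => ⟨(QuotientGroup.quotientMulEquivOfEq hcore).trans e⟩)

end CfsgLib.InvolChar.A8Normalizer
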