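import Mathlib
import Cfsg.Prelude.Def_Transfer
import Cfsg.Agent.Lib.LargeExtra.Extraspecial

/-!
An extraspecial group of order 32 with a nontrivial action of the alternating group of degree five:
the ten noncentral involutions, the five pairs, and the action of an involution.
-/

set_option autoImplicit false
set_option linter.style.haveILetI false
set_option linter.unusedSectionVars false

namespace CfsgLib.InvolChar.MinusThirtyTwo

open Subgroup Cfsg

variable {E : Type*} [Group E] [Finite E]

/-- The hypotheses: an extraspecial group of order 32 with central involution `z`. -/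
structure Base (z : E) : Prop where
  hE : IsExtraspecial 2 E
  h32 : Nat.card E = 32
  hz : z * z = 1
  hz1 : z ≠ 1
  hcen : ∀ x : E, x ∈ center E → x = 1 ∨ x = z
  hzc : ∀ x : E, x * z = z * x

theorem exists_base (hE : IsExtraspecial 2 E) (h32 : Nat.card E = 32) : ∃ z : E, Base z := by
  obtain ⟨z, hz, ho, hc⟩ := CfsgLib.LargeExtra.exists_centre_gen hE
  refine ⟨z, hE, h32, ?_, ?_, hc, fun x => mem_center_iff.1 hz x⟩
  · rw [← sq, ← ho]; exact pow_orderOf_eq_one z
  · intro e; rw [e, orderOf_one] at ho; omega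

variable {z : E}

theorem comm_cases (b : Base z) (x y : E) : x * y = y * x ∨ x * y = z * (y * x) := by
  rcases b.hcen _ (CfsgLib.LargeExtra.comm_mem_center b.hE x y) with h | h
  · exact Or.inl (mul_inv_eq_iff_eq_mul.1 (mul_inv_eq_one.1 h))
  · refine Or.inr ?_
    rw [← h]; group

theorem sq_cases (b : Base z) (x : E) : x * x = 1 ∨ x * x = z :=
  b.hcen _ (CfsgLib.LargeExtra.sq_mem_center b.hE x)

open Classical in
/-- The sign of the square. -/
noncomputable def chi (x : E) : ℤ := if x * x = 1 then 1 else -1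

open Classical in
/-- The sign of the commutator. -/
noncomputable def psi (x y : E) : ℤ := if x * y = y * x then 1 else -1

theorem chi_mul (b : Base z) (x y : E) : chi (x * y) = chi x * chi y * psi x y := by
  classical
  have e1 : x * y * (x * y) = x * (y * x) * y := by group
  have hne : ∀ w : E, z * w ≠ w := fun w h => b.hz1 (mul_eq_right.1 h)
  simp only [chi, psi]
  rcases comm_cases b x y with hc | hc <;>
    rcases sq_cases b x with hx | hx <;> rcases sq_cases b y with hy | hy
  all_goals
    have e2 : y * x = x * y ∨ y * x = z * (x * y) := by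
      first
        | exact Or.inl hc.symm
        | exact Or.inr (by rw [hc, ← mul_assoc, b.hz, one_mul])
    have e3 : x * (x * y) * y = (x * x) * (y * y) := by group
    have e4 : x * (z * (x * y)) * y = z * ((x * x) * (y * y)) := by
      rw [← mul_assoc x z, b.hzc]; group
  all_goals
    rw [e1]
    first
      | rw [if_pos hc, show y * x = x * y from hc.symm, e3]
      | rw [if_neg (fun h => hne (y * x) (hc.symm.trans h)), show y * x = z * (x * y) by
          rw [hc, ← mul_assoc, b.hz, one_mul], e4]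
    simp only [hx, hy, one_mul, mul_one, b.hz, b.hz1, if_true, if_false, mul_neg, neg_mul, neg_neg]

theorem psi_mul (b : Base z) (y x w : E) : psi y (x * w) = psi y x * psi y w := by
  have h1 := chi_mul b (y * x) w
  have h2 := chi_mul b y (x * w)
  have h3 := chi_mul b y x
  have h4 := chi_mul b x w
  have h5 := chi_mul b w (y * x)
  have hsq : ∀ a : E, chi a * chi a = 1 := fun a => by unfold chi; split_ifs <;> norm_num
  classical
  unfold psi
  have hz' : ∀ a : E, z * a ≠ a := fun a h => b.hz1 (mul_eq_right.1 h)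
  rcases comm_cases b y x with e1 | e1 <;> rcases comm_cases b y w with e2 | e2
  · have e : y * (x * w) = x * w * y := by rw [← mul_assoc, e1, mul_assoc, e2, mul_assoc]
    simp [e, e1, e2]
  · have e : y * (x * w) = z * (x * w * y) := by
      rw [← mul_assoc, e1, mul_assoc, e2, ← mul_assoc x z, b.hzc]; group
    simp [e1, e2, e, hz']
  · have e : y * (x * w) = z * (x * w * y) := by
      rw [← mul_assoc, e1, mul_assoc z, mul_assoc x, e2, mul_assoc x w y]
    simp [e1, e2, e, hz']
  · have e : y * (x * w) = x * w * y := by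
      rw [← mul_assoc, e1, mul_assoc z, mul_assoc x, e2, ← mul_assoc x z, b.hzc, mul_assoc z x,
        ← mul_assoc z z, b.hz, one_mul, mul_assoc x w y]
    simp [e1, e2, e, hz']

/-- The Gauss sum is `±8`. -/
theorem gauss [Fintype E] (b : Base z) : (∑ x : E, chi x) * (∑ x : E, chi x) = 64 := by
  classical
  have hin : ∀ y : E, ∑ x : E, psi x y = if y = 1 ∨ y = z then 32 else 0 := by
    intro y
    split_ifs with hy
    · have hc : ∀ x : E, psi x y = 1 := fun x => by
        refine if_pos ?_
        rcases hy with rfl | rfl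
        · simp
        · exact b.hzc x
      simp [hc, ← Nat.card_eq_fintype_card, b.h32]
    · obtain ⟨a, ha⟩ : ∃ a, a * y ≠ y * a := by
        by_contra hno
        push Not at hno
        exact hy (b.hcen y (mem_center_iff.2 hno))
      have hsym : ∀ x w : E, psi x w = psi w x := fun x w => by
        unfold psi; exact if_congr eq_comm rfl rfl
      have h1 : ∑ x : E, psi x y = ∑ x : E, psi (a * x) y :=
        (Equiv.sum_comp (Equiv.mulLeft a) (fun x => psi x y)).symm
      have h2 : ∀ x, psi (a * x) y = -psi x y := fun x => by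
        rw [hsym, psi_mul b, hsym y a, show psi a y = -1 from if_neg ha, hsym y x]; ring
      rw [Finset.sum_congr rfl (fun x _ => h2 x), Finset.sum_neg_distrib] at h1
      omega
  have hsq : ∀ a : E, chi a * chi a = 1 := fun a => by unfold chi; split_ifs <;> norm_num
  calc (∑ x : E, chi x) * (∑ x : E, chi x) = ∑ x : E, ∑ y : E, chi x * chi (x * y) := by
        rw [Finset.sum_mul]
        refine Finset.sum_congr rfl fun x _ => ?_
        rw [Finset.mul_sum]
        exact (Equiv.sum_comp (Equiv.mulLeft x) (fun y => chi x * chi y)).symm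
    _ = ∑ y : E, chi y * ∑ x : E, psi x y := by
        rw [Finset.sum_comm]
        refine Finset.sum_congr rfl fun y _ => ?_
        rw [Finset.mul_sum]
        refine Finset.sum_congr rfl fun x _ => ?_
        rw [chi_mul b]
        calc chi x * (chi x * chi y * psi x y) = (chi x * chi x) * (chi y * psi x y) := by ring
          _ = _ := by rw [hsq, one_mul]
    _ = ∑ y : E, (if y = 1 ∨ y = z then 32 else 0 : ℤ) := by
        refine Finset.sum_congr rfl fun y _ => ?_
        rw [hin]
        split_ifs with hy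
        · rcases hy with rfl | rfl <;> simp [chi, b.hz]
        · rw [mul_zero]
    _ = ∑ y ∈ ({1, z} : Finset E), (32 : ℤ) := by
        rw [← Finset.sum_filter]
        refine Finset.sum_congr (Finset.ext fun y => ?_) (fun _ _ => rfl)
        simp
    _ = 64 := by rw [Finset.sum_pair (Ne.symm b.hz1)]; norm_num

theorem rel_dichotomy : ∀ R : Fin 5 → Bool, (∀ d, R d = R (-d)) → R 0 = true →
    (∀ d, d ≠ 0 → R d = true → ∃ e, e ≠ 0 ∧ e ≠ d ∧ R e = true ∧ R (e - d) = true) →
    (∀ d, d ≠ 0 → R d = false) ∨ (∀ d, R d = true) := by decide +kernel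

theorem perm_facts : ∀ σ : Equiv.Perm (Fin 5), Equiv.Perm.sign σ = 1 → σ ≠ 1 → σ * σ = 1 →
    ∃ i, σ i = i ∧ (∀ j, j ≠ i → σ j ≠ j) ∧ ∃ a : Equiv.Perm (Fin 5), Equiv.Perm.sign a = 1 ∧ a i = i ∧
      ∃ c : Equiv.Perm (Fin 5), Equiv.Perm.sign c = 1 ∧ c i = i ∧ a * c * a⁻¹ * c⁻¹ = σ := by decide +kernel

theorem exists_other : ∀ (σ : Equiv.Perm (Fin 5)) (i : Fin 5), (∀ j, j ≠ i → σ j ≠ j) → σ * σ = 1 → σ i = i →
    ∃ j l, j ≠ i ∧ l ≠ i ∧ l ≠ j ∧ l ≠ σ j ∧ σ l ≠ j ∧ σ l ≠ σ j ∧ σ j ≠ j ∧ σ l ≠ l := by decide +kernel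

variable {K : Type*} [Group K] [Finite K]

/-- The main facts about the action. -/
theorem key (b : Base z) (hK : Nonempty (K ≃* alternatingGroup (Fin 5))) (φ : K →* MulAut E) (hφ : φ ≠ 1) :
    Nat.card {x : E // x * x = 1} = 12 ∧
    (∀ u w : E, u * u = 1 → u ≠ 1 → u ≠ z → w * w = 1 → w ≠ 1 → w ≠ z → u * w = w * u → w = u ∨ w = z * u) ∧
    ∀ k : K, orderOf k = 2 →
      Nat.card {q : E // φ k q = q⁻¹} ≤ 8 ∧
      (Nat.card {q : E // φ k q = q⁻¹} = 8 → ∀ q : E, φ k q = q⁻¹ →
        Nat.card {u : E // u * u = 1 ∧ u ≠ 1 ∧ u ≠ z ∧ q * φ k u * q⁻¹ ≠ u} = 8) := by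
  classical
  haveI := Fintype.ofFinite E
  haveI : Fact (Nat.Prime 5) := ⟨by norm_num⟩
  obtain ⟨eK⟩ := hK
  haveI : Nontrivial K := eK.toEquiv.nontrivial
  haveI : IsSimpleGroup K := IsSimpleGroup.isSimpleGroup_of_surjective eK.symm.toMonoidHom eK.symm.surjective
  have hker : φ.ker = ⊥ := (IsSimpleGroup.eq_bot_or_eq_top_of_normal φ.ker inferInstance).resolve_right
    fun h => hφ (MonoidHom.ext fun k => MonoidHom.mem_ker.1 (h ▸ mem_top k))
  have hK60 : Nat.card K = 60 := by
    rw [Nat.card_congr eK.toEquiv, nat_card_alternatingGroup]; norm_num [Nat.factorial]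
  obtain ⟨f, hf⟩ := exists_prime_orderOf_dvd_card' (G := K) 5 (by rw [hK60]; norm_num)
  set α := φ f with hα
  have hα5 : α ^ 5 = 1 := by rw [hα, ← map_pow, ← hf, pow_orderOf_eq_one, map_one]
  have hα1 : α ≠ 1 := fun h => by
    have : f ∈ φ.ker := h
    rw [hker, mem_bot] at this
    rw [this, orderOf_one] at hf
    omega
  have haut : ∀ a : MulAut E, a z = z := fun a => by
    have hc : a z ∈ center E := mem_center_iff.2 fun x => by
      obtain ⟨y, rfl⟩ := a.surjective x
      rw [← map_mul, ← map_mul, b.hzc]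
    exact (b.hcen _ hc).resolve_left fun h => b.hz1 (a.injective (h.trans (map_one a).symm))
  have hzu : ∀ u : E, u * u = 1 → z * u * (z * u) = 1 := fun u hu => by
    rw [mul_assoc z u, ← mul_assoc u z, b.hzc, mul_assoc z u u, hu, mul_one, b.hz]
  -- fixed points of `α`
  have hfix : ∀ x, α x = x → x = 1 ∨ x = z := by
    let C : Subgroup E :=
      { carrier := {x | α x = x}
        one_mem' := map_one α
        mul_mem' := fun {x y} hx hy => by
          show α (x * y) = x * y
          rw [map_mul, hx, hy]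
        inv_mem' := fun {x} hx => by
          show α x⁻¹ = x⁻¹
          rw [map_inv, hx] }
    let σ : Equiv.Perm E := MulAut.toPerm E α
    have hσ : σ ^ 5 ^ 1 = 1 := by rw [pow_one, ← map_pow, hα5, map_one]
    have hmod := Equiv.Perm.card_compl_support_modEq hσ
    rw [← Nat.card_eq_fintype_card, b.h32] at hmod
    have hc : σ.supportᶜ.card = Nat.card C := by
      rw [Nat.card_eq_fintype_card, Fintype.card_subtype]
      congr 1
      ext x
      simp [σ, C]
      rfl
    rw [hc] at hmod
    obtain ⟨m, hm5, hm⟩ : ∃ m ≤ 5, Nat.card C = 2 ^ m := (Nat.dvd_prime_pow Nat.prime_two).1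
      (show Nat.card C ∣ 2 ^ 5 by rw [show 2 ^ 5 = 32 from rfl, ← b.h32]; exact card_subgroup_dvd_card C)
    intro x hx
    by_contra hno
    push Not at hno
    have h3 : ({1, z, x} : Finset E).card = 3 := by
      rw [Finset.card_insert_of_notMem, Finset.card_pair (Ne.symm hno.2)]
      simp [Ne.symm b.hz1, Ne.symm hno.1]
    have h4 : 3 ≤ Nat.card C := by
      rw [← h3, Nat.card_eq_fintype_card, Fintype.card_subtype]
      refine Finset.card_le_card fun y hy => ?_
      simp only [Finset.mem_insert, Finset.mem_singleton] at hy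
      simp only [Finset.mem_filter, Finset.mem_univ, true_and]
      rcases hy with rfl | rfl | rfl
      · exact one_mem C
      · exact haut α
      · exact hx
    have h5 : Nat.card C ≠ 32 := by
      intro h
      have hC : C = ⊤ := card_eq_iff_eq_top C |>.1 (h.trans b.h32.symm)
      exact hα1 (MulEquiv.ext fun y => (hC ▸ mem_top y : y ∈ C))
    rw [hm] at hmod h4 h5
    interval_cases m <;> simp_all +decide
  -- the number of square roots of one
  have hS12 : Nat.card {x : E // x * x = 1} = 12 := by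
    let σ : Equiv.Perm {x : E // x * x = 1} := (MulAut.toPerm E α).subtypePerm (fun x => by
      show α x * α x = 1 ↔ x * x = 1
      rw [← map_mul, EmbeddingLike.map_eq_one_iff])
    have hσ : σ ^ 5 ^ 1 = 1 := by
      have hn : ∀ (n : ℕ) (x : {x : E // x * x = 1}), ((σ ^ n) x : E) = (α ^ n) x := by
        intro n
        induction n with
        | zero => exact fun x => rfl
        | succ n ih =>
          intro x
          rw [pow_succ, pow_succ, Equiv.Perm.mul_apply, ih, MulAut.mul_apply]
          rfl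
      refine Equiv.ext fun x => Subtype.ext ?_
      rw [pow_one, hn, hα5]
      rfl
    have hmod := Equiv.Perm.card_compl_support_modEq hσ
    have hc : σ.supportᶜ.card = 2 := by
      have : σ.supportᶜ = {⟨1, one_mul 1⟩, ⟨z, b.hz⟩} := by
        ext x
        simp only [Finset.mem_compl, Equiv.Perm.mem_support, not_not, Finset.mem_insert, Finset.mem_singleton,
          Subtype.ext_iff]
        show α (x : E) = x ↔ _
        refine ⟨hfix _, ?_⟩
        rintro (h | h) <;> rw [h]
        · exact map_one α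
        · exact haut α
      rw [this, Finset.card_pair]
      simp [Subtype.ext_iff, Ne.symm b.hz1]
    rw [hc, ← Nat.card_eq_fintype_card] at hmod
    have hsum : ∑ x : E, chi x = 2 * (Nat.card {x : E // x * x = 1} : ℤ) - 32 := by
      have h1 : ∀ x : E, chi x = 2 * (if x * x = 1 then 1 else 0) - 1 := fun x => by
        unfold chi; split_ifs <;> norm_num
      rw [Finset.sum_congr rfl (fun x _ => h1 x), Finset.sum_sub_distrib, ← Finset.mul_sum, Finset.sum_boole,
        Nat.card_eq_fintype_card, Fintype.card_subtype, Finset.sum_const, Finset.card_univ,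
        ← Nat.card_eq_fintype_card, b.h32]
      norm_num
    have hg := gauss b
    rw [hsum] at hg
    set S := Nat.card {x : E // x * x = 1}
    have hle : S ≤ 32 := b.h32 ▸ Nat.card_le_card_of_injective _ Subtype.val_injective
    have h2 : 2 % 5 = S % 5 := hmod
    interval_cases S <;> simp_all
  -- the ten involutions
  have hXc : Nat.card {x : E // x * x = 1 ∧ x ≠ 1 ∧ x ≠ z} = 10 := by
    rw [Nat.card_eq_fintype_card, Fintype.card_subtype]
    rw [Nat.card_eq_fintype_card, Fintype.card_subtype] at hS12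
    have : (Finset.univ.filter fun x : E => x * x = 1 ∧ x ≠ 1 ∧ x ≠ z) =
        (Finset.univ.filter fun x : E => x * x = 1) \ {1, z} := by
      ext x; simp [and_assoc]
    rw [this, Finset.card_sdiff_of_subset (by
      intro x hx
      simp only [Finset.mem_insert, Finset.mem_singleton] at hx
      rcases hx with rfl | rfl <;> simp [b.hz]), hS12, Finset.card_pair (Ne.symm b.hz1)]
  obtain ⟨⟨u0, hu0, hu01, hu0z⟩⟩ : Nonempty {x : E // x * x = 1 ∧ x ≠ 1 ∧ x ≠ z} := by
    by_contra h
    rw [not_nonempty_iff] at h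
    rw [Nat.card_of_isEmpty] at hXc
    omega
  let x : Fin 5 → E := fun i => (α ^ i.val) u0
  have hpow : ∀ m : ℕ, (α ^ m) u0 = x ⟨m % 5, Nat.mod_lt _ (by norm_num)⟩ := fun m => by
    show (α ^ m) u0 = (α ^ (m % 5)) u0
    conv_lhs => rw [← Nat.div_add_mod m 5, pow_add, pow_mul, hα5, one_pow, one_mul]
  have hpX : ∀ a : MulAut E, ∀ u : E, u * u = 1 → u ≠ 1 → u ≠ z → a u * a u = 1 ∧ a u ≠ 1 ∧ a u ≠ z :=
    fun a u h1 h2 h3 => ⟨by rw [← map_mul, h1, map_one],
      fun h => h2 (a.injective (h.trans (map_one a).symm)), fun h => h3 (a.injective (h.trans (haut a).symm))⟩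
  have hzX : ∀ u : E, u * u = 1 → u ≠ 1 → u ≠ z → z * u * (z * u) = 1 ∧ z * u ≠ 1 ∧ z * u ≠ z :=
    fun u h1 h2 h3 => ⟨hzu u h1, fun h => h3 (by
      have := congrArg (z * ·) h
      simpa [← mul_assoc, b.hz] using this), fun h => h2 (mul_eq_left.1 h)⟩
  have hxX : ∀ i, x i * x i = 1 ∧ x i ≠ 1 ∧ x i ≠ z := fun i => hpX _ u0 hu0 hu01 hu0z
  have hzz : ∀ u : E, z * (z * u) = u := fun u => by rw [← mul_assoc, b.hz, one_mul]
  have hshift : ∀ i d : Fin 5, (α ^ i.val) (x d) = x (i + d) := by
    intro i d
    rw [show x d = (α ^ d.val) u0 from rfl, ← MulAut.mul_apply, ← pow_add, hpow]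
    congr 1
  have hdist : ∀ i j, (x j = x i ∨ x j = z * x i) → i = j := by
    intro i j hij
    have h1 : x (j - i) = u0 ∨ x (j - i) = z * u0 := by
      have hs : x j = (α ^ i.val) (x (j - i)) := by rw [hshift, add_sub_cancel]
      have hs2 : x i = (α ^ i.val) u0 := rfl
      rcases hij with h | h <;> rw [hs, hs2] at h
      · exact Or.inl ((α ^ i.val).injective h)
      · refine Or.inr ((α ^ i.val).injective ?_)
        rw [h, map_mul, haut]
    set d := j - i
    by_contra hne
    have hd : d ≠ 0 := fun h => hne (sub_eq_zero.1 h).symm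
    set β := α ^ d.val
    have hb2 : (β * β) u0 = u0 := by
      rw [MulAut.mul_apply]
      rcases h1 with h | h <;> change β u0 = _ at h
      · rw [h, h]
      · rw [h, map_mul, haut, h, hzz]
    have hall : ∀ m : ℕ, ((β * β) ^ m) u0 = u0 := fun m => by
      induction m with
      | zero => rfl
      | succ m ih => rw [pow_succ, MulAut.mul_apply, hb2, ih]
    obtain ⟨m, hm⟩ : ∃ m : Fin 5, ((d.val + d.val) * m.val) % 5 = 1 := by
      revert hd; generalize d = e; revert e; decide
    have := hall m.val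
    rw [← pow_add, ← pow_mul, ← Nat.div_add_mod ((d.val + d.val) * m.val) 5, hm, pow_add, pow_mul, hα5,
      one_pow, one_mul, pow_one] at this
    rcases hfix u0 this with h | h
    · exact hu01 h
    · exact hu0z h
  have hall : ∀ u : E, u * u = 1 → u ≠ 1 → u ≠ z → ∃ i, u = x i ∨ u = z * x i := by
    let F : Fin 5 × Bool → {u : E // u * u = 1 ∧ u ≠ 1 ∧ u ≠ z} := fun p =>
      if p.2 then ⟨x p.1, hxX p.1⟩ else ⟨z * x p.1, hzX _ (hxX p.1).1 (hxX p.1).2.1 (hxX p.1).2.2⟩
    have hFi : Function.Injective F := by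
      intro ⟨i, s⟩ ⟨j, t⟩ h
      have hne : ∀ w : E, z * w ≠ w := fun w e => b.hz1 (mul_eq_right.1 e)
      cases s <;> cases t <;> simp only [F, if_true, if_false, Bool.false_eq_true, Subtype.mk.injEq] at h
      · rw [hdist i j (Or.inl (mul_left_cancel h).symm)]
      · obtain rfl := hdist i j (Or.inr h.symm)
        exact absurd h (hne _)
      · obtain rfl := hdist i j (Or.inr (by rw [h, hzz]))
        exact absurd h.symm (hne _)
      · rw [hdist i j (Or.inl h.symm)]
    have hFb := (Nat.bijective_iff_injective_and_card F).2 ⟨hFi, by rw [Nat.card_prod, hXc, Nat.card_fin, Nat.card_eq_fintype_card, Fintype.card_bool]⟩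
    intro u h1 h2 h3
    obtain ⟨⟨i, s⟩, hs⟩ := hFb.2 ⟨u, h1, h2, h3⟩
    refine ⟨i, ?_⟩
    cases s <;> simp only [F, if_true, if_false, Bool.false_eq_true, Subtype.mk.injEq] at hs
    · exact Or.inr hs.symm
    · exact Or.inl hs.symm
  -- commuting pairs
  have hnc : ∀ i j, i ≠ j → x i * x j ≠ x j * x i := by
    let R : Fin 5 → Bool := fun d => decide (u0 * x d = x d * u0)
    have hR : ∀ i j, (x i * x j = x j * x i) ↔ R (j - i) = true := by
      intro i j
      have e1 : x j = (α ^ i.val) (x (j - i)) := by rw [hshift, add_sub_cancel]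
      have e2 : x i = (α ^ i.val) u0 := rfl
      rw [e1, e2, ← map_mul, ← map_mul, EmbeddingLike.apply_eq_iff_eq]
      simp [R]
    have hz0 : ∀ p q : E, p * (z * q) = z * q * p ↔ p * q = q * p := by
      intro p q
      rw [← mul_assoc p z, b.hzc, mul_assoc z, mul_assoc z q, mul_left_cancel_iff]
    have hsym : ∀ d, R d = R (-d) := fun d => by
      rw [Bool.eq_iff_iff, show (R d = true) = (R (d - 0) = true) by rw [sub_zero],
        show (R (-d) = true) = (R (0 - d) = true) by rw [zero_sub], ← hR, ← hR, eq_comm]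
    have hR0 : R 0 = true := by
      have : x 0 = u0 := rfl
      simp [R, this]
    have hclose : ∀ d, d ≠ 0 → R d = true → ∃ e, e ≠ 0 ∧ e ≠ d ∧ R e = true ∧ R (e - d) = true := by
      intro d hd hRd
      have hc : x 0 * x d = x d * x 0 := (hR 0 d).2 (by rwa [sub_zero])
      set w := x 0 * x d
      have hw0 : x 0 * w = w * x 0 := by
        show x 0 * (x 0 * x d) = x 0 * x d * x 0
        rw [mul_assoc (x 0) (x d), ← hc]
      have hwd : x d * w = w * x d := by
        show x d * (x 0 * x d) = x 0 * x d * x d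
        rw [← mul_assoc, ← hc]
      have hww : w * w = 1 := by
        calc w * w = x 0 * (x d * x 0) * x d := by simp only [w]; group
          _ = (x 0 * x 0) * (x d * x d) := by rw [← hc]; simp only [w]; group
          _ = 1 := by rw [(hxX 0).1, (hxX d).1, one_mul]
      have hxd : x d = x 0 * w := by rw [← mul_assoc, (hxX 0).1, one_mul]
      have hw1 : w ≠ 1 := fun h => hd (hdist 0 d (Or.inl (by rw [hxd, h, mul_one]))).symm
      have hwz : w ≠ z := fun h => hd (hdist 0 d (Or.inr (by rw [hxd, h, b.hzc]))).symm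
      obtain ⟨e, he⟩ := hall w hww hw1 hwz
      refine ⟨e, ?_, ?_, ?_, ?_⟩
      · rintro rfl
        rcases he with h | h
        · exact (hxX d).2.1 (by rw [hxd, h, (hxX 0).1])
        · exact (hxX d).2.2 (by rw [hxd, h, ← mul_assoc, b.hzc, mul_assoc, (hxX 0).1, mul_one])
      · rintro rfl
        rcases he with h | h
        · exact (hxX 0).2.1 (mul_eq_right.1 h)
        · exact (hxX 0).2.2 (mul_right_cancel h)
      · rw [show e = e - 0 from (sub_zero e).symm, ← hR]
        rcases he with h | h <;> rw [h] at hw0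
        · exact hw0
        · exact (hz0 _ _).1 hw0
      · rw [← hR]
        rcases he with h | h <;> rw [h] at hwd
        · exact hwd
        · exact (hz0 _ _).1 hwd
    rcases rel_dichotomy R hsym hR0 hclose with h | h
    · intro i j hij hc
      rw [hR] at hc
      rw [h _ (sub_ne_zero.2 (Ne.symm hij))] at hc
      exact Bool.false_ne_true hc
    · exfalso
      have hxcomm : ∀ u w : E, u * u = 1 → w * w = 1 → u * w = w * u := by
        have hgen : ∀ u : E, u * u = 1 → ∃ i, ∀ p : E, (x i * p = p * x i → u * p = p * u) := by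
          intro u hu
          by_cases h1 : u = 1
          · exact ⟨0, fun p _ => by simp [h1]⟩
          by_cases h2 : u = z
          · exact ⟨0, fun p _ => by rw [h2, b.hzc]⟩
          obtain ⟨i, e | e⟩ := hall u hu h1 h2
          · exact ⟨i, fun p hp => e ▸ hp⟩
          · exact ⟨i, fun p hp => by rw [e]; exact ((hz0 p (x i)).2 hp.symm).symm⟩
        intro u w hu hw
        obtain ⟨i, hi⟩ := hgen u hu
        obtain ⟨j, hj⟩ := hgen w hw
        exact hi w (hj (x i) ((hR j i).2 (h _))).symm
      let M : Subgroup E :=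
        { carrier := {p | p * p = 1}
          one_mem' := one_mul 1
          mul_mem' := fun {p q} hp hq => by
            show p * q * (p * q) = 1
            rw [mul_assoc p q, ← mul_assoc q p q, ← hxcomm p q hp hq, mul_assoc p q q, hq, mul_one, hp]
          inv_mem' := fun {p} hp => by
            show p⁻¹ * p⁻¹ = 1
            rw [← _root_.mul_inv_rev, hp, inv_one] }
      have hM : Nat.card M = 12 := hS12
      have := card_subgroup_dvd_card M
      rw [hM, b.h32] at this
      omega
  have hzcomm : ∀ p q : E, p * (z * q) = z * q * p ↔ p * q = q * p := by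
    intro p q
    rw [← mul_assoc p z, b.hzc, mul_assoc z, mul_assoc z q, mul_left_cancel_iff]
  refine ⟨hS12, ?_, ?_⟩
  · intro u w hu hu1 huz hw hw1 hwz hc
    obtain ⟨i, hi⟩ := hall u hu hu1 huz
    obtain ⟨j, hj⟩ := hall w hw hw1 hwz
    by_cases hij : i = j
    · subst hij
      rcases hi with e | e <;> rcases hj with e' | e' <;> subst e <;> subst e'
      · exact Or.inl rfl
      · exact Or.inr rfl
      · exact Or.inr (hzz _).symm
      · exact Or.inl rfl
    · refine absurd ?_ (hnc i j hij)
      rcases hj with e' | e' <;> subst e'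
      · rcases hi with e | e <;> subst e
        · exact hc
        · exact ((hzcomm _ _).1 hc.symm).symm
      · rw [hzcomm] at hc
        rcases hi with e | e <;> subst e
        · exact hc
        · exact ((hzcomm _ _).1 hc.symm).symm
  -- the action on the pairs
  have hidx : ∀ (k : K) (i : Fin 5), ∃ j, φ k (x i) = x j ∨ φ k (x i) = z * x j := fun k i =>
    hall _ (hpX _ _ (hxX i).1 (hxX i).2.1 (hxX i).2.2).1 (hpX _ _ (hxX i).1 (hxX i).2.1 (hxX i).2.2).2.1
      (hpX _ _ (hxX i).1 (hxX i).2.1 (hxX i).2.2).2.2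
  choose p hp using hidx
  have huq : ∀ {w : E} {i j : Fin 5}, (w = x i ∨ w = z * x i) → (w = x j ∨ w = z * x j) → i = j := by
    intro w i j h1 h2
    refine hdist i j ?_
    rcases h1 with rfl | rfl <;> rcases h2 with h | h
    · exact Or.inl h.symm
    · exact Or.inr (by rw [h, hzz])
    · exact Or.inr h.symm
    · exact Or.inl (mul_left_cancel h).symm
  have hpmul : ∀ k l i, p (k * l) i = p k (p l i) := by
    intro k l i
    refine huq (hp (k * l) i) ?_
    rw [map_mul, MulAut.mul_apply]
    rcases hp l i with e | e <;> rcases hp k (p l i) with e' | e' <;> rw [e] <;> simp [map_mul, haut, e', hzz]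
  have hp1 : ∀ i, p 1 i = i := fun i => huq (hp 1 i) (Or.inl (by rw [map_one]; rfl))
  let π : K →* Equiv.Perm (Fin 5) :=
    { toFun := fun k => ⟨p k, p k⁻¹, fun i => by rw [← hpmul, inv_mul_cancel, hp1],
        fun i => by rw [← hpmul, mul_inv_cancel, hp1]⟩
      map_one' := Equiv.ext hp1
      map_mul' := fun k l => Equiv.ext (hpmul k l) }
  have hπi : Function.Injective π := by
    rw [← MonoidHom.ker_eq_bot_iff]
    refine (IsSimpleGroup.eq_bot_or_eq_top_of_normal π.ker inferInstance).resolve_right fun h => ?_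
    have h0 : π f = 1 := MonoidHom.mem_ker.1 (by rw [h]; exact mem_top f)
    have h1 : p f 0 = 0 := Equiv.congr_fun h0 0
    have h2 : φ f (x 0) = x 1 := by
      show α ((α ^ 0) u0) = (α ^ 1) u0
      rw [pow_zero, pow_one, MulAut.one_apply]
    have := huq (hp f 0) (Or.inl h2)
    rw [h1] at this
    exact absurd this (by decide)
  have hπrange : π.range = alternatingGroup (Fin 5) := by
    refine Equiv.Perm.eq_alternatingGroup_of_index_eq_two ?_
    have h1 := card_mul_index π.range
    rw [← Nat.card_congr (MonoidHom.ofInjective hπi).toEquiv, hK60, Nat.card_perm, Nat.card_fin] at h1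
    norm_num [Nat.factorial] at h1
    omega
  intro k hk
  have hkk : k * k = 1 := by rw [← sq, ← hk]; exact pow_orderOf_eq_one k
  set σ := π k with hσ
  have hσs : Equiv.Perm.sign σ = 1 := Equiv.Perm.mem_alternatingGroup.1 (hπrange ▸ MonoidHom.mem_range.2 ⟨k, rfl⟩)
  have hσ1 : σ ≠ 1 := fun h => by
    rw [← map_one π] at h
    rw [hπi h, orderOf_one] at hk
    omega
  have hσσ : σ * σ = 1 := by rw [hσ, ← map_mul, hkk, map_one]
  obtain ⟨i, hi, hmove, a, has, hai, c, hcs, hci, hac⟩ := perm_facts σ hσs hσ1 hσσ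
  obtain ⟨a', ha'⟩ : a ∈ π.range := hπrange ▸ Equiv.Perm.mem_alternatingGroup.2 has
  obtain ⟨c', hc'⟩ : c ∈ π.range := hπrange ▸ Equiv.Perm.mem_alternatingGroup.2 hcs
  have hkeq : a' * c' * a'⁻¹ * c'⁻¹ = k := hπi (by simp only [map_mul, map_inv, ha', hc', hac, hσ])
  have hfixi : φ k (x i) = x i := by
    have hA : φ a' (x i) = x i ∨ φ a' (x i) = z * x i := by
      have := hp a' i
      rwa [show p a' i = i from (Equiv.congr_fun ha' i).trans hai] at this
    have hC : φ c' (x i) = x i ∨ φ c' (x i) = z * x i := by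
      have := hp c' i
      rwa [show p c' i = i from (Equiv.congr_fun hc' i).trans hci] at this
    have hcomm : φ (a' * c') (x i) = φ (c' * a') (x i) := by
      simp only [map_mul, MulAut.mul_apply]
      rcases hA with e | e <;> rcases hC with e' | e' <;> simp only [e, e', map_mul, haut]
    rw [← hkeq, show a' * c' * a'⁻¹ * c'⁻¹ = (a' * c') * (c' * a')⁻¹ by group, map_mul, MulAut.mul_apply]
    obtain ⟨w, hw⟩ := (φ (c' * a')).surjective (x i)
    have hw' : φ (c' * a')⁻¹ (x i) = w := by
      rw [← hw, ← MulAut.mul_apply, ← map_mul, inv_mul_cancel, map_one]; rfl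
    rw [hw']
    have hwi : w = x i ∨ w = z * x i := by
      have hwz : φ (c' * a') (x i) = x i ∨ φ (c' * a') (x i) = z * x i := by
        simp only [map_mul, MulAut.mul_apply]
        rcases hA with e | e <;> rcases hC with e' | e' <;> simp [e, e', haut, hzz]
      rcases hwz with e | e
      · exact Or.inl ((φ (c' * a')).injective (hw.trans e.symm))
      · refine Or.inr ((φ (c' * a')).injective ?_)
        rw [hw, map_mul, haut, e, hzz]
    rcases hwi with e | e <;> rw [e] at hw ⊢
    · rw [hcomm, hw]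
    · rw [map_mul, haut, hcomm]
      rw [map_mul, haut] at hw
      exact hw
  set β := φ k with hβ
  have hββ : ∀ q, β (β q) = q := fun q => by
    rw [hβ, ← MulAut.mul_apply, ← map_mul, hkk, map_one]; rfl
  have hmap : ∀ j, β (x j) = x (σ j) ∨ β (x j) = z * x (σ j) := fun j => hp k j
  -- the kernel of `q ↦ q⁻¹ β q` modulo the centre
  let δ : E →* E ⧸ center E := MonoidHom.mk' (fun q => ((q⁻¹ * β q : E) : E ⧸ center E)) (fun q r => by
    have hab : ∀ P Q : E, (P : E ⧸ center E) * Q = Q * P := fun P Q => by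
      rw [← QuotientGroup.mk_mul, ← QuotientGroup.mk_mul, QuotientGroup.eq]
      have := CfsgLib.LargeExtra.comm_mem_center b.hE Q⁻¹ P⁻¹
      simpa [mul_assoc] using this
    rw [map_mul, _root_.mul_inv_rev, QuotientGroup.mk_mul, QuotientGroup.mk_mul, QuotientGroup.mk_mul,
      QuotientGroup.mk_mul, QuotientGroup.mk_mul]
    rw [hab (r⁻¹ : E) (q⁻¹ : E), mul_assoc, mul_assoc, ← mul_assoc (↑(r⁻¹ : E)) (↑(β q) : E ⧸ center E),
      hab (r⁻¹ : E) (β q)]
    simp only [mul_assoc])
  have hδx : ∀ j, δ (x j) = ((x j * x (σ j) : E) : E ⧸ center E) := fun j => by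
    show (((x j)⁻¹ * β (x j) : E) : E ⧸ center E) = _
    rw [inv_eq_of_mul_eq_one_right (hxX j).1]
    rcases hmap j with e | e <;> rw [e]
    rw [QuotientGroup.eq]
    refine mem_center_iff.2 fun y => ?_
    rw [show (x j * (z * x (σ j)))⁻¹ * (x j * x (σ j)) = (x (σ j))⁻¹ * z⁻¹ * x (σ j) by group,
      inv_eq_of_mul_eq_one_right b.hz, mul_assoc, ← b.hzc, inv_mul_cancel_left]
    exact b.hzc y
  obtain ⟨j, l, hji, hli, hlj, hlσj, hσlj, hσlσj, hσjj, hσll⟩ := exists_other σ i hmove hσσ hi
  have hchi : ∀ j, chi (x j) = 1 := fun j => if_pos (hxX j).1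
  have hpsi : ∀ j l, j ≠ l → psi (x j) (x l) = -1 := fun j l h => if_neg (hnc j l h)
  have hdist1 : δ (x j) ≠ 1 ∧ δ (x l) ≠ 1 ∧ δ (x j) ≠ δ (x l) := by
    have hc : ∀ j l, j ≠ l → x j * x l ∉ center E := fun j l h hc => by
      have := chi_mul b (x j) (x l)
      rw [hchi, hchi, hpsi j l h] at this
      rcases b.hcen _ hc with e | e <;> rw [e] at this <;> simp [chi, b.hz] at this
    refine ⟨?_, ?_, ?_⟩
    · rw [hδx, Ne, QuotientGroup.eq_one_iff]; exact hc _ _ (Ne.symm hσjj)
    · rw [hδx, Ne, QuotientGroup.eq_one_iff]; exact hc _ _ (Ne.symm hσll)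
    · rw [hδx, hδx, Ne, QuotientGroup.eq]
      intro hh
      obtain ⟨c, hc1, hceq⟩ : ∃ c, (c = 1 ∨ c = z) ∧ x l * x (σ l) = x j * x (σ j) * c :=
        ⟨_, b.hcen _ hh, (mul_inv_cancel_left _ _).symm⟩
      have h1 : chi (x j * x (σ j) * x l) = -1 := by
        rw [chi_mul b (x j * x (σ j)) (x l), chi_mul b (x j) (x (σ j))]
        have hsym : ∀ u w : E, psi u w = psi w u := fun u w => by
          unfold psi; exact if_congr eq_comm rfl rfl
        rw [hsym (x j * x (σ j)) (x l), psi_mul b, hchi, hchi, hchi, hpsi _ _ (Ne.symm hσjj), hpsi _ _ hlj,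
          hpsi _ _ hlσj]
        norm_num
      have h2 : chi (x j * x (σ j) * x l) = 1 := by
        have h5 : ∀ a : E, c * a = a * c := fun a => by
          rcases hc1 with e | e <;> rw [e]
          · simp
          · exact (b.hzc a).symm
        have hcc : c * c = 1 := by rcases hc1 with e | e <;> rw [e] <;> simp [b.hz]
        have e : x j * x (σ j) * x l = x l * x (σ l) * x l * c := by
          rw [hceq, mul_assoc (x j * x (σ j)) c (x l), h5, ← mul_assoc, mul_assoc _ c c, hcc, mul_one]
        have e2 : (x l * x (σ l) * x l) * (x l * x (σ l) * x l) = 1 := by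
          rw [show (x l * x (σ l) * x l) * (x l * x (σ l) * x l) = x l * x (σ l) * (x l * x l) * x (σ l) * x l by group,
            (hxX l).1, mul_one, mul_assoc (x l), (hxX (σ l)).1, mul_one, (hxX l).1]
        refine if_pos ?_
        rw [e, mul_assoc _ c, ← mul_assoc c, h5, mul_assoc _ c c, hcc, mul_one, e2]
      omega
  have hker8 : Nat.card δ.ker ≤ 8 := by
    have h3 : 3 ≤ Nat.card δ.range := by
      have hf : Function.Injective (![⟨1, one_mem _⟩, ⟨δ (x j), ⟨_, rfl⟩⟩, ⟨δ (x l), ⟨_, rfl⟩⟩] :
          Fin 3 → δ.range) := by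
        intro a c hac
        fin_cases a <;> fin_cases c <;>
          simp [Subtype.ext_iff, hdist1.1, hdist1.2.1, hdist1.2.2, Ne.symm hdist1.1, Ne.symm hdist1.2.1,
            Ne.symm hdist1.2.2] at hac ⊢
      simpa using Nat.card_le_card_of_injective _ hf
    have hm := card_mul_index δ.ker
    rw [index_ker, b.h32] at hm
    obtain ⟨m, hm5, hm'⟩ : ∃ m ≤ 5, Nat.card δ.range = 2 ^ m := (Nat.dvd_prime_pow Nat.prime_two).1
      (show Nat.card δ.range ∣ 2 ^ 5 from ⟨Nat.card δ.ker, by rw [mul_comm, hm]; norm_num⟩)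
    rw [hm'] at hm h3
    interval_cases m <;> omega
  have hsub : ∀ q, β q = q⁻¹ → q ∈ δ.ker := fun q hq => by
    refine MonoidHom.mem_ker.2 ((QuotientGroup.eq_one_iff _).2 ?_)
    rw [hq, ← _root_.mul_inv_rev]
    exact inv_mem (CfsgLib.LargeExtra.sq_mem_center b.hE q)
  let ι : {q : E // β q = q⁻¹} → δ.ker := fun q => ⟨q, hsub q q.2⟩
  have hιi : Function.Injective ι := fun a c h => Subtype.ext (congrArg Subtype.val h :)
  refine ⟨(Nat.card_le_card_of_injective ι hιi).trans hker8, fun h8 q hq => ?_⟩
  have hιb := (Nat.bijective_iff_injective_and_card ι).2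
    ⟨hιi, le_antisymm (Nat.card_le_card_of_injective ι hιi) (h8 ▸ hker8)⟩
  have hinv : ∀ r ∈ δ.ker, β r = r⁻¹ := fun r hr => by
    obtain ⟨⟨r', hr'⟩, e⟩ := hιb.2 ⟨r, hr⟩
    have e' : r' = r := congrArg Subtype.val e
    subst e'
    exact hr'
  have hqi : q * x i = x i * q := by
    have h1 := hinv _ (mul_mem (hsub q hq) (hsub (x i) (by rw [hfixi, inv_eq_of_mul_eq_one_right (hxX i).1])))
    rw [map_mul, hq, hfixi, _root_.mul_inv_rev, inv_eq_of_mul_eq_one_right (hxX i).1] at h1
    calc q * x i = q * (q⁻¹ * x i) * q := by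
          conv_lhs => rw [show q * x i = q * (x i * q⁻¹) * q by group]
          rw [← h1]
      _ = x i * q := by group
  have hset : ∀ u : E, (u * u = 1 ∧ u ≠ 1 ∧ u ≠ z ∧ q * β u * q⁻¹ ≠ u) ↔
      ((u * u = 1 ∧ u ≠ 1 ∧ u ≠ z) ∧ ¬ (u = x i ∨ u = z * x i)) := by
    intro u
    constructor
    · rintro ⟨h1, h2, h3, h4⟩
      refine ⟨⟨h1, h2, h3⟩, fun h => h4 ?_⟩
      rcases h with rfl | rfl
      · rw [hfixi, hqi, mul_inv_cancel_right]
      · rw [map_mul, haut, hfixi, ← mul_assoc, b.hzc, mul_assoc z, hqi, ← mul_assoc, mul_inv_cancel_right]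
    · rintro ⟨⟨h1, h2, h3⟩, h4⟩
      refine ⟨h1, h2, h3, fun h => ?_⟩
      obtain ⟨m, hm⟩ := hall u h1 h2 h3
      have hmi : m ≠ i := fun e => h4 (e ▸ hm)
      have hβu : β u = x (σ m) ∨ β u = z * x (σ m) := by
        rcases hm with rfl | rfl
        · exact hmap m
        · rw [map_mul, haut]
          rcases hmap m with e | e <;> rw [e]
          · exact Or.inr rfl
          · exact Or.inl (hzz _)
      have hconj : q * β u * q⁻¹ = β u ∨ q * β u * q⁻¹ = z * β u := by
        rcases comm_cases b q (β u) with e | e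
        · exact Or.inl (by rw [e, mul_inv_cancel_right])
        · exact Or.inr (by rw [e, ← mul_assoc, mul_inv_cancel_right])
      rw [h] at hconj
      refine hmove m hmi (huq (w := u) ?_ hm)
      rcases hβu with e | e <;> rcases hconj with e' | e' <;> rw [e] at e'
      · exact Or.inl e'
      · exact Or.inr e'
      · exact Or.inr e'
      · exact Or.inl (e'.trans (hzz _))
  rw [Nat.card_congr (Equiv.subtypeEquivRight hset), Nat.card_eq_fintype_card, Fintype.card_subtype]
  have : (Finset.univ.filter fun u : E => (u * u = 1 ∧ u ≠ 1 ∧ u ≠ z) ∧ ¬ (u = x i ∨ u = z * x i)) =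
      (Finset.univ.filter fun u : E => u * u = 1 ∧ u ≠ 1 ∧ u ≠ z) \ {x i, z * x i} := by
    ext u; simp
  rw [this, Finset.card_sdiff_of_subset ?_, ← Fintype.card_subtype, ← Nat.card_eq_fintype_card, hXc,
    Finset.card_pair fun e => b.hz1 (mul_eq_right.1 e.symm)]
  intro u hu
  simp only [Finset.mem_insert, Finset.mem_singleton] at hu
  simp only [Finset.mem_filter, Finset.mem_univ, true_and]
  rcases hu with rfl | rfl
  · exact hxX i
  · exact hzX _ (hxX i).1 (hxX i).2.1 (hxX i).2.2

end CfsgLib.InvolChar.MinusThirtyTwo
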