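import Mathlib
import Cfsg.Prelude.Def_Local
import Cfsg.Agent.Lib.InvolChar.SmallAut
import Cfsg.Agent.Lib.InvolChar.SubgroupsA8

/-!
A group extension of a subgroup of `GL₄(2)` containing `S₆` has sectional `2`-rank at least five.
-/

set_option autoImplicit false
set_option linter.style.haveILetI false

namespace CfsgLib.InvolChar.A8Section

open Matrix

/-- `F₂⁴`. -/
abbrev V4 := Fin 4 → ZMod 2

/-- An elementary abelian group of order eight fixing the plane `v₁ = v₂ = 0`. -/
def S (a b c : ZMod 2) : Matrix (Fin 4) (Fin 4) (ZMod 2) :=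
  !![1, a, b, 0; 0, 1, 0, 0; 0, 0, 1, 0; 0, b, c, 1]

theorem S_mul : ∀ a b c a' b' c', S a b c * S a' b' c' = S (a + a') (b + b') (c + c') := by
  decide +kernel

theorem S_zero : S 0 0 0 = 1 := by decide +kernel

theorem S_inj : ∀ a b c a' b' c', S a b c = S a' b' c' → a = a' ∧ b = b' ∧ c = c' := by
  decide +kernel

theorem add_self_two : ∀ x : ZMod 2, x + x = 0 := by decide

theorem S_mulVec (a b c : ZMod 2) (v : V4) :
    S a b c *ᵥ v = ![v 0 + a * v 1 + b * v 2, v 1, v 2, v 3 + b * v 1 + c * v 2] := by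
  ext i
  fin_cases i <;> simp [S, Matrix.mulVec, dotProduct, Fin.sum_univ_four] <;> ring

set_option synthInstance.maxSize 2048 in
set_option synthInstance.maxHeartbeats 200000 in
/-- The decidable core: squares of lifts lie over the plane. -/
theorem good : ∀ a b c u1 u2 : ZMod 2, ¬ (a = 0 ∧ b = 0 ∧ c = 0) → a * u1 + b * u2 = 0 →
    b * u1 + c * u2 = 0 → (∀ a' b' c' : ZMod 2, ∃ q1 q2 : ZMod 2,
      a' * u1 + b' * u2 = a * q1 + b * q2 ∧ b' * u1 + c' * u2 = b * q1 + c * q2) →
    u1 = 0 ∧ u2 = 0 := by decide +kernel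

/-- The elementary abelian subgroup. -/
def R : Subgroup (GL (Fin 4) (ZMod 2)) where
  carrier := {g | ∃ a b c, (g : Matrix (Fin 4) (Fin 4) (ZMod 2)) = S a b c}
  one_mem' := ⟨0, 0, 0, S_zero.symm⟩
  mul_mem' := by
    rintro g h ⟨a, b, c, hg⟩ ⟨a', b', c', hh⟩
    exact ⟨a + a', b + b', c + c', by rw [Units.val_mul, hg, hh, S_mul]⟩
  inv_mem' := by
    rintro g ⟨a, b, c, hg⟩
    refine ⟨a, b, c, ?_⟩
    have : g * g = 1 := Units.ext (by
      rw [Units.val_mul, hg, S_mul, add_self_two, add_self_two, add_self_two, S_zero, Units.val_one])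
    rw [inv_eq_of_mul_eq_one_right this, hg]

theorem exists_mem_R (a b c : ZMod 2) : ∃ g ∈ R, (g : Matrix (Fin 4) (Fin 4) (ZMod 2)) = S a b c := by
  have h : S a b c * S a b c = 1 := by rw [S_mul, add_self_two, add_self_two, add_self_two, S_zero]
  exact ⟨⟨S a b c, S a b c, h, h⟩, ⟨a, b, c, rfl⟩, rfl⟩

/-- A group extension containing the eight matrices has a section of rank five. -/
theorem not_sectional_four {X : Type*} [Group X] [Finite X] (P : Subgroup X) [P.Normal]
    (L : P → V4) (hL : ∀ p q, L (p * q) = L p + L q) (hLs : Function.Surjective L)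
    (ψ : X →* GL (Fin 4) (ZMod 2))
    (heq : ∀ x p, L (MulAut.conjNormal x p) = (ψ x : Matrix (Fin 4) (Fin 4) (ZMod 2)) *ᵥ L p)
    (hker : ψ.ker = P) (hR : R ≤ ψ.range) : ¬ Cfsg.SectionalPRankLE 2 4 X := by
  classical
  intro hsec
  have hL1 : L 1 = 0 := by
    have := hL 1 1
    rw [mul_one] at this
    exact add_eq_left.1 this.symm
  have hself : ∀ v : V4, v + v = 0 := fun v => funext fun i => add_self_two (v i)
  have hLi : ∀ p, L p⁻¹ = L p := fun p => by
    have h := hL p⁻¹ p
    rw [inv_mul_cancel, hL1] at h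
    calc L p⁻¹ = L p⁻¹ + (L p + L p) := by rw [hself, add_zero]
      _ = L p := by rw [← add_assoc, ← h, zero_add]
  let B0 : Subgroup P :=
    { carrier := {p | L p 1 = 0 ∧ L p 2 = 0}
      one_mem' := by simp [hL1]
      mul_mem' := fun {p q} hp hq => by
        show L (p * q) 1 = 0 ∧ L (p * q) 2 = 0
        rw [hL, Pi.add_apply, Pi.add_apply, hp.1, hq.1, hp.2, hq.2, add_zero]
        exact ⟨rfl, rfl⟩
      inv_mem' := fun {p} hp => by
        show L p⁻¹ 1 = 0 ∧ L p⁻¹ 2 = 0
        rw [hLi]; exact hp }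
  set B : Subgroup X := B0.map P.subtype with hB
  set T : Subgroup X := R.comap ψ with hT
  have hBmem : ∀ p : P, (p : X) ∈ B ↔ L p 1 = 0 ∧ L p 2 = 0 := by
    intro p
    constructor
    · rintro ⟨q, hq, he⟩
      rw [← (Subtype.ext he : q = p)]; exact hq
    · exact fun h => ⟨p, h, rfl⟩
  have hPT : P ≤ T := fun x hx => by
    rw [hT, Subgroup.mem_comap, MonoidHom.mem_ker.1 (hker.symm ▸ hx : x ∈ ψ.ker)]
    exact one_mem _
  haveI hBn : (B.subgroupOf T).Normal := by
    constructor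
    intro b hb t
    obtain ⟨p, hp, hpe⟩ := Subgroup.mem_subgroupOf.1 hb
    rw [Subgroup.mem_subgroupOf]
    have h1 : ((t * b * t⁻¹ : T) : X) = (MulAut.conjNormal (t : X) p : P) := by
      rw [MulAut.conjNormal_apply, Subgroup.coe_mul, Subgroup.coe_mul, Subgroup.coe_inv, ← hpe]
      rfl
    rw [h1, hBmem, heq]
    obtain ⟨a, c, d, ht⟩ : ψ t ∈ R := t.2
    rw [ht, S_mulVec]
    exact hp
  -- squares
  have hsq : ∀ t ∈ T, t * t ∈ B := by
    intro t ht
    obtain ⟨a, b, c, hS⟩ : ψ t ∈ R := ht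
    have httP : t * t ∈ P := by
      rw [← hker, MonoidHom.mem_ker, map_mul]
      exact Units.ext (by
        rw [Units.val_mul, hS, S_mul, add_self_two, add_self_two, add_self_two, S_zero, Units.val_one])
    refine (hBmem ⟨t * t, httP⟩).2 ?_
    by_cases h0 : a = 0 ∧ b = 0 ∧ c = 0
    · have htP : t ∈ P := by
        rw [← hker, MonoidHom.mem_ker]
        exact Units.ext (by rw [hS, h0.1, h0.2.1, h0.2.2, S_zero, Units.val_one])
      have : (⟨t * t, httP⟩ : P) = ⟨t, htP⟩ * ⟨t, htP⟩ := rfl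
      rw [this, hL, hself]
      exact ⟨rfl, rfl⟩
    set u := L ⟨t * t, httP⟩ with hu
    have hfix : S a b c *ᵥ u = u := by
      rw [← hS, hu, ← heq]
      congr 1
      exact Subtype.ext (by rw [MulAut.conjNormal_apply]; simp [mul_assoc])
    rw [S_mulVec] at hfix
    have hf0 := congrFun hfix 0
    have hf3 := congrFun hfix 3
    simp only [Matrix.cons_val_zero, Matrix.cons_val] at hf0 hf3
    refine good a b c (u 1) (u 2) h0 ?_ ?_ ?_
    · rw [add_assoc] at hf0; exact add_eq_left.1 hf0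
    · rw [add_assoc] at hf3; exact add_eq_left.1 hf3
    intro a' b' c'
    obtain ⟨g, hgR, hg⟩ := exists_mem_R a' b' c'
    obtain ⟨s, rfl⟩ := hR hgR
    have hqP : t⁻¹ * (s * t * s⁻¹) ∈ P := by
      rw [← hker, MonoidHom.mem_ker]
      simp only [map_mul, map_inv]
      have hc : ψ s * ψ t = ψ t * ψ s := Units.ext (by
        rw [Units.val_mul, Units.val_mul, hg, hS, S_mul, S_mul, add_comm a, add_comm b, add_comm c])
      rw [hc]; group
    set q : P := ⟨_, hqP⟩ with hq
    refine ⟨L q 1, L q 2, ?_⟩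
    have hkey : MulAut.conjNormal s (⟨t * t, httP⟩ : P) =
        MulAut.conjNormal t q * ⟨t * t, httP⟩ * q := by
      apply Subtype.ext
      simp only [MulAut.conjNormal_apply, Subgroup.coe_mul, hq]
      group
    have hv := congrArg L hkey
    rw [hL, hL, heq, heq, hg, hS, ← hu, S_mulVec, S_mulVec] at hv
    have h0' := congrFun hv 0
    have h3' := congrFun hv 3
    simp only [Pi.add_apply, Matrix.cons_val_zero, Matrix.cons_val] at h0' h3'
    constructor
    · linear_combination h0' + add_self_two (L q 0)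
    · linear_combination h3' + add_self_two (L q 3)
  have hexp : ∀ y : T ⧸ B.subgroupOf T, y ^ 2 = 1 := by
    intro y
    induction y using QuotientGroup.induction_on with
    | _ t =>
      rw [← QuotientGroup.mk_pow, QuotientGroup.eq_one_iff, Subgroup.mem_subgroupOf, sq]
      exact hsq t t.2
  have hcomm : IsMulCommutative (⊤ : Subgroup (T ⧸ B.subgroupOf T)) := by
    refine ⟨⟨fun x y => Subtype.ext ?_⟩⟩
    have hi : ∀ z : T ⧸ B.subgroupOf T, z⁻¹ = z := fun z =>
      inv_eq_of_mul_eq_one_right (by rw [← sq, hexp])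
    rw [Subgroup.coe_mul, Subgroup.coe_mul, ← hi ((x : T ⧸ B.subgroupOf T) * (y : T ⧸ B.subgroupOf T)),
      _root_.mul_inv_rev, hi, hi]
  have h16 := hsec T (B.subgroupOf T) ⊤ hcomm (fun y _ => hexp y)
  rw [Subgroup.card_top] at h16
  -- at least 32 cosets
  have hlift : ∀ a b c : ZMod 2, ∃ x : T, (ψ x : Matrix (Fin 4) (Fin 4) (ZMod 2)) = S a b c := by
    intro a b c
    obtain ⟨g, hgR, hg⟩ := exists_mem_R a b c
    obtain ⟨x, rfl⟩ := hR hgR
    exact ⟨⟨x, hgR⟩, hg⟩
  choose lx hlx using hlift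
  have hpt : ∀ u1 u2 : ZMod 2, ∃ p : P, L p = ![0, u1, u2, 0] := fun u1 u2 => hLs _
  choose lp hlp using hpt
  let F : (ZMod 2 × ZMod 2 × ZMod 2) × ZMod 2 × ZMod 2 → T ⧸ B.subgroupOf T := fun w =>
    ((lx w.1.1 w.1.2.1 w.1.2.2 * ⟨lp w.2.1 w.2.2, hPT (lp w.2.1 w.2.2).2⟩ : T) : T ⧸ B.subgroupOf T)
  have hF : Function.Injective F := by
    rintro ⟨⟨a, b, c⟩, u1, u2⟩ ⟨⟨a', b', c'⟩, u1', u2'⟩ h
    simp only [F, QuotientGroup.eq, Subgroup.mem_subgroupOf] at h
    have hψP : ∀ p : P, ψ p = 1 := fun p => MonoidHom.mem_ker.1 (hker.symm ▸ p.2 : (p : X) ∈ ψ.ker)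
    have h' := h
    obtain ⟨w, -, hw⟩ := h'
    have h1 : ψ (lx a b c : X) = ψ (lx a' b' c' : X) := by
      have := congrArg ψ hw
      simp only [Subgroup.coe_mul, Subgroup.coe_inv, map_mul, map_inv,
        Subgroup.coe_subtype, hψP, mul_one, one_mul, inv_one] at this
      exact inv_mul_eq_one.1 this.symm
    have h2 := congrArg Units.val h1
    rw [hlx, hlx] at h2
    obtain ⟨rfl, rfl, rfl⟩ := S_inj _ _ _ _ _ _ h2
    have h3 : ((lp u1 u2)⁻¹ * lp u1' u2' : P).1 ∈ B := by
      simpa [mul_assoc] using h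
    rw [hBmem, hL, hLi, hlp, hlp] at h3
    simp only [Pi.add_apply, Matrix.cons_val_one, Matrix.cons_val] at h3
    have e1 : u1 = u1' := by linear_combination h3.1 - add_self_two u1'
    have e2 : u2 = u2' := by linear_combination h3.2 - add_self_two u2'
    rw [e1, e2]
  have := Nat.card_le_card_of_injective F hF
  simp only [Nat.card_prod, Nat.card_zmod] at this
  omega

/-- A linear model of a finite group of exponent two with its automorphisms. -/
theorem exists_linear_model {V : Type*} [Group V] [Finite V] (h2 : ∀ v : V, v ^ 2 = 1) :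
    ∃ (d : ℕ) (L : V ≃ (Fin d → ZMod 2)) (M : MulAut V →* GL (Fin d) (ZMod 2)),
      Nat.card V = 2 ^ d ∧ (∀ v w, L (v * w) = L v + L w) ∧
      (∀ a v, L (a v) = (M a : Matrix (Fin d) (Fin d) (ZMod 2)) *ᵥ L v) ∧ Function.Injective M := by
  classical
  haveI : Fact (Nat.Prime 2) := ⟨Nat.prime_two⟩
  have hcomm : ∀ a b : V, a * b = b * a := fun a b => by
    have hi : ∀ c : V, c⁻¹ = c := fun c => inv_eq_of_mul_eq_one_right (by rw [← sq, h2])
    rw [← hi (a * b), _root_.mul_inv_rev, hi, hi]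
  letI : CommGroup V := { ‹Group V› with mul_comm := hcomm }
  letI : Module (ZMod 2) (Additive V) := AddCommGroup.zmodModule fun v => by
    apply Additive.toMul.injective
    rw [toMul_nsmul, toMul_zero]
    exact h2 _
  haveI : Module.Finite (ZMod 2) (Additive V) := Module.Finite.of_finite
  set d := Module.finrank (ZMod 2) (Additive V)
  have hcard : Nat.card V = 2 ^ d := by
    have h := Module.natCard_eq_pow_finrank (K := ZMod 2) (V := Additive V)
    rw [Nat.card_zmod] at h
    exact (Nat.card_congr Additive.toMul.symm).symm ▸ h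
  obtain ⟨L0⟩ : Nonempty (Additive V ≃ₗ[ZMod 2] (Fin d → ZMod 2)) :=
    FiniteDimensional.nonempty_linearEquiv_of_finrank_eq (Module.finrank_fin_fun (ZMod 2)).symm
  let L : V ≃ (Fin d → ZMod 2) := Additive.ofMul.trans L0.toEquiv
  let lin : MulAut V → ((Fin d → ZMod 2) →ₗ[ZMod 2] (Fin d → ZMod 2)) := fun a =>
    L0.toLinearMap ∘ₗ ((MulEquiv.toAdditive a : Additive V ≃+ Additive V).toAddMonoidHom.toZModLinearMap 2) ∘ₗ
      L0.symm.toLinearMap
  have hlin : ∀ a v, lin a (L v) = L (a v) := fun a v => by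
    show L0 (Additive.ofMul (a (Additive.toMul (L0.symm (L0 (Additive.ofMul v)))))) = _
    rw [L0.symm_apply_apply]
    rfl
  let mat : MulAut V → Matrix (Fin d) (Fin d) (ZMod 2) := fun a => LinearMap.toMatrix' (lin a)
  have hmat : ∀ a v, mat a *ᵥ L v = L (a v) := fun a v => by
    rw [LinearMap.toMatrix'_mulVec, hlin]
  have hext : ∀ A A' : Matrix (Fin d) (Fin d) (ZMod 2), (∀ v, A *ᵥ L v = A' *ᵥ L v) → A = A' :=
    fun A A' h => Matrix.ext_iff_mulVec.2 fun w => by simpa using h (L.symm w)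
  have hmul : ∀ a b, mat (a * b) = mat a * mat b := fun a b => hext _ _ fun v => by
    rw [hmat, ← Matrix.mulVec_mulVec, hmat, hmat, MulAut.mul_apply]
  have hone : mat 1 = 1 := hext _ _ fun v => by rw [hmat, Matrix.one_mulVec, MulAut.one_apply]
  let M : MulAut V →* GL (Fin d) (ZMod 2) :=
    MonoidHom.toHomUnits { toFun := mat, map_one' := hone, map_mul' := hmul }
  refine ⟨d, L, M, hcard, fun v w => ?_, fun a v => (hmat a v).symm, fun a b hab => ?_⟩
  · show L0 (Additive.ofMul (v * w)) = L0 (Additive.ofMul v) + L0 (Additive.ofMul w)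
    rw [ofMul_mul, map_add]
  · refine MulEquiv.ext fun v => L.injective ?_
    rw [← hmat, ← hmat, show mat a = mat b from congrArg Units.val hab]

/-- Elements with the same matrix as the generators of `R` preserve the pair `{6, 7}`. -/
theorem R_pair {θ : SpecialLinearGroup (Fin 4) (ZMod 2) ≃* alternatingGroup (Fin 8)}
    (hθ : ∀ i j (s : SpecialLinearGroup (Fin 4) (ZMod 2)), i ≠ j →
      (s : Matrix (Fin 4) (Fin 4) (ZMod 2)) = A8.T i j → ((θ s : alternatingGroup (Fin 8)) : Equiv.Perm (Fin 8)) = A8.σ i j)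
    (s : SpecialLinearGroup (Fin 4) (ZMod 2)) {a b c : ZMod 2}
    (hs : (s : Matrix (Fin 4) (Fin 4) (ZMod 2)) = S a b c) :
    ∀ x : Fin 8, ((((θ s : alternatingGroup (Fin 8)) : Equiv.Perm (Fin 8)) x = 6 ∨
      ((θ s : alternatingGroup (Fin 8)) : Equiv.Perm (Fin 8)) x = 7) ↔ (x = 6 ∨ x = 7)) := by
  let t : (i j : Fin 4) → i ≠ j → SpecialLinearGroup (Fin 4) (ZMod 2) :=
    fun i j h => SpecialLinearGroup.transvection h 1
  have ht : ∀ i j (h : i ≠ j), (t i j h : Matrix (Fin 4) (Fin 4) (ZMod 2)) = A8.T i j := fun i j h => by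
    rw [← A8.T_eq h]; rfl
  let n : ZMod 2 → ℕ := ZMod.val
  have hdec : s = t 0 1 (by decide) ^ n a * (t 0 2 (by decide) * t 3 1 (by decide)) ^ n b * t 3 2 (by decide) ^ n c := by
    suffices h : (s : Matrix (Fin 4) (Fin 4) (ZMod 2)) = (A8.T 0 1) ^ n a * (A8.T 0 2 * A8.T 3 1) ^ n b *
        (A8.T 3 2) ^ n c by
      rw [← ht 0 1 (by decide), ← ht 0 2 (by decide), ← ht 3 1 (by decide), ← ht 3 2 (by decide)] at h
      exact Subtype.ext (h.trans rfl)
    rw [hs]
    rcases A8.zmod_two_cases a with rfl | rfl <;> rcases A8.zmod_two_cases b with rfl | rfl <;>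
      rcases A8.zmod_two_cases c with rfl | rfl <;> decide +kernel
  rw [hdec]
  simp only [map_mul, map_pow, Subgroup.coe_mul, SubmonoidClass.coe_pow]
  rw [hθ 0 1 _ (by decide) (ht 0 1 (by decide)), hθ 0 2 _ (by decide) (ht 0 2 (by decide)),
    hθ 3 1 _ (by decide) (ht 3 1 (by decide)), hθ 3 2 _ (by decide) (ht 3 2 (by decide))]
  rcases A8.zmod_two_cases a with rfl | rfl <;> rcases A8.zmod_two_cases b with rfl | rfl <;>
    rcases A8.zmod_two_cases c with rfl | rfl <;> decide +kernel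

open Equiv in
/-- A copy of `S₆` in `A₈` is the stabilizer of a pair of points. -/
theorem sym_six_pair (f : Perm (Fin 6) →* Perm (Fin 8)) (hf : Function.Injective f)
    (hsgn : ∀ x, Perm.sign (f x) = 1) :
    ∃ g : Perm (Fin 8), Perm.sign g = 1 ∧ ∀ r : Perm (Fin 8), Perm.sign r = 1 →
      (∀ x, (r x = 6 ∨ r x = 7) ↔ (x = 6 ∨ x = 7)) → g⁻¹ * r * g ∈ f.range := by
  classical
  let N := alternatingGroup (Fin 6)
  haveI : IsSimpleGroup N := alternatingGroup.isSimpleGroup (by simp)
  have hN360 : Nat.card N = 360 := by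
    rw [nat_card_alternatingGroup, Nat.card_fin]; rfl
  have hnc : ¬ IsMulCommutative N := fun hc => by
    letI : CommGroup N := { (inferInstance : Group N) with mul_comm := hc.is_comm.comm }
    haveI : IsCyclic N := IsSimpleGroup.isCyclic (α := N)
    have hp := IsSimpleGroup.prime_card (α := N)
    rw [hN360] at hp; norm_num at hp
  letI : MulAction N (Fin 8) := MulAction.compHom (Fin 8) (f.comp N.subtype)
  have hsmul : ∀ (n : N) (x : Fin 8), n • x = f n.1 x := fun _ _ => rfl
  have horb : ∀ x : Fin 8, Nat.card (MulAction.orbit N x) = 1 ∨ Nat.card (MulAction.orbit N x) = 6 := by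
    intro x
    set O := MulAction.orbit N x
    let e := Finite.equivFin O
    let φ : N →* Perm (Fin (Nat.card O)) := e.permCongrHom.toMonoidHom.comp (MulAction.toPermHom N O)
    by_cases h1 : Nat.card O = 1
    · exact Or.inl h1
    have hk : Nat.card O ≤ 8 := (Finite.card_subtype_le _).trans (by simp)
    have hinj : Function.Injective φ := by
      refine (MonoidHom.ker_eq_bot_iff φ).1 ((φ.normal_ker).eq_bot_or_eq_top.resolve_right fun ht => h1 ?_)
      refine Nat.card_eq_one_iff_exists.2 ⟨⟨x, MulAction.mem_orbit_self x⟩, fun y => ?_⟩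
      obtain ⟨n, hn⟩ := y.2
      have hn1 : φ n = 1 := MonoidHom.mem_ker.1 (ht ▸ Subgroup.mem_top n)
      have hp : MulAction.toPermHom N O n = 1 := e.permCongrHom.injective (hn1.trans (map_one _).symm)
      have := congrArg Subtype.val (Perm.congr_fun hp ⟨x, MulAction.mem_orbit_self x⟩)
      exact Subtype.ext (hn.symm.trans this)
    have htr : ∀ a b, ∃ n, φ n a = b := by
      intro a b
      obtain ⟨n, hn⟩ := MulAction.exists_smul_eq N (e.symm a) (e.symm b)
      refine ⟨n, ?_⟩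
      show e (n • e.symm a) = b
      rw [hn, e.apply_symm_apply]
    obtain ⟨-, h⟩ := SubgroupsA8.small_transitive hnc hk φ hinj htr
    rw [hN360] at h
    rcases h with h | ⟨-, h⟩ | ⟨-, h⟩
    · refine Or.inr ?_
      rcases Nat.lt_trichotomy (Nat.card O) 6 with hlt | heq | hgt
      · have := Nat.factorial_le (show Nat.card O ≤ 5 by omega)
        norm_num [Nat.factorial] at this h; omega
      · exact heq
      · have := Nat.factorial_le (show 7 ≤ Nat.card O by omega)
        norm_num [Nat.factorial] at this h; omega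
    · omega
    · omega
  obtain ⟨x0, hx0⟩ : ∃ x : Fin 8, Nat.card (MulAction.orbit N x) = 6 := by
    by_contra hno
    push Not at hno
    haveI : Nontrivial N := Finite.one_lt_card_iff_nontrivial.1 (by omega)
    obtain ⟨n, hn⟩ := exists_ne (1 : N)
    refine hn (Subtype.ext (hf (Equiv.ext fun x => ?_)))
    obtain ⟨y, hy⟩ := Nat.card_eq_one_iff_exists.1 ((horb x).resolve_right (hno x))
    have := congrArg Subtype.val ((hy ⟨n • x, MulAction.mem_orbit x n⟩).trans (hy ⟨x, MulAction.mem_orbit_self x⟩).symm)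
    simpa [hsmul] using this
  set O := MulAction.orbit N x0 with hO
  set F : Finset (Fin 8) := Finset.univ.filter (fun x => x ∉ O) with hF
  have hFc : F.card = 2 := by
    have h1 : (Finset.univ.filter fun x => x ∈ O).card = 6 := by
      rw [← Fintype.card_subtype, ← Nat.card_eq_fintype_card]; exact hx0
    have h2 := Finset.card_filter_add_card_filter_not (s := (Finset.univ : Finset (Fin 8))) (fun x => x ∈ O)
    rw [Finset.card_univ, Fintype.card_fin, h1] at h2
    rw [hF]; omega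
  have hFfix : ∀ x, x ∈ F ↔ ∀ n : N, f n.1 x = x := by
    intro x
    rw [hF, Finset.mem_filter]
    constructor
    · rintro ⟨-, hx⟩ n
      rcases horb x with h | h
      · obtain ⟨y, hy⟩ := Nat.card_eq_one_iff_exists.1 h
        exact congrArg Subtype.val ((hy ⟨n • x, MulAction.mem_orbit x n⟩).trans (hy ⟨x, MulAction.mem_orbit_self x⟩).symm)
      · exfalso
        have hdis : ∀ y ∈ MulAction.orbit N x, y ∈ F := fun y hy => by
          rw [hF, Finset.mem_filter]
          refine ⟨Finset.mem_univ _, fun hyO => hx ?_⟩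
          rw [hO, ← MulAction.orbit_eq_iff.2 hyO, MulAction.orbit_eq_iff.2 hy]
          exact MulAction.mem_orbit_self x
        have := Nat.card_le_card_of_injective (fun y : MulAction.orbit N x => (⟨y.1, hdis y.1 y.2⟩ : F))
          (fun y z hyz => Subtype.ext (congrArg (fun w : F => (w : Fin 8)) hyz))
        rw [h, Nat.card_eq_fintype_card, Fintype.card_coe, hFc] at this
        omega
    · intro hx
      refine ⟨Finset.mem_univ _, fun hxO => ?_⟩
      have h1 : MulAction.orbit N x = O := MulAction.orbit_eq_iff.2 hxO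
      have h2 : Nat.card (MulAction.orbit N x) = 1 :=
        Nat.card_eq_one_iff_exists.2 ⟨⟨x, MulAction.mem_orbit_self x⟩, fun ⟨y, n, hn⟩ => Subtype.ext (hn.symm.trans (hx n))⟩
      rw [h1, hx0] at h2
      omega
  let K : Subgroup (Perm (Fin 8)) :=
    { carrier := {k | Perm.sign k = 1 ∧ ∀ x, k x ∈ F ↔ x ∈ F}
      one_mem' := ⟨map_one _, fun _ => Iff.rfl⟩
      mul_mem' := fun {k l} hk hl => ⟨by rw [map_mul, hk.1, hl.1, mul_one],
        fun x => by rw [Perm.mul_apply, hk.2, hl.2]⟩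
      inv_mem' := fun {k} hk => ⟨by rw [map_inv, hk.1, inv_one],
        fun x => by rw [← hk.2 (k⁻¹ x), ← Perm.mul_apply, mul_inv_cancel, Perm.one_apply]⟩ }
  have hfK : f.range ≤ K := by
    have hone : ∀ (h : Perm (Fin 6)) x, x ∈ F → f h x ∈ F := by
      intro h x hx
      rw [hFfix] at hx ⊢
      intro n
      have h1 := hx ⟨h⁻¹ * n.1 * h, by simpa using (inferInstance : N.Normal).conj_mem _ n.2 h⁻¹⟩
      rw [← Perm.mul_apply, ← map_mul]
      conv_lhs => rw [show n.1 * h = h * (h⁻¹ * n.1 * h) by group, map_mul, Perm.mul_apply, h1]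
    rintro _ ⟨h, rfl⟩
    refine ⟨hsgn h, fun x => ⟨fun hx => ?_, hone h x⟩⟩
    have := hone h⁻¹ _ hx
    rwa [← Perm.mul_apply, ← map_mul, inv_mul_cancel, map_one, Perm.one_apply] at this
  have hK720 : Nat.card K ≤ 720 := by
    let res : K → Perm {x // x ∉ F} := fun k => k.1.subtypePerm (fun x => not_congr (k.2.2 x))
    refine le_trans (Nat.card_le_card_of_injective res ?_) (le_of_eq ?_)
    · intro k l hkl
      have hd : ∀ x, x ∉ F → (l.1⁻¹ * k.1) x = x := fun x hx => by
        rw [Perm.mul_apply, Perm.inv_eq_iff_eq]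
        exact congrArg Subtype.val (Perm.congr_fun hkl ⟨x, hx⟩)
      have hsub : (l.1⁻¹ * k.1).support ⊆ F := fun x hx => by
        by_contra hxF
        exact (Perm.mem_support.1 hx) (hd x hxF)
      have h2 : (l.1⁻¹ * k.1).support.card ≤ 2 := hFc ▸ Finset.card_le_card hsub
      refine Subtype.ext ?_
      rcases Nat.lt_or_eq_of_le h2 with hlt | heq
      · have h1 := Perm.card_support_ne_one (l.1⁻¹ * k.1)
        exact (inv_mul_eq_one.1 (Perm.card_support_eq_zero.1 (by omega))).symm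
      · exfalso
        have hs := (Perm.card_support_eq_two.1 heq).sign_eq
        rw [map_mul, map_inv, l.2.1, k.2.1] at hs
        simp at hs
    · rw [Nat.card_perm, Nat.card_eq_fintype_card, Fintype.card_subtype_compl, Fintype.card_fin,
        Fintype.card_coe, hFc]
      rfl
  have hHK : f.range = K := by
    refine Subgroup.eq_of_le_of_card_ge hfK ?_
    rw [← Nat.card_congr (MonoidHom.ofInjective hf).toEquiv, Nat.card_perm, Nat.card_fin]
    exact hK720
  obtain ⟨p, q, hpq, hFpq⟩ := Finset.card_eq_two.1 hFc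
  obtain ⟨g, hg6, hg7, hgs⟩ : ∃ g : Perm (Fin 8), ({g p, g q} : Finset (Fin 8)) = {6, 7} ∧
      (∀ x, (g x = 6 ∨ g x = 7) ↔ (x = p ∨ x = q)) ∧ Perm.sign g = 1 := by
    set g0 := Equiv.swap (Equiv.swap p 6 q) 7 * Equiv.swap p 6 with hg0
    have hp : g0 p = 6 := by
      rw [hg0, Perm.mul_apply, Equiv.swap_apply_left, Equiv.swap_apply_of_ne_of_ne]
      · intro h; exact hpq ((Equiv.swap p 6).injective (by rw [Equiv.swap_apply_left, ← h]))
      · decide
    have hq : g0 q = 7 := by rw [hg0, Perm.mul_apply, Equiv.swap_apply_left]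
    have hiff : ∀ g : Perm (Fin 8), (g p = 6 ∧ g q = 7) ∨ (g p = 7 ∧ g q = 6) →
        ({g p, g q} : Finset (Fin 8)) = {6, 7} ∧ ∀ x, (g x = 6 ∨ g x = 7) ↔ (x = p ∨ x = q) := by
      rintro g (⟨h1, h2⟩ | ⟨h1, h2⟩)
      · refine ⟨by rw [h1, h2], fun x => ⟨?_, ?_⟩⟩
        · rintro (h | h)
          · exact Or.inl (g.injective (h.trans h1.symm))
          · exact Or.inr (g.injective (h.trans h2.symm))
        · rintro (rfl | rfl)
          · exact Or.inl h1
          · exact Or.inr h2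
      · refine ⟨by rw [h1, h2]; exact Finset.pair_comm _ _, fun x => ⟨?_, ?_⟩⟩
        · rintro (h | h)
          · exact Or.inr (g.injective (h.trans h2.symm))
          · exact Or.inl (g.injective (h.trans h1.symm))
        · rintro (rfl | rfl)
          · exact Or.inr h1
          · exact Or.inl h2
    rcases Int.units_eq_one_or (Perm.sign g0) with hs | hs
    · obtain ⟨h1, h2⟩ := hiff g0 (Or.inl ⟨hp, hq⟩)
      exact ⟨g0, h1, h2, hs⟩
    · obtain ⟨h1, h2⟩ := hiff (Equiv.swap 6 7 * g0) (Or.inr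
        ⟨by rw [Perm.mul_apply, hp, Equiv.swap_apply_left], by rw [Perm.mul_apply, hq, Equiv.swap_apply_right]⟩)
      exact ⟨_, h1, h2, by rw [map_mul, hs, Perm.sign_swap (by decide)]; rfl⟩
  refine ⟨g, hgs, fun r hr hr67 => ?_⟩
  rw [hHK]
  refine ⟨by rw [map_mul, map_mul, map_inv, hgs, hr]; rfl, fun x => ?_⟩
  simp only [hFpq, Finset.mem_insert, Finset.mem_singleton, ← hg7]
  rw [Perm.mul_apply, Perm.mul_apply, ← Perm.mul_apply g, mul_inv_cancel, Perm.one_apply]
  exact hr67 (g x)

open Equiv in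
/-- A copy of `S₆` in `GL₄(2)` contains a conjugate of `R`. -/
theorem exists_conj_R (f : Perm (Fin 6) →* GL (Fin 4) (ZMod 2)) (hf : Function.Injective f) :
    ∃ g : GL (Fin 4) (ZMod 2), ∀ m ∈ R, g⁻¹ * m * g ∈ f.range := by
  obtain ⟨θ, hθ⟩ := A8.sl4_equiv_spec
  let Θ : GL (Fin 4) (ZMod 2) ≃* alternatingGroup (Fin 8) := (A8.glEquivSL A8.det_eq_one).trans θ
  let f8 : Perm (Fin 6) →* Perm (Fin 8) := (alternatingGroup (Fin 8)).subtype.comp (Θ.toMonoidHom.comp f)
  obtain ⟨g, hg, h⟩ := sym_six_pair f8 (Subtype.val_injective.comp (Θ.injective.comp hf))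
    (fun x => (Θ (f x)).2)
  refine ⟨Θ.symm ⟨g, hg⟩, fun m hm => ?_⟩
  obtain ⟨a, b, c, hm⟩ := hm
  have h67 := R_pair hθ (A8.glEquivSL A8.det_eq_one m) (a := a) (b := b) (c := c) hm
  obtain ⟨x, hx⟩ := h (Θ m : Perm (Fin 8)) (Θ m).2 h67
  refine ⟨x, Θ.injective (Subtype.ext ?_)⟩
  rw [map_mul, map_mul, map_inv, MulEquiv.apply_symm_apply, Subgroup.coe_mul, Subgroup.coe_mul, Subgroup.coe_inv]
  exact hx

end CfsgLib.InvolChar.A8Section
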