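import Mathlib
import Cfsg.Agent.Lib.InvolChar.A8Normalizer
import Cfsg.Agent.Lib.InvolChar.A8Section
import Cfsg.Agent.Lib.Transfer.Critical
import Cfsg.Agent.Lib.Fusion.Stabilizer

/-!
The automorphism group of a `2`-group with exactly three involutions is solvable.
-/

set_option autoImplicit false
set_option linter.style.haveILetI false

namespace CfsgLib.InvolChar.ThreeInvolutions

open CfsgLib.InvolChar.A8Normalizer

/-- Functions of degree at most `k` over `F₂`. -/
def Deg {V : Type*} [CommGroup V] : ℕ → (V → ZMod 2) → Prop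
  | 0, f => ∀ u, f u = f 1
  | k + 1, f => ∀ v, Deg k (fun u => f u + f (u * v))

section Deg

variable {V : Type*} [CommGroup V]

theorem two_self : ∀ a : ZMod 2, a + a = 0 := by decide

theorem Deg.succ : ∀ {k : ℕ} {f : V → ZMod 2}, Deg k f → Deg (k + 1) f := by
  intro k
  induction k with
  | zero =>
    intro f h v u
    show f u + f (u * v) = f 1 + f (1 * v)
    rw [h u, h (u * v), h (1 * v)]
  | succ k ih => exact fun h v => ih (h v)

theorem Deg.add : ∀ {k : ℕ} {f g : V → ZMod 2}, Deg k f → Deg k g → Deg k (fun u => f u + g u) := by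
  intro k
  induction k with
  | zero => intro f g hf hg u; show f u + g u = f 1 + g 1; rw [hf u, hg u]
  | succ k ih =>
    intro f g hf hg v
    have h := ih (hf v) (hg v)
    have e : (fun u => f u + g u + (f (u * v) + g (u * v))) =
        (fun u => (f u + f (u * v)) + (g u + g (u * v))) := funext fun u => add_add_add_comm _ _ _ _
    show Deg k fun u => f u + g u + (f (u * v) + g (u * v))
    rw [e]; exact h

theorem Deg.shift : ∀ {k : ℕ} {f : V → ZMod 2}, Deg k f → ∀ w, Deg k (fun u => f (u * w)) := by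
  intro k
  induction k with
  | zero => intro f hf w u; show f (u * w) = f (1 * w); rw [hf (u * w), hf (1 * w)]
  | succ k ih =>
    intro f hf w v
    have h := ih (hf v) w
    have e : (fun u => f (u * w) + f (u * v * w)) = (fun u => f (u * w) + f (u * w * v)) :=
      funext fun u => by rw [mul_right_comm]
    show Deg k fun u => f (u * w) + f (u * v * w)
    rw [e]; exact h

theorem Deg.const (c : ZMod 2) : ∀ k, Deg k (fun _ : V => c)
  | 0 => fun _ => rfl
  | k + 1 => fun _ => by
    have e : (fun _ : V => c + c) = fun _ => (0 : ZMod 2) := funext fun _ => two_self c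
    show Deg k fun _ => c + c
    rw [e]; exact Deg.const 0 k

theorem Deg.const_mul : ∀ {k : ℕ} {f : V → ZMod 2}, Deg k f → ∀ c, Deg k (fun u => c * f u) := by
  intro k f hf c
  rcases A8.zmod_two_cases c with rfl | rfl
  · simp only [zero_mul]; exact Deg.const 0 k
  · simpa using hf

theorem Deg.mul : ∀ {a b : ℕ} {f g : V → ZMod 2}, Deg a f → Deg b g → Deg (a + b) (fun u => f u * g u) := by
  intro a b
  induction hn : a + b generalizing a b with
  | zero =>
    obtain ⟨rfl, rfl⟩ := Nat.add_eq_zero_iff.1 hn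
    intro f g hf hg u
    show f u * g u = f 1 * g 1
    rw [hf u, hg u]
  | succ n ih =>
    intro f g hf hg v
    have key : ∀ {f g : V → ZMod 2}, Deg a f → Deg b g →
        Deg n (fun u => (f u + f (u * v)) * g u) := by
      intro f g hf hg
      cases a with
      | zero =>
        have e : (fun u => (f u + f (u * v)) * g u) = fun _ => (0 : ZMod 2) :=
          funext fun u => by rw [hf u, hf (u * v), two_self, zero_mul]
        rw [e]; exact Deg.const 0 n
      | succ a' => exact ih (by omega) (hf v) hg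
    have key' : ∀ {f g : V → ZMod 2}, Deg a f → Deg b g →
        Deg n (fun u => f u * (g u + g (u * v))) := by
      intro f g hf hg
      cases b with
      | zero =>
        have e : (fun u => f u * (g u + g (u * v))) = fun _ => (0 : ZMod 2) :=
          funext fun u => by rw [hg u, hg (u * v), two_self, mul_zero]
        rw [e]; exact Deg.const 0 n
      | succ b' => exact ih (by omega) hf (hg v)
    have e : (fun u => f u * g u + f (u * v) * g (u * v)) =
        (fun u => (f u + f (u * v)) * g u + f (u * v) * (g u + g (u * v))) := funext fun u => by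
      linear_combination (-1 : ZMod 2) * two_self (f (u * v) * g u)
    show Deg n fun u => f u * g u + f (u * v) * g (u * v)
    rw [e]
    exact (key hf hg).add (key' (hf.shift v) hg)

theorem Deg.comp {W : Type*} [CommGroup W] (φ : W →* V) :
    ∀ {k : ℕ} {f : V → ZMod 2}, Deg k f → Deg k (fun w => f (φ w)) := by
  intro k
  induction k with
  | zero => intro f hf w; show f (φ w) = f (φ 1); rw [hf (φ w), map_one]
  | succ k ih =>
    intro f hf v
    have h := ih (hf (φ v))
    have e : (fun w => f (φ w) + f (φ (w * v))) = fun w => f (φ w) + f (φ w * φ v) :=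
      funext fun w => by rw [map_mul]
    show Deg k fun w => f (φ w) + f (φ (w * v))
    rw [e]; exact h

end Deg

/-- Functions of low degree have even weight. -/
theorem Deg.sum_eq_zero {k : ℕ} : ∀ {V : Type*} [CommGroup V] [Fintype V], (∀ v : V, v ^ 2 = 1) →
    ∀ {f : V → ZMod 2}, Deg k f → 2 ^ (k + 1) ≤ Nat.card V → ∑ u, f u = 0 := by
  induction k with
  | zero =>
    intro V _ _ h2 f hf hcard
    rw [Finset.sum_congr rfl (fun u _ => hf u), Finset.sum_const, Finset.card_univ,
      ← Nat.card_eq_fintype_card, nsmul_eq_mul]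
    haveI : Fact (Nat.Prime 2) := ⟨Nat.prime_two⟩
    obtain ⟨i, hi⟩ := (IsPGroup.iff_card (p := 2) (G := V)).1 (fun v => ⟨1, by rw [pow_one, h2]⟩)
    obtain ⟨j, rfl⟩ : ∃ j, i = j + 1 := ⟨i - 1, by rcases i with _ | i <;> simp_all⟩
    rw [hi]
    push_cast
    rw [show (2 : ZMod 2) = 0 from rfl, zero_pow (Nat.succ_ne_zero j), zero_mul]
  | succ k ih =>
    intro V _ _ h2 f hf hcard
    classical
    obtain ⟨d, L, M, hd, hL, -, -⟩ := A8Section.exists_linear_model h2
    obtain ⟨d, rfl⟩ : ∃ d', d = d' + 1 := by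
      refine ⟨d - 1, ?_⟩
      rcases d with _ | d
      · rw [hd] at hcard
        have := Nat.one_lt_two_pow (Nat.succ_ne_zero (k + 1))
        simp at hcard this
      · rfl
    let χ : V →* Multiplicative (ZMod 2) :=
      { toFun := fun v => Multiplicative.ofAdd (L v 0)
        map_one' := by
          have := hL 1 1
          rw [mul_one] at this
          show Multiplicative.ofAdd (L 1 0) = 1
          rw [add_eq_left.1 this.symm]; rfl
        map_mul' := fun a b => by
          show Multiplicative.ofAdd (L (a * b) 0) = _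
          rw [hL]; rfl }
    set v : V := L.symm (Pi.single 0 1) with hv
    have hv0 : L v 0 = 1 := by rw [hv, L.apply_symm_apply, Pi.single_eq_same]
    have hvχ : χ v = Multiplicative.ofAdd (1 : ZMod 2) := congrArg Multiplicative.ofAdd hv0
    let U : Subgroup V := χ.ker
    have hU : ∀ u : V, u ∈ U ↔ L u 0 = 0 := fun u => Iff.rfl
    have hvv : v * v = 1 := by rw [← sq, h2]
    have hL0 : ∀ u : V, L (u * v) 0 = L u 0 + 1 := fun u => by rw [hL, Pi.add_apply, hv0]
    have hsplit : ∑ u, f u = ∑ u : U, (f u + f (u * v)) := by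
      rw [Finset.sum_add_distrib, ← Fintype.sum_subtype_add_sum_subtype (fun u => u ∈ U) f]
      refine congrArg₂ (· + ·) rfl ?_
      refine (Fintype.sum_equiv
        { toFun := fun u : U => (⟨(u : V) * v, fun h => by
            rw [hU, hL0, (hU _).1 u.2, zero_add] at h; exact one_ne_zero h⟩ : {x : V // x ∉ U})
          invFun := fun x => ⟨x.1 * v, (hU _).2 (by
            rw [hL0, (A8.zmod_two_cases (L x.1 0)).resolve_left (fun h => x.2 ((hU _).2 h))]; rfl)⟩
          left_inv := fun u => Subtype.ext (show (u : V) * v * v = u by rw [mul_assoc, hvv, mul_one])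
          right_inv := fun x => Subtype.ext (show x.1 * v * v = x.1 by rw [mul_assoc, hvv, mul_one]) }
        _ _ (fun u => rfl)).symm
    rw [hsplit]
    refine ih (fun u => Subtype.ext (by rw [SubmonoidClass.coe_pow, h2]; rfl)) ((hf v).comp U.subtype) ?_
    have hidx : U.index ≤ 2 := by
      rw [Subgroup.index_ker]
      exact le_trans (Subgroup.card_le_card_group _) (by simp)
    have := U.card_mul_index
    have h3 := Nat.mul_le_mul_left (Nat.card U) hidx
    rw [pow_succ] at hcard
    omega

theorem quad_deg {V : Type*} [CommGroup V] {f : V → ZMod 2}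
    (h : ∀ u v w, f (u * v * w) + f (u * v) + f (u * w) + f (v * w) + f u + f v + f w + f 1 = 0) :
    Deg 2 f := by
  intro v w u
  show f u + f (u * v) + (f (u * w) + f (u * w * v)) = f 1 + f (1 * v) + (f (1 * w) + f (1 * w * v))
  rw [one_mul, one_mul]
  linear_combination h u w v - two_self (f 1 + f v + (f w + f (w * v)))

theorem pow_apply_eq' {V : Type*} [Group V] (b : MulAut V) {x : V} (h : b x = x) :
    ∀ k : ℕ, (b ^ k) x = x
  | 0 => rfl
  | k + 1 => by rw [pow_succ, MulAut.mul_apply, h, pow_apply_eq' b h k]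

theorem one_add_prod_eq_zero : ∀ w : ZMod 2 × ZMod 2, w ≠ 0 → (1 + w.1) * (1 + w.2) = 0 := by decide

theorem pair_self : ∀ w : ZMod 2 × ZMod 2, w + w = 0 := by decide

theorem choose_form : ∀ b c : ZMod 2 × ZMod 2, b ≠ 0 → c ≠ 0 →
    ∃ s t : ZMod 2, s * b.1 + t * b.2 = 1 ∧ s * c.1 + t * c.2 = 1 := by decide

/-- The finite core: a group preserving an anisotropic quadratic map to `F₂²` is solvable. -/
theorem isSolvable_of_anisotropic {V : Type*} [CommGroup V] [Finite V] (h2 : ∀ v : V, v ^ 2 = 1)
    (q : V → ZMod 2 × ZMod 2) (h1 : q 1 = 0) (hd1 : Deg 2 fun v => (q v).1) (hd2 : Deg 2 fun v => (q v).2)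
    (hq : ∀ v, q v = 0 → v = 1) (G : Subgroup (MulAut V)) (hG : ∀ a ∈ G, ∀ v, q (a v) = q v) :
    Group.IsSolvable G := by
  classical
  haveI := Fintype.ofFinite V
  haveI : Fact (Nat.Prime 2) := ⟨Nat.prime_two⟩
  have hdot : ∀ s t : ZMod 2, Deg 2 fun v => s * (q v).1 + t * (q v).2 :=
    fun s t => (hd1.const_mul s).add (hd2.const_mul t)
  have h16 : Nat.card V ≤ 16 := by
    by_contra hlt
    have h32 : 2 ^ (4 + 1) ≤ Nat.card V := by
      obtain ⟨i, hi⟩ := (IsPGroup.iff_card (p := 2) (G := V)).1 (fun v => ⟨1, by rw [pow_one, h2]⟩)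
      rw [hi] at hlt ⊢
      refine Nat.pow_le_pow_right (by norm_num) ?_
      by_contra hh
      have := Nat.pow_le_pow_right (show 1 ≤ 2 by norm_num) (show i ≤ 4 by omega)
      omega
    have hdeg : Deg (2 + 2) fun v => (1 + (q v).1) * (1 + (q v).2) :=
      ((Deg.const 1 2).add hd1).mul ((Deg.const 1 2).add hd2)
    have hs := Deg.sum_eq_zero h2 hdeg h32
    rw [Finset.sum_eq_single (1 : V)] at hs
    · rw [h1] at hs; simp at hs
    · intro b _ hb
      exact one_add_prod_eq_zero _ (mt (hq b) hb)
    · simp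
  -- no linear form is constantly one off the identity
  have hnoform : ∀ s t : ZMod 2, 8 ≤ Nat.card V → (∀ v : V, v ≠ 1 → s * (q v).1 + t * (q v).2 = 1) → False := by
    intro s t h8 hall
    have hs := Deg.sum_eq_zero h2 (hdot s t) h8
    have hc := Deg.sum_eq_zero h2 (Deg.const (V := V) 1 2) h8
    rw [← Finset.add_sum_erase _ _ (Finset.mem_univ (1 : V))] at hs hc
    rw [Finset.sum_congr rfl (fun v hv => hall v (Finset.ne_of_mem_erase hv)), h1] at hs
    simp only [Prod.fst_zero, Prod.snd_zero, mul_zero, add_zero, zero_add] at hs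
    rw [hs] at hc
    exact one_ne_zero (α := ZMod 2) (by simpa using hc)
  by_contra hns
  obtain ⟨f, hf⟩ := CfsgLib.A8.exists_aut_hom h2 (show Nat.card V ≤ 2 ^ 4 from h16)
  have hd : Nat.card G ∣ 20160 := by
    have h1 : Nat.card (alternatingGroup (Fin 8)) = 20160 := by
      rw [nat_card_alternatingGroup, Nat.card_fin]; rfl
    rw [← h1]
    exact Subgroup.card_dvd_of_injective (f.comp G.subtype) (hf.comp G.subtype_injective)
  obtain ⟨p, hp57, hpd⟩ : ∃ p, (p = 5 ∨ p = 7) ∧ p ∣ Nat.card G := by
    by_contra hno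
    push Not at hno
    refine hns (CfsgLib.Char.isSolvable_of_card_eq_pow_mul_pow Nat.prime_two Nat.prime_three
      (a := 6) (b := 2) ?_)
    have c5 : (Nat.card G).Coprime 5 := ((by norm_num : Nat.Prime 5).coprime_iff_not_dvd.2 (hno 5 (Or.inl rfl))).symm
    have c7 : (Nat.card G).Coprime 7 := ((by norm_num : Nat.Prime 7).coprime_iff_not_dvd.2 (hno 7 (Or.inr rfl))).symm
    exact (c5.mul_right c7).dvd_of_dvd_mul_right (hd.trans (dvd_of_eq (by norm_num)))
  have hp : p.Prime := by rcases hp57 with rfl | rfl <;> norm_num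
  haveI := Fact.mk hp
  obtain ⟨⟨σ, hσG⟩, hσ⟩ := exists_prime_orderOf_dvd_card' p hpd
  rw [Subgroup.orderOf_mk] at hσ
  have hσp : ∀ v, (σ ^ p) v = v := fun v => by rw [← hσ, pow_orderOf_eq_one]; rfl
  have hpow : ∀ (i : ℕ) v, q ((σ ^ i) v) = q v := fun i => hG _ (pow_mem hσG i)
  let F : Finset V := Finset.univ.filter fun v => σ v = v
  let orb : V → Finset V := fun x => Finset.univ.image fun i : Fin p => (σ ^ (i : ℕ)) x
  have hsuc : ∀ (i : ℕ) v, σ ((σ ^ i) v) = (σ ^ (i + 1)) v := fun i v => by rw [pow_succ', MulAut.mul_apply]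
  have hmodp : ∀ (i : ℕ) v, (σ ^ i) v = (σ ^ (i % p)) v := fun i v => by
    rw [← pow_mod_orderOf σ i, hσ]
  have horb : ∀ x, σ x ≠ x → (orb x).card = p := by
    intro x hx
    have hinj : Function.Injective fun i : Fin p => (σ ^ (i : ℕ)) x := by
      intro i j hij
      by_contra hne
      rcases lt_or_gt_of_ne hne with h | h
      · apply hx
        have hc : (σ ^ ((j : ℕ) - i)) ((σ ^ (i : ℕ)) x) = (σ ^ (i : ℕ)) x := by
          rw [← MulAut.mul_apply, ← pow_add, Nat.sub_add_cancel h.le]; exact hij.symm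
        have hc' : (σ ^ ((j : ℕ) - i)) x = x := (σ ^ (i : ℕ)).injective (by
          rw [← MulAut.mul_apply, ← pow_add, add_comm, pow_add, MulAut.mul_apply, hc])
        have hcop : Nat.Coprime ((j : ℕ) - i) p := (Nat.coprime_of_lt_prime (by omega) (by omega) hp).symm
        obtain ⟨m, -, hm⟩ := Nat.exists_mul_mod_eq_one_of_coprime hcop hp.one_lt
        have h1 : (σ ^ (((j : ℕ) - i) * m)) x = x := by
          rw [pow_mul]; exact pow_apply_eq' _ hc' m
        rwa [hmodp, hm, pow_one] at h1
      · apply hx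
        have hc : (σ ^ ((i : ℕ) - j)) ((σ ^ (j : ℕ)) x) = (σ ^ (j : ℕ)) x := by
          rw [← MulAut.mul_apply, ← pow_add, Nat.sub_add_cancel h.le]; exact hij
        have hc' : (σ ^ ((i : ℕ) - j)) x = x := (σ ^ (j : ℕ)).injective (by
          rw [← MulAut.mul_apply, ← pow_add, add_comm, pow_add, MulAut.mul_apply, hc])
        have hcop : Nat.Coprime ((i : ℕ) - j) p := (Nat.coprime_of_lt_prime (by omega) (by omega) hp).symm
        obtain ⟨m, -, hm⟩ := Nat.exists_mul_mod_eq_one_of_coprime hcop hp.one_lt
        have h1 : (σ ^ (((i : ℕ) - j) * m)) x = x := by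
          rw [pow_mul]; exact pow_apply_eq' _ hc' m
        rwa [hmodp, hm, pow_one] at h1
    rw [Finset.card_image_of_injective _ hinj, Finset.card_univ, Fintype.card_fin]
  have horbq : ∀ x, ∀ y ∈ orb x, q y = q x := by
    intro x y hy
    obtain ⟨i, -, rfl⟩ := Finset.mem_image.1 hy
    exact hpow i x
  have hself : ∀ x, x ∈ orb x := fun x => Finset.mem_image.2 ⟨⟨0, hp.pos⟩, Finset.mem_univ _, rfl⟩
  have horbF : ∀ x, σ x ≠ x → Disjoint (orb x) F := by
    intro x hx
    rw [Finset.disjoint_left]
    intro y hy hyF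
    obtain ⟨i, -, rfl⟩ := Finset.mem_image.1 hy
    have := (Finset.mem_filter.1 hyF).2
    rw [hsuc, pow_succ, MulAut.mul_apply] at this
    exact hx ((σ ^ (i : ℕ)).injective this)
  have horbO : ∀ x y, y ∉ orb x → Disjoint (orb x) (orb y) := by
    intro x y hy
    rw [Finset.disjoint_left]
    intro w hwx hwy
    apply hy
    obtain ⟨i, -, rfl⟩ := Finset.mem_image.1 hwx
    obtain ⟨j, -, hj⟩ := Finset.mem_image.1 hwy
    refine Finset.mem_image.2 ⟨⟨((p - (j : ℕ)) + (i : ℕ)) % p, Nat.mod_lt _ hp.pos⟩, Finset.mem_univ _, ?_⟩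
    rw [← hmodp, pow_add, MulAut.mul_apply, ← hj, ← MulAut.mul_apply, ← pow_add,
      Nat.sub_add_cancel j.2.le, hσp]
  have hmod : F.card % p = Nat.card V % p := by
    let e : Equiv.Perm V := MulEquiv.toEquiv σ
    have hei : ∀ (i : ℕ) v, (e ^ i) v = (σ ^ i) v := by
      intro i
      induction i with
      | zero => intro v; rfl
      | succ i ih => intro v; rw [pow_succ', pow_succ', Equiv.Perm.mul_apply, ih, MulAut.mul_apply]; rfl
    have hep : e ^ p ^ 1 = 1 := by
      rw [pow_one]; exact Equiv.ext fun v => by rw [hei, hσp]; rfl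
    have hc := Equiv.Perm.card_compl_support_modEq (p := p) (n := 1) (σ := e) hep
    have he : e.supportᶜ = F := by ext x; simp [e, F]
    rw [he] at hc
    rw [Nat.card_eq_fintype_card]
    exact hc
  have h1F : (1 : V) ∈ F := Finset.mem_filter.2 ⟨Finset.mem_univ _, map_one σ⟩
  have hFne : F.card < Nat.card V := by
    rw [Nat.card_eq_fintype_card, ← Finset.card_univ]
    refine Finset.card_lt_card (Finset.ssubset_univ_iff.2 fun h => ?_)
    have : σ = 1 := MulEquiv.ext fun v => (Finset.mem_filter.1 (Finset.eq_univ_iff_forall.1 h v)).2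
    rw [this, orderOf_one] at hσ
    exact hp.one_lt.ne hσ
  let Fs : Subgroup V := MonoidHom.eqLocus σ.toMonoidHom (MonoidHom.id V)
  have hFs : Nat.card Fs = F.card := by
    rw [Nat.card_eq_fintype_card]
    exact Fintype.card_of_subtype F (fun x => by simp [F, Fs, MonoidHom.eqLocus])
  obtain ⟨d, L, -, hdV, hL, -, -⟩ := A8Section.exists_linear_model h2
  have hd4 : d ≤ 4 := (Nat.pow_le_pow_iff_right (by norm_num : 1 < 2)).1 (hdV ▸ h16)
  obtain ⟨e, he, heq⟩ := (Nat.dvd_prime_pow Nat.prime_two).1 (hdV ▸ Subgroup.card_subgroup_dvd_card Fs)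
  rw [hFs] at heq
  have hcases : (p = 7 ∧ d = 3 ∧ F.card = 1) ∨ (p = 7 ∧ d = 4 ∧ F.card = 2) ∨ (p = 5 ∧ d = 4 ∧ F.card = 1) := by
    rw [hdV] at hmod hFne
    rw [heq] at hmod hFne ⊢
    rcases hp57 with rfl | rfl <;> interval_cases d <;> interval_cases e <;> first | (simp; done) | (exfalso; norm_num at hmod hFne; done) | (exfalso; omega)
  have hnonfix : ∀ x, x ∉ F → σ x ≠ x := fun x hx h => hx (Finset.mem_filter.2 ⟨Finset.mem_univ _, h⟩)
  have hcover : ∀ S : Finset V, Disjoint S F → S.card + F.card = Nat.card V → ∀ x, x ∉ F → x ∈ S := by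
    intro S hS hc x hx
    have hu : S ∪ F = Finset.univ := Finset.eq_univ_of_card _ (by
      rw [Finset.card_union_of_disjoint hS, hc, Nat.card_eq_fintype_card])
    have := Finset.mem_univ x
    rw [← hu, Finset.mem_union] at this
    exact this.resolve_right hx
  obtain ⟨x1, hx1⟩ : ∃ x, x ∉ F := by
    by_contra hno
    push Not at hno
    have := Finset.eq_univ_iff_forall.2 hno
    rw [this, Finset.card_univ, Nat.card_eq_fintype_card] at hFne
    omega
  have hx11 : x1 ≠ 1 := fun h => hx1 (h ▸ h1F)
  rcases hcases with ⟨rfl, rfl, hFc⟩ | ⟨rfl, rfl, hFc⟩ | ⟨rfl, rfl, hFc⟩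
  · -- one orbit
    obtain ⟨s, t, hst, -⟩ := choose_form (q x1) (q x1) (fun h => hx11 (hq _ h)) (fun h => hx11 (hq _ h))
    refine hnoform s t (by rw [hdV]; norm_num) fun v hv => ?_
    have hvF : v ∉ F := fun h => hv (Finset.card_le_one.1 hFc.le v h 1 h1F)
    rw [horbq x1 v (hcover _ (horbF x1 (hnonfix x1 hx1))
      (by rw [horb x1 (hnonfix x1 hx1), hFc, hdV]; rfl) v hvF), hst]
  · -- two orbits and a fixed involution
    obtain ⟨v0, hv0F, hv01⟩ : ∃ v ∈ F, v ≠ 1 := by
      by_contra hno
      push Not at hno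
      have : F.card ≤ 1 := Finset.card_le_one.2 fun a ha b hb => (hno a ha).trans (hno b hb).symm
      omega
    obtain ⟨x2, hx2, hx2'⟩ : ∃ x, x ∉ F ∧ x ∉ orb x1 := by
      by_contra hno
      push Not at hno
      have := Finset.card_le_card (show Finset.univ ⊆ F ∪ orb x1 from fun x _ => by
        rw [Finset.mem_union]
        by_cases h : x ∈ F
        · exact Or.inl h
        · exact Or.inr (hno x h))
      have h3 := Finset.card_union_le F (orb x1)
      rw [Finset.card_univ, ← Nat.card_eq_fintype_card, hdV] at this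
      rw [horb x1 (hnonfix x1 hx1), hFc] at h3
      norm_num at this; omega
    have hx21 : x2 ≠ 1 := fun h => hx2 (h ▸ h1F)
    obtain ⟨s, t, hs1, hs2⟩ := choose_form (q x1) (q x2) (fun h => hx11 (hq _ h)) (fun h => hx21 (hq _ h))
    have hval : ∀ v, v ∉ F → s * (q v).1 + t * (q v).2 = 1 := by
      intro v hvF
      have hd12 := horbO x1 x2 hx2'
      have hS := hcover (orb x1 ∪ orb x2)
        (Finset.disjoint_union_left.2 ⟨horbF x1 (hnonfix x1 hx1), horbF x2 (hnonfix x2 hx2)⟩)
        (by rw [Finset.card_union_of_disjoint hd12, horb x1 (hnonfix x1 hx1), horb x2 (hnonfix x2 hx2),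
          hFc, hdV]; rfl) v hvF
      rcases Finset.mem_union.1 hS with h | h
      · rw [horbq x1 v h, hs1]
      · rw [horbq x2 v h, hs2]
    -- a linear form nonzero at the fixed involution
    obtain ⟨i, hi⟩ : ∃ i, L v0 i = 1 := by
      by_contra hno
      push Not at hno
      refine hv01 (L.injective (funext fun i => ?_))
      have h0 := (A8.zmod_two_cases (L v0 i)).resolve_right (hno i)
      have h10 : L 1 = 0 := by
        have := hL 1 1
        rw [mul_one] at this
        exact add_eq_left.1 this.symm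
      rw [h0, h10]; rfl
    have hL1 : L 1 i = 0 := by
      have := congrFun (hL 1 1) i
      rw [mul_one, Pi.add_apply] at this
      exact add_eq_left.1 this.symm
    have hχ : Deg 1 fun v => 1 + L v i := by
      intro v u
      show 1 + L u i + (1 + L (u * v) i) = 1 + L 1 i + (1 + L (1 * v) i)
      rw [hL, hL, Pi.add_apply, Pi.add_apply]
      linear_combination two_self (L u i) - two_self (L 1 i)
    have hs := Deg.sum_eq_zero h2 ((hdot s t).mul hχ) (by rw [hdV])
    have hc := Deg.sum_eq_zero h2 hχ (by rw [hdV]; norm_num)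
    rw [← Finset.add_sum_erase _ _ (Finset.mem_univ (1 : V))] at hs hc
    have heq : ∀ v ∈ Finset.univ.erase (1 : V),
        (s * (q v).1 + t * (q v).2) * (1 + L v i) = 1 + L v i := by
      intro v hv
      by_cases hvF : v ∈ F
      · have hvv : v = v0 := by
          by_contra hne
          have h3 : 3 ≤ F.card := by
            refine le_of_eq_of_le ?_ (Finset.card_le_card (show ({1, v0, v} : Finset V) ⊆ F by
              simp [Finset.insert_subset_iff, h1F, hv0F, hvF]))
            rw [Finset.card_insert_of_notMem, Finset.card_pair (Ne.symm hne)]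
            simp [Ne.symm hv01, Ne.symm (Finset.ne_of_mem_erase hv)]
          omega
        rw [hvv, hi, two_self, mul_zero]
      · rw [hval v hvF, one_mul]
    rw [Finset.sum_congr rfl heq, h1] at hs
    simp only [Prod.fst_zero, Prod.snd_zero, mul_zero, add_zero, zero_mul, zero_add] at hs
    rw [hs, hL1] at hc
    simp at hc
  · -- three orbits of size five
    have hF1 : ∀ v, v ≠ 1 → v ∉ F := fun v hv h => hv (Finset.card_le_one.1 hFc.le v h 1 h1F)
    obtain ⟨x2, hx2, hx2'⟩ : ∃ x, x ∉ F ∧ x ∉ orb x1 := by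
      by_contra hno
      push Not at hno
      have := Finset.card_le_card (show Finset.univ ⊆ F ∪ orb x1 from fun x _ => by
        rw [Finset.mem_union]
        by_cases h : x ∈ F
        · exact Or.inl h
        · exact Or.inr (hno x h))
      have h3 := Finset.card_union_le F (orb x1)
      rw [Finset.card_univ, ← Nat.card_eq_fintype_card, hdV] at this
      rw [horb x1 (hnonfix x1 hx1), hFc] at h3
      norm_num at this; omega
    have hd12 := horbO x1 x2 hx2'
    obtain ⟨x3, hx3, hx31, hx32⟩ : ∃ x, x ∉ F ∧ x ∉ orb x1 ∧ x ∉ orb x2 := by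
      by_contra hno
      push Not at hno
      have := Finset.card_le_card (show Finset.univ ⊆ F ∪ (orb x1 ∪ orb x2) from fun x _ => by
        rw [Finset.mem_union, Finset.mem_union]
        by_cases h : x ∈ F
        · exact Or.inl h
        · by_cases h' : x ∈ orb x1
          · exact Or.inr (Or.inl h')
          · exact Or.inr (Or.inr (hno x h h')))
      have h3 := Finset.card_union_le F (orb x1 ∪ orb x2)
      rw [Finset.card_union_of_disjoint hd12, horb x1 (hnonfix x1 hx1), horb x2 (hnonfix x2 hx2), hFc] at h3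
      rw [Finset.card_univ, ← Nat.card_eq_fintype_card, hdV] at this
      norm_num at this; omega
    have hne1 : ∀ x, x ∉ F → q x ≠ 0 := fun x hx h => hx ((hq x h) ▸ h1F)
    have hall : ∀ v, v ≠ 1 → v ∈ orb x1 ∨ v ∈ orb x2 ∨ v ∈ orb x3 := by
      intro v hv
      have hd13 := horbO x1 x3 hx31
      have hd23 := horbO x2 x3 hx32
      have hS := hcover (orb x1 ∪ (orb x2 ∪ orb x3))
        (Finset.disjoint_union_left.2 ⟨horbF x1 (hnonfix x1 hx1), Finset.disjoint_union_left.2
          ⟨horbF x2 (hnonfix x2 hx2), horbF x3 (hnonfix x3 hx3)⟩⟩)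
        (by rw [Finset.card_union_of_disjoint (Finset.disjoint_union_right.2 ⟨hd12, hd13⟩),
          Finset.card_union_of_disjoint hd23, horb x1 (hnonfix x1 hx1), horb x2 (hnonfix x2 hx2),
          horb x3 (hnonfix x3 hx3), hFc, hdV]; rfl) v (hF1 v hv)
      simpa [Finset.mem_union] using hS
    have hdist : q x1 ≠ q x2 ∧ q x1 ≠ q x3 ∧ q x2 ≠ q x3 := by
      refine ⟨fun h => ?_, fun h => ?_, fun h => ?_⟩
      · obtain ⟨s, t, a, b⟩ := choose_form (q x1) (q x3) (hne1 _ hx1) (hne1 _ hx3)
        refine hnoform s t (by rw [hdV]; norm_num) fun v hv => ?_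
        rcases hall v hv with hh | hh | hh
        · rw [horbq x1 v hh, a]
        · rw [horbq x2 v hh, ← h, a]
        · rw [horbq x3 v hh, b]
      · obtain ⟨s, t, a, b⟩ := choose_form (q x1) (q x2) (hne1 _ hx1) (hne1 _ hx2)
        refine hnoform s t (by rw [hdV]; norm_num) fun v hv => ?_
        rcases hall v hv with hh | hh | hh
        · rw [horbq x1 v hh, a]
        · rw [horbq x2 v hh, b]
        · rw [horbq x3 v hh, ← h, a]
      · obtain ⟨s, t, a, b⟩ := choose_form (q x1) (q x2) (hne1 _ hx1) (hne1 _ hx2)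
        refine hnoform s t (by rw [hdV]; norm_num) fun v hv => ?_
        rcases hall v hv with hh | hh | hh
        · rw [horbq x1 v hh, a]
        · rw [horbq x2 v hh, b]
        · rw [horbq x3 v hh, ← h, b]
    have hclass : ∀ x, x ∈ ({x1, x2, x3} : Finset V) → ∀ v, q v = q x → v ∈ orb x := by
      intro x hx v hv
      simp only [Finset.mem_insert, Finset.mem_singleton] at hx
      have hv1 : v ≠ 1 := by
        rintro rfl
        rw [h1] at hv
        rcases hx with rfl | rfl | rfl
        · exact hne1 _ hx1 hv.symm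
        · exact hne1 _ hx2 hv.symm
        · exact hne1 _ hx3 hv.symm
      obtain ⟨d1, d2, d3⟩ := hdist
      rcases hall v hv1 with hh | hh | hh <;> rcases hx with rfl | rfl | rfl <;>
        first
          | exact hh
          | (exfalso; have := (horbq _ v hh).symm.trans hv
             first | exact d1 this | exact d2 this | exact d3 this | exact d1 this.symm | exact d2 this.symm | exact d3 this.symm)
    let o : Fin 5 → V := fun i => (σ ^ (i : ℕ)) x1
    have hoinj : Function.Injective o := by
      have hcard := horb x1 (hnonfix x1 hx1)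
      intro i j hij
      by_contra hne
      have : (orb x1).card < 5 := by
        show (Finset.univ.image o).card < 5
        refine lt_of_lt_of_eq (lt_of_le_of_ne Finset.card_image_le ?_) (by simp)
        intro hcc
        exact hne (Finset.card_image_iff.1 hcc (Finset.mem_univ i) (Finset.mem_univ j) hij)
      omega
    have hosucc : ∀ i : Fin 5, σ (o i) = o (i + 1) := by
      intro i
      show σ ((σ ^ (i : ℕ)) x1) = (σ ^ ((i + 1 : Fin 5) : ℕ)) x1
      rw [hsuc, hmodp, Fin.val_add]
      rfl
    have hprod : ∏ i, o i = 1 := by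
      have hfix : σ (∏ i, o i) = ∏ i, o i := by
        rw [map_prod, Finset.prod_congr rfl (fun i _ => hosucc i)]
        exact Equiv.prod_comp (Equiv.addRight (1 : Fin 5)) o
      by_contra h
      exact hF1 _ h (Finset.mem_filter.2 ⟨Finset.mem_univ _, hfix⟩)
    have hinv : ∀ u : V, u⁻¹ = u := fun u => inv_eq_of_mul_eq_one_right (by rw [← sq, h2])
    have ho1 : ∀ i, o i ≠ 1 := fun i h => hx11 ((σ ^ (i : ℕ)).injective (h.trans (map_one _).symm))
    have hpair : ∀ i j k l : Fin 5, i < j → k < l → o i * o j = o k * o l → i = k ∧ j = l := by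
      intro i j k l hij hkl h
      by_cases h1' : i = k
      · exact ⟨h1', hoinj (mul_left_cancel (h1' ▸ h))⟩
      by_cases h2' : j = l
      · exact ⟨hoinj (mul_right_cancel (h2' ▸ h)), h2'⟩
      exfalso
      by_cases h3' : i = l
      · subst h3'
        rw [mul_comm (o k)] at h
        have := hoinj (mul_left_cancel h)
        omega
      by_cases h4' : j = k
      · subst h4'
        rw [mul_comm (o i)] at h
        have := hoinj (mul_left_cancel h)
        omega
      have hm : ∀ i j k l : Fin 5, i ≠ j → i ≠ k → i ≠ l → j ≠ k → j ≠ l → k ≠ l →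
          ∃ m : Fin 5, Finset.univ.erase m = {i, j, k, l} := by decide
      obtain ⟨m, hm⟩ := hm i j k l hij.ne h1' h3' h4' h2' hkl.ne
      have hp5 := hprod
      rw [← Finset.mul_prod_erase _ _ (Finset.mem_univ m), hm, Finset.prod_insert (by simp [hij.ne, h1', h3']),
        Finset.prod_insert (by simp [h4', h2']), Finset.prod_pair hkl.ne, ← mul_assoc (o i), h, ← sq, h2,
        mul_one] at hp5
      exact ho1 m hp5
    -- transitivity on pairs
    have hmem : ∀ a ∈ G, ∀ i, a (o i) ∈ orb x1 := fun a ha i =>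
      hclass x1 (by simp) _ ((hG a ha _).trans (hpow i x1))
    have hex : ∀ a : G, ∀ i, ∃ j, (a : MulAut V) (o i) = o j := fun a i => by
      obtain ⟨j, -, hj⟩ := Finset.mem_image.1 (hmem a a.2 i)
      exact ⟨j, hj.symm⟩
    choose act hact using hex
    have hact_mul : ∀ (a b : G) i, act (a * b) i = act a (act b i) := fun a b i => hoinj (by
      rw [← hact, Subgroup.coe_mul, MulAut.mul_apply, hact b, hact a])
    have hact_one : ∀ i, act 1 i = i := fun i => hoinj (by rw [← hact]; rfl)
    let ρ : G →* Equiv.Perm (Fin 5) :=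
      { toFun := fun a => ⟨act a, act a⁻¹, fun i => by rw [← hact_mul, inv_mul_cancel, hact_one],
          fun i => by rw [← hact_mul, mul_inv_cancel, hact_one]⟩
        map_one' := Equiv.ext hact_one
        map_mul' := fun a b => Equiv.ext (hact_mul a b) }
    have hgen : Subgroup.closure (Set.range o) = ⊤ := by
      set K := Subgroup.closure (Set.range o)
      have h6 : 6 ≤ Nat.card K := by
        have : (insert (1 : V) (Finset.univ.image o)) ⊆ (K : Set V).toFinset := by
          intro v hv
          rw [Set.mem_toFinset]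
          simp only [Finset.mem_insert, Finset.mem_image] at hv
          rcases hv with rfl | ⟨i, -, rfl⟩
          · exact one_mem K
          · exact Subgroup.subset_closure ⟨i, rfl⟩
        have h5 := Finset.card_le_card this
        rw [Finset.card_insert_of_notMem (fun h => by
            obtain ⟨i, -, hi⟩ := Finset.mem_image.1 h
            exact ho1 i hi), Finset.card_image_of_injective _ hoinj, Finset.card_univ,
          Fintype.card_fin, Set.toFinset_card] at h5
        rw [Nat.card_eq_fintype_card]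
        exact h5
      by_contra hK
      -- a hyperplane missing the whole orbit
      obtain ⟨e', he', hKc⟩ := (Nat.dvd_prime_pow Nat.prime_two).1 (hdV ▸ Subgroup.card_subgroup_dvd_card K)
      have h8 : Nat.card K = 8 := by
        interval_cases e'
        · omega
        · omega
        · omega
        · exact hKc
        · exact absurd ((Subgroup.card_eq_iff_eq_top K).1 (hKc.trans hdV.symm)) hK
      have hσK : ∀ v ∈ K, σ v ∈ K := by
        intro v hv
        refine Subgroup.closure_induction (p := fun x _ => σ x ∈ K) ?_ ?_ ?_ ?_ hv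
        · rintro _ ⟨i, rfl⟩; rw [hosucc]; exact Subgroup.subset_closure ⟨i + 1, rfl⟩
        · rw [map_one]; exact one_mem K
        · intro a b _ _ ha hb; rw [map_mul]; exact mul_mem ha hb
        · intro a _ ha; rw [map_inv]; exact inv_mem ha
      let R : Finset V := ((K : Set V).toFinset).filter fun v => v ≠ 1 ∧ v ∉ orb x1
      have hR : R.card = 2 := by
        have hsub : insert (1 : V) (orb x1) ⊆ (K : Set V).toFinset := by
          intro v hv
          rw [Set.mem_toFinset]
          rcases Finset.mem_insert.1 hv with rfl | hv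
          · exact one_mem K
          · obtain ⟨i, -, rfl⟩ := Finset.mem_image.1 hv
            exact Subgroup.subset_closure ⟨i, rfl⟩
        have hRe : R = (K : Set V).toFinset \ insert (1 : V) (orb x1) := by
          ext v; simp [R, Finset.mem_sdiff, Finset.mem_insert]
        rw [hRe, Finset.card_sdiff_of_subset hsub, Set.toFinset_card,
          Finset.card_insert_of_notMem (fun h => (Finset.disjoint_left.1 (horbF x1 (hnonfix x1 hx1))) h h1F),
          horb x1 (hnonfix x1 hx1)]
        have : Fintype.card (K : Set V) = 8 := by rw [← h8, Nat.card_eq_fintype_card]; rfl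
        omega
      obtain ⟨a, b, hab, hRab⟩ := Finset.card_eq_two.1 hR
      have haR : a ∈ R := by rw [hRab]; simp
      obtain ⟨haK, ha1, hao⟩ := Finset.mem_filter.1 haR |>.imp id id
      rw [Set.mem_toFinset] at haK
      have horbR : ∀ i : Fin 5, (σ ^ (i : ℕ)) a ∈ R := by
        intro i
        refine Finset.mem_filter.2 ⟨?_, ?_, ?_⟩
        · rw [Set.mem_toFinset]
          generalize (i : ℕ) = m
          induction m with
          | zero => exact haK
          | succ m ih => rw [← hsuc]; exact hσK _ ih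
        · exact fun h => ha1 ((σ ^ (i : ℕ)).injective (h.trans (map_one _).symm))
        · intro h
          exact Finset.disjoint_left.1 (horbO x1 a hao) h (Finset.mem_image.2 ⟨i, Finset.mem_univ _, rfl⟩)
      have h5 : (orb a).card ≤ R.card := Finset.card_le_card (fun v hv => by
        obtain ⟨i, -, rfl⟩ := Finset.mem_image.1 hv; exact horbR i)
      rw [horb a (hnonfix a (hF1 a ha1)), hR] at h5
      omega
    have hρ : Function.Injective ρ := by
      rw [← MonoidHom.ker_eq_bot_iff, Subgroup.eq_bot_iff_forall]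
      intro a ha
      refine Subtype.ext (MulEquiv.toMonoidHom_injective (MonoidHom.eq_of_eqOn_dense hgen ?_))
      rintro _ ⟨i, rfl⟩
      show (a : MulAut V) (o i) = o i
      rw [hact, show act a i = i from Equiv.congr_fun (MonoidHom.mem_ker.1 ha) i]
    have halt : alternatingGroup (Fin 5) ≤ ρ.range := by
      have hc : Nat.card ρ.range * ρ.range.index = 120 := by
        rw [Subgroup.card_mul_index, Nat.card_perm, Nat.card_fin]; rfl
      have h60 : 60 ≤ Nat.card ρ.range := by
        rw [← Nat.card_congr (MonoidHom.ofInjective hρ).toEquiv]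
        exact not_lt.1 fun h => hns (isSolvable_of_card_lt_sixty h)
      have h2' : ρ.range.index ≤ 2 := by nlinarith
      rcases Nat.lt_or_eq_of_le h2' with h | h
      · have : ρ.range.index = 1 := by
          have := Subgroup.index_ne_zero_of_finite (H := ρ.range); omega
        rw [Subgroup.index_eq_one.1 this]; exact le_top
      · exact (Equiv.Perm.eq_alternatingGroup_of_index_eq_two h).ge
    have htrans : ∀ i j : Fin 5, i ≠ j → q (o i * o j) = q (o 0 * o 1) := by
      intro i j hij
      have hπ : ∀ i j : Fin 5, i ≠ j → ∃ k, k ≠ i ∧ k ≠ j := by decide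
      obtain ⟨π0, h0, h1'⟩ : ∃ π : Equiv.Perm (Fin 5), π 0 = i ∧ π 1 = j := by
        refine ⟨Equiv.swap (Equiv.swap 0 i 1) j * Equiv.swap 0 i, ?_, ?_⟩
        · rw [Equiv.Perm.mul_apply, Equiv.swap_apply_left, Equiv.swap_apply_of_ne_of_ne _ hij]
          intro h
          have : Equiv.swap (0 : Fin 5) i 0 = Equiv.swap 0 i 1 := by rw [Equiv.swap_apply_left, ← h]
          exact absurd ((Equiv.swap (0 : Fin 5) i).injective this) (by decide)
        · rw [Equiv.Perm.mul_apply, Equiv.swap_apply_left]
      obtain ⟨π, hsgn, hpi⟩ : ∃ π : Equiv.Perm (Fin 5), Equiv.Perm.sign π = 1 ∧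
          ((π 0 = i ∧ π 1 = j) ∨ (π 0 = j ∧ π 1 = i)) := by
        rcases Int.units_eq_one_or (Equiv.Perm.sign π0) with h | h
        · exact ⟨π0, h, Or.inl ⟨h0, h1'⟩⟩
        · refine ⟨Equiv.swap i j * π0, by rw [map_mul, h, Equiv.Perm.sign_swap hij]; rfl, Or.inr ?_⟩
          rw [Equiv.Perm.mul_apply, Equiv.Perm.mul_apply, h0, h1', Equiv.swap_apply_left,
            Equiv.swap_apply_right]
          exact ⟨rfl, rfl⟩
      obtain ⟨a, ha⟩ := halt (Equiv.Perm.mem_alternatingGroup.2 hsgn)
      have hai : ∀ r, (a : MulAut V) (o r) = o (π r) := fun r => by rw [hact, ← ha]; rfl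
      rw [← hG a a.2 (o 0 * o 1), map_mul, hai, hai]
      rcases hpi with ⟨e0, e1⟩ | ⟨e0, e1⟩ <;> rw [e0, e1]
      rw [mul_comm]
    obtain ⟨x, hx, hxv⟩ : ∃ x ∈ ({x1, x2, x3} : Finset V), q (o 0 * o 1) = q x := by
      have hne : o 0 * o 1 ≠ 1 := fun h => by
        have := hoinj ((eq_inv_of_mul_eq_one_left h).trans (hinv _) : o 0 = o 1)
        exact absurd this (by decide)
      rcases hall _ hne with h | h | h
      · exact ⟨x1, by simp, horbq _ _ h⟩
      · exact ⟨x2, by simp, horbq _ _ h⟩
      · exact ⟨x3, by simp, horbq _ _ h⟩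
    have hxF : x ∉ F := by
      simp only [Finset.mem_insert, Finset.mem_singleton] at hx
      rcases hx with rfl | rfl | rfl <;> assumption
    let P : Finset (Fin 5 × Fin 5) := Finset.univ.filter fun w => w.1 < w.2
    have h10 : P.card = 10 := by decide
    have hle : P.card ≤ (orb x).card := by
      refine Finset.card_le_card_of_injOn (fun w => o w.1 * o w.2) (fun w hw => ?_) ?_
      · have hw' : w.1 < w.2 := (Finset.mem_filter.1 hw).2
        exact hclass x hx _ ((htrans _ _ hw'.ne).trans hxv)
      · intro w hw w' hw' h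
        obtain ⟨a, b⟩ := hpair _ _ _ _ (Finset.mem_filter.1 hw).2 (Finset.mem_filter.1 hw').2 h
        exact Prod.ext a b
    rw [h10, horb x (hnonfix x hxF)] at hle
    omega

/-- A finite group in which every element of odd prime order is trivial is solvable. -/
theorem isSolvable_of_odd_prime_trivial {K : Type*} [Group K] [Finite K]
    (h : ∀ a : K, ∀ r : ℕ, r.Prime → r ≠ 2 → orderOf a = r → False) : Group.IsSolvable K := by
  haveI : Fact (Nat.Prime 2) := ⟨Nat.prime_two⟩
  have hp : IsPGroup 2 K := IsPGroup.of_card (n := (Nat.card K).primeFactorsList.length)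
    (Nat.eq_prime_pow_of_unique_prime_dvd Nat.card_pos.ne' fun {r} hr hd => by
      by_contra hne
      haveI := Fact.mk hr
      obtain ⟨a, ha⟩ := exists_prime_orderOf_dvd_card' r hd
      exact h a r hr hne ha)
  haveI := hp.isNilpotent
  infer_instance

/-- Restriction of automorphisms to a characteristic subgroup. -/
def restrictHom {X : Type*} [Group X] (Y : Subgroup X) (hY : ∀ φ : MulAut X, ∀ y ∈ Y, φ y ∈ Y) :
    MulAut X →* MulAut Y where
  toFun φ :=
    { toFun := fun y => ⟨φ y, hY φ y y.2⟩
      invFun := fun y => ⟨φ⁻¹ y, hY φ⁻¹ y y.2⟩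
      left_inv := fun y => Subtype.ext (MulAut.inv_apply_self X φ y)
      right_inv := fun y => Subtype.ext (MulAut.apply_inv_self X φ y)
      map_mul' := fun a b => Subtype.ext (map_mul φ _ _) }
  map_one' := MulEquiv.ext fun _ => rfl
  map_mul' _ _ := MulEquiv.ext fun _ => rfl

theorem restrictHom_ker {X : Type*} [Group X] {Y : Subgroup X} {hY : ∀ φ : MulAut X, ∀ y ∈ Y, φ y ∈ Y}
    {φ : MulAut X} (h : φ ∈ (restrictHom Y hY).ker) {y : X} (hy : y ∈ Y) : φ y = y :=
  congrArg Subtype.val (MulEquiv.congr_fun (MonoidHom.mem_ker.1 h) ⟨y, hy⟩)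

/-- Permutation groups of degree at most four are solvable. -/
theorem isSolvable_perm {Ω : Type*} [Finite Ω] (h : Nat.card Ω ≤ 4) : Group.IsSolvable (Equiv.Perm Ω) := by
  refine isSolvable_of_card_lt_sixty ?_
  rw [Nat.card_perm]
  exact lt_of_le_of_lt (Nat.factorial_le h) (by decide)

/-- Automorphisms of abelian `2`-groups with few involutions. -/
theorem isSolvable_abelian {Z : Type*} [CommGroup Z] [Finite Z] (hZ : IsPGroup 2 Z)
    (h4 : Nat.card {z : Z // z ^ 2 = 1} ≤ 4) : Group.IsSolvable (MulAut Z) := by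
  haveI : Fact (Nat.Prime 2) := ⟨Nat.prime_two⟩
  let π : MulAut Z →* Equiv.Perm {z : Z // z ^ 2 = 1} :=
    { toFun := fun φ =>
        { toFun := fun z => ⟨φ z, by rw [← map_pow, z.2, map_one]⟩
          invFun := fun z => ⟨φ⁻¹ z, by rw [← map_pow, z.2, map_one]⟩
          left_inv := fun z => Subtype.ext (MulAut.inv_apply_self Z φ z)
          right_inv := fun z => Subtype.ext (MulAut.apply_inv_self Z φ z) }
      map_one' := Equiv.ext fun _ => rfl
      map_mul' := fun _ _ => Equiv.ext fun _ => rfl }
  refine isSolvable_of_hom π (isSolvable_of_odd_prime_trivial fun a r hr hr2 ha => ?_) (isSolvable_perm h4)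
  rw [← Subgroup.orderOf_coe] at ha
  have hfix : ∀ z : Z, z ^ 2 = 1 → (a : MulAut Z) z = z := fun z hz =>
    congrArg Subtype.val (Equiv.congr_fun (MonoidHom.mem_ker.1 a.2) ⟨z, hz⟩)
  have hone : (a : MulAut Z) = 1 := by
    have key : ∀ k, ∀ z : Z, z ^ 2 ^ k = 1 → (a : MulAut Z) z = z := by
      intro k
      induction k with
      | zero => intro z hz; rw [pow_zero, pow_one] at hz; rw [hz, map_one]
      | succ k ih =>
        intro z hz
        have hz2 : (a : MulAut Z) (z ^ 2) = z ^ 2 := ih _ (by rw [← pow_mul, ← pow_succ']; exact hz)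
        have hd : (z⁻¹ * (a : MulAut Z) z) ^ 2 = 1 := by
          rw [mul_pow, ← map_pow, hz2, inv_pow, inv_mul_cancel]
        have := CfsgLib.Fusion.eq_one_of_fixed_translate hZ hr hr2 (ha ▸ pow_orderOf_eq_one _)
          (hfix _ hd) (x := z) (by group)
        exact (inv_mul_eq_one.1 this).symm
    refine MulEquiv.ext fun z => ?_
    obtain ⟨k, hk⟩ := hZ z
    exact key k z hk
  rw [hone, orderOf_one] at ha
  exact hr.one_lt.ne ha

/-- The class two core of the argument. -/
theorem isSolvable_class_two {C : Type*} [Group C] [Finite C] (hC : IsPGroup 2 C)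
    (hsq : ∀ x : C, x * x ∈ Subgroup.center C) (hcomm : ∀ x y : C, x * y * x⁻¹ * y⁻¹ ∈ Subgroup.center C)
    (hinv : ∀ x : C, x * x = 1 → x ∈ Subgroup.center C) (h4 : Nat.card {x : C // x * x = 1} ≤ 4) :
    Group.IsSolvable (MulAut C) := by
  classical
  haveI : Fact (Nat.Prime 2) := ⟨Nat.prime_two⟩
  set Z := Subgroup.center C with hZdef
  have hZinv : ∀ φ : MulAut C, ∀ z ∈ Z, φ z ∈ Z := fun φ z hz =>
    Subgroup.mem_center_iff.2 fun g => by
      obtain ⟨g, rfl⟩ := φ.surjective g
      rw [← map_mul, ← map_mul, Subgroup.mem_center_iff.1 hz g]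
  have hΩ : Nat.card {z : Z // z ^ 2 = 1} ≤ 4 := le_trans (Nat.card_le_card_of_injective
    (fun z => (⟨((z.1 : Z) : C), by rw [← Subgroup.coe_mul, ← sq, z.2]; rfl⟩ : {x : C // x * x = 1}))
    (fun a b h => Subtype.ext (Subtype.ext (congrArg (fun t : {x : C // x * x = 1} => t.1) h)))) h4
  letI : CommGroup Z :=
    { (inferInstance : Group Z) with
      mul_comm := fun a b => Subtype.ext (Subgroup.mem_center_iff.1 b.2 a) }
  let R1 := restrictHom Z hZinv
  refine isSolvable_of_hom R1 ?_ (isSolvable_abelian (hC.to_subgroup Z) hΩ)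
  let bar : MulAut C →* MulAut (C ⧸ Z) :=
    { toFun := fun φ => QuotientGroup.congr Z Z φ (le_antisymm
          (Subgroup.map_le_iff_le_comap.2 fun z hz => hZinv φ z hz)
          (fun z hz => ⟨φ⁻¹ z, hZinv φ⁻¹ z hz, MulAut.apply_inv_self C φ z⟩))
      map_one' := MulEquiv.ext fun v => by
        induction v using QuotientGroup.induction_on with | _ x => rfl
      map_mul' := fun a b => MulEquiv.ext fun v => by
        induction v using QuotientGroup.induction_on with | _ x => rfl }
  let Φ : R1.ker →* MulAut (C ⧸ Z) := bar.comp R1.ker.subtype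
  refine isSolvable_of_hom Φ.rangeRestrict (isSolvable_of_odd_prime_trivial fun a r hr hr2 ha => ?_) ?_
  · rw [← Subgroup.orderOf_coe, ← Subgroup.orderOf_coe] at ha
    have hbar : ∀ x : C, x⁻¹ * ((a : R1.ker) : MulAut C) x ∈ Z := fun x => by
      have h := MulEquiv.congr_fun (congrArg Subtype.val (MonoidHom.mem_ker.1 a.2)) (x : C ⧸ Z)
      exact QuotientGroup.eq.1 h.symm
    have hone : ((a : R1.ker) : MulAut C) = 1 := MulEquiv.ext fun x => by
      have := CfsgLib.Fusion.eq_one_of_fixed_translate hC hr hr2 (ha ▸ pow_orderOf_eq_one _)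
        (restrictHom_ker (a : R1.ker).2 (hbar x)) (x := x) (by group)
      exact (inv_mul_eq_one.1 this).symm
    rw [hone, orderOf_one] at ha
    exact hr.one_lt.ne ha
  -- the quadratic map
  let S : Subgroup Z := (powMonoidHom 2 : Z →* Z).range
  have hW2 : ∀ w : Z ⧸ S, w ^ 2 = 1 := fun w => by
    induction w using QuotientGroup.induction_on with
    | _ z => rw [← QuotientGroup.mk_pow, QuotientGroup.eq_one_iff]; exact ⟨z, rfl⟩
  obtain ⟨d, L, -, hd, hL, -, -⟩ := A8Section.exists_linear_model hW2
  have hd2 : d ≤ 2 := by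
    refine (Nat.pow_le_pow_iff_right (by norm_num : 1 < 2)).1 ?_
    rw [← hd]
    show S.index ≤ 4
    have h1 := Subgroup.card_mul_index S
    have h2 := Subgroup.card_mul_index (powMonoidHom 2 : Z →* Z).ker
    rw [Subgroup.index_ker] at h2
    have h3 : Nat.card (powMonoidHom 2 : Z →* Z).ker ≤ 4 := by
      refine le_trans (le_of_eq (Nat.card_congr (Equiv.subtypeEquivRight fun z => ?_))) hΩ
      rfl
    have h5 : 0 < Nat.card S := Nat.card_pos
    have h6 : Nat.card (powMonoidHom 2 : Z →* Z).ker * Nat.card S ≤ 4 * Nat.card S :=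
      Nat.mul_le_mul_right _ h3
    rw [h2, ← h1, mul_comm (Nat.card S), ] at h6
    exact Nat.le_of_mul_le_mul_right h6 h5
  have hL1 : L 1 = 0 := by
    have := hL 1 1
    rw [mul_one] at this
    exact add_eq_left.1 this.symm
  let pad : (Fin d → ZMod 2) → ZMod 2 × ZMod 2 := fun v =>
    (if h : 0 < d then v ⟨0, h⟩ else 0, if h : 1 < d then v ⟨1, h⟩ else 0)
  let qz : Z → ZMod 2 × ZMod 2 := fun z => pad (L (z : Z ⧸ S))
  have hqz : ∀ a b : Z, qz (a * b) = qz a + qz b := fun a b => by
    show pad (L _) = _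
    rw [QuotientGroup.mk_mul, hL]
    refine Prod.ext ?_ ?_ <;> simp only [qz, pad, Prod.fst_add, Prod.snd_add, Pi.add_apply] <;>
      split <;> simp
  have hqz0 : ∀ a : Z, qz a = 0 → a ∈ S := by
    intro a ha
    rw [← QuotientGroup.eq_one_iff]
    refine L.injective ?_
    rw [hL1]
    funext i
    have h1 := congrArg Prod.fst ha
    have h2 := congrArg Prod.snd ha
    simp only [qz, pad, Prod.fst_zero, Prod.snd_zero] at h1 h2
    obtain ⟨i, hi⟩ := i
    rcases (show i = 0 ∨ i = 1 by omega) with rfl | rfl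
    · rw [dif_pos hi] at h1; exact h1
    · rw [dif_pos hi] at h2; exact h2
  let sqz : C → Z := fun x => ⟨x * x, hsq x⟩
  let cm : C → C → Z := fun x y => ⟨x * y * x⁻¹ * y⁻¹, hcomm x y⟩
  have hsqmul : ∀ x y, sqz (x * y) = sqz x * sqz y * cm y x := fun x y => by
    apply Subtype.ext
    show x * y * (x * y) = x * x * (y * y) * (y * x * y⁻¹ * x⁻¹)
    have hc := Subgroup.mem_center_iff.1 (hcomm y x)
    calc x * y * (x * y) = x * (y * x * y⁻¹ * x⁻¹) * (x * y * y) := by group
      _ = (x * ((y * x * y⁻¹ * x⁻¹) * (x * (y * y)))) := by group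
      _ = (x * ((x * (y * y)) * (y * x * y⁻¹ * x⁻¹))) := by rw [hc]
      _ = _ := by group
  have hcmmul : ∀ x y w, cm w (x * y) = cm w x * cm w y := fun x y w => by
    apply Subtype.ext
    show w * (x * y) * w⁻¹ * (x * y)⁻¹ = (w * x * w⁻¹ * x⁻¹) * (w * y * w⁻¹ * y⁻¹)
    have hc := Subgroup.mem_center_iff.1 (hcomm w y)
    calc w * (x * y) * w⁻¹ * (x * y)⁻¹
        = (w * x * w⁻¹) * (w * y * w⁻¹ * y⁻¹) * x⁻¹ := by group
      _ = (w * y * w⁻¹ * y⁻¹) * (w * x * w⁻¹) * x⁻¹ := by rw [hc]
      _ = (w * y * w⁻¹ * y⁻¹) * (w * x * w⁻¹ * x⁻¹) := by group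
      _ = _ := (hc _).symm
  let qC : C → ZMod 2 × ZMod 2 := fun x => qz (sqz x)
  have hqCmul : ∀ x y, qC (x * y) = qC x + qC y + qz (cm y x) := fun x y => by
    show qz (sqz (x * y)) = _
    rw [hsqmul, hqz, hqz]
  have hcS : ∀ z ∈ Z, ∀ x, qC (x * z) = qC x := by
    intro z hz x
    rw [hqCmul]
    have h1 : cm z x = 1 := Subtype.ext (by
      show z * x * z⁻¹ * x⁻¹ = 1
      rw [← Subgroup.mem_center_iff.1 hz x]; group)
    have hq0 : ∀ s : Z, s ∈ S → qz s = 0 := fun s hs => by
      have : (s : Z ⧸ S) = 1 := (QuotientGroup.eq_one_iff s).2 hs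
      show pad (L _) = 0
      rw [this, hL1]
      refine Prod.ext ?_ ?_ <;> simp only [pad] <;> split <;> rfl
    have hz' : qC z = 0 := hq0 _ ⟨⟨z, hz⟩, Subtype.ext (sq z)⟩
    rw [h1, hz', hq0 1 (one_mem S), add_zero, add_zero]
  let qE : C ⧸ Z → ZMod 2 × ZMod 2 := fun v => qC v.out
  have hqE : ∀ x : C, qE (x : C ⧸ Z) = qC x := fun x => by
    obtain ⟨⟨z, hz⟩, hz'⟩ := QuotientGroup.mk_out_eq_mul Z x
    show qC (Quotient.out _) = _
    rw [hz']; exact hcS z hz x
  have hE2 : ∀ v : C ⧸ Z, v ^ 2 = 1 := fun v => by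
    induction v using QuotientGroup.induction_on with
    | _ x => rw [← QuotientGroup.mk_pow, QuotientGroup.eq_one_iff, sq]; exact hsq x
  letI : CommGroup (C ⧸ Z) :=
    { (inferInstance : Group (C ⧸ Z)) with
      mul_comm := fun a b => by
        have hi : ∀ c : C ⧸ Z, c⁻¹ = c := fun c => inv_eq_of_mul_eq_one_right (by rw [← sq, hE2])
        rw [← hi (a * b), _root_.mul_inv_rev, hi, hi] }
  have hqz1 : qz 1 = 0 := by
    have := hqz 1 1
    rw [mul_one] at this
    exact add_eq_left.1 this.symm
  have hqE1 : qE 1 = 0 := by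
    have := hqE 1
    rw [QuotientGroup.mk_one] at this
    rw [this]
    show qz (sqz 1) = 0
    rw [show sqz 1 = 1 from Subtype.ext (one_mul 1), hqz1]
  have hquad : ∀ u v w : C ⧸ Z, qE (u * v * w) + qE (u * v) + qE (u * w) + qE (v * w) + qE u + qE v + qE w
      + qE 1 = 0 := by
    intro u v w
    induction u using QuotientGroup.induction_on with
    | _ x =>
    induction v using QuotientGroup.induction_on with
    | _ y =>
    induction w using QuotientGroup.induction_on with
    | _ t =>
      rw [hqE1, ← QuotientGroup.mk_mul, ← QuotientGroup.mk_mul, ← QuotientGroup.mk_mul, ← QuotientGroup.mk_mul,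
        hqE, hqE, hqE, hqE, hqE, hqE, hqE, hqCmul (x * y) t, hqCmul x y, hqCmul x t, hqCmul y t,
        hcmmul x y t, hqz]
      have h2 := pair_self
      linear_combination (norm := abel) h2 (qC x) + h2 (qC x) + h2 (qC y) + h2 (qC y) + h2 (qC t) + h2 (qC t) +
        h2 (qz (cm y x)) + h2 (qz (cm t x)) + h2 (qz (cm t y))
  refine isSolvable_of_anisotropic hE2 qE hqE1 (quad_deg fun u v w => ?_) (quad_deg fun u v w => ?_)
    (fun v => ?_) Φ.range (fun a ha v => ?_)
  · simpa using congrArg Prod.fst (hquad u v w)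
  · simpa using congrArg Prod.snd (hquad u v w)
  · induction v using QuotientGroup.induction_on with
    | _ x =>
      intro hx
      rw [hqE] at hx
      obtain ⟨w, hw⟩ := hqz0 _ hx
      have hw' : (w : C) * w = x * x := by
        have := congrArg Subtype.val hw
        simpa [sqz, sq] using this
      have hwc := Subgroup.mem_center_iff.1 w.2
      have h1 : x * (w : C)⁻¹ * (x * (w : C)⁻¹) = 1 := by
        calc x * (w : C)⁻¹ * (x * (w : C)⁻¹) = x * ((w : C)⁻¹ * x) * (w : C)⁻¹ := by group
          _ = x * (x * (w : C)⁻¹) * (w : C)⁻¹ := by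
            rw [Subgroup.mem_center_iff.1 (inv_mem w.2) x]
          _ = (x * x) * ((w : C) * w)⁻¹ := by group
          _ = 1 := by rw [hw', mul_inv_cancel]
      rw [QuotientGroup.eq_one_iff]
      have := mul_mem (hinv _ h1) w.2
      rwa [inv_mul_cancel_right] at this
  · obtain ⟨⟨φ, hφ⟩, rfl⟩ := ha
    induction v using QuotientGroup.induction_on with
    | _ x =>
      show qE ((φ x : C) : C ⧸ Z) = qE (x : C ⧸ Z)
      rw [hqE, hqE]
      show qz (sqz (φ x)) = qz (sqz x)
      congr 1
      refine Subtype.ext ?_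
      show φ x * φ x = x * x
      rw [← map_mul]
      exact restrictHom_ker hφ (hsq x)

/-- The automorphism group of a `2`-group with three involutions is solvable. -/
theorem main {X : Type*} [Group X] [Finite X] (h2 : IsPGroup 2 X)
    (h3 : Nat.card {x : X // orderOf x = 2} = 3) : Group.IsSolvable (MulAut X) := by
  classical
  haveI : Fact (Nat.Prime 2) := ⟨Nat.prime_two⟩
  have hI : ∀ x : X, orderOf x = 2 ↔ x * x = 1 ∧ x ≠ 1 := fun x => by
    rw [orderOf_eq_prime_iff, sq]
  have hc4 : Nat.card {x : X // x * x = 1} = 4 := by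
    haveI := Fintype.ofFinite X
    rw [Nat.card_eq_fintype_card, Fintype.card_subtype] at h3 ⊢
    have h1 : (1 : X) ∈ Finset.univ.filter fun x : X => x * x = 1 := by simp
    rw [← Finset.card_erase_add_one h1]
    have he : (Finset.univ.filter fun x : X => x * x = 1).erase 1 =
        Finset.univ.filter fun x : X => orderOf x = 2 := by
      ext x; simp [hI, and_comm]
    rw [he, h3]
  have hcommute : ∀ a b : X, a * a = 1 → b * b = 1 → a * b = b * a := by
    intro a b ha hb
    by_contra hab
    have hinv : ∀ c : X, c * c = 1 → c⁻¹ = c := fun c hc => inv_eq_of_mul_eq_one_right hc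
    have hna : a ≠ 1 := fun h => hab (by rw [h, one_mul, mul_one])
    have hnb : b ≠ 1 := fun h => hab (by rw [h, one_mul, mul_one])
    have hne : a ≠ b := fun h => hab (by rw [h])
    have hinvol : ∀ a b : X, a * a = 1 → b * b = 1 → a * b ≠ b * a →
        (a * b * a) * (a * b * a) = 1 ∧ a * b * a ≠ 1 ∧ a * b * a ≠ a ∧ a * b * a ≠ b := by
      intro a b ha hb hab
      have hbb : b ≠ 1 := fun h => hab (by rw [h, one_mul, mul_one])
      have e1 : (a * b * a) * (a * b * a) = a * b * (a * a) * b * a := by group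
      refine ⟨by rw [e1, ha, mul_one, mul_assoc a, hb, mul_one, ha], fun h => hbb ?_, fun h => hab ?_, fun h => hab ?_⟩
      · calc b = (a * a) * b * (a * a) := by rw [ha, one_mul, mul_one]
          _ = a * (a * b * a) * a := by group
          _ = 1 := by rw [h, mul_one, ha]
      · have : b * a = 1 := by
          calc b * a = (a * a) * b * a := by rw [ha, one_mul]
            _ = a * (a * b * a) := by group
            _ = 1 := by rw [h, ha]
        have hba : b = a⁻¹ := eq_inv_of_mul_eq_one_left this
        rw [hba]; group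
      · calc a * b = a * b * (a * a) := by rw [ha, mul_one]
          _ = (a * b * a) * a := by group
          _ = b * a := by rw [h]
    obtain ⟨hc, hc1, hca, hcb⟩ := hinvol a b ha hb hab
    obtain ⟨hd, hd1, hdb, hda⟩ := hinvol b a hb ha (Ne.symm hab)
    have hcd : a * b * a ≠ b * a * b := by
      intro h
      have h3' : (a * b) ^ 3 = 1 := by
        calc (a * b) ^ 3 = (a * b * a) * (b * a * b) := by rw [pow_succ, sq]; group
          _ = (a * b * a) * (a * b * a) := by rw [h]
          _ = 1 := hc
      obtain ⟨k, hk⟩ := h2 (a * b)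
      have h1 : a * b = 1 := orderOf_eq_one_iff.1 (Nat.eq_one_of_dvd_coprimes
        ((by norm_num : Nat.Coprime 3 2).pow_right k) (orderOf_dvd_of_pow_eq_one h3') (orderOf_dvd_of_pow_eq_one hk))
      exact hne (by rw [← hinv b hb]; exact eq_inv_of_mul_eq_one_left h1)
    let f : Fin 5 → {x : X // x * x = 1} :=
      ![⟨1, one_mul 1⟩, ⟨a, ha⟩, ⟨b, hb⟩, ⟨a * b * a, hc⟩, ⟨b * a * b, hd⟩]
    have hf : Function.Injective f := by
      intro i j h
      have h' := congrArg (fun t : {x : X // x * x = 1} => t.1) h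
      fin_cases i <;> fin_cases j <;> first
        | rfl
        | (simp only [f, Fin.mk_one, Fin.isValue, Matrix.cons_val] at h'; exfalso
           first
            | exact hna h' | exact hna h'.symm | exact hnb h' | exact hnb h'.symm
            | exact hne h' | exact hne h'.symm | exact hc1 h' | exact hc1 h'.symm
            | exact hca h' | exact hca h'.symm | exact hcb h' | exact hcb h'.symm
            | exact hd1 h' | exact hd1 h'.symm | exact hda h' | exact hda h'.symm
            | exact hdb h' | exact hdb h'.symm | exact hcd h' | exact hcd h'.symm)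
    have := Nat.card_le_card_of_injective f hf
    rw [Nat.card_fin, hc4] at this
    omega
  let Y : Subgroup X := Subgroup.centralizer {x : X | x * x = 1}
  have hYinv : ∀ φ : MulAut X, ∀ y ∈ Y, φ y ∈ Y := by
    intro φ y hy
    refine Subgroup.mem_centralizer_iff.2 fun x hx => ?_
    obtain ⟨x, rfl⟩ := φ.surjective x
    have hx' : x * x = 1 := φ.injective (by rw [map_mul, map_one]; exact hx)
    rw [← map_mul, ← map_mul, Subgroup.mem_centralizer_iff.1 hy x hx']
  have hYidx : Y.index ≤ 2 := by
    let I := {x : X // orderOf x = 2}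
    let π : X →* Equiv.Perm I :=
      { toFun := fun g => (MulAut.conj g).toEquiv.subtypeEquiv fun x => by
          show orderOf x = 2 ↔ orderOf (MulAut.conj g x) = 2
          rw [MulEquiv.orderOf_eq]
        map_one' := Equiv.ext fun x => Subtype.ext (by
          show MulAut.conj (1 : X) x.1 = x.1
          rw [map_one]; rfl)
        map_mul' := fun g h => Equiv.ext fun x => Subtype.ext (by
          show MulAut.conj (g * h) x.1 = MulAut.conj g (MulAut.conj h x.1)
          rw [map_mul]; rfl) }
    have hker : π.ker ≤ Y := by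
      intro g hg
      refine Subgroup.mem_centralizer_iff.2 fun x hx => ?_
      by_cases hx1 : x = 1
      · rw [hx1, one_mul, mul_one]
      have h : g * x * g⁻¹ = x := congrArg Subtype.val
        (Equiv.congr_fun (MonoidHom.mem_ker.1 hg) ⟨x, (hI x).2 ⟨hx, hx1⟩⟩)
      exact (mul_inv_eq_iff_eq_mul.1 h).symm
    refine le_trans (Nat.le_of_dvd (Nat.pos_of_ne_zero Subgroup.index_ne_zero_of_finite)
      (Subgroup.index_dvd_of_le hker)) ?_
    rw [Subgroup.index_ker]
    obtain ⟨k, hk⟩ := (h2.of_surjective π.rangeRestrict π.rangeRestrict_surjective).exists_card_eq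
    have hd := Subgroup.card_subgroup_dvd_card π.range
    rw [Nat.card_perm, h3, hk] at hd
    rw [hk]
    rcases Nat.lt_or_ge k 2 with h | h
    · interval_cases k <;> norm_num
    · exfalso
      have := (pow_dvd_pow 2 h).trans hd
      norm_num [Nat.factorial] at this
  let R := restrictHom Y hYinv
  refine isSolvable_of_hom R (Group.isSolvable_of_comm fun a b => Subtype.ext (MulEquiv.ext fun g => ?_)) ?_
  · by_cases hg : g ∈ Y
    · show (a : MulAut X) ((b : MulAut X) g) = (b : MulAut X) ((a : MulAut X) g)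
      rw [restrictHom_ker b.2 hg, restrictHom_ker a.2 hg, restrictHom_ker b.2 hg]
    have hidx : Y.index = 2 := by
      have h0 := Subgroup.index_ne_zero_of_finite (H := Y)
      have h1 : Y.index ≠ 1 := fun h => hg ((Subgroup.index_eq_one.1 h) ▸ Subgroup.mem_top g)
      omega
    haveI : Y.Normal := Subgroup.normal_of_index_eq_two hidx
    have key : ∀ c : R.ker, g⁻¹ * (c : MulAut X) g ∈ Y ∧
        ∀ y ∈ Y, (g⁻¹ * (c : MulAut X) g) * y = y * (g⁻¹ * (c : MulAut X) g) := by
      intro c
      have hcg : (c : MulAut X) g ∉ Y := fun h => hg (by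
        have := hYinv (c : MulAut X)⁻¹ _ h
        rwa [MulAut.inv_apply_self] at this)
      refine ⟨?_, fun y hy => ?_⟩
      · rw [Subgroup.mul_mem_iff_of_index_two hidx, inv_mem_iff]
        exact ⟨fun h => absurd h hg, fun h => absurd h hcg⟩
      · have hconj : g * y * g⁻¹ ∈ Y := Subgroup.Normal.conj_mem inferInstance y hy g
        have h := restrictHom_ker c.2 hconj
        rw [map_mul, map_mul, map_inv, restrictHom_ker c.2 hy] at h
        calc g⁻¹ * (c : MulAut X) g * y = g⁻¹ * ((c : MulAut X) g * y * ((c : MulAut X) g)⁻¹) * (c : MulAut X) g := by group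
          _ = g⁻¹ * (g * y * g⁻¹) * (c : MulAut X) g := by rw [h]
          _ = y * (g⁻¹ * (c : MulAut X) g) := by group
    have hab : ∀ c c' : R.ker, (c : MulAut X) ((c' : MulAut X) g) =
        g * ((g⁻¹ * (c : MulAut X) g) * (g⁻¹ * (c' : MulAut X) g)) := by
      intro c c'
      obtain ⟨h1, -⟩ := key c'
      calc (c : MulAut X) ((c' : MulAut X) g) = (c : MulAut X) (g * (g⁻¹ * (c' : MulAut X) g)) := by
            rw [mul_inv_cancel_left]
        _ = (c : MulAut X) g * (g⁻¹ * (c' : MulAut X) g) := by rw [map_mul, restrictHom_ker c.2 h1]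
        _ = _ := by group
    show (a : MulAut X) ((b : MulAut X) g) = (b : MulAut X) ((a : MulAut X) g)
    rw [hab, hab, (key a).2 _ (key b).1]
  -- the centralizer of the involutions
  have hYp : IsPGroup 2 Y := h2.to_subgroup Y
  have hYinvol : ∀ y : Y, y * y = 1 → y ∈ Subgroup.center Y := fun y hy =>
    Subgroup.mem_center_iff.2 fun u => Subtype.ext
      (Subgroup.mem_centralizer_iff.1 u.2 (y : X) (congrArg Subtype.val hy)).symm
  have hY4 : Nat.card {y : Y // y * y = 1} ≤ 4 := by
    refine le_trans (Nat.card_le_card_of_injective (fun y => (⟨(y.1 : X), congrArg Subtype.val y.2⟩ : {x : X // x * x = 1}))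
      (fun a b h => Subtype.ext (Subtype.ext (congrArg (fun t : {x : X // x * x = 1} => t.1) h)))) hc4.le
  obtain ⟨H, hHc, hpow, hcomm, hcen⟩ := CfsgLib.Transfer.exists_critical hYp
  haveI := hHc
  have hHinv : ∀ φ : MulAut Y, ∀ y ∈ H, φ y ∈ H := fun φ y hy =>
    Subgroup.characteristic_iff_map_le.1 hHc φ ⟨y, hy, rfl⟩
  refine isSolvable_of_hom (restrictHom H hHinv) (isSolvable_of_odd_prime_trivial fun a r hr hr2 ha => ?_) ?_
  · rw [← Subgroup.orderOf_coe] at ha
    have := CfsgLib.Transfer.aut_eq_one_of_fix_normal hYp H hcen (a : MulAut Y)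
      (by rw [ha]; exact (Nat.coprime_primes hr Nat.prime_two).2 hr2) (fun x hx => restrictHom_ker a.2 hx)
    rw [this, orderOf_one] at ha
    exact hr.one_lt.ne ha
  refine isSolvable_class_two (hYp.to_subgroup H) (fun x => ?_) (fun x y => ?_) (fun x hx => ?_) ?_
  · refine Subgroup.mem_center_iff.2 fun u => Subtype.ext ?_
    have := (hpow x x.2).2
    rw [sq] at this
    exact Subgroup.mem_centralizer_iff.1 this u u.2
  · refine Subgroup.mem_center_iff.2 fun u => Subtype.ext ?_
    exact Subgroup.mem_centralizer_iff.1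
      (hcomm (Subgroup.commutator_mem_commutator x.2 (Subgroup.mem_top (y : Y)))).2 u u.2
  · refine Subgroup.mem_center_iff.2 fun u => Subtype.ext ?_
    exact Subgroup.mem_center_iff.1 (hYinvol x (congrArg Subtype.val hx)) u
  · exact le_trans (Nat.card_le_card_of_injective (fun x => (⟨(x.1 : Y), congrArg Subtype.val x.2⟩ : {y : Y // y * y = 1}))
      (fun a b h => Subtype.ext (Subtype.ext (congrArg (fun t : {y : Y // y * y = 1} => t.1) h)))) hY4

end CfsgLib.InvolChar.ThreeInvolutions
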