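import Mathlib

/-!
The transfer into a group of order two, evaluated orbit by orbit for a subgroup normalized by the
element at which it is evaluated.
-/

set_option autoImplicit false
set_option linter.style.haveILetI false
set_option linter.unusedSectionVars false

namespace CfsgLib.InvolChar.OrbitTransfer

open Subgroup

variable {G : Type*} [Group G] [Finite G] {H : Subgroup G}

/-- The additive character of `H`, extended arbitrarily. -/
def Additive' (H : Subgroup G) (χ : G → ZMod 2) : Prop := ∀ a ∈ H, ∀ b ∈ H, χ (a * b) = χ a + χ b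

theorem map_one' {χ : G → ZMod 2} (hχ : Additive' H χ) : χ 1 = 0 := by
  have h := hχ 1 (one_mem H) 1 (one_mem H)
  rw [mul_one] at h
  exact left_eq_add.1 h

theorem map_inv' {χ : G → ZMod 2} (hχ : Additive' H χ) {a : G} (ha : a ∈ H) : χ a⁻¹ = χ a := by
  have h := hχ a ha a⁻¹ (inv_mem ha)
  rw [mul_inv_cancel, map_one' hχ] at h
  rw [eq_neg_of_add_eq_zero_right h.symm, ZMod.neg_eq_self_mod_two]

theorem conj' {χ : G → ZMod 2} (hχ : Additive' H χ) {h a : G} (hh : h ∈ H) (ha : a ∈ H) :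
    χ (h * a * h⁻¹) = χ a := by
  rw [hχ _ (mul_mem hh ha) _ (inv_mem hh), hχ _ hh _ ha, map_inv' hχ hh]
  have : ∀ u v : ZMod 2, u + v + u = v := by decide
  exact this _ _

/-- The twisted value at a coset. -/
def kappa (χ : G → ZMod 2) (r : G ⧸ H → G) (x : G) (c : G ⧸ H) : ZMod 2 :=
  χ ((r (x • c))⁻¹ * x * r c)

theorem mem_kappa {r : G ⧸ H → G} (hr : ∀ c, (r c : G ⧸ H) = c) (x : G) (c : G ⧸ H) :
    (r (x • c))⁻¹ * x * r c ∈ H := by
  rw [mul_assoc, ← QuotientGroup.eq, hr]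
  conv_lhs => rw [← hr c]
  rfl

/-- The sum of the twisted values vanishes when there is no nontrivial map to the group of order two. -/
theorem sum_kappa_eq_zero [Fintype (G ⧸ H)] (hno : ∀ f : G →* Multiplicative (ZMod 2), ∀ g, f g = 1)
    {χ : G → ZMod 2} (hχ : Additive' H χ) {r : G ⧸ H → G} (hr : ∀ c, (r c : G ⧸ H) = c) (x : G) :
    ∑ c, kappa χ r x c = 0 := by
  let f : G →* Multiplicative (ZMod 2) := MonoidHom.mk'
    (fun x => Multiplicative.ofAdd (∑ c, kappa χ r x c)) (fun a b => by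
      rw [← ofAdd_add]
      congr 1
      rw [← Equiv.sum_comp (MulAction.toPerm b) (fun c => kappa χ r a c), ← Finset.sum_add_distrib]
      refine Finset.sum_congr rfl fun c _ => ?_
      show kappa χ r (a * b) c = kappa χ r a (b • c) + kappa χ r b c
      have e : (r ((a * b) • c))⁻¹ * (a * b) * r c =
          ((r (a • b • c))⁻¹ * a * r (b • c)) * ((r (b • c))⁻¹ * b * r c) := by
        rw [mul_smul]; group
      rw [kappa, e, hχ _ (mem_kappa hr a (b • c)) _ (mem_kappa hr b c)]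
      rfl)
  exact Multiplicative.ofAdd.injective (hno f x)

theorem two_dvd_fiber {ι : Type*} [DecidableEq ι] (S : Finset ι) (f : ι → ZMod 2) (σ : ι → ι)
    (hσ : ∀ c ∈ S, σ c ∈ S) (hσσ : ∀ c ∈ S, σ (σ c) = c) (hf : ∀ c ∈ S, f (σ c) = f c + 1)
    (h4 : 4 ∣ S.card) : ∑ c ∈ S, f c = 0 := by
  classical
  set S1 := S.filter (fun c => f c = 1)
  set S0 := S.filter (fun c => ¬ f c = 1)
  have hc : S1.card = S0.card := by
    refine Finset.card_nbij' σ σ ?_ ?_ ?_ ?_
    · intro c hc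
      simp only [S1, S0, Finset.coe_filter, Set.mem_setOf_eq] at hc ⊢
      refine ⟨hσ c hc.1, ?_⟩
      rw [hf c hc.1, hc.2]; decide
    · intro c hc
      simp only [S1, S0, Finset.coe_filter, Set.mem_setOf_eq] at hc ⊢
      refine ⟨hσ c hc.1, ?_⟩
      rw [hf c hc.1]
      have : ∀ u : ZMod 2, ¬ u = 1 → u + 1 = 1 := by decide
      exact this _ hc.2
    · intro c hc
      simp only [S1, Finset.coe_filter, Set.mem_setOf_eq] at hc
      exact hσσ c hc.1
    · intro c hc
      simp only [S0, Finset.coe_filter, Set.mem_setOf_eq] at hc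
      exact hσσ c hc.1
  have ht : S1.card + S0.card = S.card := Finset.card_filter_add_card_filter_not _
  have hsum : ∑ c ∈ S, f c = (S1.card : ZMod 2) := by
    have : ∀ u : ZMod 2, u = if u = 1 then 1 else 0 := by decide
    rw [Finset.sum_congr rfl (fun c _ => this (f c)), Finset.sum_boole]
  rw [hsum, ZMod.natCast_eq_zero_iff_even, even_iff_two_dvd]
  obtain ⟨m, hm⟩ := h4
  omega

/-- The orbit of a coset under a subgroup. -/
def orb (A : Subgroup G) (c : G ⧸ H) : Set (G ⧸ H) := {d | ∃ a ∈ A, a • c = d}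

/-- Sections on an invariant set of cosets with vanishing total twisted value. -/
theorem exists_section {χ : G → ZMod 2} (hχ : Additive' H χ) {x : G} (A : Subgroup G)
    (hxA : ∀ a, x * a * x⁻¹ ∈ A ↔ a ∈ A) (S : Finset (G ⧸ H)) (hAS : ∀ a ∈ A, ∀ c ∈ S, a • c ∈ S)
    (hxS : ∀ c, x • c ∈ S ↔ c ∈ S)
    (ω : G ⧸ H → G → ZMod 2)
    (hω : ∀ c ∈ S, ∀ a ∈ A, ∀ a' ∈ A, ω c (a * a') = ω c a + ω c a')
    (hωv : ∀ c ∈ S, ∀ a ∈ A, a • c = c → ω c a = χ (c.out⁻¹ * a * c.out))
    (hω0 : ∀ c ∈ S, (∀ a ∈ A, a • c = c → χ (c.out⁻¹ * a * c.out) = 0) → ∀ a ∈ A, ω c a = 0)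
    (heven : ∀ c ∈ S, 2 ∣ Nat.card (orb A c))
    (hbig : ∀ c ∈ S, ∀ a ∈ A, ω c a ≠ 0 → 4 ∣ Nat.card (orb A c) ∧
      ∀ b ∈ A, ∀ d ∈ orb A c, b • b • d = d) :
    ∃ r : G ⧸ H → G, (∀ c, (r c : G ⧸ H) = c) ∧ ∑ c ∈ S, kappa χ r x c = 0 := by
  classical
  haveI := Fintype.ofFinite (G ⧸ H)
  let st : Setoid (G ⧸ H) :=
    { r := fun c d => ∃ a ∈ A, a • c = d
      iseqv := ⟨fun c => ⟨1, one_mem A, one_smul G c⟩, fun {c d} ⟨a, ha, h⟩ =>
        ⟨a⁻¹, inv_mem ha, by rw [← h, inv_smul_smul]⟩, fun {c d e} ⟨a, ha, h⟩ ⟨a', ha', h'⟩ =>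
        ⟨a' * a, mul_mem ha' ha, by rw [mul_smul, h, h']⟩⟩ }
  let b : G ⧸ H → G ⧸ H := fun c => (Quotient.mk st c).out
  have hb : ∀ c, ∃ a ∈ A, a • b c = c := fun c => Quotient.mk_out (s := st) c
  have hbeq : ∀ c d, (∃ a ∈ A, a • c = d) → b c = b d := fun c d h =>
    congrArg Quotient.out (Quotient.sound h : Quotient.mk st c = Quotient.mk st d)
  choose s hsA hs using hb
  have hbb : ∀ c, b (b c) = b c := fun c => hbeq _ _ ⟨s c, hsA c, hs c⟩
  have hbS : ∀ c, c ∈ S → b c ∈ S := fun c hc => by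
    have e : b c = (s c)⁻¹ • c := eq_inv_smul_iff.2 (hs c)
    rw [e]; exact hAS _ (inv_mem (hsA c)) c hc
  let r : G ⧸ H → G := fun c => s c * (b c).out
  have hr : ∀ c, (r c : G ⧸ H) = c := fun c => by
    conv_rhs => rw [← hs c, ← QuotientGroup.out_eq' (b c)]
    rfl
  refine ⟨r, hr, ?_⟩
  let δ : G ⧸ H → ZMod 2 := fun c => ω (b c) (s c)
  -- the correction term
  have hxb : ∀ c, b (x • b c) = b (x • c) := fun c => hbeq _ _ ⟨x * s c * x⁻¹, (hxA _).2 (hsA c), by
    rw [mul_smul, mul_smul, inv_smul_smul, hs]⟩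
  let η : G ⧸ H → G → ZMod 2 := fun c a => ω (b (x • c)) (x * a * x⁻¹) + ω c a
  let C : G ⧸ H → ZMod 2 := fun c =>
    ω (b (x • c)) (s (x • c)) + χ ((r (x • c))⁻¹ * x * c.out)
  have hsub : ∀ u v : ZMod 2, u + v + v = u := by decide
  have key : ∀ c ∈ S, kappa χ r x c + δ (x • c) + δ c = η (b c) (s c) + C (b c) := by
    intro c hc
    set B := b c with hB
    have hBS : B ∈ S := hbS c hc
    set B' := b (x • c) with hB'
    have hB'S : B' ∈ S := hbS _ ((hxS c).2 hc)
    have hxB : b (x • B) = B' := hxb c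
    set f := s (x • B)
    have hfA : f ∈ A := hsA _
    have hf : f • B' = x • B := by rw [← hxB]; exact hs _
    set h := (r (x • B))⁻¹ * x * B.out with hh
    have hhH : h ∈ H := by
      rw [hh, mul_assoc, ← QuotientGroup.eq, hr]
      conv_lhs => rw [← QuotientGroup.out_eq' B]
      rfl
    set w := x * s c * x⁻¹ with hw
    have hwA : w ∈ A := (hxA _).2 (hsA c)
    set q := (s (x • c))⁻¹ * (w * f) with hq
    have hqA : q ∈ A := mul_mem (inv_mem (hsA _)) (mul_mem hwA hfA)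
    have hqB : q • B' = B' := by
      rw [hq, mul_smul, mul_smul, hf, hw, mul_smul, mul_smul, inv_smul_smul, hs, inv_smul_eq_iff]
      exact (hs (x • c)).symm
    have hqH : B'.out⁻¹ * q * B'.out ∈ H := by
      rw [mul_assoc, ← QuotientGroup.eq, QuotientGroup.out_eq']
      conv_lhs => rw [← hqB, ← QuotientGroup.out_eq' B']
      rfl
    have e : (r (x • c))⁻¹ * x * r c = (B'.out⁻¹ * q * B'.out) * h := by
      show (s (x • c) * B'.out)⁻¹ * x * (s c * B.out) =
        (B'.out⁻¹ * ((s (x • c))⁻¹ * (x * s c * x⁻¹ * f)) * B'.out) * ((f * (b (x • B)).out)⁻¹ * x * B.out)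
      rw [hxB]
      group
    have h1 : kappa χ r x c = ω B' q + χ h := by
      rw [kappa, e, hχ _ hqH _ hhH, ← hωv B' hB'S q hqA hqB]
    have h2 : ω B' (s (x • c)) + ω B' q = ω B' w + ω B' f := by
      rw [← hω B' hB'S _ (hsA _) _ hqA, hq, mul_inv_cancel_left, hω B' hB'S _ hwA _ hfA]
    show kappa χ r x c + ω B' (s (x • c)) + ω B (s c) =
      (ω (b (x • B)) (x * s c * x⁻¹) + ω B (s c)) + (ω (b (x • B)) (s (x • B)) + χ h)
    rw [h1, hxB]
    linear_combination h2
  have hδ : ∑ c ∈ S, (δ (x • c) + δ c) = 0 := by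
    rw [Finset.sum_add_distrib]
    have : ∑ c ∈ S, δ (x • c) = ∑ c ∈ S, δ c :=
      Finset.sum_bij (fun c _ => x • c) (fun c hc => (hxS c).2 hc) (fun c _ d _ h => smul_left_cancel x h)
        (fun d hd => ⟨x⁻¹ • d, by rw [← hxS, smul_inv_smul]; exact hd, smul_inv_smul x d⟩) (fun c _ => rfl)
    rw [this]
    have : ∀ u : ZMod 2, u + u = 0 := by decide
    exact this _
  have htot : ∑ c ∈ S, kappa χ r x c = ∑ c ∈ S, (η (b c) (s c) + C (b c)) := by
    rw [← Finset.sum_congr rfl key]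
    have : ∑ c ∈ S, (kappa χ r x c + δ (x • c) + δ c) = ∑ c ∈ S, kappa χ r x c + ∑ c ∈ S, (δ (x • c) + δ c) := by
      rw [← Finset.sum_add_distrib]
      exact Finset.sum_congr rfl fun c _ => add_assoc _ _ _
    rw [this, hδ, add_zero]
  rw [htot, ← Finset.sum_fiberwise_of_maps_to (g := b) (fun c hc => hbS c hc)]
  refine Finset.sum_eq_zero fun B hBS => ?_
  set F := S.filter (fun c => b c = B) with hF
  by_cases hFe : F = ∅
  · rw [hFe, Finset.sum_empty]
  obtain ⟨c0, hc0⟩ := Finset.nonempty_iff_ne_empty.2 hFe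
  obtain ⟨hc0S, hc0B⟩ := Finset.mem_filter.1 hc0
  have hBb : b B = B := by rw [← hc0B, hbb]
  have hFcard : F.card = Nat.card (orb A B) := by
    rw [← Set.ncard_coe_finset F, ← Nat.card_coe_set_eq]
    refine Nat.card_congr (Equiv.subtypeEquivRight fun d => ?_)
    simp only [hF, Finset.coe_filter, Set.mem_setOf_eq]
    constructor
    · rintro ⟨-, e⟩
      exact ⟨s d, hsA d, by rw [← e]; exact hs d⟩
    · rintro ⟨a, ha, rfl⟩
      exact ⟨hAS a ha B hBS, by rw [← hbeq B (a • B) ⟨a, ha, rfl⟩, hBb]⟩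
  rw [Finset.sum_congr rfl (fun c hc => show η (b c) (s c) + C (b c) = η B (s c) + C B by
    rw [(Finset.mem_filter.1 hc).2]), Finset.sum_add_distrib, Finset.sum_const]
  obtain ⟨m, hm⟩ := heven B hBS
  rw [hFcard, hm, mul_smul, two_nsmul, show ∀ u : ZMod 2, u + u = 0 by decide, add_zero]
  -- the linear part
  have hB'S : b (x • B) ∈ S := hbS _ ((hxS B).2 hBS)
  have hηadd : ∀ a ∈ A, ∀ a' ∈ A, η B (a * a') = η B a + η B a' := by
    intro a ha a' ha'
    show ω _ (x * (a * a') * x⁻¹) + ω B (a * a') = _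
    rw [show x * (a * a') * x⁻¹ = (x * a * x⁻¹) * (x * a' * x⁻¹) by group,
      hω _ hB'S _ ((hxA a).2 ha) _ ((hxA a').2 ha'), hω B hBS a ha a' ha']
    show _ = ω _ _ + ω B a + (ω _ _ + ω B a')
    ring
  have hηP : ∀ p ∈ A, p • B = B → η B p = 0 := by
    intro p hp hpB
    show ω (b (x • B)) (x * p * x⁻¹) + ω B p = 0
    set B' := b (x • B)
    set f := s (x • B)
    have hfA : f ∈ A := hsA _
    have hf : f • B' = x • B := hs _
    set w := x * p * x⁻¹ with hw
    have hwA : w ∈ A := (hxA p).2 hp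
    set h := (r (x • B))⁻¹ * x * B.out with hh
    have hhH : h ∈ H := by
      rw [hh, mul_assoc, ← QuotientGroup.eq, hr]
      conv_lhs => rw [← QuotientGroup.out_eq' B]
      rfl
    set q := f⁻¹ * w * f with hq
    have hqA : q ∈ A := mul_mem (mul_mem (inv_mem hfA) hwA) hfA
    have hqB : q • B' = B' := by
      rw [hq, mul_smul, mul_smul, hf, hw, mul_smul, mul_smul, inv_smul_smul, hpB, inv_smul_eq_iff, hf]
    have hpH : B.out⁻¹ * p * B.out ∈ H := by
      rw [mul_assoc, ← QuotientGroup.eq, QuotientGroup.out_eq']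
      conv_lhs => rw [← hpB, ← QuotientGroup.out_eq' B]
      rfl
    have h2 : ω B' q = ω B' w := by
      have h3 := hω B' hB'S _ hfA q hqA
      rw [show f * q = w * f by rw [hq]; group, hω B' hB'S _ hwA _ hfA] at h3
      linear_combination -h3
    rw [← h2, hωv B' hB'S q hqA hqB, hωv B hBS p hp hpB]
    have e : B'.out⁻¹ * q * B'.out = h * (B.out⁻¹ * p * B.out) * h⁻¹ := by
      show B'.out⁻¹ * (f⁻¹ * (x * p * x⁻¹) * f) * B'.out =
        ((f * B'.out)⁻¹ * x * B.out) * (B.out⁻¹ * p * B.out) * ((f * B'.out)⁻¹ * x * B.out)⁻¹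
      group
    rw [e, conj' hχ hhH hpH]
    exact (show ∀ u : ZMod 2, u + u = 0 by decide) _
  by_cases hz : ∀ a ∈ A, η B a = 0
  · exact Finset.sum_eq_zero fun c _ => hz _ (hsA c)
  push Not at hz
  obtain ⟨a, ha, hηa⟩ := hz
  have hbig' : 4 ∣ Nat.card (orb A B) ∧ ∀ u ∈ A, ∀ d ∈ orb A B, u • u • d = d := by
    by_cases h0 : ∀ u ∈ A, ω B u = 0
    · exfalso
      have h0' : ∀ u ∈ A, ω (b (x • B)) u = 0 := by
        refine hω0 _ hB'S fun u hu huB => ?_
        rw [← hωv _ hB'S u hu huB]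
        -- transport back to `B`
        set f := s (x • B)
        set w := f * u * f⁻¹ with hw
        have hwA : w ∈ A := mul_mem (mul_mem (hsA _) hu) (inv_mem (hsA _))
        set p := x⁻¹ * w * x with hp
        have hpA : p ∈ A := by rw [← hxA]; simpa [hp, mul_assoc] using hwA
        have hwB : w • x • B = x • B := by
          have : f • b (x • B) = x • B := hs _
          rw [hw, ← this, mul_smul, mul_smul, inv_smul_smul, huB]
        have hpB : p • B = B := by
          rw [hp, mul_smul, mul_smul, hwB, inv_smul_smul]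
        have h4 := hηP p hpA hpB
        simp only [η] at h4
        rw [h0 p hpA, add_zero, show x * p * x⁻¹ = w by rw [hp]; group, hw,
          show f * u * f⁻¹ = (f * u) * f⁻¹ from rfl, hω _ hB'S _ (mul_mem (hsA _) hu) _ (inv_mem (hsA _)),
          hω _ hB'S _ (hsA _) _ hu] at h4
        have h5 := hω _ hB'S _ (hsA (x • B)) _ (inv_mem (hsA (x • B)))
        have h6 := hω _ hB'S 1 (one_mem A) 1 (one_mem A)
        rw [mul_one] at h6
        rw [mul_inv_cancel] at h5
        linear_combination h4 + h5 + h6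
      exact hηa (by show ω _ _ + ω B a = 0; rw [h0 a ha, h0' _ ((hxA a).2 ha), add_zero])
    · push Not at h0
      obtain ⟨u, hu, hu0⟩ := h0
      exact hbig B hBS u hu hu0
  have hη1 : η B a = 1 := ((show ∀ u : ZMod 2, u = 0 ∨ u = 1 by decide) _).resolve_left hηa
  refine two_dvd_fiber F _ (fun c => a • c) (fun c hc => ?_) (fun c hc => ?_) (fun c hc => ?_) ?_
  · obtain ⟨hcS, hcB⟩ := Finset.mem_filter.1 hc
    exact Finset.mem_filter.2 ⟨hAS a ha c hcS, by rw [← hbeq c (a • c) ⟨a, ha, rfl⟩, hcB]⟩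
  · obtain ⟨hcS, hcB⟩ := Finset.mem_filter.1 hc
    exact hbig'.2 a ha c ⟨s c, hsA c, by rw [← hcB]; exact hs c⟩
  · obtain ⟨hcS, hcB⟩ := Finset.mem_filter.1 hc
    set p := (a * s c)⁻¹ * s (a • c) with hp
    have hpA : p ∈ A := mul_mem (inv_mem (mul_mem ha (hsA c))) (hsA _)
    have hpB : p • B = B := by
      have e1 : s (a • c) • B = a • c := by
        rw [← hcB, hbeq c (a • c) ⟨a, ha, rfl⟩]; exact hs _
      rw [hp, mul_smul, e1, inv_smul_eq_iff, mul_smul]
      rw [← hcB, hs c]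
    rw [show s (a • c) = (a * s c) * p by rw [hp, mul_inv_cancel_left], hηadd _ (mul_mem ha (hsA c)) _ hpA,
      hηadd _ ha _ (hsA c), hηP p hpA hpB, hη1, add_zero, add_comm]
  · rw [hFcard]; exact hbig'.1

end CfsgLib.InvolChar.OrbitTransfer
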