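import Mathlib
import Cfsg.Prelude.Def_Transfer
import Cfsg.Agent.Lib.InvolChar.OrbitTransfer
import Cfsg.Agent.Lib.LargeExtra.Extraspecial

/-!
Characters of order two of the centralizer of a central involution of a large extraspecial subgroup.
-/

set_option autoImplicit false
set_option linter.style.haveILetI false
set_option linter.unusedSectionVars false

namespace CfsgLib.InvolChar.LargeExtraChar

open Subgroup CfsgLib.InvolChar.OrbitTransfer

variable {G : Type*} [Group G] [Finite G]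

/-- The conjugate of `z` attached to a coset. -/
noncomputable def cj (z : G) (c : G ⧸ centralizer ({z} : Set G)) : G := c.out * z * c.out⁻¹

theorem smul_eq_iff_comm {z : G} (a : G) (c : G ⧸ centralizer ({z} : Set G)) :
    a • c = c ↔ a * cj z c = cj z c * a := by
  conv_lhs => rw [← QuotientGroup.out_eq' c]
  change ((a * c.out : G) : G ⧸ centralizer ({z} : Set G)) = _ ↔ _
  rw [QuotientGroup.eq, mem_centralizer_singleton_iff]
  constructor
  · intro h
    have h' : c.out⁻¹ * a⁻¹ * c.out * z = z * (c.out⁻¹ * a⁻¹ * c.out) := by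
      simpa [mul_assoc] using h
    unfold cj
    calc a * (c.out * z * c.out⁻¹) = a * c.out * (z * (c.out⁻¹ * a⁻¹ * c.out)) * c.out⁻¹ * a := by group
      _ = a * c.out * (c.out⁻¹ * a⁻¹ * c.out * z) * c.out⁻¹ * a := by rw [h']
      _ = c.out * z * c.out⁻¹ * a := by group
  · intro h
    unfold cj at h
    calc (a * c.out)⁻¹ * c.out * z = c.out⁻¹ * a⁻¹ * (c.out * z * c.out⁻¹ * a) * a⁻¹ * c.out := by group
      _ = c.out⁻¹ * a⁻¹ * (a * (c.out * z * c.out⁻¹)) * a⁻¹ * c.out := by rw [h]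
      _ = z * ((a * c.out)⁻¹ * c.out) := by group

theorem cj_smul {z : G} (a : G) (c : G ⧸ centralizer ({z} : Set G)) :
    cj z (a • c) = a * cj z c * a⁻¹ := by
  have h : (a * c.out)⁻¹ * (a • c).out ∈ centralizer ({z} : Set G) := by
    rw [← QuotientGroup.eq, QuotientGroup.out_eq']
    conv_rhs => rw [← QuotientGroup.out_eq' c]
    rfl
  have e := mem_centralizer_singleton_iff.1 h
  unfold cj
  calc (a • c).out * z * (a • c).out⁻¹
      = a * c.out * (((a * c.out)⁻¹ * (a • c).out) * z) * (a • c).out⁻¹ := by group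
    _ = a * c.out * (z * ((a * c.out)⁻¹ * (a • c).out)) * (a • c).out⁻¹ := by rw [e]
    _ = a * (c.out * z * c.out⁻¹) * a⁻¹ := by group

theorem zmod2_cases : ∀ u : ZMod 2, u = 0 ∨ u = 1 := by decide

theorem zmod2_one_add : (1 : ZMod 2) + 1 = 0 := by decide

theorem orb_card {H A : Subgroup G} (c : G ⧸ H) :
    Nat.card (orb A c) = (MulAction.stabilizer A c).index := by
  rw [index_eq_card, ← Nat.card_congr (MulAction.orbitEquivQuotientStabilizer A c)]
  refine Nat.card_congr (Equiv.subtypeEquivRight fun d => ?_)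
  constructor
  · rintro ⟨a, ha, rfl⟩; exact ⟨⟨a, ha⟩, rfl⟩
  · rintro ⟨⟨a, ha⟩, rfl⟩; exact ⟨a, ha, rfl⟩

/-- Without involutions of value one, the stabilizer of a coset with nontrivial values has index other than two. -/
theorem index_ne_two {z : G} (hzz : z * z = 1) (hz1 : z ≠ 1)
    (E : Subgroup G) (hEH : E ≤ centralizer ({z} : Set G))
    (hEn : ∀ h ∈ centralizer ({z} : Set G), ∀ e ∈ E, h * e * h⁻¹ ∈ E)
    (hext : Cfsg.IsExtraspecial 2 E) (hcent : centralizer (E : Set G) ≤ E)
    {χ : G → ZMod 2}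
    (h2 : ∀ h ∈ centralizer ({z} : Set G), h * h = 1 → χ h = 0)
    (hc : ∀ h ∈ centralizer ({z} : Set G), ∀ a ∈ centralizer ({z} : Set G), ∀ b ∈ centralizer ({z} : Set G),
      h * h = a * b * a⁻¹ * b⁻¹ → χ h = 0)
    : ∀ c : G ⧸ centralizer ({z} : Set G), cj z c ≠ z → cj z c ∈ centralizer ({z} : Set G) →
      ∀ p ∈ E, p • c = c → χ (c.out⁻¹ * p * c.out) ≠ 0 → (MulAction.stabilizer E c).index ≠ 2 := by
  haveI : Fact (Nat.Prime 2) := ⟨Nat.prime_two⟩
  set H := centralizer ({z} : Set G) with hH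
  have hzH : z ∈ H := mem_centralizer_singleton_iff.2 rfl
  have hzE : z ∈ E := hcent (mem_centralizer_iff.2 fun e he => mem_centralizer_singleton_iff.1 (hEH he))
  obtain ⟨w, hwc, -, hw⟩ := CfsgLib.LargeExtra.exists_centre_gen hext
  have hzcen : (⟨z, hzE⟩ : E) ∈ center E := mem_center_iff.2 fun e =>
    Subtype.ext (mem_centralizer_singleton_iff.1 (hEH e.2))
  have hcen : ∀ e : E, e ∈ center E → (e : G) = 1 ∨ (e : G) = z := by
    rcases hw _ hzcen with h | h
    · exact absurd (congrArg Subtype.val h) hz1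
    · intro e he
      rcases hw e he with h' | h'
      · exact Or.inl (congrArg Subtype.val h')
      · exact Or.inr (congrArg Subtype.val (h'.trans h.symm))
  have hsq : ∀ e ∈ E, e * e = 1 ∨ e * e = z := fun e he =>
    hcen _ (CfsgLib.LargeExtra.sq_mem_center hext ⟨e, he⟩)
  have hcm : ∀ a ∈ E, ∀ b ∈ E, a * b * a⁻¹ * b⁻¹ = 1 ∨ a * b * a⁻¹ * b⁻¹ = z := fun a ha b hb =>
    hcen _ (CfsgLib.LargeExtra.comm_mem_center hext ⟨a, ha⟩ ⟨b, hb⟩)
  have hCE : ∀ y : G, (∀ e ∈ E, y * e = e * y) → y = 1 ∨ y = z := by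
    intro y hy
    have hyE : y ∈ E := hcent (mem_centralizer_iff.2 fun e he => (hy e he).symm)
    exact hcen ⟨y, hyE⟩ (mem_center_iff.2 fun e => Subtype.ext (hy e e.2).symm)
  -- stabilizer values
  have hmemH : ∀ a, ∀ c : G ⧸ H, a • c = c → c.out⁻¹ * a * c.out ∈ H := fun a c hac => by
    rw [mul_assoc, ← QuotientGroup.eq, QuotientGroup.out_eq']
    conv_lhs => rw [← hac, ← QuotientGroup.out_eq' c]
    rfl
  have hyy : ∀ c : G ⧸ H, cj z c * cj z c = 1 := fun c => by
    show c.out * z * c.out⁻¹ * (c.out * z * c.out⁻¹) = 1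
    rw [show c.out * z * c.out⁻¹ * (c.out * z * c.out⁻¹) = c.out * (z * z) * c.out⁻¹ by group, hzz]
    group
  have hy1 : ∀ c : G ⧸ H, cj z c ≠ 1 := fun c h => hz1 (by
    have : z = c.out⁻¹ * (cj z c) * c.out := by unfold cj; group
    rw [this, h]; group)
  intro c hyz hyH p hpE hpc hp1 hk
  set y := cj z c
  have hzc : z • c = c := (smul_eq_iff_comm z c).2 (mem_centralizer_singleton_iff.1 hyH).symm
  set P := MulAction.stabilizer E c
  have hPmem : ∀ a : E, a ∈ P ↔ (a : G) * y = y * a := fun a => smul_eq_iff_comm (a : G) c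
  have hEc : Nat.card E = Nat.card P * P.index := (card_mul_index P).symm
  rw [hk] at hEc
  set p' : E := ⟨p, hpE⟩
  have hpP : p' ∈ P := hpc
  have hzP : center E ≤ P := fun e he => by
    rcases hcen e he with h | h
    · rw [show e = 1 from Subtype.ext h]; exact one_mem P
    · exact (show (e : G) • c = c by rw [h]; exact hzc)
  have hppz : p * p = z := (hsq p hpE).resolve_left fun h => hp1 (h2 _ (hmemH p c hpc) (by
    rw [show c.out⁻¹ * p * c.out * (c.out⁻¹ * p * c.out) = c.out⁻¹ * (p * p) * c.out by group, h]; group))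
  have hPab : ∀ a ∈ P, ∀ b ∈ P, a * b = b * a := by
    intro a ha b hb
    rcases hcm a a.2 b b.2 with h | h
    · exact Subtype.ext (mul_inv_eq_iff_eq_mul.1 (mul_inv_eq_one.1 h))
    · refine absurd (hc _ (hmemH p c hpc) _ (hmemH _ c ha) _ (hmemH _ c hb) ?_) hp1
      rw [show c.out⁻¹ * p * c.out * (c.out⁻¹ * p * c.out) = c.out⁻¹ * (p * p) * c.out by group, hppz]
      refine (congrArg (fun t => c.out⁻¹ * t * c.out) h.symm).trans ?_
      simp only [Subgroup.coe_subtype]
      group
  have hP4 : 4 ≤ Nat.card P := by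
    have hsub : zpowers p' ≤ P := zpowers_le.2 hpP
    refine le_trans ?_ (card_le_of_le hsub)
    rw [Nat.card_zpowers, orderOf_eq_prime_pow (p := 2) (n := 1) ?_ ?_]
    · norm_num
    · rw [pow_one, sq]
      exact fun h => hz1 (hppz.symm.trans (congrArg Subtype.val h))
    · refine Subtype.ext ?_
      rw [SubmonoidClass.coe_pow, OneMemClass.coe_one, show 2 ^ (1 + 1) = 2 * 2 by norm_num, pow_mul,
        show (p' : G) = p from rfl, sq p, hppz, sq, hzz]
  have hCP := CfsgLib.LargeExtra.card_centralizer_mul_card hext P hzP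
  rw [hext.2, hEc, mul_comm (Nat.card P) 2, ← mul_assoc] at hCP
  have hC4 : Nat.card (centralizer (P : Set E)) = 4 :=
    Nat.eq_of_mul_eq_mul_right Nat.card_pos hCP
  have hPC : P ≤ centralizer (P : Set E) := fun a ha => mem_centralizer_iff.2 fun b hb => hPab b hb a ha
  have hPeq : P = centralizer (P : Set E) := eq_of_le_of_card_ge hPC (hC4 ▸ hP4)
  have hPp : ∀ a ∈ P, a ∈ zpowers p' := by
    intro a ha
    have : zpowers p' = P := by
      refine eq_of_le_of_card_ge (zpowers_le.2 hpP) ?_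
      rw [hPeq, hC4, Nat.card_zpowers, orderOf_eq_prime_pow (p := 2) (n := 1) ?_ ?_]
      · norm_num
      · rw [pow_one, sq]
        exact fun h => hz1 (hppz.symm.trans (congrArg Subtype.val h))
      · refine Subtype.ext ?_
        rw [SubmonoidClass.coe_pow, OneMemClass.coe_one, show 2 ^ (1 + 1) = 2 * 2 by norm_num, pow_mul,
          show (p' : G) = p from rfl, sq p, hppz, sq, hzz]
    rwa [this]
  obtain ⟨e, he⟩ : ∃ e : E, e ∉ P := by
    by_contra hno
    push Not at hno
    have : P = ⊤ := eq_top_iff.2 fun a _ => hno a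
    rw [this, index_top] at hk
    omega
  have hidx : ∀ a : E, a ∈ P ∨ e⁻¹ * a ∈ P := fun a => by
    by_cases ha : a ∈ P
    · exact Or.inl ha
    · exact Or.inr ((mul_mem_iff_of_index_two hk).2 (iff_of_false (fun h => he (inv_mem_iff.1 h)) ha))
  have hep : (e : G) * p * (e : G)⁻¹ = z * p := by
    rcases hcm e e.2 p hpE with h | h
    · exfalso
      refine he ?_
      rw [hPeq]
      refine mem_centralizer_iff.2 fun a ha => ?_
      obtain ⟨i, rfl⟩ := mem_zpowers_iff.1 (hPp a ha)
      exact (((show Commute e p' from Subtype.ext (mul_inv_eq_iff_eq_mul.1 (mul_inv_eq_one.1 h))).zpow_right i).eq).symm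
    · rw [← h]; group
  have hyp : p * y = y * p := (hPmem p').1 hpP
  have hyi : y⁻¹ = y := inv_eq_of_mul_eq_one_right (hyy c)
  set d := (e : G)⁻¹ * (y * e * y⁻¹) with hd'
  have hdE : d ∈ E := mul_mem (inv_mem e.2) (hEn y hyH e e.2)
  have hd1 : (⟨d, hdE⟩ : E) ∈ P := by
    rw [hPeq]
    refine mem_centralizer_iff.2 fun a ha => ?_
    obtain ⟨i, rfl⟩ := mem_zpowers_iff.1 (hPp a ha)
    refine (((show Commute (⟨d, hdE⟩ : E) p' from Subtype.ext ?_).zpow_right i).eq).symm
    show d * p = p * d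
    have h1 : (y * e * y⁻¹) * p * (y * e * y⁻¹)⁻¹ = z * p := by
      calc (y * e * y⁻¹) * p * (y * e * y⁻¹)⁻¹ = y * (e * (y⁻¹ * (p * y)) * (e : G)⁻¹) * y⁻¹ := by group
        _ = y * (z * p) * y⁻¹ := by rw [hyp, inv_mul_cancel_left, hep]
        _ = (y * z) * (p * y⁻¹) := by group
        _ = z * p := by
          rw [mem_centralizer_singleton_iff.1 hyH, hyi, hyp, mul_assoc, ← mul_assoc y y, hyy c, one_mul]
    rw [hd']
    calc (e : G)⁻¹ * (y * e * y⁻¹) * p
        = (e : G)⁻¹ * ((y * e * y⁻¹) * p * (y * e * y⁻¹)⁻¹) * (y * e * y⁻¹) := by group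
      _ = (e : G)⁻¹ * (e * p * (e : G)⁻¹) * (y * e * y⁻¹) := by rw [h1, hep]
      _ = p * ((e : G)⁻¹ * (y * e * y⁻¹)) := by group
  have hdy : d * y = y * d := (hPmem ⟨d, hdE⟩).1 hd1
  have hdd : d * d = 1 := by
    have e1 : y * (e : G) * y⁻¹ = e * d := by rw [hd']; group
    have e2 : (e : G) * d * d = e := by
      calc (e : G) * d * d = (y * e * y⁻¹) * d := by rw [e1]
        _ = y * e * (y⁻¹ * (d * y)) * y⁻¹ := by group
        _ = y * (e * d) * y⁻¹ := by rw [hdy, inv_mul_cancel_left]; group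
        _ = y * (y * e * y⁻¹) * y⁻¹ := by rw [e1]
        _ = (y * y) * e * (y⁻¹ * y⁻¹) := by group
        _ = e := by rw [hyi, hyy c, one_mul, mul_one]
    rwa [mul_assoc, mul_eq_left] at e2
  have hd01 : d = 1 ∨ d = z := by
    obtain ⟨i, hi⟩ := mem_zpowers_iff.1 (hPp _ hd1)
    have hi' : p ^ i = d := congrArg Subtype.val hi
    have h22 : p ^ (2 : ℤ) = z := by rw [zpow_two]; exact hppz
    have hz2 : z ^ (2 : ℤ) = 1 := by rw [zpow_two]; exact hzz
    rcases Int.even_or_odd' i with ⟨j, rfl | rfl⟩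
    · rw [zpow_mul, h22] at hi'
      rcases Int.even_or_odd' j with ⟨m, rfl | rfl⟩
      · exact Or.inl (by rw [← hi', zpow_mul, hz2, one_zpow])
      · exact Or.inr (by rw [← hi', zpow_add, zpow_mul, hz2, one_zpow, one_mul, zpow_one])
    · exfalso
      rw [← hi', ← zpow_add, show 2 * j + 1 + (2 * j + 1) = 2 * (2 * j + 1) by ring, zpow_mul, h22,
        zpow_add, zpow_mul, hz2, one_zpow, one_mul, zpow_one] at hdd
      exact hz1 hdd
  have hgen : ∀ w : G, (∀ a ∈ P, w * a = (a : G) * w) → w * e = e * w → w = 1 ∨ w = z := by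
    intro w hwP hwe
    refine hCE w fun a ha => ?_
    rcases hidx ⟨a, ha⟩ with h | h
    · exact hwP _ h
    · have h' := hwP _ h
      simp only [Subgroup.coe_mul, Subgroup.coe_inv] at h'
      calc w * a = w * e * ((e : G)⁻¹ * a) := by group
        _ = e * (w * ((e : G)⁻¹ * a)) := by rw [hwe, mul_assoc]
        _ = a * w := by rw [h']; group
  rcases hd01 with h | h
  · rw [hd', inv_mul_eq_one] at h
    have hye : y * e = e * y := mul_inv_eq_iff_eq_mul.1 h.symm
    rcases hgen y (fun a ha => ((hPmem a).1 ha).symm) hye with h' | h'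
    · exact hy1 c h'
    · exact hyz h'
  · have hpe : p⁻¹ * (e : G) = z * e * p⁻¹ := by
      have h5 : (e : G) * p = z * (p * e) := by rw [← mul_assoc, ← hep]; group
      calc p⁻¹ * (e : G) = p⁻¹ * ((e : G) * p) * p⁻¹ := by group
        _ = p⁻¹ * z * (p * e) * p⁻¹ := by rw [h5]; group
        _ = z * e * p⁻¹ := by
          rw [show p⁻¹ * z = z * p⁻¹ from mem_centralizer_singleton_iff.1 (hEH (inv_mem hpE))]; group
    have hwe : p⁻¹ * y * e = e * (p⁻¹ * y) := by
      have e1 : y * (e : G) = e * z * y := by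
        rw [← h, hd']; group
      calc p⁻¹ * y * (e : G) = p⁻¹ * e * z * y := by rw [mul_assoc p⁻¹, e1]; group
        _ = z * e * (p⁻¹ * z) * y := by rw [hpe]; group
        _ = z * (e * z) * (p⁻¹ * y) := by
          rw [show p⁻¹ * z = z * p⁻¹ from mem_centralizer_singleton_iff.1 (hEH (inv_mem hpE))]; group
        _ = e * (p⁻¹ * y) := by
          rw [show (e : G) * z = z * e from mem_centralizer_singleton_iff.1 (hEH e.2), ← mul_assoc z, hzz,
            one_mul]
    have hwP : ∀ a ∈ P, p⁻¹ * y * (a : E) = (a : G) * (p⁻¹ * y) := by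
      intro a ha
      have h4 : p⁻¹ * (a : G) = a * p⁻¹ := congrArg Subtype.val (hPab p'⁻¹ (inv_mem hpP) a ha)
      rw [mul_assoc, ← (hPmem a).1 ha, ← mul_assoc, h4, mul_assoc]
    rcases hgen _ hwP hwe with h' | h'
    · rw [inv_mul_eq_one] at h'
      have := hyy c
      rw [show cj z c = y from rfl, ← h', hppz] at this
      exact hz1 this
    · rw [inv_mul_eq_iff_eq_mul] at h'
      have := hyy c
      rw [show cj z c = y from rfl, h', show p * z * (p * z) = p * (z * p) * z by group,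
        ← mem_centralizer_singleton_iff.1 (hEH hpE), show p * (p * z) * z = (p * p) * (z * z) by group,
        hppz, hzz, mul_one] at this
      exact hz1 this

/-- The transfer of a character killing the twisted values of `z` extends it if the relevant indices are large. -/
theorem transfer_eq_of_index {z : G} [Fintype (G ⧸ centralizer ({z} : Set G))] (hzz : z * z = 1) (hz1 : z ≠ 1)
    (E : Subgroup G) (hEH : E ≤ centralizer ({z} : Set G))
    (hEn : ∀ h ∈ centralizer ({z} : Set G), ∀ e ∈ E, h * e * h⁻¹ ∈ E)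
    (hext : Cfsg.IsExtraspecial 2 E) (hcent : centralizer (E : Set G) ≤ E)
    {χ : G → ZMod 2} (hχ : Additive' (centralizer ({z} : Set G)) χ)
    (hu0 : ∀ c : G ⧸ centralizer ({z} : Set G), cj z c ∈ centralizer ({z} : Set G) → χ (c.out⁻¹ * z * c.out) = 0)
    (hfour : ∀ c : G ⧸ centralizer ({z} : Set G), cj z c ≠ z → cj z c ∈ centralizer ({z} : Set G) →
      ∀ p ∈ E, p • c = c → χ (c.out⁻¹ * p * c.out) ≠ 0 → (MulAction.stabilizer E c).index ≠ 2) :
    ∀ x ∈ centralizer ({z} : Set G), ∃ r : G ⧸ centralizer ({z} : Set G) → G,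
      (∀ c, (r c : G ⧸ centralizer ({z} : Set G)) = c) ∧ ∑ c, kappa χ r x c = χ x := by
  classical
  intro x hx
  haveI : Fact (Nat.Prime 2) := ⟨Nat.prime_two⟩
  set H := centralizer ({z} : Set G) with hH
  have hzH : z ∈ H := mem_centralizer_singleton_iff.2 rfl
  have hzE : z ∈ E := hcent (mem_centralizer_iff.2 fun e he => mem_centralizer_singleton_iff.1 (hEH he))
  obtain ⟨w, hwc, -, hw⟩ := CfsgLib.LargeExtra.exists_centre_gen hext
  have hzcen : (⟨z, hzE⟩ : E) ∈ center E := mem_center_iff.2 fun e =>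
    Subtype.ext (mem_centralizer_singleton_iff.1 (hEH e.2))
  have hcen : ∀ e : E, e ∈ center E → (e : G) = 1 ∨ (e : G) = z := by
    rcases hw _ hzcen with h | h
    · exact absurd (congrArg Subtype.val h) hz1
    · intro e he
      rcases hw e he with h' | h'
      · exact Or.inl (congrArg Subtype.val h')
      · exact Or.inr (congrArg Subtype.val (h'.trans h.symm))
  have hsq : ∀ e ∈ E, e * e = 1 ∨ e * e = z := fun e he =>
    hcen _ (CfsgLib.LargeExtra.sq_mem_center hext ⟨e, he⟩)
  have hcm : ∀ a ∈ E, ∀ b ∈ E, a * b * a⁻¹ * b⁻¹ = 1 ∨ a * b * a⁻¹ * b⁻¹ = z := fun a ha b hb =>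
    hcen _ (CfsgLib.LargeExtra.comm_mem_center hext ⟨a, ha⟩ ⟨b, hb⟩)
  have hCE : ∀ y : G, (∀ e ∈ E, y * e = e * y) → y = 1 ∨ y = z := by
    intro y hy
    have hyE : y ∈ E := hcent (mem_centralizer_iff.2 fun e he => (hy e he).symm)
    exact hcen ⟨y, hyE⟩ (mem_center_iff.2 fun e => Subtype.ext (hy e e.2).symm)
  -- stabilizer values
  have hmemH : ∀ a, ∀ c : G ⧸ H, a • c = c → c.out⁻¹ * a * c.out ∈ H := fun a c hac => by
    rw [mul_assoc, ← QuotientGroup.eq, QuotientGroup.out_eq']
    conv_lhs => rw [← hac, ← QuotientGroup.out_eq' c]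
    rfl
  have hyy : ∀ c : G ⧸ H, cj z c * cj z c = 1 := fun c => by
    show c.out * z * c.out⁻¹ * (c.out * z * c.out⁻¹) = 1
    rw [show c.out * z * c.out⁻¹ * (c.out * z * c.out⁻¹) = c.out * (z * z) * c.out⁻¹ by group, hzz]
    group
  have hy1 : ∀ c : G ⧸ H, cj z c ≠ 1 := fun c h => hz1 (by
    have : z = c.out⁻¹ * (cj z c) * c.out := by unfold cj; group
    rw [this, h]; group)
  -- the three sets
  let S0 := Finset.univ.filter fun c : G ⧸ H => cj z c = z
  let S1 := Finset.univ.filter fun c : G ⧸ H => cj z c ≠ z ∧ cj z c ∈ H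
  let S2 := Finset.univ.filter fun c : G ⧸ H => cj z c ∉ H
  have hne : ∀ g : G, g ∈ H → ∀ c : G ⧸ H, (cj z (g • c) = z ↔ cj z c = z) ∧ (cj z (g • c) ∈ H ↔ cj z c ∈ H) := by
    intro g hg c
    rw [cj_smul]
    refine ⟨?_, ?_⟩
    · constructor
      · intro h
        have := congrArg (fun t => g⁻¹ * t * g) h
        rw [show g⁻¹ * (g * cj z c * g⁻¹) * g = cj z c by group, mul_assoc g⁻¹, ← mem_centralizer_singleton_iff.1 hg,
          inv_mul_cancel_left] at this
        exact this
      · intro h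
        rw [h, mem_centralizer_singleton_iff.1 hg, mul_inv_cancel_right]
    · exact ⟨fun h => by simpa [mul_assoc] using mul_mem (mul_mem (inv_mem hg) h) hg,
        fun h => mul_mem (mul_mem hg h) (inv_mem hg)⟩
  have hzpow : ∀ a, x * a * x⁻¹ ∈ zpowers z ↔ a ∈ zpowers z := by
    have hfix : ∀ g ∈ H, ∀ a ∈ zpowers z, g * a * g⁻¹ ∈ zpowers z := by
      intro g hg a ha
      obtain ⟨k, rfl⟩ := mem_zpowers_iff.1 ha
      rw [((show Commute g z from mem_centralizer_singleton_iff.1 hg).zpow_right k).eq, mul_inv_cancel_right]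
      exact zpow_mem_zpowers z k
    exact fun a => ⟨fun h => by simpa [mul_assoc] using hfix x⁻¹ (inv_mem hx) _ h, hfix x hx a⟩
  have hxE : ∀ a, x * a * x⁻¹ ∈ E ↔ a ∈ E := fun a =>
    ⟨fun h => by simpa [mul_assoc] using hEn x⁻¹ (inv_mem hx) _ h, hEn x hx a⟩
  -- the fixed points outside `H`
  obtain ⟨r2, hr2, hs2⟩ := exists_section hχ (x := x) (zpowers z) hzpow S2
    (fun a ha c hc => by
      simp only [S2, Finset.mem_filter, Finset.mem_univ, true_and] at hc ⊢
      rw [(hne a (zpowers_le.2 hzH ha) c).2]; exact hc)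
    (fun c => by simp only [S2, Finset.mem_filter, Finset.mem_univ, true_and]; rw [(hne x hx c).2])
    (fun _ _ => 0) (fun _ _ _ _ _ _ => (add_zero 0).symm)
    (fun c hc a ha hac => by
      simp only [S2, Finset.mem_filter, Finset.mem_univ, true_and] at hc
      obtain ⟨k, rfl⟩ := mem_zpowers_iff.1 ha
      have h2' : z ^ (2 : ℤ) = 1 := by rw [zpow_two]; exact hzz
      rcases Int.even_or_odd' k with ⟨j, rfl | rfl⟩
      · rw [zpow_mul, h2', one_zpow, mul_one, inv_mul_cancel, map_one' hχ]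
      · refine absurd ?_ hc
        rw [zpow_add, zpow_mul, h2', one_zpow, one_mul, zpow_one] at hac
        exact mem_centralizer_singleton_iff.2 ((smul_eq_iff_comm z c).1 hac).symm)
    (fun _ _ _ _ _ => rfl)
    (fun c hc => by
      simp only [S2, Finset.mem_filter, Finset.mem_univ, true_and] at hc
      have h1 : Nat.card (zpowers z) = 2 := by
        rw [Nat.card_zpowers]; exact orderOf_eq_prime (by rw [sq]; exact hzz) hz1
      rw [orb_card]
      have h3 := card_mul_index (MulAction.stabilizer (zpowers z) c)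
      rw [h1] at h3
      rcases (Nat.dvd_prime Nat.prime_two).1 (Dvd.intro_left _ h3) with h | h
      · exfalso
        refine hc (mem_centralizer_singleton_iff.2 ((smul_eq_iff_comm z c).1 ?_).symm)
        have hst : (⟨z, mem_zpowers z⟩ : zpowers z) ∈ MulAction.stabilizer (zpowers z) c := by
          rw [index_eq_one.1 h]; exact mem_top _
        exact hst
      · rw [h])
    (fun c _ a _ h => absurd rfl h)
  -- the fixed points in `H`
  have hω : ∀ c ∈ S1, ∃ ω : G → ZMod 2, (∀ a ∈ E, ∀ a' ∈ E, ω (a * a') = ω a + ω a') ∧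
      (∀ a ∈ E, a • c = c → ω a = χ (c.out⁻¹ * a * c.out)) ∧
      ((∀ a ∈ E, a • c = c → χ (c.out⁻¹ * a * c.out) = 0) → ∀ a ∈ E, ω a = 0) ∧
      2 ∣ Nat.card (orb E c) ∧
      (∀ a ∈ E, ω a ≠ 0 → 4 ∣ Nat.card (orb E c) ∧ ∀ b ∈ E, ∀ d ∈ orb E c, b • b • d = d) := by
    intro c hc
    simp only [S1, Finset.mem_filter, Finset.mem_univ, true_and] at hc
    obtain ⟨hyz, hyH⟩ := hc
    set y := cj z c
    have hzc : z • c = c := (smul_eq_iff_comm z c).2 (mem_centralizer_singleton_iff.1 hyH).symm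
    set P := MulAction.stabilizer E c
    have hPmem : ∀ a : E, a ∈ P ↔ (a : G) * y = y * a := fun a => smul_eq_iff_comm (a : G) c
    have hEc : Nat.card E = Nat.card P * P.index := (card_mul_index P).symm
    obtain ⟨k, hk⟩ : ∃ k, P.index = 2 ^ k := by
      obtain ⟨n, hn⟩ := (IsPGroup.iff_card.1 hext.1.1)
      have hd : P.index ∣ 2 ^ n := hn ▸ Dvd.intro_left _ (card_mul_index P)
      obtain ⟨k, -, hk⟩ := (Nat.dvd_prime_pow Nat.prime_two).1 hd
      exact ⟨k, hk⟩
    have hk0 : k ≠ 0 := by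
      rintro rfl
      rw [pow_zero, index_eq_one] at hk
      rcases hCE y (fun e he => ((hPmem ⟨e, he⟩).1 (hk ▸ mem_top _)).symm) with h | h
      · exact hy1 c h
      · exact hyz h
    have heven : 2 ∣ Nat.card (orb E c) := by rw [orb_card, hk]; exact dvd_pow_self 2 hk0
    by_cases hν : ∀ a ∈ E, a • c = c → χ (c.out⁻¹ * a * c.out) = 0
    · exact ⟨fun _ => 0, fun _ _ _ _ => (add_zero 0).symm, fun a ha hac => (hν a ha hac).symm,
        fun _ _ _ => rfl, heven, fun a _ h => absurd rfl h⟩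
    push Not at hν
    obtain ⟨p, hpE, hpc, hp1⟩ := hν
    have hp1' : χ (c.out⁻¹ * p * c.out) = 1 :=
      (zmod2_cases _).resolve_left hp1
    have hνmul : ∀ a b, a • c = c → b • c = c →
        χ (c.out⁻¹ * (a * b) * c.out) = χ (c.out⁻¹ * a * c.out) + χ (c.out⁻¹ * b * c.out) := by
      intro a b ha hb
      rw [← hχ _ (hmemH a c ha) _ (hmemH b c hb)]
      congr 1; group
    have hνz : χ (c.out⁻¹ * z * c.out) = 0 := hu0 c hyH
    have hνinv : ∀ a, a • c = c → χ (c.out⁻¹ * a⁻¹ * c.out) = χ (c.out⁻¹ * a * c.out) := fun a ha => by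
      rw [show c.out⁻¹ * a⁻¹ * c.out = (c.out⁻¹ * a * c.out)⁻¹ by group, map_inv' hχ (hmemH a c ha)]
    let P0 : Subgroup E :=
      { carrier := {a | (a : G) • c = c ∧ χ (c.out⁻¹ * a * c.out) = 0}
        one_mem' := ⟨one_smul G c, by rw [OneMemClass.coe_one, mul_one, inv_mul_cancel, map_one' hχ]⟩
        mul_mem' := fun {a b} ha hb => ⟨by rw [Subgroup.coe_mul, mul_smul, hb.1, ha.1], by
          rw [Subgroup.coe_mul, hνmul _ _ ha.1 hb.1, ha.2, hb.2, add_zero]⟩
        inv_mem' := fun {a} ha => ⟨by rw [Subgroup.coe_inv, inv_smul_eq_iff, ha.1], by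
          rw [Subgroup.coe_inv, hνinv _ ha.1, ha.2]⟩ }
    have hZP0 : center E ≤ P0 := by
      intro e he
      rcases hcen e he with h | h
      · rw [show e = 1 from Subtype.ext h]; exact one_mem P0
      · exact ⟨by rw [h]; exact hzc, by rw [h]; exact hνz⟩
    set p' : E := ⟨p, hpE⟩
    obtain ⟨L, hP0L, hL⟩ := Finite.exists_le_maximal
      (p := fun L : Subgroup E => P0 ≤ L ∧ p' ∉ L) (a := P0) ⟨le_rfl, fun h => hp1 h.2⟩
    haveI : L.Normal := ⟨fun m hm g => by
      rw [show g * m * g⁻¹ = (g * m * g⁻¹ * m⁻¹) * m by group]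
      exact mul_mem (hP0L (hZP0 (CfsgLib.LargeExtra.comm_mem_center hext g m))) hm⟩
    have hout : ∀ a, a ∉ L → p'⁻¹ * a ∈ L := by
      intro a ha
      have hp : p' ∈ L ⊔ zpowers a := by
        by_contra hno
        exact ha (hL.2 ⟨hP0L.trans le_sup_left, hno⟩ le_sup_left (mem_sup_right (mem_zpowers a)))
      obtain ⟨l, hl, b, hb, e⟩ := mem_sup_of_normal_left.1 hp
      obtain ⟨i, rfl⟩ := mem_zpowers_iff.1 hb
      have h2' : a ^ (2 : ℤ) ∈ L := by
        rw [zpow_two]; exact hP0L (hZP0 (CfsgLib.LargeExtra.sq_mem_center hext a))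
      rcases Int.even_or_odd' i with ⟨j, rfl | rfl⟩
      · exact absurd (e ▸ mul_mem hl (by rw [zpow_mul]; exact zpow_mem h2' j)) hL.1.2
      · have e' : p' = (l * (a ^ (2 : ℤ)) ^ j) * a := by
          rw [← e, zpow_add, zpow_mul, zpow_one, mul_assoc]
        have hm : l * (a ^ (2 : ℤ)) ^ j ∈ L := mul_mem hl (zpow_mem h2' j)
        generalize l * (a ^ (2 : ℤ)) ^ j = m at e' hm
        rw [e', _root_.mul_inv_rev]
        simpa using (inferInstance : L.Normal).conj_mem _ (inv_mem hm) a⁻¹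
    have hLP : ∀ a : E, (a : G) • c = c → (a ∈ L ↔ χ (c.out⁻¹ * a * c.out) = 0) := by
      intro a hac
      refine ⟨fun haL => ?_, fun h => hP0L ⟨hac, h⟩⟩
      by_contra h
      have h' := (zmod2_cases _).resolve_left h
      have hq : a⁻¹ * p' ∈ P0 := ⟨by
          rw [Subgroup.coe_mul, mul_smul, Subgroup.coe_inv, hpc, inv_smul_eq_iff, hac], by
          rw [Subgroup.coe_mul, Subgroup.coe_inv, hνmul _ _ (by rw [inv_smul_eq_iff, hac]) hpc, hνinv _ hac, h', hp1']
          exact zmod2_one_add⟩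
      exact hL.1.2 (by simpa using mul_mem haL (hP0L hq))
    refine ⟨fun a => if h : a ∈ E then (if (⟨a, h⟩ : E) ∈ L then 0 else 1) else 0, ?_, ?_, ?_, heven, ?_⟩
    · intro a ha a' ha'
      simp only [dif_pos ha, dif_pos ha', dif_pos (mul_mem ha ha')]
      rw [show (⟨a * a', mul_mem ha ha'⟩ : E) = (⟨a, ha⟩ : E) * ⟨a', ha'⟩ from rfl]
      by_cases h : (⟨a, ha⟩ : E) ∈ L
      · simp only [mul_mem_cancel_left h, if_pos h, zero_add]
      · by_cases h' : (⟨a', ha'⟩ : E) ∈ L
        · simp only [mul_mem_cancel_right h', if_pos h', if_neg h, add_zero]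
        · have hm : (⟨a, ha⟩ : E) * ⟨a', ha'⟩ ∈ L := by
            have h3 := (inferInstance : L.Normal).conj_mem _ (hout _ h) p'
            rw [mul_inv_cancel_left] at h3
            have := mul_mem (mul_mem h3 (hP0L (hZP0 (CfsgLib.LargeExtra.sq_mem_center hext p')))) (hout _ h')
            simpa [mul_assoc] using this
          simp only [if_neg h, if_neg h', if_pos hm]
          exact zmod2_one_add.symm
    · intro a ha hac
      simp only [dif_pos ha]
      have := hLP ⟨a, ha⟩ hac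
      split_ifs with h
      · exact (this.1 h).symm
      · exact ((zmod2_cases _).resolve_left (mt this.2 h)).symm
    · intro h
      exact absurd (h p hpE hpc) hp1
    intro a _ _
    refine ⟨?_, fun b hb d hd => ?_⟩
    · rw [orb_card, hk]
      rcases Nat.lt_or_ge k 2 with hk2 | hk2
      · exfalso
        have hk1 : k = 1 := by omega
        subst hk1
        exact hfour c hyz hyH p hpE hpc hp1 (by rw [← pow_one 2]; exact hk)
      · exact (pow_dvd_pow 2 hk2 :)
    · rw [smul_smul]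
      obtain ⟨a', ha', rfl⟩ := hd
      rcases hsq b hb with h | h <;> rw [h]
      · exact one_smul G _
      · rw [smul_smul, ← mem_centralizer_singleton_iff.1 (hEH ha'), mul_smul, hzc]
  choose! ω hω1 hω2 hω3 hω4 hω5 using hω
  obtain ⟨r1, hr1, hs1⟩ := exists_section hχ (x := x) E hxE S1
    (fun a ha c hc => by
      simp only [S1, Finset.mem_filter, Finset.mem_univ, true_and] at hc ⊢
      rw [(hne a (hEH ha) c).2, Ne, (hne a (hEH ha) c).1]; exact hc)
    (fun c => by
      simp only [S1, Finset.mem_filter, Finset.mem_univ, true_and]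
      rw [(hne x hx c).2, Ne, (hne x hx c).1])
    ω hω1 hω2 hω3 hω4 hω5
  -- combine
  let r : G ⧸ H → G := fun c => if c ∈ S1 then r1 c else if c ∈ S2 then r2 c else c.out
  have hr : ∀ c, (r c : G ⧸ H) = c := fun c => by
    simp only [r]
    split_ifs
    · exact hr1 c
    · exact hr2 c
    · exact QuotientGroup.out_eq' c
  refine ⟨r, hr, ?_⟩
  have hk1 : ∑ c ∈ S1, kappa χ r x c = 0 := by
    rw [← hs1]
    refine Finset.sum_congr rfl fun c hc => ?_
    have hxc : x • c ∈ S1 := by
      simp only [S1, Finset.mem_filter, Finset.mem_univ, true_and] at hc ⊢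
      rw [(hne x hx c).2, Ne, (hne x hx c).1]; exact hc
    simp only [kappa, r, if_pos hc, if_pos hxc]
  have hk2 : ∑ c ∈ S2, kappa χ r x c = 0 := by
    rw [← hs2]
    refine Finset.sum_congr rfl fun c hc => ?_
    have hxc : x • c ∈ S2 := by
      simp only [S2, Finset.mem_filter, Finset.mem_univ, true_and] at hc ⊢
      rw [(hne x hx c).2]; exact hc
    have hn1 : ∀ d ∈ S2, d ∉ S1 := fun d hd hd' => by
      simp only [S1, S2, Finset.mem_filter, Finset.mem_univ, true_and] at hd hd'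
      exact hd hd'.2
    simp only [kappa, r, if_neg (hn1 c hc), if_neg (hn1 _ hxc), if_pos hc, if_pos hxc]
  have hS0 : S0 = {((1 : G) : G ⧸ H)} := by
    ext c
    simp only [S0, Finset.mem_filter, Finset.mem_univ, true_and, Finset.mem_singleton]
    constructor
    · intro h
      rw [← QuotientGroup.out_eq' c, QuotientGroup.eq, mul_one, inv_mem_iff, mem_centralizer_singleton_iff]
      exact mul_inv_eq_iff_eq_mul.1 h
    · intro h
      have hm : c.out ∈ H := by
        rw [← inv_mem_iff, ← mul_one c.out⁻¹, ← QuotientGroup.eq, QuotientGroup.out_eq', h]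
      show c.out * z * c.out⁻¹ = z
      rw [mem_centralizer_singleton_iff.1 hm, mul_inv_cancel_right]
  have huniv : ∑ c, kappa χ r x c =
      ∑ c ∈ S0, kappa χ r x c + (∑ c ∈ S1, kappa χ r x c + ∑ c ∈ S2, kappa χ r x c) := by
    rw [← Finset.sum_union, ← Finset.sum_union]
    · refine Finset.sum_congr (Finset.ext fun c => ?_) (fun _ _ => rfl)
      simp only [Finset.mem_univ, Finset.mem_union, S0, S1, S2, Finset.mem_filter, true_and, true_iff]
      tauto
    · rw [Finset.disjoint_left]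
      intro c h1 h2'
      simp only [Finset.mem_union, S0, S1, S2, Finset.mem_filter, Finset.mem_univ, true_and] at h1 h2'
      rcases h2' with h | h
      · exact h.1 h1
      · exact h (by rw [h1]; exact hzH)
    · rw [Finset.disjoint_left]
      intro c h1 h2'
      simp only [S1, S2, Finset.mem_filter, Finset.mem_univ, true_and] at h1 h2'
      exact h2' h1.2
  have htot : ∑ c, kappa χ r x c = kappa χ r x ((1 : G) : G ⧸ H) := by
    rw [huniv, hk1, hk2, add_zero, add_zero, hS0, Finset.sum_singleton]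
  set c0 := ((1 : G) : G ⧸ H)
  have hxc0 : x • c0 = c0 := by
    show ((x * 1 : G) : G ⧸ H) = _
    rw [QuotientGroup.eq]
    simpa using inv_mem hx
  have hrH : r c0 ∈ H := by
    have := QuotientGroup.eq.1 (hr c0)
    simpa using this
  rw [show kappa χ r x c0 = χ ((r c0)⁻¹ * x * r c0) by rw [kappa, hxc0]] at htot
  rw [← conj' hχ (inv_mem hrH) hx, inv_inv]
  convert htot

/-- A character killing the twisted values of `z` is trivial if the relevant indices are large. -/
theorem char_zero_of_index (hno : ∀ f : G →* Multiplicative (ZMod 2), ∀ g, f g = 1) {z : G} (hzz : z * z = 1) (hz1 : z ≠ 1)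
    (E : Subgroup G) (hEH : E ≤ centralizer ({z} : Set G))
    (hEn : ∀ h ∈ centralizer ({z} : Set G), ∀ e ∈ E, h * e * h⁻¹ ∈ E)
    (hext : Cfsg.IsExtraspecial 2 E) (hcent : centralizer (E : Set G) ≤ E)
    {χ : G → ZMod 2} (hχ : Additive' (centralizer ({z} : Set G)) χ)
    (hu0 : ∀ c : G ⧸ centralizer ({z} : Set G), cj z c ∈ centralizer ({z} : Set G) → χ (c.out⁻¹ * z * c.out) = 0)
    (hfour : ∀ c : G ⧸ centralizer ({z} : Set G), cj z c ≠ z → cj z c ∈ centralizer ({z} : Set G) →
      ∀ p ∈ E, p • c = c → χ (c.out⁻¹ * p * c.out) ≠ 0 → (MulAction.stabilizer E c).index ≠ 2) :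
    ∀ x ∈ centralizer ({z} : Set G), χ x = 0 := by
  intro x hx
  haveI := Fintype.ofFinite (G ⧸ centralizer ({z} : Set G))
  obtain ⟨r, hr, h⟩ := transfer_eq_of_index hzz hz1 E hEH hEn hext hcent hχ hu0 hfour x hx
  rw [← h, sum_kappa_eq_zero hno hχ hr x]

/-- A character killing involutions and square roots of commutators is trivial. -/
theorem char_zero (hno : ∀ f : G →* Multiplicative (ZMod 2), ∀ g, f g = 1) {z : G} (hzz : z * z = 1) (hz1 : z ≠ 1)
    (E : Subgroup G) (hEH : E ≤ centralizer ({z} : Set G))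
    (hEn : ∀ h ∈ centralizer ({z} : Set G), ∀ e ∈ E, h * e * h⁻¹ ∈ E)
    (hext : Cfsg.IsExtraspecial 2 E) (hcent : centralizer (E : Set G) ≤ E)
    {χ : G → ZMod 2} (hχ : Additive' (centralizer ({z} : Set G)) χ)
    (h2 : ∀ h ∈ centralizer ({z} : Set G), h * h = 1 → χ h = 0)
    (hc : ∀ h ∈ centralizer ({z} : Set G), ∀ a ∈ centralizer ({z} : Set G), ∀ b ∈ centralizer ({z} : Set G),
      h * h = a * b * a⁻¹ * b⁻¹ → χ h = 0) :
    ∀ x ∈ centralizer ({z} : Set G), χ x = 0 := by
  refine char_zero_of_index hno hzz hz1 E hEH hEn hext hcent hχ (fun c hyH => ?_)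
    (index_ne_two hzz hz1 E hEH hEn hext hcent h2 hc)
  have hzc : z • c = c := (smul_eq_iff_comm z c).2 (mem_centralizer_singleton_iff.1 hyH).symm
  refine h2 _ ?_ ?_
  · rw [mul_assoc, ← QuotientGroup.eq, QuotientGroup.out_eq']
    conv_lhs => rw [← hzc, ← QuotientGroup.out_eq' c]
    rfl
  · rw [show c.out⁻¹ * z * c.out * (c.out⁻¹ * z * c.out) = c.out⁻¹ * (z * z) * c.out by group, hzz]; group

end CfsgLib.InvolChar.LargeExtraChar
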