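import Mathlib
import Cfsg.Prelude.Def_Transfer
import Cfsg.Prelude.Def_CaseTheorems
import Cfsg.Agent.Lib.Cores.Basic
import Cfsg.Agent.Lib.LargeExtra.Extraspecial

/-!
A transfer argument for a large extraspecial subgroup: it lies in every subgroup of index two of the
centralizer of its central involution.
-/

set_option autoImplicit false
set_option linter.style.haveILetI false

namespace CfsgLib.InvolChar.LargeExtraTransfer

open Subgroup
open scoped commutatorElement

variable {G : Type*} [Group G] [Finite G]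

/-- In an extraspecial group of order at least `32` a subgroup of index at most two is nonabelian. -/
theorem exists_noncomm {E : Type*} [Group E] [Finite E] (hE : Cfsg.IsExtraspecial 2 E)
    (h32 : 32 ≤ Nat.card E) (M : Subgroup E) (hM : Nat.card E ≤ 2 * Nat.card M) :
    ∃ a ∈ M, ∃ b ∈ M, a * b ≠ b * a := by
  by_contra hcomm
  push Not at hcomm
  have hc2 := CfsgLib.LargeExtra.centre_card hE
  have hne : M ≠ ⊤ := by
    intro ht
    have : center E = ⊤ := eq_top_iff.2 fun x _ => mem_center_iff.2 fun y =>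
      hcomm y (ht ▸ mem_top y) x (ht ▸ mem_top x)
    rw [this, card_top] at hc2
    omega
  obtain ⟨v, hv⟩ : ∃ v, v ∉ M := by
    by_contra hno
    push Not at hno
    exact hne ((eq_top_iff' M).2 hno)
  have hle : M ⊓ centralizer ({v} : Set E) ≤ center E := by
    intro a ha
    have hMa : ∀ m ∈ M, a * m = m * a := fun m hm => hcomm a ha.1 m hm
    have htop : M ⊔ zpowers v = ⊤ := by
      set N := M ⊔ zpowers v with hN
      have hlt : M < N := lt_of_le_of_ne le_sup_left fun e => hv (e ▸ mem_sup_right (mem_zpowers v))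
      refine (card_eq_iff_eq_top N).1 ?_
      obtain ⟨c, hc⟩ := card_dvd_of_le hlt.le
      obtain ⟨c', hc'⟩ := card_subgroup_dvd_card N
      have h1 : 2 ≤ c := by
        rcases Nat.lt_or_ge c 2 with h | h
        · interval_cases c
          · rw [mul_zero] at hc; exact absurd hc Nat.card_pos.ne'
          · exact absurd (eq_of_le_of_card_ge hlt.le (le_of_eq (by rw [hc, mul_one]))) hlt.ne
        · exact h
      have hp : 0 < Nat.card M := Nat.card_pos
      have hMN : 2 * Nat.card M ≤ Nat.card N := by rw [hc, mul_comm 2]; exact Nat.mul_le_mul_left _ h1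
      have := card_le_card_group N
      omega
    refine mem_center_iff.2 fun g => ?_
    have hg : g ∈ M ⊔ zpowers v := htop ▸ mem_top g
    have hsub : M ⊔ zpowers v ≤ centralizer ({a} : Set E) := by
      refine sup_le (fun m hm => ?_) ?_
      · exact mem_centralizer_singleton_iff.2 (hMa m hm).symm
      · rw [zpowers_le]
        exact mem_centralizer_singleton_iff.2 (mem_centralizer_singleton_iff.1 ha.2).symm
    exact mem_centralizer_singleton_iff.1 (hsub hg)
  have h1 := CfsgLib.LargeExtra.card_le_two_mul_centralizer hE v M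
  have h2 := card_le_of_le hle
  omega

/-- A group without nontrivial `2`-quotient has no homomorphism onto `ℤˣ`. -/
theorem hom_units_trivial (hres : Cfsg.pResidual 2 G = ⊤) (f : G →* ℤˣ) (g : G) : f g = 1 := by
  have h : Cfsg.pResidual 2 G ≤ f.ker := by
    rw [Cfsg.pResidual, closure_le]
    intro x hx
    have h1 : orderOf (f x) ∣ 2 := orderOf_dvd_of_pow_eq_one (Int.units_sq (f x))
    have h2 : orderOf (f x) ∣ orderOf x := orderOf_map_dvd f x
    exact MonoidHom.mem_ker.2 (orderOf_eq_one_iff.1 (Nat.dvd_one.1 (hx.gcd_eq_one ▸ Nat.dvd_gcd h2 h1)))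
  exact MonoidHom.mem_ker.1 (h (hres ▸ mem_top g))

/-- The sign of an involutive permutation from its number of moved points. -/
theorem sign_of_sq {α : Type*} [Fintype α] [DecidableEq α] (σ : Equiv.Perm α) (hσ : σ * σ = 1) :
    Equiv.Perm.sign σ = (-1) ^ (σ.support.card / 2) := by
  by_cases h1 : σ = 1
  · simp [h1]
  have ho : orderOf σ = 2 := orderOf_eq_prime (by rw [sq, hσ]) h1
  obtain ⟨m, hm⟩ := Equiv.Perm.cycleType_prime_order (σ := σ) (ho ▸ Nat.prime_two)
  rw [ho] at hm
  have hs : σ.support.card = (m + 1) * 2 := by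
    rw [← Equiv.Perm.sum_cycleType, hm, Multiset.sum_replicate, smul_eq_mul]
  rw [Equiv.Perm.sign_of_cycleType, hm, Multiset.sum_replicate, Multiset.card_replicate, smul_eq_mul, hs,
    Nat.mul_div_cancel _ (by norm_num), pow_add, pow_mul']
  simp

/-- A large extraspecial subgroup lies in every index-two normal subgroup of the centralizer. -/
theorem le_of_index_two (hres : Cfsg.pResidual 2 G = ⊤) (z : G) (hz : orderOf z = 2)
    (E : Subgroup G) (hE : E = (Cfsg.pCore 2 ↥(centralizer ({z} : Set G))).map (centralizer ({z} : Set G)).subtype)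
    (hext : Cfsg.IsExtraspecial 2 ↥E) (hcent : centralizer (E : Set G) ≤ E) (h32 : 32 ≤ Nat.card E)
    (K : Subgroup G) (hKH : K ≤ centralizer ({z} : Set G))
    (hKn : ∀ h ∈ centralizer ({z} : Set G), ∀ k ∈ K, h * k * h⁻¹ ∈ K)
    (hKi : K.relIndex (centralizer ({z} : Set G)) = 2) : E ≤ K := by
  classical
  haveI : Fact (Nat.Prime 2) := ⟨Nat.prime_two⟩
  set H := centralizer ({z} : Set G) with hH
  have hEH : E ≤ H := hE ▸ map_subtype_le _
  have hEn : ∀ h ∈ H, ∀ x ∈ E, h * x * h⁻¹ ∈ E := by
    intro h hh x hx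
    rw [hE] at hx ⊢
    obtain ⟨x', hx', rfl⟩ := hx
    exact ⟨⟨h, hh⟩ * x' * (⟨h, hh⟩ : H)⁻¹, (inferInstance : (Cfsg.pCore 2 H).Normal).conj_mem x' hx' _, rfl⟩
  have hEp : IsPGroup 2 E := hext.1.1
  have hz1 : z ≠ 1 := fun h => by rw [h, orderOf_one] at hz; omega
  have hzz : z * z = 1 := by rw [← sq, ← hz]; exact pow_orderOf_eq_one z
  have hzE : z ∈ E := hcent (mem_centralizer_iff.2 fun x hx =>
    mem_centralizer_singleton_iff.1 (hEH hx))
  have hzcen : (⟨z, hzE⟩ : E) ∈ center E := mem_center_iff.2 fun x =>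
    Subtype.ext (mem_centralizer_singleton_iff.1 (hEH x.2))
  have hcen : ∀ x : E, x ∈ center E → (x : G) = 1 ∨ (x : G) = z := by
    obtain ⟨w, -, -, hw⟩ := CfsgLib.LargeExtra.exists_centre_gen hext
    intro x hx
    rcases hw _ hzcen with h | h
    · exact absurd (congrArg Subtype.val h) hz1
    · rcases hw x hx with h' | h'
      · exact Or.inl (by rw [h']; rfl)
      · exact Or.inr (by rw [h', ← h])
  have hcz : ∀ x ∈ E, x * z = z * x := fun x hx => mem_centralizer_singleton_iff.1 (hEH hx)
  have hcomm : ∀ a ∈ E, ∀ b ∈ E, a * b * a⁻¹ * b⁻¹ = 1 ∨ a * b * a⁻¹ * b⁻¹ = z := fun a ha b hb =>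
    hcen _ (CfsgLib.LargeExtra.comm_mem_center hext ⟨a, ha⟩ ⟨b, hb⟩)
  have hsq : ∀ a ∈ E, a * a = 1 ∨ a * a = z := fun a ha =>
    hcen _ (CfsgLib.LargeExtra.sq_mem_center hext ⟨a, ha⟩)
  haveI hKHn : (K.subgroupOf H).Normal := ⟨fun k hk h => mem_subgroupOf.2 (by
    simpa using hKn h h.2 k (mem_subgroupOf.1 hk))⟩
  have hKidx : (K.subgroupOf H).index = 2 := hKi
  have hmul : ∀ a ∈ H, ∀ b ∈ H, (a * b ∈ K ↔ (a ∈ K ↔ b ∈ K)) := by
    intro a ha b hb
    have := mul_mem_iff_of_index_two hKidx (a := ⟨a, ha⟩) (b := ⟨b, hb⟩)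
    simpa [mem_subgroupOf] using this
  have hcommK : ∀ a ∈ H, ∀ b ∈ H, a * b * a⁻¹ * b⁻¹ ∈ K := by
    intro a ha b hb
    rw [hmul _ (mul_mem (mul_mem ha hb) (inv_mem ha)) _ (inv_mem hb),
      hmul _ (mul_mem ha hb) _ (inv_mem ha), hmul _ ha _ hb, inv_mem_iff, inv_mem_iff]
    tauto
  have hzK : z ∈ K := by
    obtain ⟨a, -, b, -, hab⟩ := exists_noncomm hext h32 ⊤ (by rw [card_top]; omega)
    rcases hcomm a a.2 b b.2 with h | h
    · exact absurd (Subtype.ext (mul_inv_eq_iff_eq_mul.1 (mul_inv_eq_one.1 h))) hab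
    · exact h ▸ hcommK a (hEH a.2) b (hEH b.2)
  by_contra hEK
  obtain ⟨u, huE, huK⟩ := SetLike.not_le_iff_exists.1 hEK
  -- an involution of `E` outside `K`
  obtain ⟨e, heE, heK, hee⟩ : ∃ e, e ∈ E ∧ e ∉ K ∧ e * e = 1 := by
    rcases hsq u huE with hu | hu
    · exact ⟨u, huE, huK, hu⟩
    let u' : E := ⟨u, huE⟩
    set M := K.subgroupOf E ⊓ centralizer ({u'} : Set E) with hMdef
    let N : Subgroup E := M ⊔ zpowers u'
    have hM0 : Nat.card E ≤ 2 * Nat.card (K.subgroupOf E) := by
      have h1 := card_mul_index (K.subgroupOf E)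
      have h2 : (K.subgroupOf E).index ≤ 2 := by
        show K.relIndex E ≤ 2
        rw [← hKi]
        exact relIndex_le_of_le_right hEH (by rw [hKi]; norm_num)
      have h3 := Nat.mul_le_mul_left (Nat.card (K.subgroupOf E)) h2
      rw [h1] at h3
      omega
    have hM1 : Nat.card (K.subgroupOf E) ≤ 2 * Nat.card M :=
      CfsgLib.LargeExtra.card_le_two_mul_centralizer hext u' _
    have hMnc : ∃ a ∈ M, ∃ b ∈ M, a * b ≠ b * a := by
      by_contra hno
      push Not at hno
      have hu'M : u' ∉ M := fun h => huK (mem_subgroupOf.1 h.1)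
      have hN : 2 * Nat.card M ≤ Nat.card N := by
        obtain ⟨c, hc⟩ := card_dvd_of_le (le_sup_left : M ≤ N)
        have hc2 : 2 ≤ c := by
          rcases Nat.lt_or_ge c 2 with h | h
          · interval_cases c
            · rw [mul_zero] at hc; exact absurd hc Nat.card_pos.ne'
            · have : M = N := eq_of_le_of_card_ge le_sup_left (le_of_eq (by rw [hc, mul_one]))
              exact absurd (this ▸ mem_sup_right (mem_zpowers u') : u' ∈ M) hu'M
          · exact h
        rw [hc, mul_comm 2]; exact Nat.mul_le_mul_left _ hc2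
      obtain ⟨a, ha, b, hb, hab⟩ := exists_noncomm hext h32 N (by omega)
      apply hab
      have hNc : N ≤ centralizer ((M : Set E) ∪ {u'}) := by
        refine sup_le (fun m hm => mem_centralizer_iff.2 ?_) ?_
        · rintro x (hx | rfl)
          · exact hno x hx m hm
          · exact (mem_centralizer_singleton_iff.1 hm.2).symm
        · rw [zpowers_le]
          refine mem_centralizer_iff.2 ?_
          rintro x (hx | rfl)
          · exact mem_centralizer_singleton_iff.1 hx.2
          · rfl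
      have hsub : N ≤ centralizer ({a} : Set E) := by
        refine sup_le (fun m hm => ?_) ?_
        · exact mem_centralizer_singleton_iff.2 (mem_centralizer_iff.1 (hNc ha) m (Or.inl hm))
        · rw [zpowers_le]
          exact mem_centralizer_singleton_iff.2 (mem_centralizer_iff.1 (hNc ha) u' (Or.inr rfl))
      exact (mem_centralizer_singleton_iff.1 (hsub hb)).symm
    obtain ⟨m, hm, hmm⟩ : ∃ m ∈ M, (m : G) * m = z := by
      by_contra hno
      push Not at hno
      obtain ⟨a, ha, b, hb, hab⟩ := hMnc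
      apply hab
      have hinv : ∀ c ∈ M, c⁻¹ = c := fun c hc => inv_eq_of_mul_eq_one_right (Subtype.ext
        ((hsq c c.2).resolve_right (hno c hc)))
      rw [← hinv _ (mul_mem ha hb), _root_.mul_inv_rev, hinv a ha, hinv b hb]
    refine ⟨u * m, mul_mem huE m.2, ?_, ?_⟩
    · rw [hmul u (hEH huE) m (hEH m.2)]
      have := mem_subgroupOf.1 hm.1
      tauto
    · have hc : (m : G) * u = u * m := congrArg Subtype.val (mem_centralizer_singleton_iff.1 hm.2)
      rw [mul_assoc, ← mul_assoc (m : G), hc, mul_assoc, ← mul_assoc, hu, hmm, hzz]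
  have he1 : e ≠ 1 := fun h => heK (h ▸ one_mem K)
  have hez : e ≠ z := fun h => heK (h ▸ hzK)
  -- the centralizer of `e` in `E`
  set P := E ⊓ centralizer ({e} : Set G) with hP
  have hPp : IsPGroup 2 P := hEp.of_injective (inclusion inf_le_left) (inclusion_injective _)
  let e' : E := ⟨e, heE⟩
  have hP' : ∀ x : E, (x : G) ∈ P ↔ x ∈ centralizer ({e'} : Set E) := fun x => by
    rw [hP, mem_inf, mem_centralizer_singleton_iff, mem_centralizer_singleton_iff, Subtype.ext_iff]
    exact ⟨fun h => h.2, fun h => ⟨x.2, h⟩⟩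
  obtain ⟨f, hfE, hfe⟩ : ∃ f ∈ E, e * f * e⁻¹ * f⁻¹ = z := by
    by_contra hno
    push Not at hno
    have : e' ∈ center E := mem_center_iff.2 fun x => Subtype.ext (by
      have := (hcomm e heE x x.2).resolve_right (hno x x.2)
      exact (mul_inv_eq_iff_eq_mul.1 (mul_inv_eq_one.1 this)).symm)
    rcases hcen _ this with h | h
    · exact he1 h
    · exact hez h
  have hPnc : ∃ a ∈ P, ∃ b ∈ P, a * b * a⁻¹ * b⁻¹ = z := by
    have h1 : Nat.card E ≤ 2 * Nat.card (centralizer ({e'} : Set E)) := by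
      have := CfsgLib.LargeExtra.card_le_two_mul_centralizer hext e' ⊤
      rwa [card_top, top_inf_eq] at this
    obtain ⟨a, ha, b, hb, hab⟩ := exists_noncomm hext h32 _ h1
    refine ⟨a, (hP' a).2 ha, b, (hP' b).2 hb, (hcomm a a.2 b b.2).resolve_left fun h => hab ?_⟩
    exact Subtype.ext (mul_inv_eq_iff_eq_mul.1 (mul_inv_eq_one.1 h))
  -- conjugates of `z` centralizing `P`
  have hkey : ∀ y : G, (∀ p ∈ P, y * p = p * y) → y = 1 ∨ y = z ∨ y = e ∨ y = e * z := by
    intro y hy
    have hyH : y ∈ H := mem_centralizer_singleton_iff.2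
      (hy z ⟨hzE, mem_centralizer_singleton_iff.2 (hcz e heE).symm⟩)
    set w : E := ⟨f⁻¹ * (y * f * y⁻¹), mul_mem (inv_mem hfE) (hEn y hyH f hfE)⟩ with hwdef
    have hw : w ∈ centralizer ((centralizer ((center E ⊔ zpowers e' : Subgroup E) : Set E)) : Set E) := by
      refine mem_centralizer_iff.2 fun p hp => Subtype.ext ?_
      have hpe : (p : G) ∈ P := by
        refine (hP' p).2 (mem_centralizer_singleton_iff.2 ?_)
        exact (mem_centralizer_iff.1 hp e' (mem_sup_right (mem_zpowers e'))).symm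
      have hp' : f * p * f⁻¹ ∈ P := by
        refine mem_inf.2 ⟨mul_mem (mul_mem hfE p.2) (inv_mem hfE), mem_centralizer_singleton_iff.2 ?_⟩
        rcases hcomm f hfE p p.2 with h | h
        · rw [mul_inv_eq_one.1 h]
          exact mem_centralizer_singleton_iff.1 hpe.2
        · rw [mul_inv_eq_iff_eq_mul.1 h, mul_assoc, mem_centralizer_singleton_iff.1 hpe.2, ← mul_assoc,
            ← hcz e heE, mul_assoc]
      show (p : G) * (f⁻¹ * (y * f * y⁻¹)) = f⁻¹ * (y * f * y⁻¹) * p
      have e1 : y⁻¹ * p = p * y⁻¹ := by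
        rw [inv_mul_eq_iff_eq_mul, ← mul_assoc, hy p hpe, mul_inv_cancel_right]
      have e2 := hy _ hp'
      calc (p : G) * (f⁻¹ * (y * f * y⁻¹)) = f⁻¹ * ((f * p * f⁻¹) * y) * f * y⁻¹ := by group
        _ = f⁻¹ * (y * (f * p * f⁻¹)) * f * y⁻¹ := by rw [e2]
        _ = f⁻¹ * y * f * (p * y⁻¹) := by group
        _ = f⁻¹ * y * f * (y⁻¹ * p) := by rw [e1]
        _ = f⁻¹ * (y * f * y⁻¹) * p := by group
    rw [CfsgLib.LargeExtra.centralizer_centralizer hext _ le_sup_left, mem_sup_of_normal_left] at hw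
    obtain ⟨c, hc, d, hd, hcd⟩ := hw
    obtain ⟨k, rfl⟩ := mem_zpowers_iff.1 hd
    have hf2 : y * (f * f) * y⁻¹ = f * f := by
      rcases hsq f hfE with h | h <;> rw [h]
      · group
      · rw [mem_centralizer_singleton_iff.1 hyH, mul_inv_cancel_right]
    have hek : (e' ^ k : E) = 1 ∨ (e' ^ k : E) = e' := by
      have h2 : (e' : E) ^ (2 : ℤ) = 1 := by
        rw [zpow_two]
        exact Subtype.ext hee
      rcases Int.even_or_odd' k with ⟨j, rfl | rfl⟩
      · exact Or.inl (by rw [_root_.zpow_mul, h2, one_zpow])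
      · exact Or.inr (by rw [_root_.zpow_add, _root_.zpow_mul, h2, one_zpow, one_mul, zpow_one])
    have hfix : ∀ v : G, (∀ p ∈ P, v * p = p * v) → v * f = f * v → v = 1 ∨ v = z := by
      intro v hv hvf
      have hvC : v ∈ centralizer (E : Set G) := by
        refine mem_centralizer_iff.2 fun x hx => ?_
        rcases hcomm e heE x hx with h | h
        · exact (hv x ⟨hx, mem_centralizer_singleton_iff.2 (mul_inv_eq_iff_eq_mul.1 (mul_inv_eq_one.1 h)).symm⟩).symm
        · have hxf : x * f⁻¹ ∈ P := by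
            have hzx : z * (x * f⁻¹) = x * f⁻¹ * z := (hcz _ (mul_mem hx (inv_mem hfE))).symm
            refine mem_inf.2 ⟨mul_mem hx (inv_mem hfE), mem_centralizer_singleton_iff.2 ?_⟩
            have h1 : e * x * e⁻¹ = z * x := mul_inv_eq_iff_eq_mul.1 h
            have h2 : e * f * e⁻¹ = z * f := mul_inv_eq_iff_eq_mul.1 hfe
            have h5 : e * (x * f⁻¹) * e⁻¹ = x * f⁻¹ := by
              calc e * (x * f⁻¹) * e⁻¹ = (e * x * e⁻¹) * (e * f * e⁻¹)⁻¹ := by group
                _ = z * (x * f⁻¹) * z⁻¹ := by rw [h1, h2]; group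
                _ = x * f⁻¹ := by rw [hzx, mul_inv_cancel_right]
            exact (mul_inv_eq_iff_eq_mul.1 h5).symm
          have h3 := hv _ hxf
          calc x * v = (x * f⁻¹) * f * v := by group
            _ = (x * f⁻¹) * (v * f) := by rw [hvf]; group
            _ = v * (x * f⁻¹) * f := by rw [h3]; group
            _ = v * x := by group
      have hvE : v ∈ E := hcent hvC
      rcases hcen ⟨v, hvE⟩ (mem_center_iff.2 fun x => Subtype.ext
        (mem_centralizer_iff.1 hvC x x.2)) with h | h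
      · exact Or.inl h
      · exact Or.inr h
    have hwv : f⁻¹ * (y * f * y⁻¹) = (c : G) * ((e' ^ k : E) : G) := by
      have := congrArg Subtype.val hcd
      exact this.symm
    rcases hek with hk | hk <;> rw [hk] at hwv
    · rw [OneMemClass.coe_one, mul_one] at hwv
      rcases hcen c hc with hc' | hc' <;> rw [hc'] at hwv
      · rcases hfix y hy (mul_inv_eq_iff_eq_mul.1 (inv_mul_eq_one.1 hwv).symm) with h | h
        · exact Or.inl h
        · exact Or.inr (Or.inl h)
      · -- `y * e` centralizes `E`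
        have hyf : y * f = f * z * y := by
          rw [← hwv]; group
        have h2 : (y * e) * f = f * (y * e) := by
          have h3 : e * f = z * (f * e) := by
            have := hfe
            rw [mul_inv_eq_iff_eq_mul, mul_inv_eq_iff_eq_mul] at this
            rw [this]; group
          calc (y * e) * f = y * (e * f) := mul_assoc _ _ _
            _ = z * (y * f) * e := by
              rw [h3, ← mul_assoc, mem_centralizer_singleton_iff.1 hyH]; group
            _ = (z * (f * z)) * y * e := by rw [hyf]; group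
            _ = (z * z) * f * y * e := by rw [hcz f hfE]; group
            _ = f * (y * e) := by rw [hzz]; group
        have h4 : ∀ p ∈ P, (y * e) * p = p * (y * e) := fun p hp => by
          rw [mul_assoc, ← mem_centralizer_singleton_iff.1 hp.2, ← mul_assoc, hy p hp, mul_assoc]
        rcases hfix _ h4 h2 with h | h
        · exact Or.inr (Or.inr (Or.inl (by rw [eq_inv_of_mul_eq_one_left h, inv_eq_of_mul_eq_one_right hee])))
        · refine Or.inr (Or.inr (Or.inr ?_))
          rw [eq_mul_inv_of_mul_eq h, inv_eq_of_mul_eq_one_right hee, hcz e heE]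
    · exfalso
      have hyf : y * f * y⁻¹ = f * ((c : G) * e) := by
        rw [← hwv]; group
      have h1 : f * ((c : G) * e) * (f * ((c : G) * e)) = f * f := by
        rw [← hyf, ← hf2]; group
      have hcc : (c : G) * c = 1 := by
        rcases hcen c hc with h | h <;> rw [h]
        · exact one_mul 1
        · exact hzz
      have hcx : ∀ x ∈ E, x * (c : G) = c * x := by
        intro x hx
        rcases hcen c hc with h | h <;> rw [h]
        · rw [mul_one, one_mul]
        · exact hcz x hx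
      have h2 : e * f * e = f := by
        have h3 : f * ((c : G) * e) * (f * ((c : G) * e)) = f * ((c : G) * c) * (e * f * e) := by
          calc f * ((c : G) * e) * (f * ((c : G) * e)) = f * (c : G) * (e * (f * (c : G))) * e := by group
            _ = f * (c : G) * (e * ((c : G) * f)) * e := by rw [hcx f hfE]
            _ = f * (c : G) * ((e * (c : G)) * f) * e := by group
            _ = f * (c : G) * (((c : G) * e) * f) * e := by rw [hcx e heE]
            _ = _ := by group
        rw [h3, hcc, mul_one] at h1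
        exact mul_left_cancel h1
      apply hz1
      rw [← hfe, inv_eq_of_mul_eq_one_right hee, h2, mul_inv_cancel]
  -- counting
  haveI : Fintype (G ⧸ K) := Fintype.ofFinite _
  let π : G ⧸ K → G ⧸ H := Subgroup.quotientMapOfLE hKH
  let Y := {y : G ⧸ H // ∃ g : G, (g : G ⧸ H) = y ∧ g⁻¹ * e * g ∈ K}
  have hwd : ∀ g g' : G, (g : G ⧸ H) = (g' : G ⧸ H) → g⁻¹ * e * g ∈ K → g'⁻¹ * e * g' ∈ K := by
    intro g g' hg hk
    have hh : g⁻¹ * g' ∈ H := QuotientGroup.eq.1 hg
    have := hKn _ (inv_mem hh) _ hk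
    have heq : g'⁻¹ * e * g' = (g⁻¹ * g')⁻¹ * (g⁻¹ * e * g) * (g⁻¹ * g')⁻¹⁻¹ := by group
    rwa [heq]
  letI : MulAction P Y :=
    { smul := fun p y => ⟨(p : G) • y.1, by
        obtain ⟨g, hg, hk⟩ := y.2
        refine ⟨(p : G) * g, by rw [← hg]; rfl, ?_⟩
        have hpe : (p : G)⁻¹ * e * p = e := by
          rw [mul_assoc, ← mem_centralizer_singleton_iff.1 p.2.2, inv_mul_cancel_left]
        have heq : ((p : G) * g)⁻¹ * e * ((p : G) * g) = g⁻¹ * ((p : G)⁻¹ * e * p) * g := by group
        rwa [heq, hpe]⟩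
      one_smul := fun y => Subtype.ext (one_smul G y.1)
      mul_smul := fun p q y => Subtype.ext (mul_smul (p : G) (q : G) y.1) }
  have hYeven : Even (Nat.card Y) := by
    have hmod := hPp.card_modEq_card_fixedPoints Y
    suffices h : Even (Nat.card (MulAction.fixedPoints P Y)) by
      rw [Nat.even_iff] at h ⊢
      rw [hmod]; exact h
    set X0 := MulAction.fixedPoints P Y
    have hX : ∀ y ∈ X0, ∀ g : G, (g : G ⧸ H) = y.1 → g⁻¹ * e * g ∈ K ∧ (∀ p ∈ P, g⁻¹ * p * g ∈ H) ∧
        (g * z * g⁻¹ = e ∨ g * z * g⁻¹ = e * z) := by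
      intro y hy g hg
      obtain ⟨g', hg', hk'⟩ := y.2
      have hk := hwd g' g (hg'.trans hg.symm) hk'
      have hp : ∀ p ∈ P, g⁻¹ * p * g ∈ H := by
        intro p hp
        have h1 := congrArg Subtype.val (hy ⟨p, hp⟩)
        change p • y.1 = y.1 at h1
        rw [← hg] at h1
        have h2 := QuotientGroup.eq.1 h1.symm
        simpa [mul_assoc] using h2
      refine ⟨hk, hp, ?_⟩
      rcases hkey (g * z * g⁻¹) (fun p hpP => by
          have h3 := mem_centralizer_singleton_iff.1 (hp p hpP)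
          calc g * z * g⁻¹ * p = g * (z * (g⁻¹ * p * g)) * g⁻¹ := by group
            _ = g * ((g⁻¹ * p * g) * z) * g⁻¹ := by rw [h3]
            _ = p * (g * z * g⁻¹) := by group) with h | h | h | h
      · exact absurd (by simpa using h) hz1
      · exfalso
        have hgH : g ∈ H := mem_centralizer_singleton_iff.2 (mul_inv_eq_iff_eq_mul.1 h)
        apply heK
        have h4 := hKn g hgH _ hk
        have heq : g * (g⁻¹ * e * g) * g⁻¹ = e := by group
        rwa [heq] at h4
      · exact Or.inl h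
      · exact Or.inr h
    by_cases hne : ∃ y, y ∈ X0
    swap
    · have : IsEmpty X0 := ⟨fun y => hne ⟨y.1, y.2⟩⟩
      simp
    obtain ⟨y, hy⟩ := hne
    obtain ⟨g, hg⟩ := QuotientGroup.mk_surjective y.1
    obtain ⟨hk, hp, hgz⟩ := hX y hy g hg
    have hzK' : g⁻¹ * z * g ∈ K := by
      obtain ⟨a, ha, b, hb, hab⟩ := hPnc
      rw [← hab]
      have heq : g⁻¹ * (a * b * a⁻¹ * b⁻¹) * g =
          (g⁻¹ * a * g) * (g⁻¹ * b * g) * (g⁻¹ * a * g)⁻¹ * (g⁻¹ * b * g)⁻¹ := by group
      rw [heq]
      exact hcommK _ (hp a ha) _ (hp b hb)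
    have hfef : f⁻¹ * e * f = z * e := by
      have := hfe
      rw [mul_inv_eq_iff_eq_mul, mul_inv_eq_iff_eq_mul] at this
      rw [mul_assoc, this]
      calc f⁻¹ * (z * f * e) = f⁻¹ * (z * f) * e := by group
        _ = f⁻¹ * (f * z) * e := by rw [hcz f hfE]
        _ = z * e := by group
    let y2 : Y := ⟨((f * g : G) : G ⧸ H), f * g, rfl, by
      have heq : (f * g)⁻¹ * e * (f * g) = g⁻¹ * (f⁻¹ * e * f) * g := by group
      rw [heq, hfef]
      have heq2 : g⁻¹ * (z * e) * g = (g⁻¹ * z * g) * (g⁻¹ * e * g) := by group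
      rw [heq2]
      exact mul_mem hzK' hk⟩
    have hy2 : y2 ∈ X0 := by
      intro p
      refine Subtype.ext (QuotientGroup.eq.2 ?_)
      have hp' : f⁻¹ * (p : G)⁻¹ * f ∈ P := by
        refine mem_inf.2 ⟨mul_mem (mul_mem (inv_mem hfE) (inv_mem (mem_inf.1 p.2).1)) hfE, mem_centralizer_singleton_iff.2 ?_⟩
        have hpi : (p : G)⁻¹ * e = e * (p : G)⁻¹ :=
          mem_centralizer_singleton_iff.1 (inv_mem (mem_inf.1 p.2).2)
        have hq : f⁻¹ * (p : G)⁻¹ * f * ((p : G)⁻¹)⁻¹ = 1 ∨ f⁻¹ * (p : G)⁻¹ * f * ((p : G)⁻¹)⁻¹ = z := by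
          simpa using hcomm f⁻¹ (inv_mem hfE) (p : G)⁻¹ (inv_mem (mem_inf.1 p.2).1)
        rcases hq with h | h <;> rw [mul_inv_eq_iff_eq_mul.1 h]
        · rw [one_mul]; exact hpi
        · rw [mul_assoc, hpi, ← mul_assoc, ← mul_assoc, hcz e heE]
      have := hp _ hp'
      have heq : ((p : G) * (f * g))⁻¹ * (f * g) = g⁻¹ * (f⁻¹ * (p : G)⁻¹ * f) * g := by group
      show ((p : G) * (f * g))⁻¹ * (f * g) ∈ H
      rwa [heq]
    have hinj : ∀ a b : G, a * z * a⁻¹ = b * z * b⁻¹ → (a : G ⧸ H) = (b : G ⧸ H) := by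
      intro a b hab
      refine QuotientGroup.eq.2 (mem_centralizer_singleton_iff.2 ?_)
      calc a⁻¹ * b * z = a⁻¹ * (b * z * b⁻¹) * b := by group
        _ = a⁻¹ * (a * z * a⁻¹) * b := by rw [hab]
        _ = z * (a⁻¹ * b) := by group
    have hne2 : y ≠ y2 := by
      intro h
      have h1 : (g : G ⧸ H) = ((f * g : G) : G ⧸ H) := hg.trans (congrArg Subtype.val h)
      have h2 := mem_centralizer_singleton_iff.1 (QuotientGroup.eq.1 h1)
      have h3 : f * (g * z * g⁻¹) * f⁻¹ = g * z * g⁻¹ := by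
        calc f * (g * z * g⁻¹) * f⁻¹ = g * (g⁻¹ * (f * g) * z) * g⁻¹ * f⁻¹ := by group
          _ = g * (z * (g⁻¹ * (f * g))) * g⁻¹ * f⁻¹ := by rw [h2]
          _ = g * z * g⁻¹ := by group
      have h4 : ∀ v : G, f * v * f⁻¹ = v → f⁻¹ * v * f = v := fun v hv => by
        conv_lhs => rw [← hv]
        group
      rcases hgz with hgz | hgz <;> rw [hgz] at h3 <;> have h5 := h4 _ h3
      · rw [hfef] at h5; exact hz1 (mul_eq_right.1 h5)
      · have h6 : f⁻¹ * (e * z) * f = z * e * z := by
          calc f⁻¹ * (e * z) * f = f⁻¹ * e * (z * f) := by group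
            _ = f⁻¹ * e * (f * z) := by rw [hcz f hfE]
            _ = (f⁻¹ * e * f) * z := by group
            _ = z * e * z := by rw [hfef]
        rw [h6, mul_assoc] at h5
        exact hz1 (mul_eq_right.1 h5)
    have hall : ∀ y' : X0, y'.1 = y ∨ y'.1 = y2 := by
      intro y'
      obtain ⟨a, ha⟩ := QuotientGroup.mk_surjective y'.1.1
      obtain ⟨-, -, haz⟩ := hX y'.1 y'.2 a ha
      obtain ⟨-, -, hbz⟩ := hX y2 hy2 (f * g) rfl
      have hsame : a * z * a⁻¹ = g * z * g⁻¹ ∨ a * z * a⁻¹ = f * g * z * (f * g)⁻¹ := by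
        have hdiff : f * g * z * (f * g)⁻¹ ≠ g * z * g⁻¹ := fun h => hne2 (Subtype.ext (hg.symm.trans (hinj _ _ h.symm)))
        rcases haz with h1 | h1 <;> rcases hgz with h2 | h2 <;> rcases hbz with h3 | h3 <;>
          first
            | exact Or.inl (h1.trans h2.symm)
            | exact Or.inr (h1.trans h3.symm)
            | exact absurd (h3.trans h2.symm) hdiff
      rcases hsame with h | h
      · exact Or.inl (Subtype.ext (ha.symm.trans ((hinj _ _ h).trans hg)))
      · exact Or.inr (Subtype.ext (ha.symm.trans (hinj _ _ h)))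
    have h2 : Nat.card X0 = 2 := by
      refine Nat.card_eq_two_iff.2 ⟨⟨y, hy⟩, ⟨y2, hy2⟩, fun h => hne2 (congrArg Subtype.val h), ?_⟩
      refine Set.eq_univ_iff_forall.2 fun y' => ?_
      rcases hall y' with h | h
      · exact Or.inl (Subtype.ext h)
      · exact Or.inr (Subtype.ext h)
    rw [h2]; exact even_two
  -- the permutation of `e` on the cosets of `K`
  let ρ : G →* Equiv.Perm (G ⧸ K) := MulAction.toPermHom G (G ⧸ K)
  have hodd : Odd H.index := by
    obtain ⟨P0⟩ : Nonempty (Sylow 2 H) := inferInstance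
    have hP0 : IsPGroup 2 ((P0 : Subgroup H).map H.subtype) := P0.2.map _
    obtain ⟨S, hS⟩ := hP0.exists_le_sylow
    have hES : E ≤ S := by
      refine le_trans ?_ hS
      rw [hE]
      exact map_mono (CfsgLib.Cores.pCore_le_sylow P0)
    have hSH : (S : Subgroup G) ≤ H := by
      haveI : Nontrivial (S : Subgroup G) :=
        ((S : Subgroup G).nontrivial_iff_exists_ne_one).2 ⟨z, hES hzE, hz1⟩
      haveI := S.2.center_nontrivial
      obtain ⟨⟨c, hcc⟩, hc1⟩ := exists_ne (1 : center (S : Subgroup G))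
      have hcC : (c : G) ∈ centralizer (E : Set G) := mem_centralizer_iff.2 fun x hx =>
        congrArg Subtype.val (mem_center_iff.1 hcc ⟨x, hES hx⟩)
      have hcz' : (c : G) = z := (hcen ⟨c, hcent hcC⟩ (mem_center_iff.2 fun x =>
        Subtype.ext (mem_centralizer_iff.1 hcC x x.2))).resolve_left fun h =>
          hc1 (Subtype.ext (Subtype.ext h))
      intro s hs
      exact mem_centralizer_singleton_iff.2 (hcz' ▸ congrArg Subtype.val (mem_center_iff.1 hcc ⟨s, hs⟩))
    exact Odd.of_dvd_nat (Nat.odd_iff.2 (Nat.two_dvd_ne_zero.1 S.not_dvd_index)) (index_dvd_of_le hSH)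
  have hρ : Equiv.Perm.sign (ρ e) = -1 := by
    have hsupp : (ρ e).support.card + Nat.card {x : G ⧸ K // e • x = x} = 2 * H.index := by
      rw [Nat.card_eq_fintype_card, Fintype.card_subtype]
      have h1 : (Finset.univ.filter fun x : G ⧸ K => e • x = x) = (ρ e).supportᶜ := by
        ext x
        simp [ρ]
      rw [h1, Finset.card_add_card_compl, ← Nat.card_eq_fintype_card, ← hKi, relIndex_mul_index hKH]
      rfl
    have hfix : Nat.card {x : G ⧸ K // e • x = x} = 2 * Nat.card Y := by
      have hiff : ∀ x : G ⧸ K, e • x = x ↔ ∃ g : G, (g : G ⧸ H) = (Subgroup.quotientEquivProdOfLE hKH x).1 ∧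
          g⁻¹ * e * g ∈ K := by
        intro x
        induction x using QuotientGroup.induction_on with
        | _ a =>
          have h1 : (Subgroup.quotientEquivProdOfLE hKH (a : G ⧸ K)).1 = (a : G ⧸ H) := rfl
          rw [h1]
          constructor
          · intro h
            refine ⟨a, rfl, ?_⟩
            have := QuotientGroup.eq.1 h.symm
            rwa [mul_assoc]
          · rintro ⟨g, hg, hk⟩
            refine (QuotientGroup.eq.2 ?_).symm
            have := hwd g a hg hk
            rwa [mul_assoc] at this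
      rw [Nat.card_congr (((Subgroup.quotientEquivProdOfLE hKH).subtypeEquiv
        (q := fun w => ∃ g : G, (g : G ⧸ H) = w.1 ∧ g⁻¹ * e * g ∈ K) hiff).trans
          (Equiv.prodSubtypeFstEquivSubtypeProd (p := fun y : G ⧸ H => ∃ g : G, (g : G ⧸ H) = y ∧ g⁻¹ * e * g ∈ K)))]
      rw [Nat.card_prod, show Nat.card (H ⧸ K.subgroupOf H) = 2 from hKi, mul_comm]
    rw [sign_of_sq _ (by rw [← map_mul, hee, map_one])]
    obtain ⟨i, hi⟩ := hodd
    obtain ⟨j, hj⟩ := hYeven
    have hs2 : (ρ e).support.card / 2 = 2 * (i - j) + 1 := by omega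
    rw [hs2, pow_add, pow_mul]
    simp
  have h1 : (Equiv.Perm.sign.comp ρ) e = 1 := hom_units_trivial hres (Equiv.Perm.sign.comp ρ) e
  rw [MonoidHom.comp_apply, hρ] at h1
  exact absurd h1 (by decide)

end CfsgLib.InvolChar.LargeExtraTransfer
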