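import Mathlib
import Cfsg.Prelude.Def_Transfer
import Cfsg.Agent.Lib.InvolChar.LargeExtraChar
import Cfsg.Agent.Lib.InvolChar.LargeExtraTransfer

/-!
The central involution of a large extraspecial subgroup, when it is weakly closed there.
-/

set_option autoImplicit false
set_option linter.style.haveILetI false
set_option linter.unusedSectionVars false

namespace CfsgLib.InvolChar.LargeExtraWeak

open Subgroup

variable {G : Type*} [Group G] [Finite G]

/-- The hypotheses. -/
structure Hyp (z : G) (E : Subgroup G) : Prop where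
  hzz : z * z = 1
  hz1 : z ≠ 1
  hEH : E ≤ centralizer ({z} : Set G)
  hEn : ∀ h ∈ centralizer ({z} : Set G), ∀ e ∈ E, h * e * h⁻¹ ∈ E
  hext : Cfsg.IsExtraspecial 2 E
  hcent : centralizer (E : Set G) ≤ E
  hweak : ∀ g : G, g * z * g⁻¹ ∈ E → g * z * g⁻¹ = z

variable {z : G} {E : Subgroup G}

theorem Hyp.z_mem (b : Hyp z E) : z ∈ E :=
  b.hcent (mem_centralizer_iff.2 fun e he => mem_centralizer_singleton_iff.1 (b.hEH he))

theorem Hyp.center_cases (b : Hyp z E) {e : E} (he : e ∈ center E) : (e : G) = 1 ∨ (e : G) = z := by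
  obtain ⟨w, -, -, hw⟩ := CfsgLib.LargeExtra.exists_centre_gen b.hext
  have hzc : (⟨z, b.z_mem⟩ : E) ∈ center E := mem_center_iff.2 fun x =>
    Subtype.ext (mem_centralizer_singleton_iff.1 (b.hEH x.2))
  rcases hw _ hzc with h | h
  · exact absurd (congrArg Subtype.val h) b.hz1
  · rcases hw e he with h' | h'
    · exact Or.inl (congrArg Subtype.val h')
    · exact Or.inr (congrArg Subtype.val (h'.trans h.symm))

theorem Hyp.comm_cases (b : Hyp z E) {p q : G} (hp : p ∈ E) (hq : q ∈ E) : p * q = q * p ∨ p * q = z * (q * p) := by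
  rcases b.center_cases (CfsgLib.LargeExtra.comm_mem_center b.hext ⟨p, hp⟩ ⟨q, hq⟩) with h | h
  · exact Or.inl (mul_inv_eq_iff_eq_mul.1 (mul_inv_eq_one.1 h))
  · refine Or.inr ?_
    rw [← h]; simp only [Subgroup.coe_mul, Subgroup.coe_inv]; group

theorem Hyp.sq_cases (b : Hyp z E) {p : G} (hp : p ∈ E) : p * p = 1 ∨ p * p = z :=
  b.center_cases (CfsgLib.LargeExtra.sq_mem_center b.hext ⟨p, hp⟩)

theorem Hyp.zc (b : Hyp z E) {p : G} (hp : p ∈ E) : p * z = z * p :=
  mem_centralizer_singleton_iff.1 (b.hEH hp)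

theorem Hyp.ne_z (b : Hyp z E) (x : G) : z * x ≠ x := fun h => b.hz1 (mul_eq_right.1 h)

open Classical in
/-- The commutator sign. -/
noncomputable def psi (p q : G) : ZMod 2 := if p * q = q * p then 0 else 1

theorem psi_eq_zero {p q : G} : psi p q = 0 ↔ p * q = q * p := by
  unfold psi; split_ifs with h <;> simp [h]

theorem psi_symm (p q : G) : psi p q = psi q p := by
  classical
  unfold psi; exact if_congr eq_comm rfl rfl

theorem psi_conj (g p q : G) : psi (g * p * g⁻¹) (g * q * g⁻¹) = psi p q := by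
  classical
  unfold psi
  refine if_congr ?_ rfl rfl
  rw [show g * p * g⁻¹ * (g * q * g⁻¹) = g * (p * q) * g⁻¹ by group,
    show g * q * g⁻¹ * (g * p * g⁻¹) = g * (q * p) * g⁻¹ by group]
  simp

theorem psi_mul (b : Hyp z E) {p q r : G} (hp : p ∈ E) (hq : q ∈ E) (hr : r ∈ E) :
    psi p (q * r) = psi p q + psi p r := by
  classical
  have hsum : (1 : ZMod 2) + 1 = 0 := rfl
  rcases b.comm_cases hp hq with e1 | e1 <;> rcases b.comm_cases hp hr with e2 | e2
  · have e : p * (q * r) = q * r * p := by rw [← mul_assoc, e1, mul_assoc, e2, mul_assoc]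
    simp [psi, e, e1, e2]
  · have e : p * (q * r) = z * (q * r * p) := by
      rw [← mul_assoc, e1, mul_assoc, e2, ← mul_assoc q z, b.zc hq]; group
    simp [psi, e1, e2, e, b.ne_z]
  · have e : p * (q * r) = z * (q * r * p) := by
      rw [← mul_assoc, e1, mul_assoc z, mul_assoc q, e2, mul_assoc q r p]
    simp [psi, e1, e2, e, b.ne_z]
  · have e : p * (q * r) = q * r * p := by
      rw [← mul_assoc, e1, mul_assoc z, mul_assoc q, e2, ← mul_assoc q z, b.zc hq, mul_assoc z q,
        ← mul_assoc z z, b.hzz, one_mul, mul_assoc q r p]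
    simp [psi, e1, e2, e, b.ne_z, hsum]

theorem Hyp.cent_E (b : Hyp z E) {y : G} (hy : ∀ e ∈ E, y * e = e * y) : y = 1 ∨ y = z :=
  b.center_cases (e := ⟨y, b.hcent (mem_centralizer_iff.2 fun e he => (hy e he).symm)⟩)
    (mem_center_iff.2 fun e => Subtype.ext (hy e e.2).symm)

theorem inv_move {w : G} (hw : w * w = 1) (a : G) :
    w * (w * a * w⁻¹ * a⁻¹) * w⁻¹ = (w * a * w⁻¹ * a⁻¹)⁻¹ := by
  have hi : w⁻¹ = w := inv_eq_of_mul_eq_one_right hw
  rw [show (w * a * w⁻¹ * a⁻¹)⁻¹ = a * w * a⁻¹ * w⁻¹ by group, hi]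
  simp only [← mul_assoc, hw, one_mul]

theorem card_perp (b : Hyp z E) {y : G} {e0 : G} (he0 : e0 ∈ E) (he0y : e0 * y ≠ y * e0) (hyH : y * z = z * y)
    (hidx : ∀ e ∈ E, e * y = y * e ∨ e0⁻¹ * e * y = y * (e0⁻¹ * e)) :
    Nat.card (centralizer (((centralizer ({y} : Set G)).subgroupOf E : Subgroup E) : Set E)) = 4 := by
  set P := (centralizer ({y} : Set G)).subgroupOf E
  have hmem : ∀ e : E, e ∈ P ↔ (e : G) * y = y * e := fun e => by
    rw [mem_subgroupOf, mem_centralizer_singleton_iff]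
  have hidx2 : P.index = 2 := by
    refine index_eq_two_iff.2 ⟨⟨e0, he0⟩⁻¹, fun e => ?_⟩
    by_cases h : (e : G) * y = y * e
    · refine Or.inr ⟨(hmem e).2 h, fun h' => he0y ?_⟩
      have h2 := mul_mem ((hmem e).2 h) (inv_mem h')
      rw [_root_.mul_inv_rev, inv_inv, ← mul_assoc] at h2
      have h3 := mul_mem (mul_mem (inv_mem ((hmem e).2 h)) h2) ((hmem e).2 h)
      have h4 : (⟨e0, he0⟩ : E) ∈ P := by
        simpa [mul_assoc] using h3
      exact (hmem _).1 h4
    · refine Or.inl ⟨?_, fun h' => h ((hmem e).1 h')⟩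
      have h2 : (⟨e0, he0⟩ : E)⁻¹ * e ∈ P := (hmem _).2 ((hidx e e.2).resolve_left h)
      have : P.Normal := ⟨fun m hm g => by
        rw [show g * m * g⁻¹ = (g * m * g⁻¹ * m⁻¹) * m by group]
        refine mul_mem ((hmem _).2 ?_) hm
        rcases b.center_cases (CfsgLib.LargeExtra.comm_mem_center b.hext g m) with h | h <;> rw [h]
        · simp
        · exact hyH.symm⟩
      exact this.mem_comm h2
  have hZ : center E ≤ P := fun e he => (hmem e).2 (by
    rcases b.center_cases he with h | h <;> rw [h]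
    · simp
    · exact hyH.symm)
  have h1 := CfsgLib.LargeExtra.card_centralizer_mul_card b.hext P hZ
  have h2 := card_mul_index P
  rw [hidx2] at h2
  rw [b.hext.2, ← h2] at h1
  refine Nat.eq_of_mul_eq_mul_right (Nat.card_pos (α := P)) ?_
  rw [h1]; ring

/-- Conjugate extraspecial subgroup data for a conjugate `y` of `z` centralizing a subgroup of index two. -/
theorem perp_line (b : Hyp z E) (h : G) {e0 : G} (he0 : e0 ∈ E) (hyH : (h * z * h⁻¹) * z = z * (h * z * h⁻¹))
    (hne : h * z * h⁻¹ ≠ z) (he0y : e0 * (h * z * h⁻¹) ≠ (h * z * h⁻¹) * e0)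
    (hidx : ∀ e ∈ E, e * (h * z * h⁻¹) = (h * z * h⁻¹) * e ∨
      e0⁻¹ * e * (h * z * h⁻¹) = (h * z * h⁻¹) * (e0⁻¹ * e)) :
    (∀ p ∈ E, p * (h * z * h⁻¹) = (h * z * h⁻¹) * p → ∀ a, h⁻¹ * a * h ∈ E → a * z = z * a →
        p * a * p⁻¹ * a⁻¹ ∈ E ∧ h⁻¹ * (p * a * p⁻¹ * a⁻¹) * h ∈ E) ∧
      ∃ d, (d ∈ E ∧ h⁻¹ * d * h ∈ E ∧ d * z = z * d ∧ d * (h * z * h⁻¹) = (h * z * h⁻¹) * d ∧ d * d = 1 ∧
        (∀ p ∈ E, p * (h * z * h⁻¹) = (h * z * h⁻¹) * p → p * d = d * p)) ∧
        ∀ q ∈ E, h⁻¹ * q * h ∈ E → q = 1 ∨ q = d := by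
  classical
  set y := h * z * h⁻¹ with hy
  have hconj : ∀ t : G, t * y = y * t → ∀ a, h⁻¹ * a * h ∈ E → h⁻¹ * (t * a * t⁻¹) * h ∈ E := by
    intro t ht a ha
    have htH : h⁻¹ * t * h ∈ centralizer ({z} : Set G) := by
      rw [mem_centralizer_singleton_iff]
      calc h⁻¹ * t * h * z = h⁻¹ * (t * y) * h := by rw [hy]; group
        _ = h⁻¹ * (y * t) * h := by rw [ht]
        _ = z * (h⁻¹ * t * h) := by rw [hy]; group
    have := b.hEn _ htH _ ha
    rwa [show h⁻¹ * t * h * (h⁻¹ * a * h) * (h⁻¹ * t * h)⁻¹ = h⁻¹ * (t * a * t⁻¹) * h by group] at this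
  have hmemy : ∀ a, h⁻¹ * a * h ∈ E → a * y = y * a := fun a ha => by
    have := b.zc ha
    calc a * y = h * (h⁻¹ * a * h * z) * h⁻¹ := by rw [hy]; group
      _ = h * (z * (h⁻¹ * a * h)) * h⁻¹ := by rw [this]
      _ = y * a := by rw [hy]; group
  have hzE' : h⁻¹ * z * h ∉ E := fun hz => hne (by
    have h1 : h⁻¹ * z * h = z := by simpa using b.hweak h⁻¹ (by simpa using hz)
    calc h * z * h⁻¹ = h * (h⁻¹ * z * h) * h⁻¹ := by rw [h1]
      _ = z := by group)
  refine ⟨fun p hp hpy a ha haz => ?_, ?_⟩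
  · refine ⟨?_, ?_⟩
    · rw [show p * a * p⁻¹ * a⁻¹ = p * (a * p⁻¹ * a⁻¹) by group]
      exact mul_mem hp (b.hEn a (mem_centralizer_singleton_iff.2 haz) _ (inv_mem hp))
    · rw [show h⁻¹ * (p * a * p⁻¹ * a⁻¹) * h = (h⁻¹ * (p * a * p⁻¹) * h) * (h⁻¹ * a * h)⁻¹ by group]
      exact mul_mem (hconj p hpy a ha) (inv_mem ha)
  have hDC : ∀ q ∈ E, h⁻¹ * q * h ∈ E → ∀ p ∈ E, p * y = y * p → p * q = q * p := by
    intro q hq hq' p hp hpy
    refine (b.comm_cases hp hq).resolve_right fun e => hzE' ?_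
    have hc : z = (p * q * p⁻¹) * q⁻¹ := by rw [e]; group
    rw [hc, show h⁻¹ * (p * q * p⁻¹ * q⁻¹) * h = (h⁻¹ * (p * q * p⁻¹) * h) * (h⁻¹ * q * h)⁻¹ by group]
    exact mul_mem (hconj p hpy q hq') (inv_mem hq')
  have hsq : ∀ q ∈ E, h⁻¹ * q * h ∈ E → q * q = 1 := fun q hq hq' =>
    (b.sq_cases hq).resolve_right fun e => hzE' (by
      rw [← e, show h⁻¹ * (q * q) * h = (h⁻¹ * q * h) * (h⁻¹ * q * h) by group]
      exact mul_mem hq' hq')
  have huniq : ∀ q ∈ E, h⁻¹ * q * h ∈ E → ∀ q' ∈ E, h⁻¹ * q' * h ∈ E → q ≠ 1 → q' ≠ 1 → q = q' := by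
    intro q hq hq' q2 hq2 hq2' h1 h2
    by_contra hne2
    set C := centralizer (((centralizer ({y} : Set G)).subgroupOf E : Subgroup E) : Set E) with hC
    have hC4 : Nat.card C = 4 := card_perp b he0 he0y hyH hidx
    have hin : ∀ r (hr : r ∈ E), h⁻¹ * r * h ∈ E → (⟨r, hr⟩ : E) ∈ C := fun r hr hr' =>
      mem_centralizer_iff.2 fun p hp => Subtype.ext (hDC r hr hr' p p.2 (mem_centralizer_singleton_iff.1 (mem_subgroupOf.1 hp)))
    have hq12 : h⁻¹ * (q * q2) * h ∈ E := by
      rw [show h⁻¹ * (q * q2) * h = (h⁻¹ * q * h) * (h⁻¹ * q2 * h) by group]; exact mul_mem hq' hq2'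
    have hzC : (⟨z, b.z_mem⟩ : E) ∈ C := mem_centralizer_iff.2 fun p _ => Subtype.ext (b.zc p.2)
    let v : Fin 5 → C := ![1, ⟨_, hzC⟩, ⟨_, hin q hq hq'⟩, ⟨_, hin q2 hq2 hq2'⟩, ⟨_, hin _ (mul_mem hq hq2) hq12⟩]
    have hv : Function.Injective v := by
      have a1 : q ≠ z := fun e => hzE' (e ▸ hq')
      have a2 : q2 ≠ z := fun e => hzE' (e ▸ hq2')
      have a3 : q * q2 ≠ z := fun e => hzE' (e ▸ hq12)
      have a4 : q * q2 ≠ 1 := fun e => hne2 (by
        rw [eq_inv_of_mul_eq_one_left e, inv_eq_of_mul_eq_one_right (hsq q2 hq2 hq2')])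
      have a5 : q * q2 ≠ q := fun e => h2 (mul_eq_left.1 e)
      have a6 : q * q2 ≠ q2 := fun e => h1 (mul_eq_right.1 e)
      have hz1 := b.hz1
      intro i j hij
      have hij' := congrArg (fun w : C => ((w : E) : G)) hij
      clear hij
      fin_cases i <;> fin_cases j <;>
        simp [v, h1, h2, hne2, a1, a2, a3, a4, a5, a6, hz1, Ne.symm h1, Ne.symm h2, Ne.symm hne2, Ne.symm a1,
          Ne.symm a2, Ne.symm a3, Ne.symm a4, Ne.symm a5, Ne.symm a6, Ne.symm hz1] at hij' ⊢
    have := Nat.card_le_card_of_injective v hv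
    rw [Nat.card_fin, hC4] at this
    omega
  by_cases hex : ∃ q ∈ E, h⁻¹ * q * h ∈ E ∧ q ≠ 1
  · obtain ⟨d, hd, hd', hd1⟩ := hex
    refine ⟨d, ⟨hd, hd', b.zc hd, hmemy d hd', hsq d hd hd', fun p hp hpy => hDC d hd hd' p hp hpy⟩,
      fun q hq hq' => ?_⟩
    by_cases h1 : q = 1
    · exact Or.inl h1
    · exact Or.inr (huniq q hq hq' d hd hd' h1 hd1)
  · push Not at hex
    refine ⟨1, ⟨one_mem E, by simpa using one_mem E, by simp, by simp, one_mul 1, fun p _ _ => by simp⟩,
      fun q hq hq' => Or.inl (hex q hq hq')⟩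

/-- The centralizer of `z` in the conjugate extraspecial subgroup is abelian. -/
theorem conj_abelian (b : Hyp z E) (h : G) {e0 : G} (he0 : e0 ∈ E) (hyH : (h * z * h⁻¹) * z = z * (h * z * h⁻¹))
    (hne : h * z * h⁻¹ ≠ z) (he0y : e0 * (h * z * h⁻¹) ≠ (h * z * h⁻¹) * e0)
    (hidx : ∀ e ∈ E, e * (h * z * h⁻¹) = (h * z * h⁻¹) * e ∨
      e0⁻¹ * e * (h * z * h⁻¹) = (h * z * h⁻¹) * (e0⁻¹ * e)) :
    ∀ a a', h⁻¹ * a * h ∈ E → a * z = z * a → h⁻¹ * a' * h ∈ E → a' * z = z * a' → a * a' = a' * a := by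
  classical
  obtain ⟨hline, d, ⟨hdE, hd', hdz, hdy, hdd, hdP⟩, hD⟩ := perp_line b h he0 hyH hne he0y hidx
  set y := h * z * h⁻¹ with hy
  have hmemy : ∀ a, h⁻¹ * a * h ∈ E → a * y = y * a := fun a ha => by
    have := b.zc ha
    calc a * y = h * (h⁻¹ * a * h * z) * h⁻¹ := by rw [hy]; group
      _ = h * (z * (h⁻¹ * a * h)) * h⁻¹ := by rw [this]
      _ = y * a := by rw [hy]; group
  have hnot : ∀ e ∈ E, e * y ≠ y * e → ∀ e' ∈ E, e' * y ≠ y * e' → e⁻¹ * e' * y = y * (e⁻¹ * e') := by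
    intro e he hey e' he' he'y
    have h1 := (hidx e he).resolve_left hey
    have h2 := (hidx e' he').resolve_left he'y
    have hc : e0⁻¹ * e ∈ centralizer ({y} : Set G) := mem_centralizer_singleton_iff.2 h1
    have hc' : e0⁻¹ * e' ∈ centralizer ({y} : Set G) := mem_centralizer_singleton_iff.2 h2
    have := mul_mem (inv_mem hc) hc'
    rw [show (e0⁻¹ * e)⁻¹ * (e0⁻¹ * e') = e⁻¹ * e' by group] at this
    exact mem_centralizer_singleton_iff.1 this
  intro a a' ha haz ha' ha'z
  have haH : ∀ {x}, h⁻¹ * x * h ∈ E → x * z = z * x → ∀ e ∈ E, x * e * x⁻¹ ∈ E := fun {x} _ hx =>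
    b.hEn x (mem_centralizer_singleton_iff.2 hx)
  -- shift of one element
  have hshift : ∀ x, h⁻¹ * x * h ∈ E → x * z = z * x →
      ∃ s ∈ E, s * y = y * s ∧ x * e0 * x⁻¹ = e0 * s ∧
        ∀ p ∈ E, p * y = y * p → x * p * x⁻¹ = if psi s p = 0 then p else d * p := by
    intro x hx hxz
    have hxc : Commute x y := hmemy x hx
    have hne' : x * e0 * x⁻¹ * y ≠ y * (x * e0 * x⁻¹) := by
      intro e
      apply he0y
      have := congrArg (fun t => x⁻¹ * t * x) e
      calc e0 * y = x⁻¹ * (x * e0 * x⁻¹ * y) * x := by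
            rw [show x⁻¹ * (x * e0 * x⁻¹ * y) * x = e0 * (x⁻¹ * (y * x)) by group, ← hxc.eq, inv_mul_cancel_left]
        _ = x⁻¹ * (y * (x * e0 * x⁻¹)) * x := this
        _ = y * e0 := by
            rw [show x⁻¹ * (y * (x * e0 * x⁻¹)) * x = x⁻¹ * (y * x) * e0 by group, ← hxc.eq, inv_mul_cancel_left]
    have hxE := haH hx hxz e0 he0
    refine ⟨e0⁻¹ * (x * e0 * x⁻¹), mul_mem (inv_mem he0) hxE, hnot e0 he0 he0y _ hxE hne', by group,
      fun p hp hpy => ?_⟩
    set s := e0⁻¹ * (x * e0 * x⁻¹) with hs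
    have hsE : s ∈ E := mul_mem (inv_mem he0) hxE
    obtain ⟨hl1, hl2⟩ := hline p hp hpy x hx hxz
    have hq : x * p * x⁻¹ = p ∨ x * p * x⁻¹ = d * p := by
      rcases hD _ hl1 hl2 with e | e
      · left
        have : p * x = x * p := mul_inv_eq_iff_eq_mul.1 (mul_inv_eq_one.1 e)
        rw [← this, mul_inv_cancel_right]
      · right
        have hdi : d⁻¹ = d := inv_eq_of_mul_eq_one_right hdd
        have : (p * x * p⁻¹ * x⁻¹)⁻¹ = d := by rw [e, hdi]
        rw [_root_.mul_inv_rev, _root_.mul_inv_rev, _root_.mul_inv_rev, inv_inv, inv_inv] at this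
        rw [← this]; group
    have hpsi : psi (e0 * s) (x * p * x⁻¹) = psi e0 p := by
      rw [show e0 * s = x * e0 * x⁻¹ by rw [hs]; group, psi_conj]
    rw [psi_symm, psi_mul b (haH hx hxz p hp) he0 hsE, psi_symm _ e0, psi_symm _ s] at hpsi
    rcases hq with e | e <;> rw [e] at hpsi
    · rw [e, if_pos (by linear_combination hpsi)]
    · by_cases hd1 : d = 1
      · rw [hd1, one_mul] at e hpsi
        rw [e, if_pos (by linear_combination hpsi)]
      rw [psi_mul b he0 hdE hp, psi_mul b hsE hdE hp] at hpsi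
      have h1 : psi e0 d = 1 := by
        refine if_neg fun ec => ?_
        have hcE : ∀ e ∈ E, d * e = e * d := by
          intro e he
          rcases hidx e he with h' | h'
          · exact (hdP e he h').symm
          · have h'' := hdP _ (mul_mem (inv_mem he0) he) h'
            calc d * e = d * e0 * (e0⁻¹ * e) := by group
              _ = e0 * (d * (e0⁻¹ * e)) := by rw [← ec, mul_assoc]
              _ = e * d := by rw [← h'']; group
        rcases b.cent_E (y := d) hcE with e' | e'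
        · exact hd1 e'
        · refine hne ?_
          have hz' : h⁻¹ * z * h ∈ E := e' ▸ hd'
          have h1 : h⁻¹ * z * h = z := by simpa using b.hweak h⁻¹ (by simpa using hz')
          calc h * z * h⁻¹ = h * (h⁻¹ * z * h) * h⁻¹ := by rw [h1]
            _ = z := by group
      have h2 : psi s d = 0 := psi_eq_zero.2 (hdP s hsE (hnot e0 he0 he0y _ hxE hne'))
      rw [h1, h2] at hpsi
      have h3 : psi s p = 1 := by
        have h11 : (1 : ZMod 2) + 1 = 0 := rfl
        linear_combination hpsi - h11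
      rw [e, if_neg (by rw [h3]; exact one_ne_zero)]
  obtain ⟨s, hsE, hsy, hse, hsp⟩ := hshift a ha haz
  obtain ⟨s', hsE', hsy', hse', hsp'⟩ := hshift a' ha' ha'z
  set e1 := (a' * a) * e0 * (a' * a)⁻¹ with he1
  have haa : (a * a') * e0 * (a * a')⁻¹ = e1 ∨ (a * a') * e0 * (a * a')⁻¹ = z * e1 := by
    have l1 : (a * a') * e0 * (a * a')⁻¹ = e0 * s * (if psi s s' = 0 then s' else d * s') := by
      rw [← hsp s' hsE' hsy', ← hse, show (a * a') * e0 * (a * a')⁻¹ = a * (a' * e0 * a'⁻¹) * a⁻¹ by group, hse']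
      group
    have l2 : e1 = e0 * s' * (if psi s' s = 0 then s else d * s) := by
      rw [← hsp' s hsE hsy, ← hse', he1, show (a' * a) * e0 * (a' * a)⁻¹ = a' * (a * e0 * a⁻¹) * a'⁻¹ by group, hse]
      group
    rw [l1, l2, psi_symm s' s]
    by_cases h0 : psi s s' = 0
    · rw [if_pos h0, if_pos h0, mul_assoc, mul_assoc, psi_eq_zero.1 h0]
      exact Or.inl rfl
    · rw [if_neg h0, if_neg h0]
      right
      have hzs : s * s' = z * (s' * s) := (b.comm_cases hsE hsE').resolve_left fun e => h0 (psi_eq_zero.2 e)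
      have hds : s * d = d * s := hdP s hsE hsy
      have hds' : s' * d = d * s' := hdP s' hsE' hsy'
      calc e0 * s * (d * s') = e0 * d * (s * s') := by rw [mul_assoc e0, ← mul_assoc s, hds]; group
        _ = e0 * (d * z) * (s' * s) := by rw [hzs]; group
        _ = (e0 * z) * d * (s' * s) := by rw [b.zc hdE]; group
        _ = z * (e0 * (d * s') * s) := by rw [b.zc he0]; group
        _ = z * (e0 * s' * (d * s)) := by rw [← hds']; group
  have hc1 : (h⁻¹ * (a * a' * a⁻¹ * a'⁻¹) * h) = 1 ∨ (h⁻¹ * (a * a' * a⁻¹ * a'⁻¹) * h) = z := by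
    have := b.center_cases (CfsgLib.LargeExtra.comm_mem_center b.hext ⟨_, ha⟩ ⟨_, ha'⟩)
    simp only [Subgroup.coe_mul, Subgroup.coe_inv] at this
    rwa [show h⁻¹ * a * h * (h⁻¹ * a' * h) * (h⁻¹ * a * h)⁻¹ * (h⁻¹ * a' * h)⁻¹ =
      h⁻¹ * (a * a' * a⁻¹ * a'⁻¹) * h by group] at this
  rcases hc1 with e | e
  · have : a * a' * a⁻¹ * a'⁻¹ = 1 := by
      calc a * a' * a⁻¹ * a'⁻¹ = h * (h⁻¹ * (a * a' * a⁻¹ * a'⁻¹) * h) * h⁻¹ := by group
        _ = 1 := by rw [e]; group
    exact mul_inv_eq_iff_eq_mul.1 (mul_inv_eq_one.1 this)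
  exfalso
  have hab : a * a' = y * (a' * a) := by
    rw [hy, ← e]; group
  have he1E : e1 ∈ E := b.hEn _ (mul_mem (mem_centralizer_singleton_iff.2 ha'z) (mem_centralizer_singleton_iff.2 haz)) _ he0
  have hx : Commute (a' * a) y := (show Commute a' y from hmemy a' ha').mul_left (hmemy a ha)
  have he1y : e1 * y ≠ y * e1 := by
    intro ec
    apply he0y
    calc e0 * y = (a' * a)⁻¹ * (e1 * y) * (a' * a) := by
          rw [show (a' * a)⁻¹ * (e1 * y) * (a' * a) = e0 * ((a' * a)⁻¹ * (y * (a' * a))) by rw [he1]; group,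
            ← hx.eq, inv_mul_cancel_left]
      _ = (a' * a)⁻¹ * (y * e1) * (a' * a) := by rw [ec]
      _ = y * e0 := by
          rw [show (a' * a)⁻¹ * (y * e1) * (a' * a) = (a' * a)⁻¹ * (y * (a' * a)) * e0 by rw [he1]; group,
            ← hx.eq, inv_mul_cancel_left]
  rw [hab, show y * (a' * a) * e0 * (y * (a' * a))⁻¹ = y * e1 * y⁻¹ by rw [he1]; group] at haa
  have hye : y * e1 = z * (e1 * y) := by
    rcases haa with e' | e'
    · exact absurd (mul_inv_eq_iff_eq_mul.1 e').symm he1y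
    · rw [mul_inv_eq_iff_eq_mul] at e'
      rw [e', mul_assoc]
  -- an element of the perpendicular outside the centre
  set C := centralizer (((centralizer ({y} : Set G)).subgroupOf E : Subgroup E) : Set E) with hC
  have hC4 : Nat.card C = 4 := card_perp b he0 he0y hyH hidx
  obtain ⟨w, hwC, hwc⟩ : ∃ w ∈ C, w ∉ center E := by
    by_contra hno
    push Not at hno
    have := card_le_of_le (show C ≤ center E from hno)
    rw [hC4, b.hext.2] at this
    omega
  have hwP : ∀ p ∈ E, p * y = y * p → (w : G) * p = p * w := fun p hp hpy =>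
    (congrArg Subtype.val (mem_centralizer_iff.1 hwC ⟨p, hp⟩ (mem_subgroupOf.2 (mem_centralizer_singleton_iff.2 hpy)))).symm
  have hsplit : ∀ e ∈ E, e * y = y * e ∨ e1⁻¹ * e * y = y * (e1⁻¹ * e) := fun e he => by
    by_cases he' : e * y = y * e
    · exact Or.inl he'
    · exact Or.inr (hnot e1 he1E he1y e he he')
  have hwe : (w : G) * e1 = z * (e1 * w) := by
    refine (b.comm_cases w.2 he1E).resolve_left fun ec => ?_
    refine hwc (mem_center_iff.2 fun e => Subtype.ext ?_)
    show (e : G) * w = w * e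
    rcases hsplit e e.2 with h' | h'
    · exact (hwP e e.2 h').symm
    · have h'' := hwP _ (mul_mem (inv_mem he1E) e.2) h'
      calc (e : G) * w = e1 * ((e1⁻¹ * e) * w) := by group
        _ = (e1 * w) * (e1⁻¹ * e) := by rw [← h'']; group
        _ = w * e := by rw [← ec]; group
  have hyw : y * (w : G) = z ∨ y * (w : G) = 1 := by
    refine (b.cent_E (y := y * w) fun e he => ?_).symm
    have hP : ∀ p ∈ E, p * y = y * p → y * w * p = p * (y * w) := fun p hp hpy => by
      rw [mul_assoc, hwP p hp hpy, ← mul_assoc, ← hpy, mul_assoc]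
    have he1c : y * w * e1 = e1 * (y * w) := by
      calc y * w * e1 = y * z * (e1 * w) := by rw [mul_assoc, hwe]; group
        _ = z * (y * e1) * w := by rw [hyH]; group
        _ = (z * z) * (e1 * y * w) := by rw [hye]; group
        _ = e1 * (y * w) := by rw [b.hzz, one_mul, mul_assoc]
    rcases hsplit e he with h' | h'
    · exact hP e he h'
    · have h'' := hP _ (mul_mem (inv_mem he1E) he) h'
      calc y * w * e = y * w * e1 * (e1⁻¹ * e) := by group
        _ = e1 * (y * w * (e1⁻¹ * e)) := by rw [he1c, mul_assoc]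
        _ = e * (y * w) := by rw [h'']; group
  refine hne (b.hweak h ?_)
  rw [← hy]
  rcases hyw with e' | e' <;> rw [eq_mul_inv_of_mul_eq e']
  · exact mul_mem b.z_mem (inv_mem w.2)
  · exact mul_mem (one_mem E) (inv_mem w.2)

/-- No conjugate of `z` other than itself centralizes a subgroup of index two. -/
theorem no_index_two (b : Hyp z E) (hn : 128 ≤ Nat.card E) (g : G) {e0 : G} (he0 : e0 ∈ E)
    (hyH : (g * z * g⁻¹) * z = z * (g * z * g⁻¹)) (hne : g * z * g⁻¹ ≠ z)
    (he0y : e0 * (g * z * g⁻¹) ≠ (g * z * g⁻¹) * e0) :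
    ¬ ∀ e ∈ E, e * (g * z * g⁻¹) = (g * z * g⁻¹) * e ∨
      e0⁻¹ * e * (g * z * g⁻¹) = (g * z * g⁻¹) * (e0⁻¹ * e) := by
  classical
  intro hidx
  set y := g * z * g⁻¹ with hy
  obtain ⟨hline, d, ⟨hdE, hd', hdz, hdy, hdd, hdP⟩, hD⟩ := perp_line b g he0 hyH hne he0y hidx
  have hAab := conj_abelian b g he0 hyH hne he0y hidx
  set u := g⁻¹ * z * g with hu
  have hguy : g * u * g⁻¹ = z := by rw [hu]; group
  have huz : u * z = z * u := by
    calc u * z = g⁻¹ * (z * y) * g := by rw [hu, hy]; group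
      _ = g⁻¹ * (y * z) * g := by rw [hyH]
      _ = z * u := by rw [hu, hy]; group
  have huu : u * u = 1 := by rw [hu, show g⁻¹ * z * g * (g⁻¹ * z * g) = g⁻¹ * (z * z) * g by group, b.hzz]; group
  have huH : u ∈ centralizer ({z} : Set G) := mem_centralizer_singleton_iff.2 huz
  -- commutators with `u` avoid `z`
  have h1 : ∀ e ∈ E, u * e * u⁻¹ * e⁻¹ ≠ z := by
    intro e he hez
    set f := g * e * g⁻¹ with hf
    set y' := (f * g) * u * (f * g)⁻¹ with hy'
    have hfy : f * y = y * f := by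
      rw [hf, hy, show g * e * g⁻¹ * (g * z * g⁻¹) = g * (e * z) * g⁻¹ by group, b.zc he]; group
    have hue : e * u * e⁻¹ = z * u := by
      have h3 : u * e = z * (e * u) := by rw [← hez]; group
      calc e * u * e⁻¹ = z * (z * (e * u)) * e⁻¹ := by rw [← mul_assoc z, b.hzz, one_mul]
        _ = z * u := by rw [← h3]; group
    have hfz : f * z * f⁻¹ = y * z := by
      calc f * z * f⁻¹ = g * (e * u * e⁻¹) * g⁻¹ := by rw [hf, hu]; group
        _ = g * (z * u) * g⁻¹ := by rw [hue]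
        _ = y * z := by rw [hy, hu]; group
    have hzy1 : y * z ≠ z := fun e' => by
      have : y = 1 := mul_eq_right.1 e'
      rw [hy, mul_inv_eq_one, mul_eq_left] at this
      exact b.hz1 this
    have hcomm : ∀ p ∈ E, p * (f * z * f⁻¹) = (f * z * f⁻¹) * p ↔ p * y = y * p := by
      intro p hp
      rw [hfz, ← mul_assoc, mul_assoc y z p, ← b.zc hp, ← mul_assoc y p, mul_left_inj]
    have hyz2 : (f * z * f⁻¹) * z = z * (f * z * f⁻¹) := by
      rw [hfz, hyH, mul_assoc, hyH]
    have hab := conj_abelian b f he0 hyz2 (hfz ▸ hzy1) (fun e' => he0y ((hcomm e0 he0).1 e'))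
      (fun e' he' => (hidx e' he').imp (hcomm e' he').2 (hcomm _ (mul_mem (inv_mem he0) he')).2)
    -- a noncommuting pair in the centralizer of `y`
    have hP : Nat.card E ≤ 2 * Nat.card ((centralizer ({y} : Set G)).subgroupOf E) := by
      have hle : (Nat.card E) ≤ Nat.card (Bool × ((centralizer ({y} : Set G)).subgroupOf E)) := by
        let F : E → Bool × ((centralizer ({y} : Set G)).subgroupOf E) := fun p =>
          if hp : (p : G) * y = y * p then (true, ⟨p, mem_subgroupOf.2 (mem_centralizer_singleton_iff.2 hp)⟩)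
          else (false, ⟨⟨e0, he0⟩⁻¹ * p, mem_subgroupOf.2 (mem_centralizer_singleton_iff.2 ((hidx p p.2).resolve_left hp))⟩)
        refine Nat.card_le_card_of_injective F fun p q hpq => ?_
        simp only [F] at hpq
        split_ifs at hpq with h1 h2 h2 <;> simp only [Prod.mk.injEq, Subtype.mk.injEq] at hpq
        · exact hpq.2
        · simp at hpq
        · simp at hpq
        · exact mul_left_cancel hpq.2
      rw [Nat.card_prod, Nat.card_eq_fintype_card (α := Bool), Fintype.card_bool] at hle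
      exact hle
    obtain ⟨p, hp, q, hq, hpq⟩ := LargeExtraTransfer.exists_noncomm b.hext (by omega) _ hP
    refine hpq (Subtype.ext ?_)
    have hpy := mem_centralizer_singleton_iff.1 (mem_subgroupOf.1 hp)
    have hqy := mem_centralizer_singleton_iff.1 (mem_subgroupOf.1 hq)
    have hconjP : ∀ p : G, p ∈ E → p * y = y * p →
        f⁻¹ * (f * p * f⁻¹) * f ∈ E ∧ (f * p * f⁻¹) * z = z * (f * p * f⁻¹) := by
      intro p hp hpy
      refine ⟨by simpa [mul_assoc] using hp, ?_⟩
      have hpz : p * (f⁻¹ * z * f) = (f⁻¹ * z * f) * p := by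
        have : f⁻¹ * z * f = y * z := by
          have hfy2 : f⁻¹ * y = y * f⁻¹ := (show Commute f y from hfy).inv_left.eq
          calc f⁻¹ * z * f = f⁻¹ * (y * (y * z)) * f := by
                rw [← mul_assoc y, show y * y = 1 by rw [hy, show g * z * g⁻¹ * (g * z * g⁻¹) = g * (z * z) * g⁻¹ by group, b.hzz]; group, one_mul]
            _ = f⁻¹ * (y * (f * z * f⁻¹)) * f := by rw [hfz]
            _ = (f⁻¹ * y) * f * z := by group
            _ = y * z := by rw [hfy2]; group
        rw [this, ← hfz, (hcomm p hp).2 hpy]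
      calc f * p * f⁻¹ * z = f * (p * (f⁻¹ * z * f)) * f⁻¹ := by group
        _ = f * ((f⁻¹ * z * f) * p) * f⁻¹ := by rw [hpz]
        _ = z * (f * p * f⁻¹) := by group
    obtain ⟨a1, a2⟩ := hconjP p p.2 hpy
    obtain ⟨b1, b2⟩ := hconjP q q.2 hqy
    have := hab _ _ a1 a2 b1 b2
    show (p : G) * q = q * p
    calc (p : G) * q = f⁻¹ * ((f * p * f⁻¹) * (f * q * f⁻¹)) * f := by group
      _ = f⁻¹ * ((f * q * f⁻¹) * (f * p * f⁻¹)) * f := by rw [this]
      _ = q * p := by group
  -- the centralizer of `u`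
  set B := (centralizer ({u} : Set G)).subgroupOf E with hB
  have hBm : ∀ e : E, e ∈ B ↔ (e : G) * u = u * e := fun e => by rw [mem_subgroupOf, mem_centralizer_singleton_iff]
  have hgB : ∀ e ∈ E, e * u = u * e → g⁻¹ * (g * e * g⁻¹) * g ∈ E ∧ (g * e * g⁻¹) * z = z * (g * e * g⁻¹) :=
    fun e he heu => ⟨by simpa [mul_assoc] using he, by
      rw [← hguy, show g * e * g⁻¹ * (g * u * g⁻¹) = g * (e * u) * g⁻¹ by group, heu]; group⟩
  have hBab : ∀ a ∈ B, ∀ c ∈ B, a * c = c * a := by
    intro a ha c hc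
    obtain ⟨a1, a2⟩ := hgB a a.2 ((hBm a).1 ha)
    obtain ⟨c1, c2⟩ := hgB c c.2 ((hBm c).1 hc)
    have := hAab _ _ a1 a2 c1 c2
    refine Subtype.ext ?_
    show (a : G) * c = c * a
    calc (a : G) * c = g⁻¹ * ((g * a * g⁻¹) * (g * c * g⁻¹)) * g := by group
      _ = g⁻¹ * ((g * c * g⁻¹) * (g * a * g⁻¹)) * g := by rw [this]
      _ = c * a := by group
  let v : E → E := fun e => ⟨u * e * u⁻¹ * (e : G)⁻¹, mul_mem (b.hEn u huH e e.2) (inv_mem e.2)⟩
  haveI : (center E).Normal := inferInstance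
  have hab : ∀ p q : E, (p : E ⧸ center E) * q = q * p := fun p q => by
    rw [← QuotientGroup.mk_mul, ← QuotientGroup.mk_mul, QuotientGroup.eq]
    have := CfsgLib.LargeExtra.comm_mem_center b.hext q⁻¹ p⁻¹
    simpa [mul_assoc] using this
  let β : E →* E ⧸ center E := MonoidHom.mk' (fun e => ((v e : E) : E ⧸ center E)) (fun e e' => by
    have e2 : v (e * e') = v e * (e * v e' * e⁻¹) := Subtype.ext (by
      simp only [v, Subgroup.coe_mul, Subgroup.coe_inv]; group)
    rw [e2, QuotientGroup.mk_mul, QuotientGroup.mk_mul, QuotientGroup.mk_mul, hab e (v e'), mul_assoc,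
      ← QuotientGroup.mk_mul, mul_inv_cancel, QuotientGroup.mk_one, mul_one])
  have hker : β.ker = B := by
    ext e
    rw [MonoidHom.mem_ker, hBm]
    refine ((QuotientGroup.eq_one_iff (v e)).trans ⟨fun hc => ?_, fun hc => ?_⟩)
    · rcases b.center_cases hc with h | h
      · exact (mul_inv_eq_iff_eq_mul.1 (mul_inv_eq_one.1 h)).symm
      · exact absurd h (h1 e e.2)
    · rw [show v e = 1 from Subtype.ext (by show u * (e : G) * u⁻¹ * (e : G)⁻¹ = 1; rw [← hc]; group)]
      exact one_mem _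
  set C := centralizer (B : Set E)
  have hzB : center E ≤ B := fun e he => (hBm e).2 (by
    rcases b.center_cases he with h | h <;> rw [h]
    · simp
    · exact huz.symm)
  have hvC : ∀ e, v e ∈ C := fun e => mem_centralizer_iff.2 fun q hq => by
    refine Subtype.ext (psi_eq_zero.1 ?_)
    have hqu : u * q * u⁻¹ = (q : G) := by rw [← (hBm q).1 hq, mul_inv_cancel_right]
    show psi (q : G) (u * e * u⁻¹ * (e : G)⁻¹) = 0
    rw [psi_mul b q.2 (b.hEn u huH e e.2) (inv_mem e.2)]
    have h2 : psi (q : G) (u * e * u⁻¹) = psi (q : G) e := by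
      conv_lhs => rw [← hqu]
      rw [psi_conj]
    have h3 := psi_mul b q.2 e.2 (inv_mem e.2)
    rw [mul_inv_cancel, show psi (q : G) 1 = 0 from psi_eq_zero.2 (by simp)] at h3
    rw [h2]
    exact h3.symm
  have hrange : Nat.card β.range * Nat.card B = Nat.card E := by
    rw [← index_ker, hker, mul_comm]; exact card_mul_index B
  have hCeq : C ≤ B := by
    let π := QuotientGroup.mk' (center E)
    have hle : β.range ≤ C.map π := by
      rintro _ ⟨e, rfl⟩; exact ⟨v e, hvC e, rfl⟩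
    have hC2 : Nat.card (C.map π) * 2 ≤ Nat.card C := by
      have h4 := card_mul_index (π.comp C.subtype).ker
      have h5 : (π.comp C.subtype).range = C.map π := by
        rw [MonoidHom.range_comp, range_subtype]
      rw [index_ker, h5] at h4
      have h6 : 2 ≤ Nat.card (π.comp C.subtype).ker := by
        rw [← b.hext.2]
        refine Nat.card_le_card_of_injective (fun x : center E => (⟨⟨x.1, center_le_centralizer _ x.2⟩,
          MonoidHom.mem_ker.2 ((QuotientGroup.eq_one_iff (x : E)).2 x.2)⟩ : (π.comp C.subtype).ker)) ?_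
        intro a c hac
        exact Subtype.ext (congrArg (fun w : (π.comp C.subtype).ker => ((w : C) : E)) hac)
      calc Nat.card (C.map π) * 2 = 2 * Nat.card (C.map π) := mul_comm _ _
        _ ≤ Nat.card (π.comp C.subtype).ker * Nat.card (C.map π) := Nat.mul_le_mul_right _ h6
        _ = Nat.card C := h4
    have hCc := CfsgLib.LargeExtra.card_centralizer_mul_card b.hext B hzB
    rw [b.hext.2, ← hrange, ← mul_assoc] at hCc
    have hCc' : Nat.card C = 2 * Nat.card β.range := Nat.eq_of_mul_eq_mul_right Nat.card_pos hCc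
    have heq : β.range = C.map π := eq_of_le_of_card_ge hle (by omega)
    intro c hc
    obtain ⟨e, he⟩ : π c ∈ β.range := heq ▸ mem_map_of_mem π hc
    refine (hBm c).2 ?_
    have hcz : (v e)⁻¹ * c ∈ center E := QuotientGroup.eq.1 he
    have hui : u⁻¹ = u := inv_eq_of_mul_eq_one_right huu
    -- `u` inverts `v e`, so it moves `c` by a central element
    have hinv : u * (v e : G) * u⁻¹ = (v e : G)⁻¹ := by
      exact inv_move huu (e : G)
    have hcc : u * c * u⁻¹ * (c : G)⁻¹ = 1 ∨ u * c * u⁻¹ * (c : G)⁻¹ = z := by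
      obtain ⟨t, ht, hct⟩ : ∃ t : G, (t = 1 ∨ t = z) ∧ (c : G) = (v e : G) * t :=
        ⟨_, b.center_cases hcz, by simp⟩
      have hvv : (v e : G)⁻¹ * (v e : G)⁻¹ = 1 ∨ (v e : G)⁻¹ * (v e : G)⁻¹ = z := b.sq_cases (inv_mem (v e).2)
      have htu : u * t * u⁻¹ = t := by
        rcases ht with rfl | rfl
        · simp
        · rw [huz, mul_inv_cancel_right]
      rw [hct, show u * ((v e : G) * t) * u⁻¹ * ((v e : G) * t)⁻¹ =
        (u * (v e : G) * u⁻¹) * (u * t * u⁻¹) * t⁻¹ * (v e : G)⁻¹ by group, hinv, htu, mul_inv_cancel_right]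
      exact hvv
    exact (mul_inv_eq_iff_eq_mul.1 (mul_inv_eq_one.1 (hcc.resolve_right (h1 c c.2)))).symm
  -- the shifting element in `E`
  set d' := g⁻¹ * d * g with hd'def
  have hd'u : d' * u = u * d' := by
    rw [hd'def, hu, show g⁻¹ * d * g * (g⁻¹ * z * g) = g⁻¹ * (d * z) * g by group, hdz]; group
  have hd'd : d' * d' = 1 := by
    rw [hd'def, show g⁻¹ * d * g * (g⁻¹ * d * g) = g⁻¹ * (d * d) * g by group, hdd]; group
  have hsigma : ∀ p ∈ E, p * y = y * p → ∀ e ∈ E, e * d' = d' * e →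
      ((g⁻¹ * p * g) * e * (g⁻¹ * p * g)⁻¹) * d' = d' * ((g⁻¹ * p * g) * e * (g⁻¹ * p * g)⁻¹) ∧
      ∃ s : E, s ∈ B ∧ (g⁻¹ * p * g) * e * (g⁻¹ * p * g)⁻¹ = e * s ∧
        ((g⁻¹ * p * g) ∈ centralizer ({z} : Set G)) ∧
        ∀ q : E, q ∈ B → (g⁻¹ * p * g) * q * (g⁻¹ * p * g)⁻¹ = q ∨
          (g⁻¹ * p * g) * q * (g⁻¹ * p * g)⁻¹ = d' * q := by
    intro p hp hpy e he hed
    set r := g⁻¹ * p * g with hr
    have hrH : r ∈ centralizer ({z} : Set G) := by
      rw [mem_centralizer_singleton_iff]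
      calc r * z = g⁻¹ * (p * y) * g := by rw [hr, hy]; group
        _ = g⁻¹ * (y * p) * g := by rw [hpy]
        _ = z * r := by rw [hr, hy]; group
    have hrd : r * d' * r⁻¹ = d' := by
      rw [hr, hd'def, show g⁻¹ * p * g * (g⁻¹ * d * g) * (g⁻¹ * p * g)⁻¹ = g⁻¹ * (p * d * p⁻¹) * g by group,
        hdP p hp hpy, mul_inv_cancel_right]
    have hrB : ∀ q : E, q ∈ B → r * q * r⁻¹ = q ∨ r * q * r⁻¹ = d' * q := by
      intro q hq
      obtain ⟨a1, a2⟩ := hgB q q.2 ((hBm q).1 hq)
      obtain ⟨l1, l2⟩ := hline p hp hpy _ a1 a2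
      rcases hD _ l1 l2 with e' | e'
      · left
        calc r * q * r⁻¹ = g⁻¹ * (p * (g * q * g⁻¹) * p⁻¹ * (g * q * g⁻¹)⁻¹) * g * q := by rw [hr]; group
          _ = q := by rw [e']; group
      · right
        calc r * q * r⁻¹ = g⁻¹ * (p * (g * q * g⁻¹) * p⁻¹ * (g * q * g⁻¹)⁻¹) * g * q := by rw [hr]; group
          _ = d' * q := by rw [e']
    have hre : r * e * r⁻¹ ∈ E := b.hEn r hrH e he
    refine ⟨?_, ⟨e⁻¹ * (r * e * r⁻¹), mul_mem (inv_mem he) hre⟩, ?_, by group, hrH, hrB⟩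
    · apply psi_eq_zero.1
      conv_lhs => rw [← hrd]
      rw [psi_conj]; exact psi_eq_zero.2 hed
    · refine hCeq (mem_centralizer_iff.2 fun q hq => Subtype.ext (psi_eq_zero.1 ?_))
      show psi (q : G) (e⁻¹ * (r * e * r⁻¹)) = 0
      have hei := psi_mul b q.2 he (inv_mem he)
      rw [mul_inv_cancel, show psi (q : G) 1 = 0 from psi_eq_zero.2 (by simp)] at hei
      rw [psi_mul b q.2 (inv_mem he) hre]
      rcases hrB q hq with e' | e'
      · have h2 : psi (q : G) (r * e * r⁻¹) = psi (q : G) e := by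
          conv_lhs => rw [← e']
          rw [psi_conj]
        rw [h2, add_comm]; exact hei.symm
      · have hq' : (q : G) = d' * (r * q * r⁻¹) := by rw [e', ← mul_assoc, hd'd, one_mul]
        have h2 : psi (q : G) (r * e * r⁻¹) = psi (q : G) e := by
          conv_lhs => rw [hq']
          rw [psi_symm, psi_mul b hre hd' (b.hEn r hrH q q.2), psi_conj,
            show psi (r * e * r⁻¹) d' = 0 by
              conv_lhs => rw [← hrd]
              rw [psi_conj]; exact psi_eq_zero.2 hed,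
            zero_add, psi_symm]
        rw [h2, add_comm]; exact hei.symm
  -- a commutator equal to `u`
  obtain ⟨p, hp, hpy, q, hq, hqy, hpq⟩ : ∃ p ∈ E, p * y = y * p ∧ ∃ q ∈ E, q * y = y * q ∧ p * q = z * (q * p) := by
    by_contra hno
    push Not at hno
    have hab : ∀ p ∈ E, p * y = y * p → ∀ q ∈ E, q * y = y * q → p * q = q * p := fun p hp hpy q hq hqy =>
      (b.comm_cases hp hq).resolve_right (hno p hp hpy q hq hqy)
    have hle : (centralizer ({y} : Set G)).subgroupOf E ≤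
        centralizer (((centralizer ({y} : Set G)).subgroupOf E : Subgroup E) : Set E) := fun a ha =>
      mem_centralizer_iff.2 fun c hc => Subtype.ext (hab c c.2 (mem_centralizer_singleton_iff.1 (mem_subgroupOf.1 hc))
        a a.2 (mem_centralizer_singleton_iff.1 (mem_subgroupOf.1 ha)))
    have h4 := card_le_of_le hle
    rw [card_perp b he0 he0y hyH hidx] at h4
    have h5 : Nat.card E ≤ 2 * Nat.card ((centralizer ({y} : Set G)).subgroupOf E) := by
      let F : E → Bool × ((centralizer ({y} : Set G)).subgroupOf E) := fun p =>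
        if hp : (p : G) * y = y * p then (true, ⟨p, mem_subgroupOf.2 (mem_centralizer_singleton_iff.2 hp)⟩)
        else (false, ⟨⟨e0, he0⟩⁻¹ * p, mem_subgroupOf.2 (mem_centralizer_singleton_iff.2 ((hidx p p.2).resolve_left hp))⟩)
      have hle2 := Nat.card_le_card_of_injective F fun p q hpq => by
        simp only [F] at hpq
        split_ifs at hpq with h1 h2 h2 <;> simp only [Prod.mk.injEq, Subtype.mk.injEq] at hpq
        · exact hpq.2
        · simp at hpq
        · simp at hpq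
        · exact mul_left_cancel hpq.2
      rw [Nat.card_prod, Nat.card_eq_fintype_card (α := Bool), Fintype.card_bool] at hle2
      exact hle2
    omega
  set r := g⁻¹ * p * g with hr
  set s := g⁻¹ * q * g with hs
  have hrs : r * s = u * (s * r) := by
    rw [hr, hs, hu, show g⁻¹ * p * g * (g⁻¹ * q * g) = g⁻¹ * (p * q) * g by group, hpq]; group
  have hmove : ∀ e ∈ E, e * d' = d' * e → u * e * u⁻¹ * e⁻¹ = 1 ∨ u * e * u⁻¹ * e⁻¹ = d' ∨
      u * e * u⁻¹ * e⁻¹ = z * d' := by
    intro e he hed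
    -- pull back along `s * r`
    set e2 := (s * r)⁻¹ * e * (s * r) with he2
    have hsH : s ∈ centralizer ({z} : Set G) := by
      obtain ⟨_, _, _, _, h', _⟩ := hsigma q hq hqy e he hed
      exact h'
    have hrH : r ∈ centralizer ({z} : Set G) := by
      obtain ⟨_, _, _, _, h', _⟩ := hsigma p hp hpy e he hed
      exact h'
    have hsrd : (s * r) * d' * (s * r)⁻¹ = d' := by
      rw [hs, hr, hd'def, show g⁻¹ * q * g * (g⁻¹ * p * g) * (g⁻¹ * d * g) * (g⁻¹ * q * g * (g⁻¹ * p * g))⁻¹ =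
        g⁻¹ * (q * (p * d * p⁻¹) * q⁻¹) * g by group, hdP p hp hpy, mul_inv_cancel_right, hdP q hq hqy,
        mul_inv_cancel_right]
    have he2E : e2 ∈ E := by
      have := b.hEn _ (inv_mem (mul_mem hsH hrH)) e he
      rwa [inv_inv] at this
    have he2d : e2 * d' = d' * e2 := by
      calc e2 * d' = (s * r)⁻¹ * (e * ((s * r) * d' * (s * r)⁻¹)) * (s * r) := by rw [he2]; group
        _ = (s * r)⁻¹ * ((s * r) * d' * (s * r)⁻¹ * e) * (s * r) := by rw [hsrd, hed]
        _ = d' * e2 := by rw [he2]; group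
    obtain ⟨-, σr, hσr, er, -, hrB⟩ := hsigma p hp hpy e2 he2E he2d
    obtain ⟨-, σs, hσs, es, -, hsB⟩ := hsigma q hq hqy e2 he2E he2d
    rw [← hr] at er hrB
    rw [← hs] at es hsB
    have hcomm : (σr : G) * σs = σs * σr := congrArg Subtype.val (hBab _ hσr _ hσs)
    have hd'B : ∀ t : E, t ∈ B → d' * (t : G) = t * d' := by
      intro t ht
      exact congrArg Subtype.val (hBab ⟨d', hd'⟩ ((hBm _).2 hd'u) t ht)
    have hA : (r * s) * e2 * (r * s)⁻¹ = e2 * σr * σs ∨ (r * s) * e2 * (r * s)⁻¹ = e2 * σr * σs * d' := by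
      rw [show (r * s) * e2 * (r * s)⁻¹ = r * (s * e2 * s⁻¹) * r⁻¹ by group, es,
        show r * (e2 * (σs : G)) * r⁻¹ = (r * e2 * r⁻¹) * (r * σs * r⁻¹) by group, er]
      rcases hrB σs hσs with e' | e' <;> rw [e']
      · exact Or.inl rfl
      · exact Or.inr (by rw [hd'B σs hσs]; group)
    have hBe : e = e2 * σr * σs ∨ e = e2 * σr * σs * d' := by
      have : e = (s * r) * e2 * (s * r)⁻¹ := by rw [he2]; group
      rw [this, show (s * r) * e2 * (s * r)⁻¹ = s * (r * e2 * r⁻¹) * s⁻¹ by group, er,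
        show s * (e2 * (σr : G)) * s⁻¹ = (s * e2 * s⁻¹) * (s * σr * s⁻¹) by group, es]
      rcases hsB σr hσr with e' | e' <;> rw [e']
      · exact Or.inl (by rw [mul_assoc e2, ← hcomm]; group)
      · exact Or.inr (by rw [hd'B σr hσr, mul_assoc e2, ← mul_assoc (σs : G), ← hcomm]; group)
    have hue : u * e * u⁻¹ = (r * s) * e2 * (r * s)⁻¹ := by rw [hrs, he2]; group
    rw [hue]
    set w := e2 * (σr : G) * σs
    have hwd : w * d' * w⁻¹ = d' ∨ w * d' * w⁻¹ = z * d' := by
      have hwE : w ∈ E := mul_mem (mul_mem he2E σr.2) σs.2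
      rcases b.comm_cases hwE hd' with e' | e' <;> rw [e']
      · left; group
      · right; group
    have hd'i : d'⁻¹ = d' := inv_eq_of_mul_eq_one_right hd'd
    rcases hA with eA | eA <;> rcases hBe with eB | eB <;> rw [eA, eB]
    · exact Or.inl (mul_inv_cancel w)
    · rw [_root_.mul_inv_rev, hd'i, ← mul_assoc]
      rcases hwd with e' | e'
      · exact Or.inr (Or.inl e')
      · exact Or.inr (Or.inr e')
    · rcases hwd with e' | e'
      · exact Or.inr (Or.inl e')
      · exact Or.inr (Or.inr e')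
    · exact Or.inl (mul_inv_cancel _)
  -- counting
  set d0 : E := ⟨d', hd'⟩
  let M := centralizer ({d0} : Set E)
  have hM : Nat.card E ≤ 2 * Nat.card M := by
    have := CfsgLib.LargeExtra.card_le_two_mul_centralizer b.hext d0 ⊤
    rwa [card_top, top_inf_eq] at this
  have hMi : Nat.card M ≤ 2 * Nat.card B := by
    have hsub : (((β.comp M.subtype).range : Subgroup (E ⧸ center E)) : Set (E ⧸ center E)) ⊆
        {1, ((d0 : E) : E ⧸ center E)} := by
      rintro _ ⟨e, rfl⟩
      have hed : ((e : E) : G) * d' = d' * (e : E) := congrArg Subtype.val (mem_centralizer_singleton_iff.1 e.2)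
      rcases hmove _ (e : E).2 hed with h | h | h
      · refine Or.inl ((QuotientGroup.eq_one_iff _).2 ?_)
        rw [show v (M.subtype e) = 1 from Subtype.ext h]; exact one_mem _
      · exact Or.inr (congrArg _ (Subtype.ext h : v (e : E) = d0))
      · refine Or.inr ?_
        show ((v (e : E) : E) : E ⧸ center E) = _
        rw [QuotientGroup.eq, show v (e : E) = ⟨z, b.z_mem⟩ * d0 from Subtype.ext h, _root_.mul_inv_rev, mul_assoc]
        refine mem_center_iff.2 fun x => Subtype.ext ?_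
        have hzc : (x : G) * z⁻¹ = z⁻¹ * x := by
          rw [inv_eq_of_mul_eq_one_right b.hzz]; exact b.zc x.2
        show (x : G) * (d'⁻¹ * (z⁻¹ * d')) = d'⁻¹ * (z⁻¹ * d') * x
        have hzd : z⁻¹ * d' = d' * z⁻¹ := by
          rw [inv_eq_of_mul_eq_one_right b.hzz]; exact (b.zc hd').symm
        rw [hzd, inv_mul_cancel_left, hzc]
    have h4 := card_mul_index (β.comp M.subtype).ker
    rw [index_ker] at h4
    have h5 : Nat.card (β.comp M.subtype).range ≤ 2 :=
      (Nat.card_mono (Set.toFinite _) hsub).trans (by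
        rw [Nat.card_coe_set_eq]; exact (Set.ncard_insert_le _ _).trans (by simp))
    have h6 : Nat.card (β.comp M.subtype).ker ≤ Nat.card B := by
      rw [← hker]
      refine Nat.card_le_card_of_injective (fun x => (⟨(x.1 : E), x.2⟩ : β.ker)) ?_
      intro a c hac
      exact Subtype.ext (Subtype.ext (congrArg (fun w : β.ker => (w : E)) hac))
    calc Nat.card M = Nat.card (β.comp M.subtype).ker * Nat.card (β.comp M.subtype).range := h4.symm
      _ ≤ Nat.card B * 2 := Nat.mul_le_mul h6 h5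
      _ = 2 * Nat.card B := mul_comm _ _
  have hBC : B ≤ C := fun a ha => mem_centralizer_iff.2 fun c hc => hBab c hc a ha
  have h7 := CfsgLib.LargeExtra.card_centralizer_mul_card b.hext B hzB
  rw [show Nat.card (centralizer (B : Set E)) = Nat.card B from congrArg (fun K : Subgroup E => Nat.card K) (le_antisymm hCeq hBC), b.hext.2] at h7
  have h8 : Nat.card E ≤ 4 * Nat.card B := by omega
  have h9 : Nat.card B * Nat.card B ≤ 8 * Nat.card B := by omega
  have h10 : Nat.card B ≤ 8 := Nat.le_of_mul_le_mul_right h9 Nat.card_pos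
  omega

end CfsgLib.InvolChar.LargeExtraWeak
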