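import Mathlib
import Cfsg.Agent.Lib.InvolChar.LargeExtraWeak

/-!
When the central involution of a large extraspecial subgroup is weakly closed there, a character of
order two of its centralizer kills all involutions, hence vanishes.
-/

set_option autoImplicit false
set_option linter.style.haveILetI false
set_option linter.unusedSectionVars false

namespace CfsgLib.InvolChar.LargeExtraWeak

open Subgroup CfsgLib.InvolChar.OrbitTransfer CfsgLib.InvolChar.LargeExtraChar

variable {G : Type*} [Group G] [Finite G] {z : G} {E : Subgroup G}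

theorem index_stabilizer_ne_two (b : Hyp z E) (hn : 128 ≤ Nat.card E) (c : G ⧸ centralizer ({z} : Set G))
    (hyz : cj z c ≠ z) (hyH : cj z c ∈ centralizer ({z} : Set G)) : (MulAction.stabilizer E c).index ≠ 2 := by
  intro hk
  set P := MulAction.stabilizer E c
  have hmem : ∀ e : E, e ∈ P ↔ (e : G) * cj z c = cj z c * e := fun e => smul_eq_iff_comm (e : G) c
  obtain ⟨e0, he0⟩ : ∃ e0 : E, e0 ∉ P := by
    by_contra hno
    push Not at hno
    rw [show P = ⊤ from eq_top_iff.2 fun a _ => hno a, index_top] at hk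
    omega
  refine no_index_two b hn c.out e0.2 (mem_centralizer_singleton_iff.1 hyH) hyz (fun h => he0 ((hmem e0).2 h))
    fun e he => ?_
  by_cases h : (⟨e, he⟩ : E) ∈ P
  · exact Or.inl ((hmem _).1 h)
  · exact Or.inr ((hmem (e0⁻¹ * ⟨e, he⟩)).1 ((mul_mem_iff_of_index_two hk).2 (iff_of_false (fun h' => he0 (inv_mem_iff.1 h')) h)))

theorem sum_pairs {ι : Type*} (S : Finset ι) (f : ι → ZMod 2) (σ : ι → ι)
    (hσ : ∀ c ∈ S, σ c ∈ S) (hσσ : ∀ c ∈ S, σ (σ c) = c) (hne : ∀ c ∈ S, σ c ≠ c) (hf : ∀ c ∈ S, f (σ c) = f c) :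
    ∑ c ∈ S, f c = 0 := by
  refine Finset.sum_involution (fun c _ => σ c) ?_ (fun c hc _ => hne c hc) (fun c hc => hσ c hc) (fun c hc => hσσ c hc)
  intro c hc
  rw [hf c hc]
  have : ∀ u : ZMod 2, u + u = 0 := by decide
  exact this _

theorem zmod2_add_eq_zero : ∀ u : ZMod 2, u + u = 0 := by decide

/-- At an involution of the centralizer the transfer has the value of the character. -/
theorem involution_eq [Fintype (G ⧸ centralizer ({z} : Set G))] (b : Hyp z E)
    (hn : 128 ≤ Nat.card E) {χ : G → ZMod 2} (hχ : Additive' (centralizer ({z} : Set G)) χ)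
    (hE0 : ∀ e ∈ E, χ e = 0) {x : G} (hx : x ∈ centralizer ({z} : Set G)) (hxx : x * x = 1) :
    ∃ r : G ⧸ centralizer ({z} : Set G) → G, (∀ c, (r c : G ⧸ centralizer ({z} : Set G)) = c) ∧
      ∑ c, kappa χ r x c = χ x := by
  classical
  haveI : Fact (Nat.Prime 2) := ⟨Nat.prime_two⟩
  set H := centralizer ({z} : Set G) with hH
  have hzH : z ∈ H := mem_centralizer_singleton_iff.2 rfl
  have hxi : x⁻¹ = x := inv_eq_of_mul_eq_one_right hxx
  have hxxc : ∀ c : G ⧸ H, x • x • c = c := fun c => by rw [smul_smul, hxx, one_smul]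
  -- equivariant representatives off the fixed points
  let st : Setoid (G ⧸ H) :=
    { r := fun c d => d = c ∨ d = x • c
      iseqv := ⟨fun c => Or.inl rfl, fun {c d} h => by
          rcases h with h | h
          · exact Or.inl h.symm
          · exact Or.inr (by rw [h, hxxc]),
        fun {c d e} h h' => by
          rcases h with h | h <;> rcases h' with h' | h' <;> subst h <;> subst h'
          · exact Or.inl rfl
          · exact Or.inr rfl
          · exact Or.inr rfl
          · exact Or.inl (hxxc c)⟩ }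
  let bb : G ⧸ H → G ⧸ H := fun c => (Quotient.mk st c).out
  have hbb : ∀ c, c = bb c ∨ c = x • bb c := fun c => Quotient.mk_out (s := st) c
  have hbx : ∀ c, bb (x • c) = bb c := fun c =>
    congrArg Quotient.out (Quotient.sound (show st.r c (x • c) from Or.inr rfl) : Quotient.mk st c = Quotient.mk st (x • c)).symm
  let r : G ⧸ H → G := fun c => if x • c = c then c.out else if c = bb c then c.out else x * (bb c).out
  have hr : ∀ c, (r c : G ⧸ H) = c := fun c => by
    simp only [r]
    split_ifs with h1 h2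
    · exact QuotientGroup.out_eq' c
    · exact QuotientGroup.out_eq' c
    · conv_rhs => rw [(hbb c).resolve_left h2, ← QuotientGroup.out_eq' (bb c)]
      rfl
  refine ⟨r, hr, ?_⟩
  let f : G ⧸ H → ZMod 2 := fun c => χ (c.out⁻¹ * x * c.out)
  let F := Finset.univ.filter fun c : G ⧸ H => x • c = c
  have hF : ∑ c ∈ F, f c = ∑ c, kappa χ r x c := by
    rw [Finset.sum_filter]
    refine Finset.sum_congr rfl fun c _ => ?_
    by_cases h1 : x • c = c
    · simp [kappa, r, f, h1]
    · rw [if_neg h1, kappa]
      have h2 : ¬ x • x • c = x • c := fun e => h1 (smul_left_cancel x e)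
      simp only [r, if_neg h1, if_neg h2, hbx]
      by_cases h3 : c = bb c
      · have h4 : ¬ x • c = bb c := fun e => h1 (e.trans h3.symm)
        rw [if_pos h3, if_neg h4, show (bb c).out = c.out by rw [← h3],
          show (x * c.out)⁻¹ * x * c.out = 1 by group]
        exact (map_one' hχ).symm
      · have h4 : x • c = bb c := by
          conv_lhs => rw [(hbb c).resolve_left h3]
          exact hxxc _
        rw [if_neg h3, if_pos h4, h4,
          show (bb c).out⁻¹ * x * (x * (bb c).out) = (bb c).out⁻¹ * (x * x) * (bb c).out by group, hxx, mul_one,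
          inv_mul_cancel]
        exact (map_one' hχ).symm
  -- basic facts
  have hmemH : ∀ a, ∀ c : G ⧸ H, a • c = c → c.out⁻¹ * a * c.out ∈ H := fun a c hac => by
    rw [mul_assoc, ← QuotientGroup.eq, QuotientGroup.out_eq']
    conv_lhs => rw [← hac, ← QuotientGroup.out_eq' c]
    rfl
  have hsmul : ∀ e q : G, ∀ c : G ⧸ H, q • e • c = e • c →
      χ ((e • c).out⁻¹ * q * (e • c).out) = χ (c.out⁻¹ * (e⁻¹ * q * e) * c.out) := by
    intro e q c hq
    have hh : (e * c.out)⁻¹ * (e • c).out ∈ H := by
      rw [← QuotientGroup.eq, QuotientGroup.out_eq']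
      conv_rhs => rw [← QuotientGroup.out_eq' c]
      rfl
    have hq' : c.out⁻¹ * (e⁻¹ * q * e) * c.out ∈ H := hmemH _ c (by rw [mul_smul, mul_smul, hq, inv_smul_smul])
    have e1 : (e • c).out⁻¹ * q * (e • c).out =
        ((e * c.out)⁻¹ * (e • c).out)⁻¹ * (c.out⁻¹ * (e⁻¹ * q * e) * c.out) * ((e * c.out)⁻¹ * (e • c).out)⁻¹⁻¹ := by
      group
    rw [e1, conj' hχ (inv_mem hh) hq']
  have hνmul : ∀ c : G ⧸ H, ∀ p q, p • c = c → q • c = c →
      χ (c.out⁻¹ * (p * q) * c.out) = χ (c.out⁻¹ * p * c.out) + χ (c.out⁻¹ * q * c.out) := by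
    intro c p q hp hq
    rw [← hχ _ (hmemH p c hp) _ (hmemH q c hq)]
    congr 1; group
  have hfshift : ∀ e, ∀ c : G ⧸ H, x • c = c → x • e • c = e • c →
      f (e • c) = f c + χ (c.out⁻¹ * (x⁻¹ * e⁻¹ * x * e) * c.out) := by
    intro e c hc hec
    show χ _ = χ _ + _
    rw [hsmul e x c hec, ← hνmul c x (x⁻¹ * e⁻¹ * x * e) hc (by
      rw [mul_smul, mul_smul, mul_smul, hec, inv_smul_smul, inv_smul_eq_iff, hc])]
    congr 1; group
  have hne : ∀ g : G, g ∈ H → ∀ c : G ⧸ H, (cj z (g • c) = z ↔ cj z c = z) ∧ (cj z (g • c) ∈ H ↔ cj z c ∈ H) := by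
    intro g hg c
    rw [cj_smul]
    refine ⟨⟨fun h => ?_, fun h => by rw [h, mem_centralizer_singleton_iff.1 hg, mul_inv_cancel_right]⟩,
      fun h => by simpa [mul_assoc] using mul_mem (mul_mem (inv_mem hg) h) hg,
      fun h => mul_mem (mul_mem hg h) (inv_mem hg)⟩
    calc cj z c = g⁻¹ * (g * cj z c * g⁻¹) * g := by group
      _ = g⁻¹ * (g * z) := by rw [h, mul_assoc, ← mem_centralizer_singleton_iff.1 hg]
      _ = z := inv_mul_cancel_left g z
  -- the cosets moved by `z`
  have hS2 : ∑ c ∈ F.filter (fun c => cj z c ∉ H), f c = 0 := by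
    refine sum_pairs _ f (fun c => z • c) (fun c hc => ?_) (fun c _ => by rw [smul_smul, b.hzz, one_smul])
      (fun c hc h => ?_) (fun c hc => ?_)
    · simp only [F, Finset.mem_filter, Finset.mem_univ, true_and] at hc ⊢
      refine ⟨by rw [smul_smul, mem_centralizer_singleton_iff.1 hx, mul_smul, hc.1], ?_⟩
      rw [(hne z hzH c).2]; exact hc.2
    · simp only [F, Finset.mem_filter, Finset.mem_univ, true_and] at hc
      exact hc.2 (mem_centralizer_singleton_iff.2 ((smul_eq_iff_comm z c).1 h).symm)
    · simp only [F, Finset.mem_filter, Finset.mem_univ, true_and] at hc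
      rw [hfshift z c hc.1 (by rw [smul_smul, mem_centralizer_singleton_iff.1 hx, mul_smul, hc.1]),
        show x⁻¹ * z⁻¹ * x * z = (z * x)⁻¹ * (x * z) by group, mem_centralizer_singleton_iff.1 hx, inv_mul_cancel,
        mul_one, inv_mul_cancel, map_one' hχ, add_zero]
  -- the cosets fixed by `z`, other than the trivial one
  let S1 := F.filter (fun c => cj z c ∈ H ∧ cj z c ≠ z)
  have hS1 : ∑ c ∈ S1, f c = 0 := by
    let st1 : Setoid (G ⧸ H) :=
      { r := fun c d => ∃ a ∈ E, a • c = d
        iseqv := ⟨fun c => ⟨1, one_mem E, one_smul G c⟩, fun {c d} ⟨a, ha, h⟩ =>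
          ⟨a⁻¹, inv_mem ha, by rw [← h, inv_smul_smul]⟩, fun {c d e} ⟨a, ha, h⟩ ⟨a', ha', h'⟩ =>
          ⟨a' * a, mul_mem ha' ha, by rw [mul_smul, h, h']⟩⟩ }
    rw [← Finset.sum_fiberwise_of_maps_to (g := fun c => Quotient.mk st1 c) (t := S1.image (fun c => Quotient.mk st1 c))
      (fun c hc => Finset.mem_image_of_mem _ hc)]
    refine Finset.sum_eq_zero fun Q hQ => ?_
    obtain ⟨c, hc, rfl⟩ := Finset.mem_image.1 hQ
    simp only [S1, F, Finset.mem_filter, Finset.mem_univ, true_and] at hc
    obtain ⟨hxc, hyH, hyz⟩ := hc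
    set P := MulAction.stabilizer E c
    have hzc : z • c = c := (smul_eq_iff_comm z c).2 (mem_centralizer_singleton_iff.1 hyH).symm
    have hZP : center E ≤ P := fun e he => by
      rcases b.center_cases he with h | h
      · exact (show (e : G) • c = c by rw [h, one_smul])
      · exact (show (e : G) • c = c by rw [h]; exact hzc)
    haveI hPn : P.Normal := ⟨fun m hm g => by
      rw [show g * m * g⁻¹ = (g * m * g⁻¹ * m⁻¹) * m by group]
      exact mul_mem (hZP (CfsgLib.LargeExtra.comm_mem_center b.hext g m)) hm⟩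
    have hcomm' : ∀ p q : E, (p : E ⧸ P) * q = q * p := fun p q => by
      rw [← QuotientGroup.mk_mul, ← QuotientGroup.mk_mul, QuotientGroup.eq]
      have := hZP (CfsgLib.LargeExtra.comm_mem_center b.hext q⁻¹ p⁻¹)
      simpa [mul_assoc] using this
    let v : E → E := fun e => ⟨x * e * x⁻¹ * (e : G)⁻¹, mul_mem (b.hEn x hx e e.2) (inv_mem e.2)⟩
    let β : E →* E ⧸ P := MonoidHom.mk' (fun e => ((v e : E) : E ⧸ P)) (fun e e' => by
      have e2 : v (e * e') = v e * (e * v e' * e⁻¹) := Subtype.ext (by
        simp only [v, Subgroup.coe_mul, Subgroup.coe_inv]; group)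
      rw [e2, QuotientGroup.mk_mul, QuotientGroup.mk_mul, QuotientGroup.mk_mul, hcomm' e (v e'), mul_assoc,
        ← QuotientGroup.mk_mul, mul_inv_cancel, QuotientGroup.mk_one, mul_one])
    have hEt : ∀ e : E, e ∈ β.ker ↔ x • (e : G) • c = (e : G) • c := by
      intro e
      rw [MonoidHom.mem_ker]
      refine (QuotientGroup.eq_one_iff (v e)).trans ?_
      have e1 : x • (e : G) • c = (x * e * x⁻¹ * (e : G)⁻¹) • (e : G) • c := by
        conv_lhs => rw [← hxc]
        rw [smul_smul, smul_smul, smul_smul]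
        congr 1
        rw [hxi]; group
      rw [e1]
      constructor
      · intro hv
        have h' : ((e⁻¹ * v e * e⁻¹⁻¹ : E) : G) • c = c := hPn.conj_mem _ hv e⁻¹
        rw [inv_inv, Subgroup.coe_mul, Subgroup.coe_mul, Subgroup.coe_inv, mul_smul, mul_smul, inv_smul_eq_iff] at h'
        exact h'
      · intro h'
        have h2 : (e⁻¹ * v e * e⁻¹⁻¹ : E) ∈ P := by
          show ((e⁻¹ * v e * e⁻¹⁻¹ : E) : G) • c = c
          rw [inv_inv, Subgroup.coe_mul, Subgroup.coe_mul, Subgroup.coe_inv, mul_smul, mul_smul, inv_smul_eq_iff]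
          exact h'
        simpa [mul_assoc] using hPn.conj_mem _ h2 e
    set B := S1.filter (fun d => Quotient.mk st1 d = Quotient.mk st1 c)
    have hB : ∀ d, d ∈ B ↔ ∃ e ∈ β.ker, (e : G) • c = d := by
      intro d
      simp only [B, S1, F, Finset.mem_filter, Finset.mem_univ, true_and]
      constructor
      · rintro ⟨⟨hxd, -, -⟩, hQ'⟩
        obtain ⟨a, ha, rfl⟩ := Quotient.exact hQ'.symm
        exact ⟨⟨a, ha⟩, (hEt ⟨a, ha⟩).2 hxd, rfl⟩
      · rintro ⟨e, he, rfl⟩
        refine ⟨⟨(hEt e).1 he, ?_, ?_⟩, (Quotient.sound (show st1.r c ((e : G) • c) from ⟨e, e.2, rfl⟩)).symm⟩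
        · rw [(hne e (b.hEH e.2) c).2]; exact hyH
        · rw [Ne, (hne e (b.hEH e.2) c).1]; exact hyz
    -- the indices
    obtain ⟨n, hn'⟩ := IsPGroup.iff_card.1 b.hext.1.1
    obtain ⟨k, -, hk⟩ := (Nat.dvd_prime_pow Nat.prime_two).1 (show P.index ∣ 2 ^ n from hn' ▸ Dvd.intro_left _ (card_mul_index P))
    have hk2 : 2 ≤ k := by
      rcases Nat.lt_or_ge k 2 with h | h
      · exfalso
        interval_cases k
        · rw [pow_zero, index_eq_one] at hk
          rcases b.cent_E (y := cj z c) (fun e he => ((smul_eq_iff_comm e c).1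
            (hk ▸ mem_top _ : (⟨e, he⟩ : E) ∈ P)).symm) with h' | h'
          · refine b.hz1 ?_
            rw [cj, mul_inv_eq_one, mul_eq_left] at h'
            exact h'
          · exact hyz h'
        · exact index_stabilizer_ne_two b hn c hyz hyH (by rw [hk, pow_one])
      · exact h
    set νz := χ (c.out⁻¹ * z * c.out) with hνz
    have hk3 : νz ≠ 0 → 3 ≤ k := by
      intro h
      by_contra hlt
      have hk' : k = 2 := by omega
      subst hk'
      have hab : ∀ p ∈ P, ∀ q ∈ P, p * q = q * p := by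
        intro p hp q hq
        rcases b.comm_cases p.2 q.2 with e | e
        · exact Subtype.ext e
        · exfalso
          apply h
          have e' : z = (p : G) * q * (p : G)⁻¹ * (q : G)⁻¹ := by rw [e]; group
          have hpH : c.out⁻¹ * (p : G) * c.out ∈ H := hmemH _ c hp
          have hqH : c.out⁻¹ * (q : G) * c.out ∈ H := hmemH _ c hq
          rw [hνz, show c.out⁻¹ * z * c.out = (c.out⁻¹ * p * c.out) * (c.out⁻¹ * q * c.out) *
            (c.out⁻¹ * p * c.out)⁻¹ * (c.out⁻¹ * q * c.out)⁻¹ by
            refine (congrArg (fun t => c.out⁻¹ * t * c.out) e').trans ?_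
            group,
            hχ _ (mul_mem (mul_mem hpH hqH) (inv_mem hpH)) _ (inv_mem hqH),
            conj' hχ hpH hqH, map_inv' hχ hqH]
          exact zmod2_add_eq_zero _
      have h1 := card_mul_index P
      rw [hk] at h1
      have h2 := CfsgLib.LargeExtra.card_centralizer_mul_card b.hext P hZP
      rw [b.hext.2, ← h1] at h2
      have h3 : Nat.card P ≤ Nat.card (centralizer (P : Set E)) :=
        card_le_of_le fun a ha => mem_centralizer_iff.2 fun q hq => hab q hq a ha
      rw [← mul_assoc, mul_comm 2, mul_assoc (Nat.card P), mul_comm (Nat.card (centralizer (P : Set E)))] at h2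
      have h4 := Nat.eq_of_mul_eq_mul_left Nat.card_pos h2
      omega
    have hνsmul : ∀ e : E, χ (((e : G) • c).out⁻¹ * z * ((e : G) • c).out) = νz := fun e => by
      rw [hsmul e z c (by rw [smul_smul, ← b.zc e.2, mul_smul, hzc]),
        show (e : G)⁻¹ * z * e = (e : G)⁻¹ * (z * e) by group, ← b.zc e.2, inv_mul_cancel_left]
    have hsqfix : ∀ a ∈ E, ∀ e : E, a • a • (e : G) • c = (e : G) • c := by
      intro a ha e
      rw [smul_smul a a]
      rcases b.sq_cases ha with h | h <;> rw [h]
      · exact one_smul G _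
      · rw [smul_smul, ← b.zc e.2, mul_smul, hzc]
    by_cases hfull : β.ker = ⊤
    · -- all points of the orbit are fixed
      obtain ⟨M, hMco, hPM⟩ : ∃ M : Subgroup E, IsCoatom M ∧ P ≤ M := by
        rcases eq_top_or_exists_le_coatom P with h | h
        · rw [h, index_top] at hk
          have := Nat.pow_le_pow_right (show 1 ≤ 2 by norm_num) hk2
          omega
        · exact h
      have hMi := CfsgLib.PGroup.index_of_isCoatom b.hext.1.1 hMco
      obtain ⟨a, ha⟩ : ∃ a : E, a ∉ M := by
        by_contra hno'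
        push Not at hno'
        exact hMco.1 (eq_top_iff.2 fun a _ => hno' a)
      let OM := Finset.univ.filter fun d : G ⧸ H => ∃ e ∈ M, (e : G) • c = d
      have hfx : ∀ e : E, x • (e : G) • c = (e : G) • c := fun e => (hEt e).1 (hfull ▸ mem_top e)
      have hdisj : Disjoint OM (OM.image (fun d => (a : G) • d)) := by
        rw [Finset.disjoint_left]
        intro d hd hd'
        simp only [OM, Finset.mem_filter, Finset.mem_univ, true_and, Finset.mem_image] at hd hd'
        obtain ⟨e, he, rfl⟩ := hd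
        obtain ⟨_, ⟨e', he', rfl⟩, hd'⟩ := hd'
        refine ha ?_
        have : e⁻¹ * (a * e') ∈ P := by
          show ((e⁻¹ * (a * e') : E) : G) • c = c
          rw [Subgroup.coe_mul, Subgroup.coe_mul, Subgroup.coe_inv, mul_smul, mul_smul, hd', inv_smul_smul]
        have h2 := mul_mem (mul_mem he (hPM this)) (inv_mem he')
        rwa [mul_inv_cancel_left, mul_inv_cancel_right] at h2
      have hBeq : B = OM ∪ OM.image (fun d => (a : G) • d) := by
        ext d
        simp only [hB, Finset.mem_union, OM, Finset.mem_filter, Finset.mem_univ, true_and, Finset.mem_image]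
        constructor
        · rintro ⟨e, -, rfl⟩
          by_cases he : e ∈ M
          · exact Or.inl ⟨e, he, rfl⟩
          · refine Or.inr ⟨_, ⟨a⁻¹ * e, (mul_mem_iff_of_index_two hMi).2 (iff_of_false (fun h => ha (inv_mem_iff.1 h)) he), rfl⟩, ?_⟩
            rw [smul_smul, Subgroup.coe_mul, Subgroup.coe_inv, mul_inv_cancel_left]
        · rintro (⟨e, -, rfl⟩ | ⟨_, ⟨e, -, rfl⟩, rfl⟩)
          · exact ⟨e, hfull ▸ mem_top e, rfl⟩
          · exact ⟨a * e, hfull ▸ mem_top _, by rw [Subgroup.coe_mul, mul_smul]⟩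
      show ∑ d ∈ B, f d = 0
      rw [hBeq, Finset.sum_union hdisj, Finset.sum_image (fun d _ d' _ h => smul_left_cancel (a : G) h),
        ← Finset.sum_add_distrib]
      set q : E := ⟨x⁻¹ * (a : G)⁻¹ * x * a, by
        have := mul_mem (b.hEn x⁻¹ (inv_mem hx) _ (inv_mem a.2)) a.2
        rwa [inv_inv] at this⟩ with hq
      have hqP : (q : G) • c = c := by
        show (x⁻¹ * (a : G)⁻¹ * x * a) • c = c
        rw [mul_smul, mul_smul, mul_smul, hfx, inv_smul_smul, inv_smul_eq_iff, hxc]
      set νq := χ (c.out⁻¹ * (q : G) * c.out)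
      have hg : ∀ e : E, f ((e : G) • c) + f ((a : G) • (e : G) • c) =
          νq + (if (e : G) * q = q * e then 0 else νz) := by
        intro e
        rw [hfshift a ((e : G) • c) (hfx e) (by rw [smul_smul (a : G)]; exact hfx (a * e)), ← add_assoc,
          zmod2_add_eq_zero, zero_add,
          hsmul e (x⁻¹ * (a : G)⁻¹ * x * a) c (by
            rw [mul_smul, mul_smul, mul_smul, show x • (a : G) • (e : G) • c = (a : G) • (e : G) • c by
              rw [smul_smul (a : G)]; exact hfx (a * e), inv_smul_smul, inv_smul_eq_iff, hfx e])]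
        show χ (c.out⁻¹ * ((e : G)⁻¹ * q * e) * c.out) = _
        split_ifs with h
        · rw [add_zero, mul_assoc (e : G)⁻¹, ← h, inv_mul_cancel_left]
        · have h' := (b.comm_cases e.2 q.2).resolve_left h
          have h'' : (e : G)⁻¹ * q * e = z * q := by
            have : (q : G) * e = z * (e * q) := by rw [h', ← mul_assoc, b.hzz, one_mul]
            rw [mul_assoc, this, ← mul_assoc (e : G)⁻¹ z, b.zc (inv_mem e.2)]; group
          rw [h'', hνmul c z q hzc hqP, add_comm]
      have hOM : Nat.card (orb (M.map E.subtype) c) = OM.card := by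
        rw [← Set.ncard_coe_finset OM, ← Nat.card_coe_set_eq]
        refine Nat.card_congr (Equiv.subtypeEquivRight fun d => ?_)
        simp only [OM, Finset.coe_filter, Finset.mem_univ, true_and, Set.mem_setOf_eq]
        exact ⟨fun ⟨w, ⟨e, he, h⟩, h'⟩ => ⟨e, he, by subst h; exact h'⟩, fun ⟨e, he, h⟩ => ⟨e, ⟨e, he, rfl⟩, h⟩⟩
      have hidx : Nat.card (orb (M.map E.subtype) c) * 2 = 2 ^ k := by
        rw [orb_card]
        set P' := MulAction.stabilizer (M.map E.subtype) c
        have h1 := card_mul_index P'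
        have h2 := card_mul_index M
        have h3 := card_mul_index P
        rw [card_map_of_injective E.subtype_injective] at h1
        have hP' : Nat.card P' = Nat.card P := by
          refine (Nat.card_eq_of_bijective (fun p : P => (⟨⟨((p : E) : G), ⟨p, hPM p.2, rfl⟩⟩, p.2⟩ : P')) ⟨?_, ?_⟩).symm
          · intro p p' h
            exact Subtype.ext (Subtype.ext (congrArg (fun w : P' => ((w : M.map E.subtype) : G)) h))
          · rintro ⟨⟨_, ⟨e, he, rfl⟩⟩, hfix⟩
            exact ⟨⟨e, hfix⟩, rfl⟩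
        rw [hMi] at h2
        rw [hk, ← h2, ← h1, hP', mul_assoc] at h3
        exact (Nat.eq_of_mul_eq_mul_left Nat.card_pos h3).symm
      obtain ⟨j, rfl⟩ : ∃ j, k = j + 2 := ⟨k - 2, by omega⟩
      have hOMc : OM.card = 2 ^ (j + 1) := by rw [← hOM]; rw [pow_succ 2 (j + 1)] at hidx; omega
      have hval : ∀ d ∈ OM, ∃ e ∈ M, (e : G) • c = d := fun d hd => by
        simpa [OM] using hd
      by_cases hlin : νz = 0 ∨ ∀ e ∈ M, (e : G) * q = q * e
      · rw [Finset.sum_congr rfl (g := fun _ => νq) fun d hd => by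
          obtain ⟨e, he, rfl⟩ := hval d hd
          rw [hg]
          rcases hlin with h | h
          · simp [h]
          · rw [if_pos (h e he), add_zero],
          Finset.sum_const, hOMc, pow_succ, mul_smul, two_nsmul, zmod2_add_eq_zero, smul_zero]
      · push Not at hlin
        obtain ⟨hz0, e1, he1, he1q⟩ := hlin
        have hz' : νz = 1 := (zmod2_cases _).resolve_left hz0
        have h3k := hk3 hz0
        refine two_dvd_fiber OM _ (fun d => (e1 : G) • d) (fun d hd => ?_) (fun d hd => ?_) (fun d hd => ?_) ?_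
        · obtain ⟨e, he, rfl⟩ := hval d hd
          simp only [OM, Finset.mem_filter, Finset.mem_univ, true_and]
          exact ⟨e1 * e, mul_mem he1 he, by rw [Subgroup.coe_mul, mul_smul]⟩
        · obtain ⟨e, he, rfl⟩ := hval d hd
          exact hsqfix e1 e1.2 e
        · obtain ⟨e, he, rfl⟩ := hval d hd
          have h1 := hg (e1 * e)
          rw [Subgroup.coe_mul, mul_smul] at h1
          rw [h1, hg e, hz']
          have hsymm : ∀ p : E, psi (p : G) q = if (p : G) * q = q * p then 0 else 1 := fun p => rfl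
          rw [← hsymm e, show (if (e1 : G) * e * q = q * (e1 * e) then (0 : ZMod 2) else 1) = psi ((e1 * e : E) : G) q from rfl,
            psi_symm, Subgroup.coe_mul, psi_mul b q.2 e1.2 e.2, psi_symm (q : G) e1, psi_symm (q : G) e,
            show psi (e1 : G) q = 1 from if_neg he1q]
          ring
        · rw [hOMc]
          exact pow_dvd_pow 2 (show 2 ≤ j + 1 by omega)
    · -- some point of the orbit is moved
      obtain ⟨w, hw⟩ : ∃ w : E, w ∉ β.ker := by
        by_contra hno'
        push Not at hno'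
        exact hfull (eq_top_iff.2 fun a _ => hno' a)
      set i : E := v w with hi
      have hii : x * (i : G) * x⁻¹ = (i : G)⁻¹ := inv_move hxx (w : G)
      have hiP : i ∉ P := fun h => hw (MonoidHom.mem_ker.2 ((QuotientGroup.eq_one_iff _).2 h))
      have hiK : i ∈ β.ker := by
        refine MonoidHom.mem_ker.2 ((QuotientGroup.eq_one_iff _).2 (hZP ?_))
        rw [show v i = i⁻¹ * i⁻¹ from Subtype.ext (by
          show x * (i : G) * x⁻¹ * (i : G)⁻¹ = (i : G)⁻¹ * (i : G)⁻¹
          rw [hii])]
        exact CfsgLib.LargeExtra.sq_mem_center b.hext i⁻¹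
      have hqi : x⁻¹ * (i : G)⁻¹ * x * i = i * i := by
        have : (i : G)⁻¹ = x * i * x⁻¹ := hii.symm
        rw [this]; group
      obtain ⟨ci, hci, hci'⟩ : ∃ ci : ZMod 2, (ci ≠ 0 → νz ≠ 0) ∧ ∀ e : E, e ∈ β.ker →
          f ((i : G) • (e : G) • c) = f ((e : G) • c) + ci := by
        refine ⟨if (i : G) * i = 1 then 0 else νz, fun h => ?_, fun e he => ?_⟩
        · split_ifs at h
          · exact absurd rfl h
          · exact h
        · rw [hfshift i ((e : G) • c) ((hEt e).1 he) (by
            have := (hEt (i * e)).1 (mul_mem hiK he)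
            rw [Subgroup.coe_mul, mul_smul] at this
            exact this), hqi]
          congr 1
          rcases b.sq_cases i.2 with h | h
          · rw [if_pos h, h, mul_one, inv_mul_cancel, map_one' hχ]
          · rw [if_neg (by rw [h]; exact b.hz1), h, hνsmul]
      have hstab : ∀ d ∈ B, (i : G) • d ∈ B := fun d hd => by
        obtain ⟨e, he, rfl⟩ := (hB d).1 hd
        exact (hB _).2 ⟨i * e, mul_mem hiK he, by rw [Subgroup.coe_mul, mul_smul]⟩
      have hinv : ∀ d ∈ B, (i : G) • (i : G) • d = d := fun d hd => by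
        obtain ⟨e, -, rfl⟩ := (hB d).1 hd
        exact hsqfix i i.2 e
      have hfree : ∀ d ∈ B, (i : G) • d ≠ d := fun d hd h => by
        obtain ⟨e, -, rfl⟩ := (hB d).1 hd
        apply hiP
        have h2 : e⁻¹ * i * e⁻¹⁻¹ ∈ P := by
          show ((e⁻¹ * i * e⁻¹⁻¹ : E) : G) • c = c
          rw [inv_inv, Subgroup.coe_mul, Subgroup.coe_mul, Subgroup.coe_inv, mul_smul, mul_smul, h, inv_smul_smul]
        simpa [mul_assoc] using hPn.conj_mem _ h2 e
      show ∑ d ∈ B, f d = 0
      by_cases hc0 : ci = 0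
      · refine sum_pairs B f (fun d => (i : G) • d) hstab hinv hfree fun d hd => ?_
        obtain ⟨e, he, rfl⟩ := (hB d).1 hd
        rw [hci' e he, hc0, add_zero]
      · refine two_dvd_fiber B f (fun d => (i : G) • d) hstab hinv (fun d hd => ?_) ?_
        · obtain ⟨e, he, rfl⟩ := (hB d).1 hd
          rw [hci' e he, (zmod2_cases _).resolve_left hc0]
        -- the size of the block
        have h3k := hk3 (hci hc0)
        let π := QuotientGroup.mk' P
        have hrange : β.range ≤ β.ker.map π := by
          rintro _ ⟨e, rfl⟩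
          refine ⟨v e, MonoidHom.mem_ker.2 ((QuotientGroup.eq_one_iff _).2 (hZP ?_)), rfl⟩
          rw [show v (v e) = (v e)⁻¹ * (v e)⁻¹ from Subtype.ext (by
            show x * (v e : G) * x⁻¹ * (v e : G)⁻¹ = (v e : G)⁻¹ * (v e : G)⁻¹
            rw [show x * (v e : G) * x⁻¹ = (v e : G)⁻¹ from inv_move hxx (e : G)])]
          exact CfsgLib.LargeExtra.sq_mem_center b.hext (v e)⁻¹
        have hBcard : B.card = Nat.card (β.ker.map π) := by
          have hwd : ∀ e e' : E, (e : E ⧸ P) = e' → (e : G) • c = (e' : G) • c := fun e e' h => by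
            have h2 : ((e⁻¹ * e' : E) : G) • c = c := QuotientGroup.eq.1 h
            rw [Subgroup.coe_mul, Subgroup.coe_inv, mul_smul, inv_smul_eq_iff] at h2
            exact h2.symm
          have hout : ∀ q : E ⧸ P, π q.out = q := fun q => QuotientGroup.out_eq' q
          rw [← Set.ncard_coe_finset B, ← Nat.card_coe_set_eq]
          refine (Nat.card_eq_of_bijective
            (fun q : β.ker.map π => (⟨((q.1.out : E) : G) • c, ?_⟩ : (↑B : Set (G ⧸ H)))) ⟨?_, ?_⟩).symm
          · obtain ⟨e, he, he'⟩ := q.2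
            exact Finset.mem_coe.2 ((hB _).2 ⟨e, he, hwd e q.1.out (he'.trans (hout q.1).symm)⟩)
          · intro q q' h
            refine Subtype.ext ?_
            rw [← hout q.1, ← hout q'.1]
            refine QuotientGroup.eq.2 ?_
            show ((q.1.out⁻¹ * q'.1.out : E) : G) • c = c
            have h' : ((q.1.out : E) : G) • c = ((q'.1.out : E) : G) • c := congrArg Subtype.val h
            rw [Subgroup.coe_mul, Subgroup.coe_inv, mul_smul, ← h', inv_smul_smul]
          · rintro ⟨d, hd⟩
            obtain ⟨e, he, rfl⟩ := (hB d).1 (Finset.mem_coe.1 hd)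
            exact ⟨⟨π e, mem_map_of_mem π he⟩, Subtype.ext (hwd _ e (hout _))⟩
        rw [hBcard]
        set m := Nat.card (β.ker.map π)
        obtain ⟨j, -, hj⟩ : ∃ j ≤ k, m = 2 ^ j := (Nat.dvd_prime_pow Nat.prime_two).1
          (show m ∣ 2 ^ k by rw [← hk, index_eq_card]; exact card_subgroup_dvd_card _)
        -- `|E : P| ≤ m * m`
        have hker : Nat.card β.ker ≤ m * Nat.card P := by
          have h4 := card_mul_index (π.comp β.ker.subtype).ker
          rw [index_ker, MonoidHom.range_comp, range_subtype] at h4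
          change _ * m = _ at h4
          rw [← h4, mul_comm m]
          refine Nat.mul_le_mul_right _ (Nat.card_le_card_of_injective
            (fun a => (⟨(a.1 : E), (QuotientGroup.eq_one_iff _).1 (MonoidHom.mem_ker.1 a.2)⟩ : P)) ?_)
          intro a a' h
          exact Subtype.ext (Subtype.ext (congrArg (fun w : P => (w : E)) h))
        have h5 := card_mul_index β.ker
        rw [index_ker] at h5
        have h6 : Nat.card E ≤ Nat.card P * (m * m) := by
          rw [← h5]
          refine (Nat.mul_le_mul hker (card_le_of_le hrange)).trans (le_of_eq ?_)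
          change m * Nat.card P * m = _
          ring
        rw [← card_mul_index P, hk] at h6
        have h7 := Nat.le_of_mul_le_mul_left h6 Nat.card_pos
        rw [hj, ← pow_add] at h7
        have h8 := (Nat.pow_le_pow_iff_right (by norm_num : 1 < 2)).1 h7
        rw [hj]
        exact pow_dvd_pow 2 (show 2 ≤ j by omega)
  -- conclusion
  rw [← Finset.sum_filter_add_sum_filter_not F (fun c => cj z c ∈ H), hS2, add_zero,
    ← Finset.sum_filter_add_sum_filter_not (F.filter fun c => cj z c ∈ H) (fun c => cj z c ≠ z),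
    Finset.filter_filter] at hF
  rw [hS1, zero_add] at hF
  have hc1 : ∀ c : G ⧸ H, cj z c = z ↔ c = ((1 : G) : G ⧸ H) := by
    intro c
    constructor
    · intro h
      rw [← QuotientGroup.out_eq' c, QuotientGroup.eq, mul_one, inv_mem_iff, mem_centralizer_singleton_iff]
      exact mul_inv_eq_iff_eq_mul.1 h
    · intro h
      have hm : c.out ∈ H := by
        rw [← inv_mem_iff, ← mul_one c.out⁻¹, ← QuotientGroup.eq, QuotientGroup.out_eq', h]
      show c.out * z * c.out⁻¹ = z
      rw [mem_centralizer_singleton_iff.1 hm, mul_inv_cancel_right]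
  have hset : ((F.filter fun c => cj z c ∈ H).filter fun c => ¬ cj z c ≠ z) = {((1 : G) : G ⧸ H)} := by
    ext c
    simp only [F, Finset.mem_filter, Finset.mem_univ, true_and, Finset.mem_singleton, not_not]
    constructor
    · exact fun h => (hc1 c).1 h.2
    · rintro rfl
      refine ⟨⟨?_, by rw [(hc1 _).2 rfl]; exact hzH⟩, (hc1 _).2 rfl⟩
      show ((x * 1 : G) : G ⧸ H) = _
      rw [QuotientGroup.eq]
      simpa using inv_mem hx
  rw [hset, Finset.sum_singleton] at hF
  have hm : ((1 : G) : G ⧸ H).out ∈ H := by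
    rw [← inv_mem_iff, ← mul_one ((1 : G) : G ⧸ H).out⁻¹, ← QuotientGroup.eq, QuotientGroup.out_eq']
  rw [← conj' hχ (inv_mem hm) hx, inv_inv]
  convert hF.symm

/-- Every involution of the centralizer has value zero. -/
theorem involution_zero (hno : ∀ f : G →* Multiplicative (ZMod 2), ∀ g, f g = 1) (b : Hyp z E)
    (hn : 128 ≤ Nat.card E) {χ : G → ZMod 2} (hχ : Additive' (centralizer ({z} : Set G)) χ)
    (hE0 : ∀ e ∈ E, χ e = 0) {x : G} (hx : x ∈ centralizer ({z} : Set G)) (hxx : x * x = 1) : χ x = 0 := by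
  haveI := Fintype.ofFinite (G ⧸ centralizer ({z} : Set G))
  obtain ⟨r, hr, h⟩ := involution_eq b hn hχ hE0 hx hxx
  rw [← h, sum_kappa_eq_zero hno hχ hr x]

/-- A character killing the large extraspecial subgroup vanishes. -/
theorem char_zero (hno : ∀ f : G →* Multiplicative (ZMod 2), ∀ g, f g = 1) (b : Hyp z E) (hn : 128 ≤ Nat.card E)
    {χ : G → ZMod 2} (hχ : Additive' (centralizer ({z} : Set G)) χ) (hE0 : ∀ e ∈ E, χ e = 0) :
    ∀ x ∈ centralizer ({z} : Set G), χ x = 0 := by
  refine char_zero_of_index hno b.hzz b.hz1 E b.hEH b.hEn b.hext b.hcent hχ (fun c hc => ?_)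
    (fun c hyz hyH p _ _ _ => index_stabilizer_ne_two b hn c hyz hyH)
  have hzc : z • c = c := (smul_eq_iff_comm z c).2 (mem_centralizer_singleton_iff.1 hc).symm
  refine involution_zero hno b hn hχ hE0 ?_ ?_
  · rw [mul_assoc, ← QuotientGroup.eq, QuotientGroup.out_eq']
    conv_lhs => rw [← hzc, ← QuotientGroup.out_eq' c]
    rfl
  · rw [show c.out⁻¹ * z * c.out * (c.out⁻¹ * z * c.out) = c.out⁻¹ * (z * z) * c.out by group, b.hzz]; group

end CfsgLib.InvolChar.LargeExtraWeak
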