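import Mathlib
import Cfsg.Agent.Lib.Classical.HermOrder

/-!
A concrete Sylow 2-subgroup of `SU₃(2ⁿ)` for the form `∑ uᵢ vᵢ^q`, and its coordinates.
-/

set_option autoImplicit false

namespace CfsgLib.SU3Sylow

open Matrix Cfsg

variable {F : Type*} [Field F]

/-- Coordinates of a group of the shape of a Sylow 2-subgroup of `SU₃(q)`, `q` even. -/
structure Coords (S : Type*) [Group S] (F : Type*) [Field F] (q : ℕ) where
  π : S → F
  ζ : S → F
  π_mul : ∀ a b, π (a * b) = π a + π b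
  π_surj : Function.Surjective π
  π_eq_zero : ∀ a, π a = 0 ↔ a ∈ Subgroup.center S
  ζ_mul : ∀ a ∈ Subgroup.center S, ∀ b ∈ Subgroup.center S, ζ (a * b) = ζ a + ζ b
  ζ_eq_zero : ∀ a ∈ Subgroup.center S, ζ a = 0 → a = 1
  ζ_pow : ∀ a ∈ Subgroup.center S, ζ a ^ q = ζ a
  ζ_sq : ∀ a, ζ (a * a) = π a ^ (q + 1)
  center_sq : ∀ a ∈ Subgroup.center S, a * a = 1

/-- Coordinates along an isomorphism. -/
def Coords.congr {S T : Type*} [Group S] [Group T] {q : ℕ} (c : Coords S F q) (e : T ≃* S) :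
    Coords T F q :=
  have hc : ∀ a, a ∈ Subgroup.center T ↔ e a ∈ Subgroup.center S := fun a => by
    simp only [Subgroup.mem_center_iff]
    exact ⟨fun h b => by simpa using congrArg e (h (e.symm b)),
      fun h b => e.injective (by simpa using h (e b))⟩
  { π := fun a => c.π (e a)
    ζ := fun a => c.ζ (e a)
    π_mul := fun a b => by rw [map_mul, c.π_mul]
    π_surj := c.π_surj.comp e.surjective
    π_eq_zero := fun a => by rw [c.π_eq_zero, hc]
    ζ_mul := fun a ha b hb => by rw [map_mul, c.ζ_mul _ ((hc a).1 ha) _ ((hc b).1 hb)]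
    ζ_eq_zero := fun a ha h => e.injective (by rw [map_one]; exact c.ζ_eq_zero _ ((hc a).1 ha) h)
    ζ_pow := fun a ha => c.ζ_pow _ ((hc a).1 ha)
    ζ_sq := fun a => by rw [map_mul, c.ζ_sq]
    center_sq := fun a ha => e.injective (by rw [map_mul, map_one]; exact c.center_sq _ ((hc a).1 ha)) }

/-- The unipotent matrix with parameters `x`, `y`. -/
def uMat (q : ℕ) (x y : F) : Matrix (Fin 3) (Fin 3) F :=
  !![1 + y, y, x ^ q; y, 1 + y, x ^ q; x, x, 1]

variable [Fintype F] [CharP F 2] {n : ℕ}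

omit [Fintype F] in
theorem frob_add (a b : F) : (a + b) ^ 2 ^ n = a ^ 2 ^ n + b ^ 2 ^ n := by
  haveI : Fact (Nat.Prime 2) := ⟨Nat.prime_two⟩
  exact add_pow_char_pow a b 2 n

omit [CharP F 2] in
theorem frob_frob (hF : Fintype.card F = (2 ^ n) ^ 2) (a : F) : (a ^ 2 ^ n) ^ 2 ^ n = a := by
  rw [← pow_mul, ← sq, ← hF, FiniteField.pow_card]

theorem card_fixed (hF : Fintype.card F = (2 ^ n) ^ 2) :
    Nat.card {y : F // y + y ^ 2 ^ n = 0} = 2 ^ n ∧
      ∀ c : F, c ^ 2 ^ n = c → ∃ y, y + y ^ 2 ^ n = c := by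
  classical
  have hq : 2 ≤ 2 ^ n := by
    have := Fintype.one_lt_card (α := F)
    rw [hF] at this
    rcases Nat.eq_zero_or_pos n with rfl | h
    · simp at this
    · exact Nat.le_self_pow h.ne' 2
  let T : F →+ F :=
    { toFun := fun y => y + y ^ 2 ^ n
      map_zero' := by simp
      map_add' := fun a b => by rw [frob_add]; abel }
  have hk : ∀ y, y ∈ T.ker ↔ y ^ 2 ^ n = y := fun y => by
    rw [AddMonoidHom.mem_ker]
    exact CharTwo.add_eq_zero.trans eq_comm
  have hle : T.range ≤ T.ker := by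
    rintro _ ⟨y, rfl⟩
    rw [hk]
    simp only [T, AddMonoidHom.coe_mk, ZeroHom.coe_mk]
    rw [frob_add, frob_frob hF, add_comm]
  have hcard : Nat.card T.ker ≤ 2 ^ n := by
    have hne : (Polynomial.X ^ 2 ^ n - Polynomial.X : Polynomial F) ≠ 0 :=
      FiniteField.X_pow_card_sub_X_ne_zero F hq
    have h1 : (Finset.univ.filter fun y : F => y ^ 2 ^ n = y) ⊆
        (Polynomial.X ^ 2 ^ n - Polynomial.X : Polynomial F).roots.toFinset := fun y hy => by
      simp at hy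
      simp [Multiset.mem_toFinset, Polynomial.mem_roots hne, hy]
    calc Nat.card T.ker = Nat.card {y : F // y ^ 2 ^ n = y} := Nat.card_congr (Equiv.subtypeEquivRight hk)
      _ = (Finset.univ.filter fun y : F => y ^ 2 ^ n = y).card := by
          rw [Nat.card_eq_fintype_card, Fintype.card_subtype]
      _ ≤ _ := (Finset.card_le_card h1).trans ((Multiset.toFinset_card_le _).trans
          ((Polynomial.card_roots' _).trans (FiniteField.X_pow_card_sub_X_natDegree_eq F hq).le))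
  have hprod : Nat.card T.ker * Nat.card T.range = (2 ^ n) ^ 2 := by
    rw [← AddSubgroup.index_ker, AddSubgroup.card_mul_index, Nat.card_eq_fintype_card, hF]
  have hler : Nat.card T.range ≤ Nat.card T.ker := AddSubgroup.card_le_of_le hle
  have hker : Nat.card T.ker = 2 ^ n := by
    refine le_antisymm hcard ?_
    by_contra hlt
    nlinarith
  refine ⟨(Nat.card_congr (Equiv.subtypeEquivRight fun y => (AddMonoidHom.mem_ker (f := T)).symm)).trans hker, ?_⟩
  have hr : T.range = T.ker := AddSubgroup.eq_of_le_of_card_ge hle (by rw [hker] at hprod ⊢; nlinarith)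
  intro c hc
  have : c ∈ T.range := hr ▸ (hk c).2 hc
  exact this

omit [CharP F 2] in
theorem norm_fixed (hF : Fintype.card F = (2 ^ n) ^ 2) (x : F) :
    (x ^ (2 ^ n + 1)) ^ 2 ^ n = x ^ (2 ^ n + 1) := by
  rw [pow_succ, mul_pow, frob_frob hF, mul_comm]

set_option linter.unusedVariables false in
theorem uMat_mul (hF : Fintype.card F = (2 ^ n) ^ 2) (x y x' y' : F) :
    uMat (2 ^ n) x y * uMat (2 ^ n) x' y' =
      uMat (2 ^ n) (x + x') (y + y' + x ^ 2 ^ n * x') := by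
  have h2 : (2 : F) = 0 := CharTwo.two_eq_zero
  ext i j
  fin_cases i <;> fin_cases j <;> simp [uMat, Matrix.mul_apply, Fin.sum_univ_three, frob_add]
  all_goals first
    | ring1
    | linear_combination (y * y') * h2
    | linear_combination (x * y') * h2
    | linear_combination (y * x' ^ 2 ^ n) * h2
    | linear_combination (x * x' ^ 2 ^ n) * h2

omit [Fintype F] in
theorem uMat_det (x y : F) (_h : y + y ^ 2 ^ n = x ^ (2 ^ n + 1)) : (uMat (2 ^ n) x y).det = 1 := by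
  have h2 : (2 : F) = 0 := CharTwo.two_eq_zero
  simp [uMat, Matrix.det_fin_three]
  linear_combination (y - x ^ 2 ^ n * x) * h2

theorem uMat_herm (hF : Fintype.card F = (2 ^ n) ^ 2) (x y : F) (h : y + y ^ 2 ^ n = x ^ (2 ^ n + 1))
    (u v : Fin 3 → F) :
    hermForm 3 F (2 ^ n) (uMat (2 ^ n) x y *ᵥ u) (uMat (2 ^ n) x y *ᵥ v) = hermForm 3 F (2 ^ n) u v := by
  have h2 : (2 : F) = 0 := CharTwo.two_eq_zero
  rw [pow_succ] at h
  simp [hermForm, uMat, Matrix.mulVec, dotProduct, Fin.sum_univ_three, frob_add, mul_pow, frob_frob hF]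
  generalize x ^ 2 ^ n = x' at h ⊢
  generalize y ^ 2 ^ n = y' at h ⊢
  generalize v 0 ^ 2 ^ n = a
  generalize v 1 ^ 2 ^ n = b
  generalize v 2 ^ 2 ^ n = c
  linear_combination (u 0 + u 1) * (a + b) * h +
    ((u 0 + u 1) * (a + b) * (x' * x + y * y') + (u 0 + u 1) * x * c + u 2 * x' * (a + b) +
      (u 0 + u 1) * y * x * c + u 2 * x' * y' * (a + b) + u 2 * x' * x * c) * h2

/-- An element of the standard Sylow 2-subgroup. -/
def el (hF : Fintype.card F = (2 ^ n) ^ 2) (x y : F) (h : y + y ^ 2 ^ n = x ^ (2 ^ n + 1)) :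
    SU 3 F (2 ^ n) :=
  CfsgLib.Classical.suMk (uMat (2 ^ n) x y) (uMat_det x y h) (uMat_herm hF x y h)

theorem cond_mul (hF : Fintype.card F = (2 ^ n) ^ 2) {x y x' y' : F} (h : y + y ^ 2 ^ n = x ^ (2 ^ n + 1))
    (h' : y' + y' ^ 2 ^ n = x' ^ (2 ^ n + 1)) :
    (y + y' + x ^ 2 ^ n * x') + (y + y' + x ^ 2 ^ n * x') ^ 2 ^ n = (x + x') ^ (2 ^ n + 1) := by
  rw [pow_succ] at h h' ⊢
  rw [frob_add, frob_add, frob_add, mul_pow, frob_frob hF]
  linear_combination h + h'

omit [CharP F 2] in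
theorem cond_inv (hF : Fintype.card F = (2 ^ n) ^ 2) {x y : F} (h : y + y ^ 2 ^ n = x ^ (2 ^ n + 1)) :
    y ^ 2 ^ n + (y ^ 2 ^ n) ^ 2 ^ n = x ^ (2 ^ n + 1) := by
  rw [frob_frob hF, add_comm, h]

/-- The standard Sylow 2-subgroup of `SU₃(2ⁿ)`. -/
def U (hF : Fintype.card F = (2 ^ n) ^ 2) : Subgroup (SU 3 F (2 ^ n)) where
  carrier := {g | ∃ x y : F, y + y ^ 2 ^ n = x ^ (2 ^ n + 1) ∧ g.1.1 = uMat (2 ^ n) x y}
  one_mem' := ⟨0, 0, by simp, by ext i j; fin_cases i <;> fin_cases j <;> simp [uMat]⟩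
  mul_mem' := by
    rintro g g' ⟨x, y, h, hg⟩ ⟨x', y', h', hg'⟩
    exact ⟨_, _, cond_mul hF h h', by
      rw [← uMat_mul hF, ← hg, ← hg']; rfl⟩
  inv_mem' := by
    rintro g ⟨x, y, h, hg⟩
    refine ⟨x, y ^ 2 ^ n, cond_inv hF h, ?_⟩
    have : g * el hF x (y ^ 2 ^ n) (cond_inv hF h) = 1 := by
      apply Subtype.ext
      apply Subtype.ext
      show g.1.1 * uMat (2 ^ n) x (y ^ 2 ^ n) = 1
      rw [hg, uMat_mul hF, h, ← pow_succ, CharTwo.add_self_eq_zero, CharTwo.add_self_eq_zero]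
      ext i j
      fin_cases i <;> fin_cases j <;> simp [uMat]
    rw [inv_eq_of_mul_eq_one_right this]
    rfl

theorem mem_U {hF : Fintype.card F = (2 ^ n) ^ 2} (g : U hF) :
    g.1.1.1 1 0 + g.1.1.1 1 0 ^ 2 ^ n = g.1.1.1 2 0 ^ (2 ^ n + 1) ∧
      g.1.1.1 = uMat (2 ^ n) (g.1.1.1 2 0) (g.1.1.1 1 0) := by
  obtain ⟨x, y, h, hg⟩ := g.2
  rw [hg]
  refine ⟨by simpa [uMat] using h, ?_⟩
  simp [uMat]

theorem card_U (hF : Fintype.card F = (2 ^ n) ^ 2) : Nat.card (U hF) = (2 ^ n) ^ 3 := by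
  classical
  obtain ⟨hK, hsurj⟩ := card_fixed hF
  have hs : ∀ x : F, ∃ y, y + y ^ 2 ^ n = x ^ (2 ^ n + 1) := fun x => hsurj _ (norm_fixed hF x)
  choose s hs using hs
  let e : U hF ≃ F × {y : F // y + y ^ 2 ^ n = 0} :=
    { toFun := fun g => ⟨g.1.1.1 2 0, g.1.1.1 1 0 + s (g.1.1.1 2 0), by
        rw [frob_add]
        linear_combination (mem_U g).1 + hs (g.1.1.1 2 0) +
          (g.1.1.1 2 0 ^ (2 ^ n + 1)) * (CharTwo.two_eq_zero : (2 : F) = 0)⟩
      invFun := fun p => ⟨el hF p.1 (p.2.1 + s p.1) (by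
          rw [frob_add]; linear_combination hs p.1 + p.2.2),
        p.1, p.2.1 + s p.1, (by rw [frob_add]; linear_combination hs p.1 + p.2.2), rfl⟩
      left_inv := fun g => by
        apply Subtype.ext
        apply Subtype.ext
        apply Subtype.ext
        show uMat (2 ^ n) _ _ = _
        simp only [add_assoc, CharTwo.add_self_eq_zero, add_zero]
        exact (mem_U g).2.symm
      right_inv := fun p => by
        refine Prod.ext ?_ (Subtype.ext ?_)
        · show uMat (2 ^ n) p.1 (p.2.1 + s p.1) 2 0 = p.1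
          simp [uMat]
        · show uMat (2 ^ n) p.1 (p.2.1 + s p.1) 1 0 + s (uMat (2 ^ n) p.1 (p.2.1 + s p.1) 2 0) = p.2.1
          simp [uMat, add_assoc, CharTwo.add_self_eq_zero] }
  rw [Nat.card_congr e, Nat.card_prod, hK, Nat.card_eq_fintype_card, hF]
  ring

omit [CharP F 2] in
theorem factorization_card_SU (hF : Fintype.card F = (2 ^ n) ^ 2) :
    (2 ^ n) ^ 3 = 2 ^ (Nat.card (SU 3 F (2 ^ n))).factorization 2 := by
  have hn : 1 ≤ n := by
    rcases Nat.eq_zero_or_pos n with rfl | h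
    · have := Fintype.one_lt_card (α := F); simp [hF] at this
    · exact h
  have h := CfsgLib.Classical.card_su (n := 3) (q := 2 ^ n) (F := F) hF (by norm_num)
  have hu : CfsgLib.Classical.unitaryOrder (2 ^ n) 3 =
      (2 ^ n + 1) * ((2 ^ n) ^ 3 * (((2 ^ n) ^ 3 + 1) * ((2 ^ n) ^ 2 - 1))) := by
    simp [CfsgLib.Classical.unitaryOrder, Finset.prod_range_succ, Nat.even_iff]
    ring
  rw [hu] at h
  rw [Nat.eq_of_mul_eq_mul_left (Nat.succ_pos _) h]
  obtain ⟨k, rfl⟩ : ∃ k, n = k + 1 := ⟨n - 1, by omega⟩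
  have hodd : ¬ 2 ∣ ((2 ^ (k + 1)) ^ 3 + 1) * ((2 ^ (k + 1)) ^ 2 - 1) := by
    have h1 : 1 ≤ (2 ^ k) ^ 2 := Nat.one_le_pow _ _ (Nat.two_pow_pos k)
    have e1 : (2 ^ (k + 1)) ^ 3 = 2 * (4 * (2 ^ k) ^ 3) := by ring
    have e2 : (2 ^ (k + 1)) ^ 2 = 2 * (2 * (2 ^ k) ^ 2) := by ring
    rw [Nat.prime_two.dvd_mul]
    omega
  have hne : ((2 ^ (k + 1)) ^ 3 + 1) * ((2 ^ (k + 1)) ^ 2 - 1) ≠ 0 := fun h0 => hodd (h0 ▸ dvd_zero 2)
  rw [Nat.factorization_mul (by positivity) hne, Finsupp.add_apply,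
    Nat.factorization_eq_zero_of_not_dvd hodd, ← pow_mul, Nat.prime_two.factorization_pow]
  simp

theorem center_U (hF : Fintype.card F = (2 ^ n) ^ 2) (a : U hF) :
    a.1.1.1 2 0 = 0 ↔ a ∈ Subgroup.center (U hF) := by
  obtain ⟨-, hsurj⟩ := card_fixed hF
  have hmul : ∀ a b : U hF, (a * b).1.1.1 2 0 = a.1.1.1 2 0 + b.1.1.1 2 0 ∧
      (a * b).1.1.1 1 0 = a.1.1.1 1 0 + b.1.1.1 1 0 + a.1.1.1 2 0 ^ 2 ^ n * b.1.1.1 2 0 := by
    intro a b
    have : (a * b).1.1.1 = a.1.1.1 * b.1.1.1 := rfl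
    rw [this, (mem_U a).2, (mem_U b).2, uMat_mul hF]
    simp [uMat]
  have hext : ∀ a b : U hF, a.1.1.1 2 0 = b.1.1.1 2 0 → a.1.1.1 1 0 = b.1.1.1 1 0 → a = b := by
    intro a b h1 h2
    apply Subtype.ext
    apply Subtype.ext
    apply Subtype.ext
    rw [(mem_U a).2, (mem_U b).2, h1, h2]
  refine ⟨fun h => Subgroup.mem_center_iff.2 fun b => hext _ _ ?_ ?_, fun h => ?_⟩
  · rw [(hmul a b).1, (hmul b a).1, add_comm]
  · rw [(hmul a b).2, (hmul b a).2, h, zero_pow (Nat.two_pow_pos n).ne']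
    ring
  · by_contra hne
    obtain ⟨t, ht⟩ := hsurj 1 (one_pow _)
    set w : F := t / a.1.1.1 2 0 ^ 2 ^ n with hw
    obtain ⟨y, hy⟩ := hsurj _ (norm_fixed hF w)
    have := (Subgroup.mem_center_iff.1 h) ⟨el hF w y hy, w, y, hy, rfl⟩
    have h2 := congrArg (fun g : U hF => g.1.1.1 1 0) this
    simp only [(hmul _ _).2] at h2
    have e1 : ((⟨el hF w y hy, w, y, hy, rfl⟩ : U hF).1.1.1 : Matrix (Fin 3) (Fin 3) F) 2 0 = w := by
      show uMat (2 ^ n) w y 2 0 = w
      simp [uMat]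
    rw [e1] at h2
    have h3 : a.1.1.1 2 0 ^ 2 ^ n * w = w ^ 2 ^ n * a.1.1.1 2 0 := by linear_combination h2.symm
    rw [hw, div_pow, frob_frob hF, mul_div_cancel₀ _ (pow_ne_zero _ hne), div_mul_cancel₀ _ hne] at h3
    rw [← h3, CharTwo.add_self_eq_zero] at ht
    exact zero_ne_one ht

theorem coords_U (hF : Fintype.card F = (2 ^ n) ^ 2) : Nonempty (Coords (U hF) F (2 ^ n)) := by
  obtain ⟨-, hsurj⟩ := card_fixed hF
  have hmul : ∀ a b : U hF, (a * b).1.1.1 2 0 = a.1.1.1 2 0 + b.1.1.1 2 0 ∧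
      (a * b).1.1.1 1 0 = a.1.1.1 1 0 + b.1.1.1 1 0 + a.1.1.1 2 0 ^ 2 ^ n * b.1.1.1 2 0 := by
    intro a b
    have : (a * b).1.1.1 = a.1.1.1 * b.1.1.1 := rfl
    rw [this, (mem_U a).2, (mem_U b).2, uMat_mul hF]
    simp [uMat]
  have hext : ∀ a b : U hF, a.1.1.1 2 0 = b.1.1.1 2 0 → a.1.1.1 1 0 = b.1.1.1 1 0 → a = b := by
    intro a b h1 h2
    apply Subtype.ext
    apply Subtype.ext
    apply Subtype.ext
    rw [(mem_U a).2, (mem_U b).2, h1, h2]
  have hcen := center_U hF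
  refine ⟨⟨fun a => a.1.1.1 2 0, fun a => a.1.1.1 1 0, fun a b => (hmul a b).1, fun x => ?_, hcen,
    fun a ha b _ => ?_, fun a ha h => hext _ _ ?_ ?_, fun a ha => ?_, fun a => ?_, fun a ha => hext _ _ ?_ ?_⟩⟩
  · obtain ⟨y, hy⟩ := hsurj _ (norm_fixed hF x)
    refine ⟨⟨el hF x y hy, x, y, hy, rfl⟩, ?_⟩
    show uMat (2 ^ n) x y 2 0 = x
    simp [uMat]
  · show (a * b).1.1.1 1 0 = _
    rw [(hmul a b).2, (hcen a).2 ha, zero_pow (Nat.two_pow_pos n).ne', zero_mul, add_zero]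
  · rw [(hcen a).2 ha]; show 0 = (1 : Matrix (Fin 3) (Fin 3) F) 2 0; simp
  · rw [h]; show 0 = (1 : Matrix (Fin 3) (Fin 3) F) 1 0; simp
  · have := (mem_U a).1
    rw [(hcen a).2 ha, zero_pow (Nat.succ_ne_zero _), CharTwo.add_eq_zero] at this
    exact this.symm
  · show (a * a).1.1.1 1 0 = _
    rw [(hmul a a).2, CharTwo.add_self_eq_zero, zero_add, pow_succ]
  · rw [(hmul a a).1, CharTwo.add_self_eq_zero]; show 0 = (1 : Matrix (Fin 3) (Fin 3) F) 2 0; simp
  · rw [(hmul a a).2, CharTwo.add_self_eq_zero, (hcen a).2 ha, zero_add, mul_zero]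
    show 0 = (1 : Matrix (Fin 3) (Fin 3) F) 1 0; simp

/-- Every Sylow 2-subgroup of `SU₃(2ⁿ)` has coordinates. -/
theorem coords_sylow (hF : Fintype.card F = (2 ^ n) ^ 2) (P : Sylow 2 (SU 3 F (2 ^ n))) :
    Nonempty (Coords P F (2 ^ n)) := by
  haveI : Fact (Nat.Prime 2) := ⟨Nat.prime_two⟩
  obtain ⟨c⟩ := coords_U hF
  let Q : Sylow 2 (SU 3 F (2 ^ n)) := Sylow.ofCard (U hF) (by rw [card_U hF, factorization_card_SU hF])
  exact ⟨c.congr ((P.equiv Q).trans (MulEquiv.subgroupCongr (Sylow.coe_ofCard _ _)))⟩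

theorem zmod_two_cases : ∀ t : ZMod 2, t = 0 ∨ t = 1 := by decide

/-- An automorphism whose square is inner fixes the centre pointwise. -/
theorem fix_center_of_sq_inner {S : Type*} [Group S] [Finite S]
    (hF : Fintype.card F = (2 ^ n) ^ 2) (c : Coords S F (2 ^ n))
    (α : S ≃* S) (s : S) (hα : ∀ x, α (α x) = s * x * s⁻¹) :
    ∀ z ∈ Subgroup.center S, α z = z := by
  classical
  haveI : Fact (Nat.Prime 2) := ⟨Nat.prime_two⟩
  haveI : Module (ZMod 2) F := (ZMod.algebra F 2).toModule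
  have h2 : (2 : F) = 0 := CharTwo.two_eq_zero
  obtain ⟨-, hsurj⟩ := card_fixed hF
  have hπ1 : c.π 1 = 0 := (c.π_eq_zero 1).2 (one_mem _)
  have hπinv : ∀ a, c.π a⁻¹ = c.π a := fun a => by
    have := c.π_mul a a⁻¹
    rw [mul_inv_cancel, hπ1] at this
    exact (CharTwo.add_eq_zero.1 this.symm).symm
  have hαc : ∀ z ∈ Subgroup.center S, α z ∈ Subgroup.center S := fun z hz =>
    Subgroup.mem_center_iff.2 fun b => by
      obtain ⟨b', rfl⟩ := α.surjective b
      rw [← map_mul, ← map_mul, Subgroup.mem_center_iff.1 hz b']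
  have hsqc : ∀ x, x * x ∈ Subgroup.center S := fun x =>
    (c.π_eq_zero _).1 (by rw [c.π_mul, CharTwo.add_self_eq_zero])
  intro z₀ hz₀
  by_contra hne
  -- the additive group of fixed central values
  let K : AddSubgroup F :=
    { carrier := {a | ∃ z ∈ Subgroup.center S, α z = z ∧ c.ζ z = a}
      zero_mem' := ⟨1, one_mem _, map_one α, by
        have := c.ζ_mul 1 (one_mem _) 1 (one_mem _)
        rw [one_mul] at this
        linear_combination -this⟩
      add_mem' := by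
        rintro _ _ ⟨z, hz, hαz, rfl⟩ ⟨w, hw, hαw, rfl⟩
        exact ⟨z * w, mul_mem hz hw, by rw [map_mul, hαz, hαw], c.ζ_mul z hz w hw⟩
      neg_mem' := by
        rintro _ ⟨z, hz, hαz, rfl⟩
        exact ⟨z, hz, hαz, (CharTwo.neg_eq _).symm⟩ }
  have he : c.ζ z₀ ∉ K := by
    rintro ⟨z, hz, hαz, hzz⟩
    apply hne
    have h1 : z₀ * z = 1 := c.ζ_eq_zero _ (mul_mem hz₀ hz) (by rw [c.ζ_mul _ hz₀ _ hz, hzz, CharTwo.add_self_eq_zero])
    have h3 : z₀ = z := by
      rw [← mul_one z₀, ← c.center_sq z hz, ← mul_assoc, h1, one_mul]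
    rw [h3, hαz]
  set e := c.ζ z₀ with hedef
  have heq : e ^ 2 ^ n = e := c.ζ_pow _ hz₀
  obtain ⟨φ, hφe, hφK⟩ := Submodule.exists_dual_map_eq_bot_of_notMem
    (p := K.toZModSubmodule 2) (show e ∉ K.toZModSubmodule 2 from he) inferInstance
  let χ : F → ℤ := fun a => if φ a = 0 then 1 else -1
  have hχadd : ∀ a b, χ (a + b) = χ a * χ b := fun a b => by
    simp only [χ, map_add]
    rcases zmod_two_cases (φ a) with h | h <;> rcases zmod_two_cases (φ b) with h' | h' <;> simp [h, h', CharTwo.add_self_eq_zero]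
  have hχK : ∀ a ∈ K, χ a = 1 := fun a ha => by
    have : φ a ∈ (K.toZModSubmodule 2).map φ := Submodule.mem_map_of_mem (show a ∈ K.toZModSubmodule 2 from ha)
    rw [hφK, Submodule.mem_bot] at this
    simp [χ, this]
  have hχe : χ e = -1 := by simp [χ, hφe]
  have hχ0 : χ 0 = 1 := by simp [χ]
  let N : F → F := fun v => v ^ (2 ^ n + 1)
  have hN : ∀ v w, N (v + w) = N v + N w + (v * w ^ 2 ^ n + (v * w ^ 2 ^ n) ^ 2 ^ n) := fun v w => by
    simp only [N, pow_succ, frob_add, mul_pow, frob_frob hF]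
    ring
  let T : F → F := fun a => a + a ^ 2 ^ n
  have hT : ∀ a b, T (a + b) = T a + T b := fun a b => by simp only [T, frob_add]; ring
  -- sums of the bilinear character
  have hB : ∀ w, w ≠ 0 → ∑ v, χ (T (v * w ^ 2 ^ n)) = 0 := by
    intro w hw
    obtain ⟨y, hy⟩ := hsurj e heq
    let v₀ := y / w ^ 2 ^ n
    have h1 : ∑ v, χ (T (v * w ^ 2 ^ n)) = ∑ v, χ (T ((v + v₀) * w ^ 2 ^ n)) :=
      (Equiv.sum_comp (Equiv.addRight v₀) fun v => χ (T (v * w ^ 2 ^ n))).symm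
    have h3 : ∀ v, χ (T ((v + v₀) * w ^ 2 ^ n)) = -χ (T (v * w ^ 2 ^ n)) := fun v => by
      rw [add_mul, hT, hχadd, show T (v₀ * w ^ 2 ^ n) = e by
        simp only [v₀, T, div_mul_cancel₀ _ (pow_ne_zero _ hw), hy], hχe, mul_neg_one]
    simp only [h3, Finset.sum_neg_distrib] at h1
    linarith
  -- the Gauss sum
  set G := ∑ v, χ (N v) with hG
  have hGval : G < 0 := by
    let Fq := Finset.univ.filter fun a : F => a ^ 2 ^ n = a
    have hFq : Fq.card = 2 ^ n := by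
      rw [← (card_fixed hF).1, Nat.card_eq_fintype_card, Fintype.card_subtype]
      congr 1
      ext a
      simp only [Fq, Finset.mem_filter, Finset.mem_univ, true_and, CharTwo.add_eq_zero]
      exact eq_comm
    have hswap : ∑ a ∈ Fq, ∑ v, χ (a * N v) = (2 ^ n : ℕ) := by
      rw [Finset.sum_comm, Finset.sum_eq_single 0]
      · rw [← hFq]
        simp [N, hχ0]
      · intro v _ hv
        have hNv : N v ≠ 0 := pow_ne_zero _ hv
        have hNq : N v ^ 2 ^ n = N v := norm_fixed hF v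
        let a₀ := e / N v
        have ha₀ : a₀ ^ 2 ^ n = a₀ := by simp only [a₀, div_pow, heq, hNq]
        have h1 : ∑ a ∈ Fq, χ (a * N v) = ∑ a ∈ Fq, -χ (a * N v) := by
          refine Finset.sum_nbij' (fun a => a + a₀) (fun a => a + a₀) ?_ ?_ ?_ ?_ ?_
          · intro a ha
            simp [Fq] at ha ⊢
            rw [frob_add, ha, ha₀]
          · intro a ha
            simp [Fq] at ha ⊢
            rw [frob_add, ha, ha₀]
          · intro a _
            rw [add_assoc, CharTwo.add_self_eq_zero, add_zero]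
          · intro a _
            rw [add_assoc, CharTwo.add_self_eq_zero, add_zero]
          · intro a _
            rw [add_mul, div_mul_cancel₀ _ hNv, hχadd, hχe, mul_neg_one, neg_neg]
        rw [Finset.sum_neg_distrib] at h1
        linarith
      · simp
    have hscal : ∀ a ∈ Fq, a ≠ 0 → ∑ v, χ (a * N v) = G := by
      intro a ha ha0
      simp [Fq] at ha
      haveI := Fact.mk Nat.prime_two
      obtain ⟨r, rfl⟩ : ∃ r : F, r ^ 2 = a := (bijective_frobenius F 2).2 a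
      have hr0 : r ≠ 0 := by rintro rfl; simp at ha0
      have hr : r ^ 2 ^ n = r := (bijective_frobenius F 2).1 (by
        show (r ^ 2 ^ n) ^ 2 = r ^ 2
        rw [← pow_mul, mul_comm, pow_mul, ha])
      rw [hG, ← Equiv.sum_comp (Equiv.mulLeft₀ r hr0) fun v => χ (N v)]
      refine Finset.sum_congr rfl fun v _ => ?_
      show χ (r ^ 2 * v ^ (2 ^ n + 1)) = χ ((r * v) ^ (2 ^ n + 1))
      rw [mul_pow, pow_succ r (2 ^ n), hr, sq]
    have h0mem : (0 : F) ∈ Fq := by simp [Fq]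
    rw [← Finset.add_sum_erase _ _ h0mem, Finset.sum_congr rfl (fun a ha =>
      hscal a (Finset.mem_of_mem_erase ha) (Finset.ne_of_mem_erase ha)), Finset.sum_const,
      Finset.card_erase_of_mem h0mem, hFq] at hswap
    simp [hχ0, hF] at hswap
    have h4 : 2 ≤ 2 ^ n := by
      rw [← hFq]
      exact Finset.one_lt_card.2 ⟨0, h0mem, 1, by simp [Fq], zero_ne_one⟩
    have h6 : (2 : ℤ) ≤ 2 ^ n := by exact_mod_cast h4
    by_contra hneg
    nlinarith [mul_nonneg (show (0 : ℤ) ≤ 2 ^ n - 1 by linarith) (not_lt.1 hneg)]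
  -- the induced map on `F`
  choose σ hσ using c.π_surj
  have hind : ∀ x y, c.π x = c.π y → c.π (α x) = c.π (α y) := fun x y h => by
    have h1 : y⁻¹ * x ∈ Subgroup.center S := (c.π_eq_zero _).1 (by rw [c.π_mul, hπinv, h, CharTwo.add_self_eq_zero])
    have h3 : c.π (α (y * (y⁻¹ * x))) = c.π (α y) := by
      rw [map_mul, c.π_mul, (c.π_eq_zero _).2 (hαc _ h1), add_zero]
    rwa [mul_inv_cancel_left] at h3
  let f : F →+ F :=
    { toFun := fun v => c.π (α (σ v)) + v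
      map_zero' := by
        rw [hind (σ 0) 1 (by rw [hσ, hπ1]), map_one, hπ1, add_zero]
      map_add' := fun a b => by
        rw [hind (σ (a + b)) (σ a * σ b) (by rw [hσ, c.π_mul, hσ, hσ]), map_mul, c.π_mul]
        ring }
  have hff : f.range ≤ f.ker := by
    rintro _ ⟨v, rfl⟩
    have h1 : c.π (α (σ (c.π (α (σ v)) + v))) = c.π (α (α (σ v))) + c.π (α (σ v)) := by
      rw [hind (σ (c.π (α (σ v)) + v)) (α (σ v) * σ v) (by rw [hσ, c.π_mul, hσ]), map_mul, c.π_mul]
    have h3 : c.π (α (α (σ v))) = v := by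
      rw [hα, c.π_mul, c.π_mul, hπinv, hσ]
      linear_combination (c.π s) * h2
    show c.π (α (σ (c.π (α (σ v)) + v))) + (c.π (α (σ v)) + v) = 0
    rw [h1, h3]
    linear_combination (c.π (α (σ v)) + v) * h2
  have hcardW : (2 ^ n) ^ 2 ≤ Nat.card f.ker * Nat.card f.ker := by
    rw [← hF, ← Nat.card_eq_fintype_card, ← AddSubgroup.card_mul_index f.ker, AddSubgroup.index_ker]
    exact Nat.mul_le_mul_left _ (AddSubgroup.card_le_of_le hff)
  let W := Finset.univ.filter fun v : F => v ∈ f.ker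
  have hW : ∀ v, v ∈ W ↔ v ∈ f.ker := fun v => by simp [W]
  have hWq : ∀ w ∈ W, χ (N w) = 1 := by
    intro w hw
    have h1 : c.π (α (σ w)) = w := CharTwo.add_eq_zero.1 ((hW w).1 hw)
    have h3 : (σ w)⁻¹ * α (σ w) ∈ Subgroup.center S :=
      (c.π_eq_zero _).1 (by rw [c.π_mul, hπinv, h1, hσ, CharTwo.add_self_eq_zero])
    apply hχK
    refine ⟨σ w * σ w, hsqc _, ?_, by rw [c.ζ_sq, hσ]⟩
    generalize hd : (σ w)⁻¹ * α (σ w) = d at h3
    have h4 : α (σ w) = σ w * d := by rw [← hd, mul_inv_cancel_left]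
    rw [map_mul, h4, mul_assoc, ← mul_assoc d, ← Subgroup.mem_center_iff.1 h3 (σ w),
      mul_assoc (σ w), c.center_sq d h3, mul_one]
  let M := Finset.univ.filter fun v : F => ∀ w ∈ W, χ (T (v * w ^ 2 ^ n)) = 1
  have hWM : W ⊆ M := by
    intro v hv
    simp only [M, Finset.mem_filter, Finset.mem_univ, true_and]
    intro w hw
    have := hWq (v + w) ((hW _).2 (add_mem ((hW v).1 hv) ((hW w).1 hw)))
    rw [hN, hχadd, hχadd, hWq v hv, hWq w hw, one_mul, one_mul] at this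
    exact this
  have hsumW : ∀ v, ∑ w ∈ W, χ (T (v * w ^ 2 ^ n)) = if v ∈ M then (W.card : ℤ) else 0 := by
    intro v
    split_ifs with hv
    · simp only [M, Finset.mem_filter, Finset.mem_univ, true_and] at hv
      rw [Finset.sum_congr rfl hv]
      simp
    · simp only [M, Finset.mem_filter, Finset.mem_univ, true_and, not_forall] at hv
      obtain ⟨w₀, hw₀, hne'⟩ := hv
      have hneg : χ (T (v * w₀ ^ 2 ^ n)) = -1 := by
        simp only [χ] at hne' ⊢
        split_ifs with h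
        · exact absurd (if_pos h) hne'
        · rfl
      have h1 : ∑ w ∈ W, χ (T (v * w ^ 2 ^ n)) = ∑ w ∈ W, -χ (T (v * w ^ 2 ^ n)) := by
        refine Finset.sum_nbij' (fun a => a + w₀) (fun a => a + w₀) ?_ ?_ ?_ ?_ ?_
        · intro a ha
          exact (hW _).2 (add_mem ((hW a).1 ha) ((hW w₀).1 hw₀))
        · intro a ha
          exact (hW _).2 (add_mem ((hW a).1 ha) ((hW w₀).1 hw₀))
        · intro a _
          rw [add_assoc, CharTwo.add_self_eq_zero, add_zero]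
        · intro a _
          rw [add_assoc, CharTwo.add_self_eq_zero, add_zero]
        · intro a _
          rw [frob_add, mul_add, hT, hχadd (T (v * a ^ 2 ^ n)) (T (v * w₀ ^ 2 ^ n)), hneg, mul_neg_one, neg_neg]
      rw [Finset.sum_neg_distrib] at h1
      linarith
  have hWcard : W.card = Nat.card f.ker := by
    rw [Nat.card_eq_fintype_card, Fintype.card_subtype]
  have h0W : (0 : F) ∈ W := (hW 0).2 (zero_mem _)
  have hMcard : W.card * M.card = (2 ^ n) ^ 2 := by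
    have h1 : ∑ w ∈ W, ∑ v, χ (T (v * w ^ 2 ^ n)) = ((2 ^ n) ^ 2 : ℕ) := by
      rw [Finset.sum_eq_single 0 (fun w _ hw => hB w hw) (fun h => absurd h0W h)]
      have : T 0 = 0 := by simp [T]
      simp [this, hχ0, hF]
    rw [Finset.sum_comm, Finset.sum_congr rfl fun v _ => hsumW v, Finset.sum_ite_mem,
      Finset.univ_inter, Finset.sum_const, nsmul_eq_mul] at h1
    rw [mul_comm]
    exact_mod_cast h1
  have hWeq : W = M := by
    refine Finset.eq_of_subset_of_card_le hWM ?_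
    rw [← hWcard] at hcardW
    refine Nat.le_of_mul_le_mul_left (hMcard ▸ hcardW) ?_
    exact Finset.card_pos.2 ⟨0, h0W⟩
  have hfin : ∑ w ∈ W, ∑ v, χ (N v) = (W.card : ℤ) * W.card := by
    calc ∑ w ∈ W, ∑ v, χ (N v) = ∑ w ∈ W, ∑ v, χ (N (v + w)) :=
          Finset.sum_congr rfl fun w _ => (Equiv.sum_comp (Equiv.addRight w) fun v => χ (N v)).symm
      _ = ∑ w ∈ W, ∑ v, χ (N v) * χ (T (v * w ^ 2 ^ n)) := by
          refine Finset.sum_congr rfl fun w hw => Finset.sum_congr rfl fun v _ => ?_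
          rw [hN, hχadd, hχadd, hWq w hw, mul_one]
      _ = ∑ v, χ (N v) * if v ∈ M then (W.card : ℤ) else 0 := by
          rw [Finset.sum_comm]
          exact Finset.sum_congr rfl fun v _ => by rw [← Finset.mul_sum, hsumW]
      _ = ∑ v ∈ W, (W.card : ℤ) := by
          simp only [mul_ite, mul_zero]
          rw [Finset.sum_ite_mem, Finset.univ_inter, ← hWeq]
          exact Finset.sum_congr rfl fun v hv => by rw [hWq v hv, one_mul]
      _ = (W.card : ℤ) * W.card := by simp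
  rw [Finset.sum_const, nsmul_eq_mul] at hfin
  have hpos : (0 : ℤ) < W.card := by exact_mod_cast Finset.card_pos.2 ⟨0, h0W⟩
  nlinarith [mul_neg_of_pos_of_neg hpos hGval]

end CfsgLib.SU3Sylow
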