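import Mathlib

/-!
An automorphism of `A₆` that fixes some element of order three is conjugation by a permutation of
the six points.
-/

set_option autoImplicit false

namespace CfsgLib.InvolChar.A6

open Equiv Equiv.Perm

/-- the cycle `(a b c)` -/
def cyc (a b c : Fin 6) : Perm (Fin 6) := swap a b * swap b c

/-- the generators `(0 1 j)` -/
def gen (j : Fin 4) : Perm (Fin 6) := cyc 0 1 ⟨j.1 + 2, by omega⟩

/-- the cycles whose product with `(0 1 2)` is an involution -/
def cand (k : Fin 3) (i : Fin 3) : Perm (Fin 6) :=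
  gen 0 ^ (k : ℕ) * gen i.succ * (gen 0 ^ (k : ℕ))⁻¹

/-- number of moved points -/
def nmoved (p : Perm (Fin 6)) : ℕ := (Finset.univ.filter fun x => p x ≠ x).card

theorem nmoved_eq (p : Perm (Fin 6)) : nmoved p = p.support.card := rfl

/-- the product of the two is an involution -/
def Inv2 (x y : Perm (Fin 6)) : Prop := (x * y) * (x * y) = 1 ∧ x * y ≠ 1

instance (x y : Perm (Fin 6)) : Decidable (Inv2 x y) := by unfold Inv2; infer_instance

set_option maxRecDepth 20000 in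
theorem second_gen : ∀ p : Perm (Fin 6), nmoved p = 3 → Inv2 (gen 0) p → ∃ k i : Fin 3, p = cand k i := by
  decide +kernel

set_option maxRecDepth 20000 in
set_option synthInstance.maxSize 2000 in
theorem edge_common : ∀ k i k' i' k'' i'' : Fin 3, Inv2 (cand k i) (cand k' i') → Inv2 (cand k i) (cand k'' i'') →
    Inv2 (cand k' i') (cand k'' i'') →
    (∃ q : Fin 6, gen 0 q = q ∧ cand k i q = q ∧ cand k' i' q = q ∧ cand k'' i'' q = q) ∨
      (k' = k ∧ k'' = k ∧ i ≠ i' ∧ i ≠ i'' ∧ i' ≠ i'') := by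
  decide +kernel

set_option maxRecDepth 20000 in
theorem edge_perm : ∀ k i i' i'' : Fin 3, i ≠ i' → i ≠ i'' → i' ≠ i'' → ∃ π : Perm (Fin 6),
    π * gen 0 = gen 0 * π ∧ π * gen 1 = cand k i * π ∧ π * gen 2 = cand k i' * π ∧
      π * gen 3 = cand k i'' * π := by
  decide +kernel

set_option maxRecDepth 20000 in
theorem three_cycle_eq_cyc : ∀ p : Perm (Fin 6), nmoved p = 3 →
    ∃ a b c : Fin 6, a ≠ b ∧ b ≠ c ∧ a ≠ c ∧ p = cyc a b c := by
  decide +kernel

set_option maxRecDepth 20000 in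
theorem cyc_split : ∀ a b c : Fin 6, a ≠ b → b ≠ c → a ≠ c →
    (∃ x y : Fin 6, x ≠ 0 ∧ y ≠ 0 ∧ x ≠ y ∧ cyc a b c = cyc 0 x y) ∨
      (a ≠ 0 ∧ b ≠ 0 ∧ c ≠ 0 ∧ cyc a b c = cyc 0 a b * cyc 0 b c) := by
  decide +kernel

set_option maxRecDepth 20000 in
theorem cyc_word : ∀ x y : Fin 6, x ≠ 0 → y ≠ 0 → x ≠ y → ∃ i j : Fin 4, ∃ m n l : Fin 3,
    cyc 0 x y = gen i ^ (m : ℕ) * gen j ^ (n : ℕ) * gen i ^ (l : ℕ) := by
  decide +kernel

set_option maxRecDepth 20000 in
theorem gen_facts : (∀ j, nmoved (gen j) = 3) ∧ (∀ i j, i ≠ j → Inv2 (gen i) (gen j)) ∧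
    (∀ j, Equiv.Perm.sign (gen j) = 1) := by
  decide +kernel

theorem alternating_le (H : Subgroup (Perm (Fin 6))) (h : ∀ j, gen j ∈ H) :
    alternatingGroup (Fin 6) ≤ H := by
  rw [← closure_three_cycles_eq_alternating, Subgroup.closure_le]
  intro p hp
  have h0 : ∀ x y : Fin 6, x ≠ 0 → y ≠ 0 → x ≠ y → cyc 0 x y ∈ H := by
    intro x y hx hy hxy
    obtain ⟨i, j, m, n, l, e⟩ := cyc_word x y hx hy hxy
    rw [e]
    exact mul_mem (mul_mem (pow_mem (h i) _) (pow_mem (h j) _)) (pow_mem (h i) _)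
  obtain ⟨a, b, c, hab, hbc, hac, rfl⟩ := three_cycle_eq_cyc p (by rw [nmoved_eq]; exact hp.card_support)
  rcases cyc_split a b c hab hbc hac with ⟨x, y, hx, hy, hxy, e⟩ | ⟨ha, hb, hc, e⟩
  · rw [e]; exact h0 x y hx hy hxy
  · rw [e]; exact mul_mem (h0 a b ha hb hab) (h0 b c hb hc hbc)

set_option maxRecDepth 20000 in
theorem commute_gen : ∀ π : Perm (Fin 6), (∀ j, π * gen j = gen j * π) → π = 1 := by
  decide +kernel

/-- Only the identity centralizes `A₆`. -/
theorem eq_one_of_centralizes (π : Perm (Fin 6))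
    (h : ∀ x : ↥(alternatingGroup (Fin 6)), π * (x : Perm (Fin 6)) = x * π) : π = 1 :=
  commute_gen π fun j => h ⟨gen j, mem_alternatingGroup.2 (gen_facts.2.2 j)⟩

/-- a permutation of double three-cycle type has an odd permutation commuting with it -/
theorem isConj_double {x y : Perm (Fin 6)} (hx : x.cycleType = {3, 3}) (hy : y.cycleType = {3, 3}) :
    ∃ p : ↥(alternatingGroup (Fin 6)), (p : Perm (Fin 6)) * x * (p : Perm (Fin 6))⁻¹ = y := by
  obtain ⟨c, hc⟩ := isConj_iff.1 (isConj_iff_cycleType_eq.2 (hx.trans hy.symm))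
  have h0 : (cyc 0 1 2 * cyc 3 4 5).cycleType = ({3, 3} : Multiset ℕ) := by decide +kernel
  obtain ⟨d, hd⟩ := isConj_iff.1 (isConj_iff_cycleType_eq.2 (h0.trans hx.symm))
  set w : Perm (Fin 6) := d * (swap 0 3 * swap 1 4 * swap 2 5) * d⁻¹ with hw
  have hw0 : (swap 0 3 * swap 1 4 * swap 2 5 : Perm (Fin 6)) * (cyc 0 1 2 * cyc 3 4 5) *
      (swap 0 3 * swap 1 4 * swap 2 5)⁻¹ = cyc 0 1 2 * cyc 3 4 5 := by decide +kernel
  have hws : sign w = -1 := by
    rw [hw, map_mul, map_mul, map_inv, mul_comm (sign d), mul_inv_cancel_right]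
    decide +kernel
  have hwx : w * x * w⁻¹ = x := by
    calc w * x * w⁻¹ = d * ((swap 0 3 * swap 1 4 * swap 2 5) * (cyc 0 1 2 * cyc 3 4 5) *
        (swap 0 3 * swap 1 4 * swap 2 5)⁻¹) * d⁻¹ := by rw [hw, ← hd]; group
      _ = x := by rw [hw0, hd]
  rcases Int.units_eq_one_or (sign c) with h | h
  · exact ⟨⟨c, mem_alternatingGroup.2 h⟩, hc⟩
  · refine ⟨⟨c * w, mem_alternatingGroup.2 (by rw [map_mul, h, hws]; decide)⟩, ?_⟩
    show c * w * x * (c * w)⁻¹ = y
    calc c * w * x * (c * w)⁻¹ = c * (w * x * w⁻¹) * c⁻¹ := by group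
      _ = y := by rw [hwx, hc]

theorem order_three_type {p : Perm (Fin 6)} (h : orderOf p = 3) : p.IsThreeCycle ∨ p.cycleType = {3, 3} := by
  obtain ⟨n, hn⟩ := cycleType_prime_order (σ := p) (by rw [h]; norm_num)
  rw [h] at hn
  have h1 := p.sum_cycleType
  have h2 : p.support.card ≤ 6 := by simpa using p.support.card_le_univ
  rw [hn, Multiset.sum_replicate, smul_eq_mul] at h1
  have hn1 : n ≤ 1 := by omega
  interval_cases n
  · left; exact hn
  · right; exact hn

/-- An automorphism of `A₆` fixing an element of order three is a conjugation. -/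
theorem aut_is_conj (φ : ↥(alternatingGroup (Fin 6)) ≃* ↥(alternatingGroup (Fin 6)))
    (c : ↥(alternatingGroup (Fin 6))) (hc : orderOf c = 3) (hφc : φ c = c) :
    ∃ π : Perm (Fin 6), ∀ x, (φ x : Perm (Fin 6)) = π * x * π⁻¹ := by
  classical
  have hord : ∀ x : ↥(alternatingGroup (Fin 6)), (x : Perm (Fin 6)).IsThreeCycle →
      (φ x : Perm (Fin 6)).IsThreeCycle := by
    intro x hx
    rcases order_three_type (p := (c : Perm (Fin 6))) (by rw [Subgroup.orderOf_coe, hc]) with hc3 | hc33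
    · obtain ⟨p, hp⟩ := isConj_iff.1 (alternatingGroup.isThreeCycle_isConj (by simp) hc3 hx)
      have h1 : φ x = φ p * c * (φ p)⁻¹ := by rw [← hp, map_mul, map_mul, map_inv, hφc]
      rw [h1]
      show cycleType _ = _
      rw [Subgroup.coe_mul, Subgroup.coe_mul, Subgroup.coe_inv, cycleType_conj]
      exact hc3
    · have ho : orderOf (φ x : Perm (Fin 6)) = 3 := by
        rw [Subgroup.orderOf_coe, MulEquiv.orderOf_eq, ← Subgroup.orderOf_coe]; exact hx.orderOf
      refine (order_three_type ho).resolve_right fun h33 => ?_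
      obtain ⟨p, hp⟩ := isConj_double hc33 h33
      have h1 : φ (φ.symm p * c * (φ.symm p)⁻¹) = φ x := by
        rw [map_mul, map_mul, map_inv, φ.apply_symm_apply, hφc]; exact Subtype.ext hp
      have h2 : (x : Perm (Fin 6)).cycleType = (c : Perm (Fin 6)).cycleType := by
        rw [← φ.injective h1, Subgroup.coe_mul, Subgroup.coe_mul, Subgroup.coe_inv, cycleType_conj]
      rw [hx.cycleType, hc33] at h2
      exact absurd h2 (by decide)
  obtain ⟨hnm, hinv, hsg⟩ := gen_facts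
  let g : Fin 4 → ↥(alternatingGroup (Fin 6)) := fun j => ⟨gen j, mem_alternatingGroup.2 (hsg j)⟩
  have hg3 : ∀ j, (gen j).IsThreeCycle := fun j =>
    card_support_eq_three_iff.1 (by rw [← nmoved_eq]; exact hnm j)
  have hy3 : ∀ j, (φ (g j) : Perm (Fin 6)).IsThreeCycle := fun j => hord (g j) (hg3 j)
  obtain ⟨π₀, hπ₀⟩ := isConj_iff.1
    ((isConj_iff_cycleType_eq).2 ((hg3 0).cycleType.trans (hy3 0).cycleType.symm))
  set y : Fin 4 → Perm (Fin 6) := fun j => π₀⁻¹ * (φ (g j) : Perm (Fin 6)) * π₀ with hy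
  have hy0 : y 0 = gen 0 := by rw [hy]; simp only; rw [← hπ₀]; group
  have hym : ∀ j, nmoved (y j) = 3 := by
    intro j
    rw [nmoved_eq]
    refine IsThreeCycle.card_support ?_
    show cycleType _ = _
    rw [hy]; simp only
    have := cycleType_conj (τ := π₀⁻¹) (σ := (φ (g j) : Perm (Fin 6)))
    rw [inv_inv] at this
    rw [this]
    exact hy3 j
  have hyi : ∀ i j, i ≠ j → Inv2 (y i) (y j) := by
    intro i j hij
    obtain ⟨h1, h2⟩ := hinv i j hij
    have e : y i * y j = π₀⁻¹ * (φ (g i * g j) : Perm (Fin 6)) * π₀ := by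
      rw [map_mul, Subgroup.coe_mul, hy]; simp only; group
    refine ⟨?_, fun h => h2 ?_⟩
    · rw [e]
      have : φ (g i * g j) * φ (g i * g j) = 1 := by
        rw [← map_mul, show g i * g j * (g i * g j) = 1 from Subtype.ext h1, map_one]
      calc _ = π₀⁻¹ * ((φ (g i * g j) * φ (g i * g j) : ↥(alternatingGroup (Fin 6))) : Perm (Fin 6)) * π₀ := by
            rw [Subgroup.coe_mul]; group
        _ = 1 := by rw [this]; simp
    · have h3 : (φ (g i * g j) : Perm (Fin 6)) = 1 := by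
        rw [e] at h
        calc (φ (g i * g j) : Perm (Fin 6))
            = π₀ * (π₀⁻¹ * (φ (g i * g j) : Perm (Fin 6)) * π₀) * π₀⁻¹ := by group
          _ = 1 := by rw [h]; group
      exact congrArg Subtype.val (φ.injective ((Subtype.ext h3).trans (map_one φ).symm))
  obtain ⟨k, i, e1⟩ := second_gen (y 1) (hym 1) (hy0 ▸ hyi 0 1 (by decide))
  obtain ⟨k', i', e2⟩ := second_gen (y 2) (hym 2) (hy0 ▸ hyi 0 2 (by decide))
  obtain ⟨k'', i'', e3⟩ := second_gen (y 3) (hym 3) (hy0 ▸ hyi 0 3 (by decide))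
  rcases edge_common k i k' i' k'' i'' (e1 ▸ e2 ▸ hyi 1 2 (by decide)) (e1 ▸ e3 ▸ hyi 1 3 (by decide))
    (e2 ▸ e3 ▸ hyi 2 3 (by decide)) with ⟨q, q0, q1, q2, q3⟩ | ⟨hk', hk'', hii', hii'', hi'i''⟩
  · exfalso
    let K : Subgroup ↥(alternatingGroup (Fin 6)) := (MulAction.stabilizer (Perm (Fin 6)) (π₀ q)).comap
      ((alternatingGroup (Fin 6)).subtype.comp φ.toMonoidHom)
    have hK : ∀ j, g j ∈ K := by
      intro j
      show (φ (g j) : Perm (Fin 6)) (π₀ q) = π₀ q
      have hq : y j q = q := by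
        fin_cases j
        · exact hy0 ▸ q0
        · exact e1 ▸ q1
        · exact e2 ▸ q2
        · exact e3 ▸ q3
      have h2 : (φ (g j) : Perm (Fin 6)) = π₀ * y j * π₀⁻¹ := by rw [hy]; simp only; group
      rw [h2, mul_apply, mul_apply]
      change π₀ (y j (π₀.symm (π₀ q))) = π₀ q
      rw [π₀.symm_apply_apply, hq]
    have hall := alternating_le (K.map (alternatingGroup (Fin 6)).subtype) fun j => ⟨g j, hK j, rfl⟩
    obtain ⟨b, hb⟩ : ∃ b : Fin 6, b ≠ π₀ q := exists_ne _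
    obtain ⟨d, hd, hd'⟩ : ∃ d : Fin 6, d ≠ π₀ q ∧ d ≠ b :=
      (by decide +kernel : ∀ u v : Fin 6, ∃ d : Fin 6, d ≠ u ∧ d ≠ v) (π₀ q) b
    have hA : cyc (π₀ q) b d ∈ alternatingGroup (Fin 6) := by
      rw [mem_alternatingGroup, cyc, map_mul, sign_swap hb.symm, sign_swap (Ne.symm hd')]; rfl
    obtain ⟨x, hx, -⟩ := hall (mem_alternatingGroup.2 (mem_alternatingGroup.1 hA) :
      cyc (π₀ q) b d ∈ alternatingGroup (Fin 6))
    obtain ⟨x', hx', hxe⟩ := hall (show (φ.symm ⟨_, hA⟩ : Perm (Fin 6)) ∈ alternatingGroup (Fin 6) from (φ.symm ⟨_, hA⟩).2)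
    have h3 : (φ x' : Perm (Fin 6)) (π₀ q) = π₀ q := hx'
    rw [Subtype.ext hxe, φ.apply_symm_apply] at h3
    exact (by decide +kernel : ∀ u b d : Fin 6, b ≠ u → d ≠ u → d ≠ b → cyc u b d u ≠ u)
      (π₀ q) b d hb hd hd' h3
  · subst k'
    subst k''
    obtain ⟨π₁, p0, p1, p2, p3⟩ := edge_perm k i i' i'' hii' hii'' hi'i''
    refine ⟨π₀ * π₁, ?_⟩
    let K : Subgroup ↥(alternatingGroup (Fin 6)) :=
      MonoidHom.eqLocus ((alternatingGroup (Fin 6)).subtype.comp φ.toMonoidHom)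
        ((MulAut.conj (π₀ * π₁)).toMonoidHom.comp (alternatingGroup (Fin 6)).subtype)
    have hK : ∀ j, g j ∈ K := by
      intro j
      show (φ (g j) : Perm (Fin 6)) = π₀ * π₁ * gen j * (π₀ * π₁)⁻¹
      have hq : π₁ * gen j = y j * π₁ := by
        fin_cases j
        · exact hy0.symm ▸ p0
        · exact e1.symm ▸ p1
        · exact e2.symm ▸ p2
        · exact e3.symm ▸ p3
      rw [mul_assoc π₀ π₁, hq, hy]; simp only; group
    have hall := alternating_le (K.map (alternatingGroup (Fin 6)).subtype) fun j => ⟨g j, hK j, rfl⟩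
    intro x
    obtain ⟨x', hx', hxe⟩ := hall x.2
    have : x' = x := Subtype.ext hxe
    subst this
    exact hx'

end CfsgLib.InvolChar.A6
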