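import Mathlib

/-!
Thompson transfer for a central involution of a Sylow 2-subgroup: without a subgroup of index 2, it is
conjugate to a central element of any maximal subgroup avoiding it.
-/

set_option autoImplicit false

namespace CfsgLib.InvolChar

open Subgroup

/-- A central involution `u` of `P ∈ Syl₂(G)` outside `Q` of index 2 in `P` is conjugate to an element of
`Q` centralizing `Q`, or lies outside a normal subgroup of index 2 of `G`. -/
theorem exists_conj_central {G : Type*} [Group G] [Finite G] (P : Sylow 2 G) (Q : Subgroup G)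
    (hQP : Q ≤ (P : Subgroup G)) (hQi : Q.relIndex (P : Subgroup G) = 2) (u : G) (hu : orderOf u = 2)
    (hucent : ∀ s ∈ (P : Subgroup G), s * u = u * s) :
    (∃ M : Subgroup G, M.Normal ∧ M.index = 2 ∧ u ∉ M) ∨
      ∃ g : G, g⁻¹ * u * g ∈ Q ∧ ∀ q ∈ Q, q * (g⁻¹ * u * g) = g⁻¹ * u * g * q := by
  classical
  haveI : Fact (Nat.Prime 2) := ⟨Nat.prime_two⟩
  haveI : Fintype (G ⧸ Q) := Fintype.ofFinite _
  rw [or_iff_not_imp_right]
  intro hno
  have hfix : ∀ g : G, u • (g : G ⧸ Q) = (g : G ⧸ Q) ↔ g⁻¹ * u * g ∈ Q := by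
    intro g
    rw [MulAction.Quotient.smul_coe, smul_eq_mul, eq_comm, QuotientGroup.eq, mul_assoc]
  -- `P` acts on the fixed points of `u`
  set F : Set (G ⧸ Q) := {q | u • q = q} with hF
  letI : MulAction (P : Subgroup G) F :=
    { smul := fun s q => ⟨(s : G) • (q : G ⧸ Q), by
        show u • ((s : G) • (q : G ⧸ Q)) = (s : G) • (q : G ⧸ Q)
        rw [smul_smul, ← hucent s s.2, ← smul_smul]
        exact congrArg _ q.2⟩
      one_smul := fun q => Subtype.ext (one_smul G (q : G ⧸ Q))
      mul_smul := fun a b q => Subtype.ext (mul_smul (a : G) (b : G) (q : G ⧸ Q)) }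
  haveI : Fintype F := Fintype.ofFinite _
  have horb : ∀ q : F, 4 ∣ Nat.card (MulAction.orbit (P : Subgroup G) q) := by
    intro q
    have hdvd : Nat.card (MulAction.orbit (P : Subgroup G) q) =
        (MulAction.stabilizer (P : Subgroup G) q).index := by
      rw [MulAction.index_stabilizer, Nat.card_coe_set_eq]
    rw [hdvd]
    obtain ⟨k, hk⟩ := P.isPGroup'.index (MulAction.stabilizer (P : Subgroup G) q)
    rw [hk]
    by_contra h4
    have hk1 : k ≤ 1 := by
      by_contra hk1
      exact h4 ((show (4:ℕ) = 2 ^ 2 from rfl) ▸ pow_dvd_pow 2 (by omega))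
    refine hno ?_
    obtain ⟨⟨g⟩, hg⟩ := q
    refine ⟨g, (hfix g).mp hg, ?_⟩
    -- the stabilizer is the whole of `g Q g⁻¹`
    set St := (MulAction.stabilizer (P : Subgroup G) (⟨Quot.mk _ g, hg⟩ : F)).map
      (P : Subgroup G).subtype with hSt
    have hle : St.map (MulAut.conj g⁻¹).toMonoidHom ≤ Q := by
      rintro _ ⟨_, ⟨s, hs, rfl⟩, rfl⟩
      have h1 : (s : G) • ((g : G) : G ⧸ Q) = (g : G ⧸ Q) := congrArg Subtype.val hs
      rw [MulAction.Quotient.smul_coe, smul_eq_mul, eq_comm, QuotientGroup.eq] at h1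
      simpa [mul_assoc] using h1
    have hcard : Nat.card Q ≤ Nat.card (St.map (MulAut.conj g⁻¹).toMonoidHom) := by
      rw [Subgroup.card_map_of_injective (MulAut.conj g⁻¹).injective, hSt,
        Subgroup.card_map_of_injective (P : Subgroup G).subtype_injective]
      have h1 := (MulAction.stabilizer (P : Subgroup G) (⟨Quot.mk _ g, hg⟩ : F)).card_mul_index
      have h2 := Subgroup.relIndex_mul_relIndex ⊥ Q (P : Subgroup G) bot_le hQP
      rw [relIndex_bot_left, relIndex_bot_left, hQi] at h2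
      rw [hk] at h1
      have : (2:ℕ) ^ k ≤ 2 := by
        calc (2:ℕ) ^ k ≤ 2 ^ 1 := Nat.pow_le_pow_right (by norm_num) hk1
          _ = 2 := pow_one 2
      nlinarith
    have heq := Subgroup.eq_of_le_of_card_ge hle hcard
    intro x hx
    rw [← heq] at hx
    obtain ⟨_, ⟨s, _, rfl⟩, rfl⟩ := hx
    have := hucent s s.2
    simp only [MulEquiv.coe_toMonoidHom, MulAut.conj_apply, Subgroup.coe_subtype, inv_inv]
    calc g⁻¹ * (s : G) * g * (g⁻¹ * u * g) = g⁻¹ * ((s : G) * u) * g := by group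
      _ = g⁻¹ * (u * (s : G)) * g := by rw [this]
      _ = g⁻¹ * u * g * (g⁻¹ * (s : G) * g) := by group
  have hF4 : 4 ∣ Nat.card F := by
    rw [Nat.card_congr (MulAction.selfEquivSigmaOrbits (P : Subgroup G) F)]
    haveI : Fintype (Quotient (MulAction.orbitRel (P : Subgroup G) F)) := Fintype.ofFinite _
    rw [Nat.card_sigma]
    exact Finset.dvd_sum fun _ _ => horb _
  -- the sign of `u` on `G ⧸ Q`
  let φ : G →* ℤˣ := (Equiv.Perm.sign : Equiv.Perm (G ⧸ Q) →* ℤˣ).comp (MulAction.toPermHom G (G ⧸ Q))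
  have hu2 : u ^ 2 = 1 := hu ▸ pow_orderOf_eq_one u
  have hφu : φ u = -1 := by
    show Equiv.Perm.sign (MulAction.toPermHom G (G ⧸ Q) u) = -1
    rw [Equiv.Perm.sign_of_pow_two_eq_one (by rw [← map_pow, hu2, map_one])]
    have hc : Fintype.card (Function.fixedPoints (MulAction.toPermHom G (G ⧸ Q) u)) = Nat.card F := by
      rw [← Nat.card_eq_fintype_card]; rfl
    have hidx : Fintype.card (G ⧸ Q) = 2 * (P : Subgroup G).index := by
      rw [← Nat.card_eq_fintype_card, ← Subgroup.index_eq_card, ← Subgroup.relIndex_mul_index hQP, hQi]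
    rw [hc, hidx]
    obtain ⟨c, hc'⟩ := hF4
    have hle : Nat.card F ≤ 2 * (P : Subgroup G).index := by
      rw [← hidx, ← Nat.card_eq_fintype_card]; exact Finite.card_subtype_le _
    rw [hc'] at hle ⊢
    obtain ⟨m, hm⟩ : Odd (P : Subgroup G).index :=
      Nat.odd_iff.2 (Nat.two_dvd_ne_zero.1 P.not_dvd_index)
    exact Odd.neg_one_pow ⟨m - c, by omega⟩
  have hsurj : Function.Surjective φ := by
    intro x
    rcases Int.units_eq_one_or x with rfl | rfl
    · exact ⟨1, map_one φ⟩
    · exact ⟨u, hφu⟩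
  refine ⟨φ.ker, MonoidHom.normal_ker _, ?_, fun h => ?_⟩
  · rw [Subgroup.index_ker, MonoidHom.range_eq_top.2 hsurj, Subgroup.card_top,
      Nat.card_eq_fintype_card, Fintype.card_units_int]
  · rw [MonoidHom.mem_ker, hφu] at h
    exact absurd h (by decide)

end CfsgLib.InvolChar
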