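import Mathlib
import Cfsg.Agent.Lib.Cores.SignalizerConnected
import Cfsg.Agent.Lib.Signalizer.Corollaries
import Cfsg.Agent.Lib.Cores.Balance
import Cfsg.Agent.Lib.Transfer.CyclicMaximal
import Cfsg.Agent.Lib.PGroup.ElemAbelian
import Cfsg.Agent.Lib.Invol.Sylow

/-!
One odd-order closure of the cores of involution centralizers on a Sylow 2-subgroup with a normal
elementary abelian subgroup of rank three, when all 2-locals are 2-constrained. Odd-order solvability is a
hypothesis of the lemmas here.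
-/

set_option autoImplicit false

namespace CfsgLib.InvolChar.CoreClosure

open Subgroup Cfsg CfsgLib.Cores
open scoped commutatorElement

variable {G : Type*} [Group G] [Finite G]

local notation "θ" => (fun x : G => centralizerPPrimeCore 2 x)
local notation "𝐖" => thetaClosure (fun x : G => centralizerPPrimeCore 2 x)

theorem normalizer_zpowers_eq {t : G} (ht : t * t = 1) :
    normalizer (zpowers t : Set G) = centralizer ({t} : Set G) := by
  have key : ∀ x ∈ zpowers t, x = 1 ∨ x = t := by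
    intro x hx
    obtain ⟨i, rfl⟩ := mem_zpowers_iff.1 hx
    rcases Int.even_or_odd i with ⟨k, rfl⟩ | ⟨k, rfl⟩
    · exact Or.inl (by rw [← two_mul, zpow_mul, zpow_two, ht, one_zpow])
    · exact Or.inr (by rw [zpow_add, zpow_mul, zpow_two, ht, one_zpow, zpow_one, one_mul])
  refine le_antisymm (fun n hn => mem_centralizer_singleton_iff.2 ?_) ?_
  · rcases key _ ((mem_normalizer_iff.1 hn t).1 (mem_zpowers t)) with h | h
    · have h1 : t = 1 := conj_eq_one_iff.1 h
      simp [h1]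
    · exact mul_inv_eq_iff_eq_mul.1 h
  · rw [← centralizer_zpowers']
    exact centralizer_le_normalizer _

theorem constrained_of_locals
    (h2c : ∀ T : Subgroup G, IsPGroup 2 T → T ≠ ⊥ → IsPConstrained 2 ↥(normalizer (T : Set G)))
    {t : G} (ht : orderOf t = 2) : IsPConstrained 2 ↥(centralizer ({t} : Set G)) := by
  have h2 : t * t = 1 := by rw [← pow_two, ← ht, pow_orderOf_eq_one]
  rw [← normalizer_zpowers_eq h2]
  exact h2c _ (isPGroup_zpowers_of_orderOf_eq ht) (zpowers_ne_bot.2 fun h => by simp [h] at ht)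

/-- A four-group of `E` normalized by `P` has a point whose stabilizer in an elementary subgroup has index at most two. -/
theorem exists_half_centralizer {P : Subgroup G} {E : Subgroup G} (hP : IsPGroup 2 P) (hEP : E ≤ P)
    (hEn : P ≤ normalizer (E : Set G)) (hE : IsElementaryAbelian 2 E) (hE8 : 2 ^ 3 ≤ Nat.card E) :
    ∃ U : Subgroup G, U ≤ E ∧ Nat.card U = 2 ^ 2 ∧ ∀ X : Subgroup G, X ≤ P → IsElementaryAbelian 2 X →
      ∃ K : Subgroup G, K ≤ X ∧ Nat.card X ≤ 2 * Nat.card K ∧ ∀ k ∈ K, ∀ u ∈ U, k * u = u * k := by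
  haveI : Fact (Nat.Prime 2) := ⟨Nat.prime_two⟩
  haveI hEn' : (E.subgroupOf P).Normal := (normal_subgroupOf_iff_le_normalizer hEP).2 hEn
  have hdvd : 2 ^ 2 ∣ Nat.card ↥(E.subgroupOf P) := by
    rw [Nat.card_congr (subgroupOfEquivOfLe hEP).toEquiv]
    obtain ⟨n, hn⟩ := PGroup.elemAb_card hE
    rw [hn] at hE8 ⊢
    exact pow_dvd_pow 2 (by have := (Nat.pow_le_pow_iff_right one_lt_two).1 hE8; omega)
  obtain ⟨A, hAE, hAn, hAc⟩ := Transfer.exists_normal_card_sq hP (K := E.subgroupOf P) hdvd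
  have hA1 : A ≠ ⊥ := fun h => by rw [h, card_bot] at hAc; norm_num at hAc
  obtain ⟨Z, hZA, hZc, -, hZ⟩ := PGroup.exists_card_eq_le_center hP A hA1
  set U := A.map P.subtype with hU
  have hUE : U ≤ E := by rintro _ ⟨a, ha, rfl⟩; exact hAE ha
  have hUc : Nat.card U = 2 ^ 2 := by rw [hU, card_map_of_injective P.subtype_injective]; exact hAc
  obtain ⟨z, hz⟩ := exists_prime_orderOf_dvd_card' (G := Z) 2 (by rw [hZ])
  obtain ⟨u, huA, huZ⟩ := SetLike.exists_of_lt (lt_of_le_of_ne hZA fun h => by rw [h, hAc] at hZ; norm_num at hZ)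
  refine ⟨U, hUE, hUc, fun X hXP hX => ?_⟩
  refine ⟨X ⊓ centralizer ({(u : G)} : Set G), inf_le_left, ?_, ?_⟩
  · by_cases hall : ∀ x ∈ X, x * (u : G) = u * x
    · rw [inf_eq_left.2 fun x hx => mem_centralizer_singleton_iff.2 (hall x hx)]; omega
    push Not at hall
    obtain ⟨x₀, hx₀, hne⟩ := hall
    -- all moved conjugates of `u` coincide
    have hfour : ∀ x ∈ X, x * (u : G) ≠ u * x → ∀ y ∈ X, y * (u : G) ≠ u * y →
        x * (u : G) * x⁻¹ = y * u * y⁻¹ := by
      intro x hx hxu y hy hyu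
      by_contra hxy
      have hmem : ∀ w ∈ X, ∃ v ∈ A, (v : G) = w * u * w⁻¹ := fun w hw =>
        ⟨⟨w, hXP hw⟩ * u * ⟨w, hXP hw⟩⁻¹, hAn.conj_mem u huA _, rfl⟩
      obtain ⟨v₁, hv₁, hv₁'⟩ := hmem x hx
      obtain ⟨v₂, hv₂, hv₂'⟩ := hmem y hy
      have hzA : ((z : Z) : ↥P) ∈ A := hZA z.2
      have hz1 : ((z : Z) : ↥P) ≠ 1 := fun h => by
        rw [show z = 1 from Subtype.ext h, orderOf_one] at hz; norm_num at hz
      have huz : u ≠ z := fun h => huZ (h ▸ z.2)
      have hu1 : u ≠ 1 := fun h => huZ (h ▸ Z.one_mem)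
      have hcz : ∀ w ∈ X, w * u * w⁻¹ ≠ (((z : Z) : ↥P) : G) := by
        intro w hw h
        have hc : Commute w (((z : Z) : ↥P) : G) :=
          congrArg Subtype.val (mem_center_iff.1 (hZc z.2) ⟨w, hXP hw⟩)
        refine huz (Subtype.ext ?_)
        rw [← hc.eq.trans rfl |> fun e => mul_inv_eq_iff_eq_mul.2 e] at h
        simpa using h
      let f : Fin 5 → ↥A := ![1, ⟨_, hzA⟩, ⟨u, huA⟩, ⟨v₁, hv₁⟩, ⟨v₂, hv₂⟩]
      have e1 : (v₁ : G) ≠ 1 := by rw [hv₁']; simpa using fun h => hu1 (Subtype.ext h)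
      have e2 : (v₂ : G) ≠ 1 := by rw [hv₂']; simpa using fun h => hu1 (Subtype.ext h)
      have e3 : (v₁ : G) ≠ u := by rw [hv₁']; exact fun h => hxu (mul_inv_eq_iff_eq_mul.1 h)
      have e4 : (v₂ : G) ≠ u := by rw [hv₂']; exact fun h => hyu (mul_inv_eq_iff_eq_mul.1 h)
      have e5 : (v₁ : G) ≠ (((z : Z) : ↥P) : G) := by rw [hv₁']; exact hcz x hx
      have e6 : (v₂ : G) ≠ (((z : Z) : ↥P) : G) := by rw [hv₂']; exact hcz y hy
      have e7 : (v₁ : G) ≠ v₂ := by rw [hv₁', hv₂']; exact hxy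
      have e8 : (((z : Z) : ↥P) : G) ≠ 1 := fun h => hz1 (Subtype.ext h)
      have e9 : (u : G) ≠ 1 := fun h => hu1 (Subtype.ext h)
      have e10 : (u : G) ≠ (((z : Z) : ↥P) : G) := fun h => huz (Subtype.ext h)
      have hf : Function.Injective f := by
        intro i j h
        have h' := congrArg (fun a : ↥A => ((a : ↥P) : G)) h
        fin_cases i <;> fin_cases j <;>
          first
            | rfl
            | exact absurd h' e1 | exact absurd h' e1.symm | exact absurd h' e2 | exact absurd h' e2.symm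
            | exact absurd h' e3 | exact absurd h' e3.symm | exact absurd h' e4 | exact absurd h' e4.symm
            | exact absurd h' e5 | exact absurd h' e5.symm | exact absurd h' e6 | exact absurd h' e6.symm
            | exact absurd h' e7 | exact absurd h' e7.symm | exact absurd h' e8 | exact absurd h' e8.symm
            | exact absurd h' e9 | exact absurd h' e9.symm | exact absurd h' e10 | exact absurd h' e10.symm
      have := Nat.card_le_card_of_injective f hf
      rw [hAc, Nat.card_eq_fintype_card, Fintype.card_fin] at this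
      omega
    classical
    set C := centralizer ({(u : G)} : Set G) with hC
    have hdec : ∀ x ∈ X, x ∉ C → x₀⁻¹ * x ∈ X ⊓ C := by
      intro x hx hxC
      refine ⟨X.mul_mem (X.inv_mem hx₀) hx, mem_centralizer_singleton_iff.2 ?_⟩
      have h := hfour x hx (fun h => hxC (mem_centralizer_singleton_iff.2 h)) x₀ hx₀ hne
      calc x₀⁻¹ * x * u = x₀⁻¹ * (x * u * x⁻¹) * x := by group
        _ = x₀⁻¹ * (x₀ * u * x₀⁻¹) * x := by rw [h]
        _ = u * (x₀⁻¹ * x) := by group
    let F : X → Bool × ↥(X ⊓ C) := fun x =>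
      if h : (x : G) ∈ C then (true, ⟨x, x.2, h⟩) else (false, ⟨_, hdec x x.2 h⟩)
    have hF : Function.Injective F := by
      intro a b h
      simp only [F] at h
      split_ifs at h with ha hb hb
      · exact Subtype.ext (congrArg (fun q : Bool × ↥(X ⊓ C) => (q.2 : G)) h)
      · simp at h
      · simp at h
      · exact Subtype.ext (mul_left_cancel (congrArg (fun q : Bool × ↥(X ⊓ C) => (q.2 : G)) h))
    have := Nat.card_le_card_of_injective F hF
    rwa [Nat.card_prod, Nat.card_eq_fintype_card (α := Bool), Fintype.card_bool] at this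
  · intro k hk v hv
    obtain ⟨a, ha, rfl⟩ := hv
    have hkP : k ∈ P := hXP hk.1
    -- `A` is generated by `Z` and `u`
    have hle : A ≤ centralizer ({(⟨k, hkP⟩ : ↥P)} : Set ↥P) := by
      have h1 : Z ⊔ zpowers u = A := by
        refine eq_of_le_of_card_ge (sup_le hZA (zpowers_le.2 huA)) ?_
        have hlt : Nat.card Z < Nat.card ↥(Z ⊔ zpowers u) := by
          refine lt_of_le_of_ne (card_le_of_le le_sup_left) fun h => huZ ?_
          rw [eq_of_le_of_card_ge le_sup_left h.ge]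
          exact mem_sup_right (mem_zpowers u)
        obtain ⟨j, -, hj⟩ := (Nat.dvd_prime_pow Nat.prime_two).1 (hAc ▸ card_dvd_of_le
          (sup_le hZA (zpowers_le.2 huA)))
        rw [hj, hZ] at hlt
        rw [hAc, hj]
        exact Nat.pow_le_pow_right two_pos (by
          rcases j with _ | _ | j
          · norm_num at hlt
          · norm_num at hlt
          · omega)
      rw [← h1, sup_le_iff, zpowers_le, mem_centralizer_singleton_iff]
      refine ⟨fun c hc => mem_centralizer_singleton_iff.2 (mem_center_iff.1 (hZc hc) _).symm, ?_⟩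
      exact (Subtype.ext (mem_centralizer_singleton_iff.1 hk.2)).symm
    exact (congrArg Subtype.val (mem_centralizer_singleton_iff.1 (hle ha))).symm

section
variable (hsol : ∀ H : Subgroup G, Odd (Nat.card H) → Group.IsSolvable H)
  (h2c : ∀ T : Subgroup G, IsPGroup 2 T → T ≠ ⊥ → IsPConstrained 2 ↥(normalizer (T : Set G)))

include hsol h2c in
theorem complete : IsCompleteOnRankThree 2 θ := by
  haveI : Fact (Nat.Prime 2) := ⟨Nat.prime_two⟩
  intro A hA hA3
  have hord : ∀ x ∈ A, x ≠ 1 → orderOf x = 2 := fun x hx hx1 => orderOf_eq_prime (hA.2 x hx) hx1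
  have hinv : ∀ a ∈ A, a ≠ 1 → ∀ b ∈ A, ∀ x ∈ centralizerPPrimeCore 2 a, b * x * b⁻¹ ∈ centralizerPPrimeCore 2 a :=
    fun a ha _ b hb x hx => conj_mem_centralizerPPrimeCore (PGroup.elemAb_comm hA hb ha) hx
  obtain ⟨h1, h2⟩ := Signalizer.solvableSignalizerTheorem 2 G A (fun x hx y hy => PGroup.elemAb_comm hA hx hy)
    hA.2 hA3 θ (fun a _ _ => centralizerPPrimeCore_le a)
    (fun a _ _ => (Cores.coprime_iff_not_dvd Nat.prime_two _).1 (card_centralizerPPrimeCore_coprime a))
    hinv (fun a _ _ => hsol _ (Nat.coprime_two_right.1 (card_centralizerPPrimeCore_coprime a)))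
    (fun a ha ha1 b hb hb1 => balance_of_constrained (isPGroup_zpowers_of_orderOf_eq (hord a ha ha1))
      (PGroup.elemAb_comm hA ha hb) (constrained_of_locals h2c (hord b hb hb1)))
  refine ⟨h1, fun b hb x hx => ?_, h2⟩
  have hle : (⨆ a : {a : G // a ∈ A ∧ a ≠ 1}, θ a).map (MulAut.conj b).toMonoidHom ≤
      ⨆ a : {a : G // a ∈ A ∧ a ≠ 1}, θ a := by
    rw [Subgroup.map_iSup]
    refine iSup_le fun c => le_trans ?_ (le_iSup (fun a : {a : G // a ∈ A ∧ a ≠ 1} => θ a) c)
    rintro _ ⟨y, hy, rfl⟩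
    exact hinv c c.2.1 c.2.2 b hb y hy
  exact hle ⟨x, hx, rfl⟩

include hsol h2c in
/-- The common closure. -/
theorem exists_closure (P : Sylow 2 G) (E : Subgroup G) (hEP : E ≤ P)
    (hEn : (P : Subgroup G) ≤ normalizer (E : Set G)) (hE : IsElementaryAbelian 2 E) (hE8 : 2 ^ 3 ≤ Nat.card E) :
    ∃ W : Subgroup G, Odd (Nat.card W) ∧ ∀ B : Subgroup G, B ≤ (P : Subgroup G) → ¬ PRankLE 2 1 ↥B →
      W = (⨆ b : {b : G // b ∈ B ∧ b ≠ 1}, centralizerPPrimeCore 2 (b : G)) ∧
      normalizer (B : Set G) ≤ normalizer (W : Set G) := by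
  classical
  haveI : Fact (Nat.Prime 2) := ⟨Nat.prime_two⟩
  have hcomp := complete hsol h2c
  obtain ⟨U, hUE, hUc, hhalf⟩ := exists_half_centralizer P.2 hEP hEn hE hE8
  have hU : IsElementaryAbelian 2 U := PGroup.elemAb_mono hE hUE
  have hconst : ∀ X : Subgroup G, X ≤ (P : Subgroup G) → IsElementaryAbelian 2 X → 2 ^ 3 ≤ Nat.card X →
      𝐖 X = 𝐖 E := by
    intro X hXP hX hX8
    obtain ⟨K, hKX, hKc, hKU⟩ := hhalf X hXP hX
    have hK : IsElementaryAbelian 2 K := PGroup.elemAb_mono hX hKX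
    have hK4 : 2 ^ 2 ≤ Nat.card K := by omega
    have hD := elemAb_sup hK hU hKU
    rw [← thetaClosure_eq_of_le hcomp hX hX8 hKX hK4, ← thetaClosure_eq_of_le hcomp hE hE8 hUE hUc.ge]
    by_cases h8 : 2 ^ 3 ≤ Nat.card ↥(K ⊔ U)
    · rw [thetaClosure_eq_of_le hcomp hD h8 le_sup_left hK4, thetaClosure_eq_of_le hcomp hD h8 le_sup_right hUc.ge]
    · obtain ⟨n, hn⟩ := PGroup.elemAb_card hD
      rw [hn, Nat.pow_le_pow_iff_right one_lt_two] at h8
      have hle : Nat.card ↥(K ⊔ U) ≤ 2 ^ 2 := hn ▸ Nat.pow_le_pow_right two_pos (by omega)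
      have e1 : K = K ⊔ U := eq_of_le_of_card_ge le_sup_left (hle.trans hK4)
      have e2 : U = K ⊔ U := eq_of_le_of_card_ge le_sup_right (hle.trans hUc.ge)
      rw [e1.trans e2.symm]
  have hinX : ∀ b ∈ (P : Subgroup G), orderOf b = 2 →
      ∃ X : Subgroup G, X ≤ (P : Subgroup G) ∧ IsElementaryAbelian 2 X ∧ 2 ^ 3 ≤ Nat.card X ∧ b ∈ X := by
    intro b hbP hb
    by_cases hbE : b ∈ E
    · exact ⟨E, hEP, hE, hE8, hbE⟩
    have hb2 : b ^ 2 = 1 := hb ▸ pow_orderOf_eq_one b
    set C := E ⊓ centralizer ({b} : Set G) with hC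
    have hn := mem_normalizer_iff.1 (hEn hbP)
    -- `e ↦ [b, e]` maps `E` into `C` with kernel `C`
    have hC3 : Nat.card E ≤ Nat.card C * Nat.card C := by
      let f : ↥E →* ↥E :=
        { toFun := fun e => ⟨b * e * b⁻¹ * (e : G)⁻¹, E.mul_mem ((hn e).1 e.2) (E.inv_mem e.2)⟩
          map_one' := Subtype.ext (by simp)
          map_mul' := fun x y => Subtype.ext (by
            show b * (x * y) * b⁻¹ * ((x : G) * y)⁻¹ = b * x * b⁻¹ * (x : G)⁻¹ * (b * y * b⁻¹ * (y : G)⁻¹)
            have h1 : Commute ((x : G))⁻¹ (b * y * b⁻¹ * (y : G)⁻¹) :=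
              PGroup.elemAb_comm hE (E.inv_mem x.2) (E.mul_mem ((hn y).1 y.2) (E.inv_mem y.2))
            rw [mul_assoc (b * (x : G) * b⁻¹) ((x : G))⁻¹, h1.eq]
            group) }
      have hker : f.ker ≤ C.subgroupOf E := by
        intro e he
        refine ⟨e.2, mem_centralizer_singleton_iff.2 ?_⟩
        have : b * e * b⁻¹ * (e : G)⁻¹ = 1 := congrArg Subtype.val (MonoidHom.mem_ker.1 he)
        exact (mul_inv_eq_iff_eq_mul.1 (mul_inv_eq_one.1 this)).symm
      have himg : f.range ≤ C.subgroupOf E := by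
        rintro _ ⟨e, rfl⟩
        refine ⟨(f e).2, mem_centralizer_singleton_iff.2 ?_⟩
        show b * e * b⁻¹ * (e : G)⁻¹ * b = b * (b * e * b⁻¹ * (e : G)⁻¹)
        have h1 : Commute (b * e * b⁻¹) (e : G) := PGroup.elemAb_comm hE ((hn e).1 e.2) e.2
        have h2 : (e : G)⁻¹ = e := inv_eq_of_mul_eq_one_left (by rw [← pow_two]; exact hE.2 e e.2)
        have h3 : b⁻¹ = b := inv_eq_of_mul_eq_one_left (by rw [← pow_two]; exact hb2)
        rw [h2]
        calc b * e * b⁻¹ * e * b = (e * (b * e * b⁻¹)) * b := by rw [h1.eq]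
          _ = e * (b * e) := by group
          _ = b * (b * e * b⁻¹ * e) := by rw [h3, ← mul_assoc b (b * ↑e * b) ↑e, ← mul_assoc b (b * ↑e),
              ← mul_assoc b b, ← pow_two, hb2, one_mul, mul_assoc]
      have hcard : Nat.card ↥(C.subgroupOf E) = Nat.card C :=
        Nat.card_congr (subgroupOfEquivOfLe inf_le_left).toEquiv
      have h := f.ker.card_mul_index
      rw [index_ker] at h
      rw [← h]
      exact Nat.mul_le_mul ((card_le_of_le hker).trans hcard.le) ((card_le_of_le himg).trans hcard.le)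
    refine ⟨C ⊔ zpowers b, sup_le (inf_le_left.trans hEP) (zpowers_le.2 hbP), elemAb_sup
      (PGroup.elemAb_mono hE inf_le_left) (PGroup.elemAb_zpowers hb2) ?_, ?_, mem_sup_right (mem_zpowers b)⟩
    · rintro c hc _ ⟨i, rfl⟩
      exact ((show Commute c b from mem_centralizer_singleton_iff.1 hc.2).zpow_right i).eq
    obtain ⟨n, hn'⟩ := PGroup.elemAb_card (PGroup.elemAb_mono hE (inf_le_left : C ≤ E))
    have hn2 : 2 ≤ n := by
      by_contra hlt
      have : Nat.card C ≤ 2 := hn' ▸ (Nat.pow_le_pow_right two_pos (by omega : n ≤ 1))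
      have := Nat.mul_le_mul this this
      omega
    have hlt : Nat.card C < Nat.card ↥(C ⊔ zpowers b) := by
      refine lt_of_le_of_ne (card_le_of_le le_sup_left) fun h => hbE ?_
      have := eq_of_le_of_card_ge le_sup_left h.ge
      exact (this.ge (mem_sup_right (mem_zpowers b))).1
    obtain ⟨m, hm⟩ := (P.2.to_le (sup_le (inf_le_left.trans hEP) (zpowers_le.2 hbP) :
      C ⊔ zpowers b ≤ (P : Subgroup G))).exists_card_eq
    rw [hn', hm] at hlt
    have := (Nat.pow_lt_pow_iff_right one_lt_two).1 hlt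
    rw [hm]
    exact Nat.pow_le_pow_right two_pos (by omega)
  obtain ⟨hWodd, -, -⟩ := hcomp E hE hE8
  have hWodd' : Odd (Nat.card ↥(𝐖 E)) := Nat.not_even_iff_odd.1 fun h => hWodd (even_iff_two_dvd.1 h)
  refine ⟨𝐖 E, hWodd', fun B hBP hB => ?_⟩
  have hinvol : ∀ b ∈ (P : Subgroup G), orderOf b = 2 → centralizerPPrimeCore 2 b ≤ 𝐖 E ∧
      (∀ x ∈ 𝐖 E, b * x * b⁻¹ ∈ 𝐖 E) ∧ 𝐖 E ⊓ centralizer {b} = centralizerPPrimeCore 2 b := by
    intro b hbP hb
    obtain ⟨X, hXP, hX, hX8, hbX⟩ := hinX b hbP hb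
    rw [← hconst X hXP hX hX8]
    obtain ⟨-, h2, h3⟩ := hcomp X hX hX8
    have hb1 : b ≠ 1 := fun h => by simp [h] at hb
    exact ⟨le_iSup (fun a : {a : G // a ∈ X ∧ a ≠ 1} => θ a) ⟨b, hbX, hb1⟩, h2 b hbX, h3 b hbX hb1⟩
  have heq : 𝐖 E = ⨆ b : {b : G // b ∈ B ∧ b ≠ 1}, centralizerPPrimeCore 2 (b : G) := by
    refine le_antisymm ?_ (iSup_le ?_)
    · rw [PGroup.pRankLE_subgroup_iff] at hB
      push Not at hB
      obtain ⟨V, hVB, hV, hV2⟩ := hB
      obtain ⟨n, hn⟩ := PGroup.elemAb_card hV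
      have hn2 : 2 ≤ n := by
        by_contra h
        have := hn ▸ Nat.pow_le_pow_right two_pos (by omega : n ≤ 1)
        omega
      refine le_of_hyperplanes hV (Nat.coprime_two_right.2 hWodd')
        (Solvable.le_normalizer_of_conj_mem fun v hv x hx => ?_) fun D hD hidx => ?_
      · rcases eq_or_ne v 1 with rfl | hv1
        · simpa using hx
        · exact (hinvol v (hBP (hVB hv)) (orderOf_eq_prime (hV.2 v hv) hv1)).2.1 x hx
      · obtain ⟨v, hv, hv1⟩ := D.bot_or_exists_ne_one.resolve_left fun h => by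
          rw [h, relIndex_bot_left, hn] at hidx
          have := (Nat.pow_le_pow_right two_pos hn2).trans hidx
          norm_num at this
        refine le_trans (inf_le_inf_left _ (centralizer_le (Set.singleton_subset_iff.2 hv))) ?_
        rw [(hinvol v (hBP (hVB (hD hv))) (orderOf_eq_prime (hV.2 v (hD hv)) hv1)).2.2]
        exact le_iSup (fun a : {a : G // a ∈ B ∧ a ≠ 1} => centralizerPPrimeCore 2 (a : G)) ⟨v, hVB (hD hv), hv1⟩
    · rintro ⟨b, hbB, hb1⟩
      show centralizerPPrimeCore 2 b ≤ 𝐖 E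
      have hb2 : IsPGroup 2 ↥(zpowers b) := P.2.to_le (zpowers_le.2 (hBP hbB))
      obtain ⟨k, hk⟩ := hb2.exists_card_eq
      rw [Nat.card_zpowers] at hk
      rcases k with _ | k
      · exact absurd (orderOf_eq_one_iff.1 hk) hb1
      set z := b ^ (2 ^ k) with hz
      have hzo : orderOf z = 2 := by
        rw [hz, orderOf_pow, hk, Nat.gcd_eq_right (pow_dvd_pow 2 (Nat.le_succ k)), pow_succ,
          Nat.mul_div_cancel_left _ (pow_pos two_pos k)]
      have hbz : b * z = z * b := (Commute.self_pow b _).eq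
      have hle : centralizerPPrimeCore 2 b ≤ centralizer ({z} : Set G) := fun x hx =>
        mem_centralizer_singleton_iff.2 ((show Commute x b from
          mem_centralizer_singleton_iff.1 (centralizerPPrimeCore_le b hx)).pow_right _).eq
      exact ((le_inf le_rfl hle).trans (balance_of_constrained hb2 hbz (constrained_of_locals h2c hzo))).trans
        (hinvol z ((P : Subgroup G).pow_mem (hBP hbB) _) hzo).1
  refine ⟨heq, fun g hg => ?_⟩
  rw [heq]
  set W' := ⨆ b : {b : G // b ∈ B ∧ b ≠ 1}, centralizerPPrimeCore 2 (b : G) with hW'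
  have hmap : ∀ g ∈ normalizer (B : Set G), W'.map (MulAut.conj g).toMonoidHom ≤ W' := by
    intro g hg
    rw [hW', Subgroup.map_iSup]
    refine iSup_le fun b => ?_
    rw [← centralizerPPrimeCore_conj]
    exact le_iSup (fun a : {a : G // a ∈ B ∧ a ≠ 1} => centralizerPPrimeCore 2 (a : G))
      ⟨g * b * g⁻¹, (mem_normalizer_iff.1 hg b).1 b.2.1, fun e => b.2.2 (conj_eq_one_iff.1 e)⟩
  rw [mem_normalizer_iff]
  intro x
  refine ⟨fun hx => hmap g hg ⟨x, hx, rfl⟩, fun hx => ?_⟩
  have := hmap g⁻¹ (inv_mem hg) ⟨_, hx, rfl⟩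
  simpa [mul_assoc] using this

end

end CfsgLib.InvolChar.CoreClosure
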