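import Mathlib
import Cfsg.Agent.Lib.InvolChar.CoreClosure

/-!
The core closure from a self-centralizing normal abelian subgroup of rank three of some Sylow 2-subgroup,
transported to any Sylow 2-subgroup.
-/

set_option autoImplicit false

namespace CfsgLib.InvolChar.CoreClosure

open Subgroup Cfsg

variable {G : Type*} [Group G] [Finite G]

/-- Every Sylow 2-subgroup has a normal elementary abelian subgroup of rank three. -/
theorem exists_elemAb_normal (S : Sylow 2 G) (A : Subgroup ↥(S : Subgroup G)) (hAn : A.Normal)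
    (hAab : IsMulCommutative ↥A) (hA3 : ¬ PRankLE 2 2 ↥A) (P : Sylow 2 G) :
    ∃ E : Subgroup G, E ≤ (P : Subgroup G) ∧ (P : Subgroup G) ≤ normalizer (E : Set G) ∧
      IsElementaryAbelian 2 E ∧ 2 ^ 3 ≤ Nat.card E := by
  haveI : Fact (Nat.Prime 2) := ⟨Nat.prime_two⟩
  set Ω := omegaOne 2 A with hΩ
  haveI : Ω.Normal := PGroup.omegaOne_normal 2 A
  have hc : ∀ a ∈ A, ∀ b ∈ A, a * b = b * a := fun a ha b hb =>
    congrArg Subtype.val (hAab.is_comm.comm ⟨a, ha⟩ ⟨b, hb⟩)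
  have hΩe : IsElementaryAbelian 2 Ω := PGroup.elemAb_omegaOne_of_comm hc
  have hΩ8 : 2 ^ 3 ≤ Nat.card Ω := by
    rw [PGroup.pRankLE_subgroup_iff] at hA3
    push Not at hA3
    obtain ⟨B, hBA, hB, hB2⟩ := hA3
    obtain ⟨n, hn⟩ := PGroup.elemAb_card hB
    rw [hn] at hB2
    have hn3 := (Nat.pow_lt_pow_iff_right one_lt_two).1 hB2
    refine le_trans ?_ (card_le_of_le (show B ≤ Ω from fun b hb => PGroup.mem_omegaOne (hBA hb) (hB.2 b hb)))
    rw [hn]; exact Nat.pow_le_pow_right two_pos hn3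
  obtain ⟨g, hg⟩ := CfsgLib.Invol.sylow_exists_conj S P
  let c : ↥(S : Subgroup G) →* G := (MulAut.conj g).toMonoidHom.comp (S : Subgroup G).subtype
  have hcinj : Function.Injective c := (MulAut.conj g).injective.comp Subtype.val_injective
  have hmem : ∀ x : ↥(S : Subgroup G), c x ∈ (P : Subgroup G) := fun x => by
    refine (hg _).2 ?_
    show g⁻¹ * (g * x * g⁻¹) * g ∈ (S : Subgroup G)
    simp [mul_assoc]
  refine ⟨Ω.map c, ?_, ?_, PGroup.elemAb_map hΩe c, by rw [card_map_of_injective hcinj]; exact hΩ8⟩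
  · rintro _ ⟨x, -, rfl⟩
    exact hmem x
  · refine CfsgLib.Solvable.le_normalizer_of_conj_mem fun q hq x hx => ?_
    obtain ⟨y, hy, rfl⟩ := hx
    refine ⟨⟨g⁻¹ * q * g, (hg q).1 hq⟩ * y * ⟨g⁻¹ * q * g, (hg q).1 hq⟩⁻¹,
      Normal.conj_mem inferInstance y hy _, ?_⟩
    show g * (g⁻¹ * q * g * y * (g⁻¹ * q * g)⁻¹) * g⁻¹ = q * (g * y * g⁻¹) * q⁻¹
    group

/-- S3110 relative to solvability of the subgroups of odd order. -/
theorem statement (hsol : ∀ H : Subgroup G, Odd (Nat.card H) → Group.IsSolvable H)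
    (h2c : ∀ T : Subgroup G, IsPGroup 2 T → T ≠ ⊥ → IsPConstrained 2 ↥(normalizer (T : Set G)))
    (S : Sylow 2 G) (A : Subgroup ↥(S : Subgroup G)) (hAn : A.Normal) (hAab : IsMulCommutative ↥A)
    (hA3 : ¬ PRankLE 2 2 ↥A) (S' : Sylow 2 G) :
    ∃ W : Subgroup G, Odd (Nat.card ↥W) ∧
      ∀ B : Subgroup G, B ≤ (S' : Subgroup G) → ¬ PRankLE 2 1 ↥B →
        W = (⨆ b : {b : G // b ∈ B ∧ b ≠ 1}, centralizerPPrimeCore 2 (b : G)) ∧
        normalizer (B : Set G) ≤ normalizer (W : Set G) := by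
  obtain ⟨E, hE1, hE2, hE3, hE4⟩ := exists_elemAb_normal S A hAn hAab hA3 S'
  exact exists_closure hsol h2c S' E hE1 hE2 hE3 hE4

end CfsgLib.InvolChar.CoreClosure
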