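import Mathlib
import Cfsg.Agent.Lib.Invol.ZStarBlocks
import Cfsg.Agent.Lib.CharBlocks.Degree

/-!
A non-simplicity criterion from principal block values: an element `w` and a nonempty set `X` of
involutions such that every principal-block value `χ (w^g b)`, `b ∈ X`, is a value at some point of `X`.
-/

set_option autoImplicit false

namespace CfsgLib.InvolChar.CosetClosed

open Cfsg CfsgLib.Char CfsgLib.Invol
open scoped ComplexConjugate

variable {G : Type*} [Group G] [Fintype G]

theorem false_of_closed [IsSimpleGroup G] {M : Ideal AlgInt} (hM : IsPModular 2 M) {w : G} (hw : w ≠ 1)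
    (X : Set G) (hXne : X.Nonempty) (hX2 : ∀ b ∈ X, orderOf b = 2)
    (key : ∀ b ∈ X, ∀ g : G, ∃ b' ∈ X, ∀ χ ∈ principalBlock M G,
      ((χ : IrrCharacter G) : G → ℂ) (g * w * g⁻¹ * b) = ((χ : IrrCharacter G) : G → ℂ) b') : False := by
  classical
  have := hM.2.1
  have hB : IsPBlock M (principalBlock M G) := by
    rw [CfsgLib.Blocks.principalBlock_eq]; exact CfsgLib.Blocks.isPBlock_blockOf _
  have h1B : (irrOne : IrrCharacter G) ∈ principalBlock M G := by
    rw [CfsgLib.Blocks.principalBlock_eq]; exact CfsgLib.Blocks.mem_blockOf_self _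
  let u : IrrCharacter G → ℂ := fun χ => conj ((χ : G → ℂ) w / (χ : G → ℂ) 1)
  let term : (IrrCharacter G → ℂ) → G → ℂ := fun q b => ∑ χ : IrrCharacter G,
    if χ ∈ principalBlock M G then (χ : G → ℂ) 1 * conj ((χ : G → ℂ) b) * q χ else 0
  have hne : ∀ χ : IrrCharacter G, (χ : G → ℂ) 1 ≠ 0 := fun χ => by
    rw [← CfsgLib.CharBlocks.coe_charDegree_irr χ]
    exact Nat.cast_ne_zero.2 (CfsgLib.CharBlocks.charDegree_pos χ.2).ne'
  -- multiplying by `u` keeps the relation
  have hstep : ∀ q : IrrCharacter G → ℂ, (∀ b ∈ X, term q b = 0) →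
      ∀ b ∈ X, term (fun χ => u χ * q χ) b = 0 := by
    intro q hq b hb
    choose π hπX hπ using key b hb
    have hN : (Nat.card G : ℂ) ≠ 0 := Nat.cast_ne_zero.2 Nat.card_pos.ne'
    have h1 : (Nat.card G : ℂ) * term (fun χ => u χ * q χ) b = ∑ g : G, term q (π g) := by
      simp only [term]
      rw [Finset.mul_sum, Finset.sum_comm]
      refine Finset.sum_congr rfl fun χ _ => ?_
      split_ifs with h
      · have h2 := CfsgLib.CharBlocks.sum_conj_mul χ.2 w b
        rw [Finset.sum_congr rfl fun g _ => hπ g χ h] at h2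
        have h3 := congrArg conj h2
        rw [map_mul, map_mul, map_mul, map_sum, Complex.conj_natCast] at h3
        have hreal : conj ((χ : G → ℂ) 1) = (χ : G → ℂ) 1 := by
          rw [← CfsgLib.CharBlocks.coe_charDegree_irr χ, Complex.conj_natCast]
        rw [hreal] at h3
        simp only [u, map_div₀, hreal]
        rw [← Finset.sum_mul, ← Finset.mul_sum]
        have h4 : (χ : G → ℂ) 1 ≠ 0 := hne χ
        field_simp
        linear_combination -(q χ) * h3
      · simp
    rw [Finset.sum_eq_zero fun g _ => hq _ (hπX g)] at h1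
    exact (mul_eq_zero.1 h1).resolve_left hN
  have hbase : ∀ b ∈ X, term (fun _ => 1) b = 0 := by
    intro b hb
    have h0 := CfsgLib.Blocks.weak_orthogonality hM hB (x := 1) (y := b)
      (by rw [orderOf_one]; norm_num) (by rw [hX2 b hb])
    simpa [term] using h0
  -- polynomials in `u`
  have hpoly : ∀ (U : Finset ℂ) (q : IrrCharacter G → ℂ), (∀ b ∈ X, term q b = 0) →
      ∀ b ∈ X, term (fun χ => (∏ c ∈ U, (u χ - c)) * q χ) b = 0 := by
    intro U
    induction U using Finset.induction_on with
    | empty => intro q hq b hb; simpa using hq b hb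
    | insert c U hc ih =>
      intro q hq b hb
      have h1 := hstep _ (ih q hq) b hb
      have h2 := ih q hq b hb
      have h3 : term (fun χ => (∏ d ∈ insert c U, (u χ - d)) * q χ) b =
          term (fun χ => u χ * ((∏ d ∈ U, (u χ - d)) * q χ)) b - c * term (fun χ => (∏ d ∈ U, (u χ - d)) * q χ) b := by
        simp only [term]
        rw [Finset.mul_sum, ← Finset.sum_sub_distrib]
        refine Finset.sum_congr rfl fun χ _ => ?_
        rw [Finset.prod_insert hc]
        split_ifs <;> ring
      rw [h3, h1, h2, mul_zero, sub_zero]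
  -- only the trivial character has `u = 1`
  have huone : ∀ χ : IrrCharacter G, u χ = 1 → χ = irrOne := by
    intro χ hu
    have hN : ∀ N : Subgroup G, N.Normal → w ∈ N → N = ⊤ := fun N hN hwN =>
      hN.eq_bot_or_eq_top.resolve_left fun h => hw (Subgroup.mem_bot.1 (h ▸ hwN))
    have hwe : (χ : G → ℂ) w = (χ : G → ℂ) 1 := by
      have h1 := congrArg conj hu
      simp only [u, Complex.conj_conj, map_one] at h1
      exact (div_eq_one_iff_eq (hne χ)).1 h1
    have hd : (χ : G → ℂ) 1 = 1 := linear_of_sq_eq hN χ.2 (by rw [hwe])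
    let f : G →* ℂ := ⟨⟨(χ : G → ℂ), hd⟩, linear_map_mul (isCharacter_of_isIrr χ.2) hd⟩
    have hf : f.ker = ⊤ := hN f.ker inferInstance (show f w = 1 from hwe.trans hd)
    refine Subtype.ext (funext fun g => ?_)
    have : g ∈ f.ker := hf ▸ Subgroup.mem_top g
    simpa [irrOne] using (show (χ : G → ℂ) g = 1 from this)
  obtain ⟨b, hb⟩ := hXne
  set U := (Finset.univ.image u).erase 1 with hU
  have h := hpoly U _ hbase b hb
  simp only [term] at h
  rw [Finset.sum_eq_single (irrOne : IrrCharacter G)] at h
  · rw [if_pos h1B] at h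
    have hone : u irrOne = 1 := by simp [u, irrOne]
    have hprod : (∏ c ∈ U, (u irrOne - c)) ≠ 0 := by
      rw [Finset.prod_ne_zero_iff]
      intro c hc
      rw [hone, sub_ne_zero]
      exact (Finset.mem_erase.1 hc).1.symm
    apply hprod
    simpa [irrOne] using h
  · intro χ _ hχ
    have : ∏ c ∈ U, (u χ - c) = 0 := Finset.prod_eq_zero (i := u χ)
      (Finset.mem_erase.2 ⟨fun h => hχ (huone χ h), Finset.mem_image_of_mem u (Finset.mem_univ χ)⟩) (sub_self _)
    simp [this]
  · exact fun h => absurd (Finset.mem_univ _) h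

end CfsgLib.InvolChar.CosetClosed
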