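import Mathlib
import Cfsg.Prelude.Def_CaseTheorems
import Cfsg.Prelude.Def_OddOrderLocal
import Cfsg.Agent.Lib.InvolChar.CoreClosureMain
import Cfsg.Agent.Lib.Techniques.AlperinGoldschmidtCore
import Cfsg.Agent.Lib.Invol.ZStarFinal

/-!
In a simple group of early characteristic two type some maximal 2-local has noncyclic `Z(O₂(M))`:
otherwise a central involution of a Sylow subgroup is weakly closed (Alperin-Goldschmidt) and Z* applies.
-/

set_option autoImplicit false

namespace CfsgLib.InvolChar.CyclicLocalCenter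

open Subgroup Cfsg CfsgLib.Cores

variable {G : Type*} [Group G] [Finite G]

/-- When all involution centralizers have trivial core, so do all 2-local subgroups. -/
theorem local_core_bot (h2c : ∀ T : Subgroup G, IsPGroup 2 T → T ≠ ⊥ → IsPConstrained 2 ↥(normalizer (T : Set G)))
    (hθ : ∀ t : G, orderOf t = 2 → centralizerPPrimeCore 2 t = ⊥) {T : Subgroup G} (hT : IsPGroup 2 T)
    (hT1 : T ≠ ⊥) : pPrimeCore 2 ↥(normalizer (T : Set G)) = ⊥ := by
  haveI : Fact (Nat.Prime 2) := ⟨Nat.prime_two⟩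
  haveI : Nontrivial ↥T := (Subgroup.nontrivial_iff_ne_bot T).2 hT1
  haveI := hT.center_nontrivial
  obtain ⟨w, hw⟩ := exists_prime_orderOf_dvd_card' (G := ↥(center ↥T)) 2 (by
    obtain ⟨k, hk0, hk⟩ := (IsPGroup.nontrivial_iff_card (hT.to_subgroup _)).1 this
    exact hk ▸ dvd_pow_self 2 hk0.ne')
  rw [← orderOf_coe, ← orderOf_coe] at hw
  set z : G := ((w : ↥T) : G) with hz
  set N := normalizer (T : Set G) with hN
  set D := (pPrimeCore 2 ↥N).map N.subtype with hD
  have hDc : (Nat.card D).Coprime 2 := card_map_pPrimeCore_coprime _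
  -- `D` centralizes `T`
  have hDT : ∀ d ∈ D, ∀ x ∈ T, d * x = x * d := by
    rintro _ ⟨d, hd, rfl⟩ x hx
    haveI : (T.subgroupOf N).Normal := normal_subgroupOf_iff_le_normalizer le_normalizer |>.2 le_rfl
    have hdis : T.subgroupOf N ⊓ pPrimeCore 2 ↥N = ⊥ := by
      obtain ⟨k, hk⟩ := hT.exists_card_eq
      refine (disjoint_of_coprime_natCard (H := T.subgroupOf N) (K := pPrimeCore 2 ↥N) ?_).eq_bot
      rw [Nat.card_congr (subgroupOfEquivOfLe (le_normalizer : T ≤ N)).toEquiv, hk]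
      exact Nat.Coprime.pow_left k (coprime_card_pPrimeCore (G := ↥N) 2).symm
    exact congrArg Subtype.val (Subgroup.commute_of_normal_of_disjoint _ _ inferInstance inferInstance
      (disjoint_iff.2 hdis) (⟨x, le_normalizer hx⟩ : ↥N) d hx hd).symm.eq
  set X := centralizer ({z} : Set G) with hX
  have hTX : T ≤ X := fun x hx => mem_centralizer_singleton_iff.2
    (congrArg Subtype.val (mem_center_iff.1 w.2 ⟨x, hx⟩))
  have hDX : D ≤ X := fun d hd => mem_centralizer_singleton_iff.2 (hDT d hd z (w : ↥T).2)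
  have hle : D.subgroupOf X ≤ pPrimeCore 2 ↥X := by
    refine le_pPrimeCore_of_constrained (InvolChar.CoreClosure.constrained_of_locals h2c hw)
      (P := T.subgroupOf X) (hT.of_equiv (subgroupOfEquivOfLe hTX).symm)
      (by rwa [Nat.card_congr (subgroupOfEquivOfLe hDX).toEquiv]) ?_ ?_
    · intro d hd
      exact mem_centralizer_iff.2 fun x hx => Subtype.ext (hDT d hd x hx).symm
    · intro c hc
      have hcN : (c : G) ∈ N := centralizer_le_normalizer _ (mem_centralizer_iff.2 fun x hx =>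
        congrArg Subtype.val (mem_centralizer_iff.1 hc ⟨x, hTX hx⟩ hx))
      refine mem_normalizer_iff.2 fun y => ?_
      constructor
      · rintro ⟨d, hd, hdy⟩
        exact ⟨⟨c, hcN⟩ * d * ⟨c, hcN⟩⁻¹, Normal.conj_mem inferInstance d hd _,
          by have e : (d : G) = y := hdy; simp [e]⟩
      · rintro ⟨d, hd, hdy⟩
        refine ⟨⟨c, hcN⟩⁻¹ * d * ⟨c, hcN⟩, Normal.conj_mem' inferInstance d hd _, ?_⟩
        have e : (d : G) = c * y * (c : G)⁻¹ := hdy
        simp [e, mul_assoc]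
  have hbot : D = ⊥ := by
    rw [eq_bot_iff, ← map_subgroupOf_eq_of_le hDX]
    exact (map_mono hle).trans (le_of_eq (hθ z hw))
  exact (map_eq_bot_iff_of_injective _ N.subtype_injective).1 hbot

/-- S3244 relative to solvability of the subgroups of odd order. -/
theorem statement [IsSimpleGroup G] (hsol : ∀ H : Subgroup G, Odd (Nat.card H) → Group.IsSolvable H)
    (hG : ¬ IsMulCommutative G) (S : Sylow 2 G) (A : Subgroup G) (hA : IsSCN (S : Subgroup G) A)
    (hA3 : ¬ PRankLE 2 2 ↥A)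
    (hinv : ∀ X : Subgroup G, Odd (Nat.card ↥X) → (S : Subgroup G) ≤ normalizer (X : Set G) → X = ⊥)
    (h2c : ∀ T : Subgroup G, IsPGroup 2 ↥T → T ≠ ⊥ → IsPConstrained 2 ↥(normalizer (T : Set G))) :
    ∃ M : Subgroup G, IsMaximalTwoLocal M ∧ ¬ IsCyclic ↥(center ↥(pCore 2 ↥M)) := by
  classical
  haveI : Fact (Nat.Prime 2) := ⟨Nat.prime_two⟩
  obtain ⟨hAS, hSA, hAC⟩ := hA
  -- the cores are trivial
  set A' := A.subgroupOf (S : Subgroup G) with hA'
  have hA'n : A'.Normal := (normal_subgroupOf_iff_le_normalizer hAS).2 hSA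
  have hAc : A ≤ centralizer (A : Set G) := hAC.ge.trans inf_le_right
  have hA'c : IsMulCommutative ↥A' := ⟨⟨fun x y => Subtype.ext (Subtype.ext
    (mem_centralizer_iff.1 (hAc y.2) _ x.2))⟩⟩
  have hA'3 : ¬ PRankLE 2 2 ↥A' := fun h => hA3 (PGroup.pRankLE_of_injective h
    (subgroupOfEquivOfLe hAS).symm.toMonoidHom (subgroupOfEquivOfLe hAS).symm.injective)
  obtain ⟨W, hWodd, hW⟩ := InvolChar.CoreClosure.statement hsol h2c S A' hA'n hA'c hA'3 S
  have hS2 : ¬ PRankLE 2 1 ↥(S : Subgroup G) := fun h => hA3 (PGroup.pRankLE_mono one_le_two two_pos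
    (PGroup.pRankLE_of_injective h (inclusion hAS) (inclusion_injective hAS)))
  obtain ⟨hWS, hWn⟩ := hW _ le_rfl hS2
  have hW1 : W = ⊥ := hinv W hWodd (le_normalizer.trans hWn)
  have hθ : ∀ t : G, orderOf t = 2 → centralizerPPrimeCore 2 t = ⊥ := by
    intro t ht
    obtain ⟨Q, hQ⟩ := (isPGroup_zpowers_of_orderOf_eq (p := 2) ht).exists_le_sylow
    obtain ⟨g, hg⟩ := CfsgLib.Invol.sylow_exists_conj S Q
    have hmem : g⁻¹ * t * g ∈ (S : Subgroup G) := (hg t).1 (hQ (mem_zpowers t))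
    have h1 : g⁻¹ * t * g ≠ 1 := by
      intro h
      have : t = 1 := by
        calc t = g * (g⁻¹ * t * g) * g⁻¹ := by group
          _ = 1 := by rw [h]; group
      simp [this] at ht
    have h0 : centralizerPPrimeCore 2 (g⁻¹ * t * g) = ⊥ := by
      rw [eq_bot_iff, ← hW1, hWS]
      exact le_iSup (fun b : {b : G // b ∈ (S : Subgroup G) ∧ b ≠ 1} => centralizerPPrimeCore 2 (b : G))
        ⟨_, hmem, h1⟩
    rw [show t = g * (g⁻¹ * t * g) * g⁻¹ by group, centralizerPPrimeCore_conj, h0, Subgroup.map_bot]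
  by_contra hno
  push Not at hno
  -- a central involution of `S`
  haveI hSnt : Nontrivial ↥(S : Subgroup G) := (Subgroup.nontrivial_iff_ne_bot _).2 fun h => hS2 fun B _ _ => by
    haveI : Subsingleton ↥(S : Subgroup G) := by rw [h]; infer_instance
    simp
  haveI := S.2.center_nontrivial
  obtain ⟨w, hw⟩ := exists_prime_orderOf_dvd_card' (G := ↥(center ↥(S : Subgroup G))) 2 (by
    obtain ⟨k, hk0, hk⟩ := (IsPGroup.nontrivial_iff_card (S.2.to_subgroup _)).1 this
    exact hk ▸ dvd_pow_self 2 hk0.ne')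
  rw [← orderOf_coe, ← orderOf_coe] at hw
  set z : G := ((w : ↥(S : Subgroup G)) : G) with hz
  have hzS : z ∈ (S : Subgroup G) := (w : ↥(S : Subgroup G)).2
  have hzc : ∀ s ∈ (S : Subgroup G), s * z = z * s := fun s hs =>
    congrArg Subtype.val (mem_center_iff.1 w.2 ⟨s, hs⟩)
  have hz1 : z ≠ 1 := fun h => by simp [h] at hw
  -- the conjugating subgroups fix `z`
  have hgood : ∀ D ∈ Techniques.AlperinGoldschmidtCore.good S, ∀ x ∈ normalizer (D : Set G), Commute x z := by
    rintro D ⟨hDS, -, hCD, hdp⟩ x hx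
    have hDp : IsPGroup 2 D := S.2.to_le hDS
    have hzC : z ∈ centralizer (D : Set G) := mem_centralizer_iff.2 fun d hd => hzc d (hDS hd)
    have hD1 : D ≠ ⊥ := by
      intro h
      subst h
      haveI : Subsingleton ↥(⊥ : Subgroup G) := inferInstance
      obtain ⟨hle1, -, -, -, hsup⟩ := hdp
      have hN : centralizer ((⊥ : Subgroup G) : Set G) = ⊤ := by ext y; simp [mem_centralizer_iff]
      rw [hN, ← hsup, sup_bot_eq, top_le_iff] at hCD
      have h2 : z ∈ (⊤ : Subgroup G) := mem_top z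
      rw [← hCD] at h2
      have h3 := Subgroup.orderOf_dvd_natCard _ h2
      rw [hw] at h3
      exact Nat.not_even_iff_odd.2 (Nat.coprime_two_right.1 (card_map_pPrimeCore_coprime _))
        (even_iff_two_dvd.2 h3)
    set N := normalizer (D : Set G) with hN
    have hcore := local_core_bot h2c hθ hDp hD1
    obtain ⟨-, -, -, -, hsup⟩ := hdp
    rw [hcore, Subgroup.map_bot, bot_sup_eq] at hsup
    have hzD : z ∈ D := hsup ▸ hCD hzC
    -- a maximal 2-local over `N`
    obtain ⟨M, hNM, hM⟩ := (Set.toFinite {L : Subgroup G | IsTwoLocal L ∧ N ≤ L}).exists_le_maximal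
      (a := N) ⟨⟨D, hDp, hD1, rfl⟩, le_rfl⟩
    obtain ⟨⟨T, hT, hT1, hMT⟩, -⟩ := hM.prop
    have hMmax : IsMaximalTwoLocal M := ⟨hM.prop.1, fun L hL hle =>
      le_antisymm (hM.2 ⟨hL, hM.prop.2.trans hle⟩ hle) hle⟩
    have hcyc := hno M hMmax
    have hMc : IsPConstrained 2 ↥M := hMT ▸ h2c T hT hT1
    have hM0 : pPrimeCore 2 ↥M = ⊥ := hMT ▸ local_core_bot h2c hθ hT hT1
    set Q := (pCore 2 ↥M).map M.subtype with hQ
    have hQp : IsPGroup 2 Q := (isPGroup_pCore 2).map _
    have hMQ : M ≤ normalizer (Q : Set G) := by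
      intro m hm
      refine mem_normalizer_iff.2 fun y => ⟨?_, ?_⟩
      · rintro ⟨d, hd, rfl⟩
        exact ⟨⟨m, hm⟩ * d * ⟨m, hm⟩⁻¹, Normal.conj_mem inferInstance d hd _, by simp⟩
      · rintro ⟨d, hd, hdy⟩
        refine ⟨⟨m, hm⟩⁻¹ * d * ⟨m, hm⟩, Normal.conj_mem' inferInstance d hd _, ?_⟩
        have e : (d : G) = m * y * m⁻¹ := hdy
        simp [e, mul_assoc]
    -- `Q ≤ D`
    have hQD : Q ≤ D := by
      have hNQ : Q ⊓ N ≤ D := by
        haveI : ((Q ⊓ N).subgroupOf N).Normal := by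
          refine (normal_subgroupOf_iff_le_normalizer inf_le_right).2 fun n hn => mem_normalizer_iff.2 fun y => ?_
          simp only [mem_inf]
          rw [← mem_normalizer_iff.1 (hMQ (hNM hn)) y, ← mem_normalizer_iff.1 (le_normalizer hn : n ∈ normalizer (N : Set G)) y]
        have h1 : (Q ⊓ N).subgroupOf N ≤ pPrimePCore 2 ↥N := by
          rw [pPrimePCore, ← map_le_iff_le_comap]
          haveI : (((Q ⊓ N).subgroupOf N).map (QuotientGroup.mk' (pPrimeCore 2 ↥N))).Normal :=
            Normal.map inferInstance _ (QuotientGroup.mk'_surjective _)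
          exact le_pCore (((hQp.to_le inf_le_left).of_equiv (subgroupOfEquivOfLe inf_le_right).symm).map _)
        rw [← map_subgroupOf_eq_of_le (inf_le_right : Q ⊓ N ≤ N)]
        exact (map_mono h1).trans hsup.ge
      by_contra hQD
      have hDM : D ≤ normalizer (Q : Set G) := (le_normalizer.trans hNM).trans hMQ
      have hR : IsPGroup 2 ↥(D ⊔ Q) := hDp.to_sup_of_normal_right' hQp hDM
      have hlt : D < D ⊔ Q := lt_of_le_of_ne le_sup_left fun h => hQD (le_sup_right.trans h.ge)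
      refine (Techniques.Functor.lt_norm hR hlt).not_ge fun y hy => ?_
      obtain ⟨hy1, hy2⟩ := mem_inf.1 hy
      rw [← SetLike.mem_coe, coe_mul_of_left_le_normalizer_right D Q hDM] at hy1
      obtain ⟨d, hd, q, hq, rfl⟩ := hy1
      refine D.mul_mem hd (hNQ ⟨hq, ?_⟩)
      simpa using N.mul_mem (N.inv_mem (le_normalizer hd)) hy2
    -- `z ∈ Z(Q)`
    have hzM : z ∈ M := hNM (le_normalizer hzD)
    set zM : ↥M := ⟨z, hzM⟩ with hzM'
    have hzcQ : zM ∈ centralizer (pCore 2 ↥M : Set ↥M) := mem_centralizer_iff.2 fun q hq =>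
      Subtype.ext (hzc _ (hDS (hQD ⟨q, hq, rfl⟩)))
    have hpp : pPrimePCore 2 ↥M ≤ pCore 2 ↥M := by
      haveI := pPrimePCore_normal (p := 2) (G := ↥M)
      refine le_pCore ?_
      let f : ↥(pPrimePCore 2 ↥M) →* ↥(pCore 2 (↥M ⧸ pPrimeCore 2 ↥M)) :=
        { toFun := fun y => ⟨QuotientGroup.mk' (pPrimeCore 2 ↥M) y, y.2⟩
          map_one' := Subtype.ext (map_one _)
          map_mul' := fun a b => Subtype.ext (map_mul _ _ _) }
      refine (isPGroup_pCore 2).of_injective f ((injective_iff_map_eq_one f).2 fun y hy => Subtype.ext ?_)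
      have := (QuotientGroup.eq_one_iff (y : ↥M)).1 (congrArg Subtype.val hy)
      rw [hM0, mem_bot] at this
      exact this
    have hCQ : centralizer (pCore 2 ↥M : Set ↥M) ≤ pCore 2 ↥M := by
      obtain ⟨P⟩ := (inferInstance : Nonempty (Sylow 2 ↥(pPrimePCore 2 ↥M)))
      refine le_trans (centralizer_le ?_) ((hMc P).trans hpp)
      intro y hy
      exact hpp ((map_subtype_le _) hy)
    have hzZ : ⟨zM, hCQ hzcQ⟩ ∈ center ↥(pCore 2 ↥M) :=
      mem_center_iff.2 fun q => Subtype.ext (mem_centralizer_iff.1 hzcQ q q.2)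
    have hxM : x ∈ M := hNM hx
    set zx : ↥M := ⟨x, hxM⟩ * zM * ⟨x, hxM⟩⁻¹ with hzx
    have hzxQ : zx ∈ pCore 2 ↥M := Normal.conj_mem inferInstance _ (hCQ hzcQ) _
    have hzxZ : ⟨zx, hzxQ⟩ ∈ center ↥(pCore 2 ↥M) := by
      refine mem_center_iff.2 fun q => Subtype.ext ?_
      have h := mem_centralizer_iff.1 hzcQ (⟨x, hxM⟩⁻¹ * q * ⟨x, hxM⟩) (Normal.conj_mem' inferInstance _ q.2 _)
      show (q : ↥M) * zx = zx * q
      rw [hzx]
      calc (q : ↥M) * (⟨x, hxM⟩ * zM * ⟨x, hxM⟩⁻¹)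
          = ⟨x, hxM⟩ * ((⟨x, hxM⟩⁻¹ * q * ⟨x, hxM⟩) * zM) * ⟨x, hxM⟩⁻¹ := by group
        _ = ⟨x, hxM⟩ * (zM * (⟨x, hxM⟩⁻¹ * q * ⟨x, hxM⟩)) * ⟨x, hxM⟩⁻¹ := by rw [h]
        _ = ⟨x, hxM⟩ * zM * ⟨x, hxM⟩⁻¹ * q := by group
    -- a cyclic group has one involution
    haveI := hcyc
    haveI : Fintype ↥(center ↥(pCore 2 ↥M)) := Fintype.ofFinite _
    by_contra hne
    have hzx2 : zx ^ 2 = 1 := by
      apply Subtype.ext
      show (x * z * x⁻¹) ^ 2 = 1
      rw [conj_pow, ← hw, pow_orderOf_eq_one]; simp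
    have hz2 : zM ^ 2 = 1 := Subtype.ext (show z ^ 2 = 1 by rw [← hw, pow_orderOf_eq_one])
    let a : ↥(center ↥(pCore 2 ↥M)) := ⟨_, hzZ⟩
    let b : ↥(center ↥(pCore 2 ↥M)) := ⟨_, hzxZ⟩
    have hab : a ≠ b := fun h => hne (by
      have h' : z = x * z * x⁻¹ := congrArg (fun y : ↥(center ↥(pCore 2 ↥M)) => (((y : ↥(pCore 2 ↥M)) : ↥M) : G)) h
      show x * z = z * x
      exact (eq_mul_inv_iff_mul_eq.1 h').symm)
    have hle2 := IsCyclic.card_pow_eq_one_le (α := ↥(center ↥(pCore 2 ↥M))) two_pos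
    have h3 : ({1, a, b} : Finset ↥(center ↥(pCore 2 ↥M))).card = 3 := by
      have ha1 : (1 : ↥(center ↥(pCore 2 ↥M))) ≠ a := fun h => hz1
        (congrArg (fun y : ↥(center ↥(pCore 2 ↥M)) => (((y : ↥(pCore 2 ↥M)) : ↥M) : G)) h).symm
      have hb1 : (1 : ↥(center ↥(pCore 2 ↥M))) ≠ b := fun h => hz1 (by
        have h' : (1 : G) = x * z * x⁻¹ :=
          congrArg (fun y : ↥(center ↥(pCore 2 ↥M)) => (((y : ↥(pCore 2 ↥M)) : ↥M) : G)) h
        exact conj_eq_one_iff.1 h'.symm)
      simp [ha1, hb1, hab]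
    have hsub : ({1, a, b} : Finset ↥(center ↥(pCore 2 ↥M))) ⊆
        ({y | y ^ 2 = 1} : Finset ↥(center ↥(pCore 2 ↥M))) := by
      intro y hy
      simp only [Finset.mem_insert, Finset.mem_singleton] at hy
      simp only [Finset.mem_filter, Finset.mem_univ, true_and]
      rcases hy with rfl | rfl | rfl
      · simp
      · exact Subtype.ext (Subtype.ext hz2)
      · exact Subtype.ext (Subtype.ext hzx2)
    have := (Finset.card_le_card hsub).trans hle2
    omega
  -- `z` is isolated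
  have hiso : IsIsolatedInvolution z := by
    refine ⟨hw, fun g hg => ?_⟩
    set t := g * z * g⁻¹ with ht
    have hto : orderOf t = 2 := by
      rw [ht, ← hw]; exact orderOf_injective (MulAut.conj g).toMonoidHom (MulAut.conj g).injective z
    have htC : t ∈ centralizer ({z} : Set G) := mem_centralizer_singleton_iff.2 hg.eq.symm
    have hSC : (S : Subgroup G) ≤ centralizer ({z} : Set G) := fun s hs => mem_centralizer_singleton_iff.2 (hzc s hs)
    obtain ⟨c, hc, hcS⟩ := CfsgLib.Fusion.exists_conj_mem_of_le (isPGroup_zpowers_of_orderOf_eq (p := 2) hto) S.2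
      (zpowers_le.2 htC) hSC (Techniques.Functor.relIndex_sylow_not_dvd S hSC)
    set g' := (c * g)⁻¹ with hg'
    obtain ⟨n, D, x, c', -, hD, hx, -, -, hc', hprod⟩ := Techniques.AlperinGoldschmidtCore.conjugation S
      (A := {z}) (g := g') (Set.singleton_subset_iff.2 hzS) (by
        rw [Set.image_singleton, Set.singleton_subset_iff]
        show g'⁻¹ * z * g' ∈ (S : Subgroup G)
        rw [hg', inv_inv, show c * g * z * (c * g)⁻¹ = c * (g * z * g⁻¹) * c⁻¹ by group]
        exact hcS _ (mem_zpowers _))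
    have hcomm : g' ∈ centralizer ({z} : Set G) := by
      rw [hprod]
      refine mul_mem hc' (Subgroup.list_prod_mem _ fun y hy => ?_)
      obtain ⟨i, rfl⟩ := List.mem_ofFn.1 hy
      exact mem_centralizer_singleton_iff.2 (hgood _ (hD i) _ (hx i)).eq
    have hcg : c * g ∈ centralizer ({z} : Set G) := by simpa [hg'] using inv_mem hcomm
    have hgz : g ∈ centralizer ({z} : Set G) := by simpa using mul_mem (inv_mem hc) hcg
    exact mul_inv_eq_iff_eq_mul.2 (mem_centralizer_singleton_iff.1 hgz)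
  -- contradiction with simplicity
  have hodd : oddCore G = ⊥ := by
    rcases Subgroup.Normal.eq_bot_or_eq_top (show (oddCore G).Normal from inferInstance) with h | h
    · exact h
    exfalso
    have h2 := odd_card_oddCore (G := G)
    rw [h, Nat.card_congr Subgroup.topEquiv.toEquiv] at h2
    exact Nat.not_even_iff_odd.2 h2 (even_iff_two_dvd.2 (hw ▸ orderOf_dvd_natCard z))
  have hzc' := CfsgLib.Invol.zstar_center hiso hodd
  rcases Subgroup.Normal.eq_bot_or_eq_top (show (center G).Normal from inferInstance) with h | h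
  · rw [h, mem_bot] at hzc'; exact hz1 hzc'
  · exact hG ⟨⟨fun a b => (mem_center_iff.1 (h.ge (mem_top b)) a)⟩⟩

end CfsgLib.InvolChar.CyclicLocalCenter
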