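import Mathlib
import Cfsg.Agent.Lib.InvolChar.Basic
import Cfsg.Agent.Lib.Transfer.Fusion
import Cfsg.Agent.Lib.LocalEven.Coprime
import Cfsg.Agent.S0111

/-!
Groups without subgroups of index `2` having an involution with dihedral centralizer of order `8`.
-/

set_option autoImplicit false

namespace CfsgLib.InvolChar

open CfsgLib.Invol

universe u

variable {G : Type u} [Group G] [Finite G]

/-- The four elements `b, ab, a²b, a³b`. -/
theorem dihedral_facts {z a b : G} {C : Subgroup G} (hC : C = Subgroup.centralizer ({z} : Set G))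
    (hC8 : Nat.card ↥C = 8) (hz : orderOf z = 2) (haC : a ∈ C) (ha : orderOf a = 4)
    (hbC : b ∈ C) (hb : orderOf b = 2) (hba : b * a * b⁻¹ = a⁻¹) :
    a * a = z ∧ b ∉ Subgroup.zpowers a ∧
    (∀ s ∈ C, s ∈ Subgroup.zpowers a ∨ ∃ i : ℤ, s = a ^ i * b) ∧
    (∀ i : ℤ, orderOf (a ^ i * b) = 2 ∧ a ^ i * b * a * (a ^ i * b)⁻¹ = a⁻¹) ∧
    (∀ s ∈ C, s * a = a * s → s ∈ Subgroup.zpowers a) ∧
    (∀ s ∈ C, (∀ t ∈ C, t * s = s * t) → s = 1 ∨ s = z) := by
  have hbb : b * b = 1 := mul_self_of_orderOf_two hb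
  have hai : a⁻¹ ≠ a := by
    intro h
    have h2 : a ^ 2 = 1 := by rw [sq]; nth_rewrite 1 [← h]; exact inv_mul_cancel a
    have := orderOf_dvd_of_pow_eq_one h2
    rw [ha] at this; norm_num at this
  have hzp : ∀ i : ℤ, a ^ i * b * a * (a ^ i * b)⁻¹ = a⁻¹ := by
    intro i
    calc a ^ i * b * a * (a ^ i * b)⁻¹ = a ^ i * (b * a * b⁻¹) * (a ^ i)⁻¹ := by group
      _ = a⁻¹ := by rw [hba]; group
  have hbA : b ∉ Subgroup.zpowers a := by
    intro h
    obtain ⟨i, rfl⟩ := h
    apply hai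
    rw [← hba]
    show a ^ i * a * (a ^ i)⁻¹ = a
    group
  have hAC : Subgroup.zpowers a ≤ C := Subgroup.zpowers_le.2 haC
  have hidx : ((Subgroup.zpowers a).subgroupOf C).index = 2 := by
    have := ((Subgroup.zpowers a).subgroupOf C).card_mul_index
    rw [Nat.card_congr (Subgroup.subgroupOfEquivOfLe hAC).toEquiv, Nat.card_zpowers, ha, hC8] at this
    omega
  have hcov : ∀ s ∈ C, s ∈ Subgroup.zpowers a ∨ ∃ i : ℤ, s = a ^ i * b := by
    intro s hs
    by_cases hsa : s ∈ Subgroup.zpowers a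
    · exact Or.inl hsa
    right
    have := (Subgroup.mul_mem_iff_of_index_two hidx (a := (⟨s, hs⟩ : ↥C)) (b := ⟨b, hbC⟩)).2
      ⟨fun h => absurd h hsa, fun h => absurd h hbA⟩
    obtain ⟨i, hi⟩ := this
    refine ⟨i, ?_⟩
    have hi' : a ^ i = s * b := hi
    rw [hi', mul_assoc, hbb, mul_one]
  have hord : ∀ i : ℤ, orderOf (a ^ i * b) = 2 := by
    intro i
    rw [orderOf_eq_two_iff']
    refine ⟨fun h => hbA ?_, ?_⟩
    · have : b = (a ^ i)⁻¹ := (inv_eq_of_mul_eq_one_right h).symm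
      rw [this]; exact inv_mem (Subgroup.zpow_mem _ (Subgroup.mem_zpowers a) _)
    · have h1 : b * a ^ i * b⁻¹ = (a ^ i)⁻¹ := by rw [← conj_zpow, hba, inv_zpow]
      calc a ^ i * b * (a ^ i * b) = a ^ i * (b * a ^ i * b⁻¹) * (b * b) := by group
        _ = 1 := by rw [h1, hbb]; group
  have hcentA : ∀ s ∈ C, s * a = a * s → s ∈ Subgroup.zpowers a := by
    intro s hs hsa
    rcases hcov s hs with h | ⟨i, rfl⟩
    · exact h
    · exfalso; apply hai
      rw [← hzp i, hsa, mul_inv_cancel_right]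
  have hz2 : a * a = z := by
    have hzC : z ∈ C := by rw [hC]; exact Subgroup.mem_centralizer_singleton_iff.2 rfl
    have hza : z * a = a * z := by
      rw [hC] at haC; exact (Subgroup.mem_centralizer_singleton_iff.1 haC).symm
    refine mem_zpowers_unique_involution (r := a) ?_ (hcentA z hzC hza) ?_ hz
    · exact mul_mem (Subgroup.mem_zpowers a) (Subgroup.mem_zpowers a)
    · rw [← sq, orderOf_pow_of_dvd (by norm_num) (by rw [ha]; norm_num), ha]
  refine ⟨hz2, hbA, hcov, fun i => ⟨hord i, hzp i⟩, hcentA, ?_⟩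
  intro s hs hcen
  have hsA := hcentA s hs (hcen a haC).symm
  obtain ⟨i, hi⟩ := Subgroup.mem_zpowers_iff.1 hsA
  have h1 : b * s * b⁻¹ = s⁻¹ := by rw [← hi, ← conj_zpow, hba, inv_zpow]
  rw [hcen b hbC, mul_inv_cancel_right] at h1
  by_cases hs1 : s = 1
  · exact Or.inl hs1
  right
  have hso : orderOf s = 2 := orderOf_eq_two_iff'.2 ⟨hs1, by nth_rewrite 2 [h1]; exact mul_inv_cancel s⟩
  refine mem_zpowers_unique_involution (r := a) hsA ?_ hso hz
  rw [← hz2]
  exact mul_mem (Subgroup.mem_zpowers a) (Subgroup.mem_zpowers a)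

/-- Fusion consequences. -/
theorem dihedral_fusion (hG : ∀ H : Subgroup G, H.index ≠ 2) {z a b : G}
    (hC8 : Nat.card ↥(Subgroup.centralizer ({z} : Set G)) = 8) (hz : orderOf z = 2)
    (haC : a ∈ Subgroup.centralizer ({z} : Set G)) (ha : orderOf a = 4)
    (hbC : b ∈ Subgroup.centralizer ({z} : Set G)) (hb : orderOf b = 2)
    (hba : b * a * b⁻¹ = a⁻¹) :
    (∃ S : Sylow 2 G, (S : Subgroup G) = Subgroup.centralizer ({z} : Set G)) ∧
      ∀ u : G, orderOf u = 2 → IsConj z u := by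
  haveI : Fact (Nat.Prime 2) := ⟨Nat.prime_two⟩
  obtain ⟨hz2, hbA, hcov, hib, hcentA, hcen⟩ := dihedral_facts rfl hC8 hz haC ha hbC hb hba
  set C := Subgroup.centralizer ({z} : Set G) with hC
  obtain ⟨S, hS⟩ := (IsPGroup.of_card (p := 2) (G := ↥C) (n := 3) (by rw [hC8]; norm_num)).exists_le_sylow
  have hSC : (S : Subgroup G) = C := by
    refine le_antisymm ?_ hS
    haveI : Nontrivial ↥(S : Subgroup G) :=
      ⟨⟨⟨a, hS haC⟩, 1, fun h => by
        have h' : a = 1 := congrArg Subtype.val h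
        rw [h', orderOf_one] at ha; norm_num at ha⟩⟩
    haveI := S.2.center_nontrivial
    obtain ⟨w0, hw0⟩ := exists_prime_orderOf_dvd_card' (G := ↥(Subgroup.center ↥(S : Subgroup G))) 2
      ((S.2.to_subgroup _).card_eq_or_dvd.resolve_left Finite.one_lt_card.ne')
    set w : G := ((w0 : ↥(S : Subgroup G)) : G) with hw
    have hwo : orderOf w = 2 := by rw [hw, Subgroup.orderOf_coe, Subgroup.orderOf_coe, hw0]
    have hwS : ∀ s ∈ (S : Subgroup G), s * w = w * s := fun s hs =>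
      congrArg Subtype.val (Subgroup.mem_center_iff.1 w0.2 ⟨s, hs⟩)
    have hzC : z ∈ C := Subgroup.mem_centralizer_singleton_iff.2 rfl
    have hwC : w ∈ C := Subgroup.mem_centralizer_singleton_iff.2 (hwS z (hS hzC)).symm
    rcases hcen w hwC (fun t ht => hwS t (hS ht)) with h | h
    · exact absurd h (ne_one_of_orderOf_two hwo)
    · intro s hs
      refine Subgroup.mem_centralizer_singleton_iff.2 ?_
      rw [← h]; exact hwS s hs
  refine ⟨⟨S, hSC⟩, ?_⟩
  have hA : ∀ v ∈ Subgroup.zpowers a, orderOf v = 2 → v = z := by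
    intro v hv hvo
    refine mem_zpowers_unique_involution (r := a) hv ?_ hvo hz
    rw [← hz2]; exact mul_mem (Subgroup.mem_zpowers a) (Subgroup.mem_zpowers a)
  intro u hu
  obtain ⟨g, hg⟩ := CfsgLib.Transfer.exists_conj_mem_sylow S (S := Subgroup.zpowers u)
    (IsPGroup.of_card (n := 1) (by rw [Nat.card_zpowers, hu, pow_one]))
  have hv : g * u * g⁻¹ ∈ C := hSC ▸ hg u (Subgroup.mem_zpowers u)
  have hvo : orderOf (g * u * g⁻¹) = 2 := (orderOf_conj_eq g u).trans hu
  have hconj : IsConj u (g * u * g⁻¹) := isConj_iff.2 ⟨g, rfl⟩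
  by_cases hvA : g * u * g⁻¹ ∈ Subgroup.zpowers a
  · exact (hA _ hvA hvo ▸ hconj).symm
  have hAS : Subgroup.zpowers a ≤ (S : Subgroup G) := hSC ▸ Subgroup.zpowers_le.2 haC
  have hidx : (Subgroup.zpowers a).relIndex (S : Subgroup G) = 2 := by
    have := Subgroup.relIndex_mul_relIndex ⊥ (Subgroup.zpowers a) (S : Subgroup G) bot_le hAS
    rw [Subgroup.relIndex_bot_left, Subgroup.relIndex_bot_left, Nat.card_zpowers, ha, hSC, hC8] at this
    rw [hSC]; omega
  rcases Cfsg.Agent.S0111.result S _ hAS hidx _ hvo (hSC ▸ hv) hvA with ⟨M, -, hM, -⟩ | ⟨h, hh⟩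
  · exact absurd hM (hG M)
  · have h1 := hA _ hh ((orderOf_conj_eq h _).trans hvo)
    have h2 : IsConj (g * u * g⁻¹) z := h1 ▸ isConj_iff.2 ⟨h, rfl⟩
    exact (hconj.trans h2).symm

/-- Simplicity. -/
theorem dihedral_simple (hG : ∀ H : Subgroup G, H.index ≠ 2) {z a b : G}
    (hC8 : Nat.card ↥(Subgroup.centralizer ({z} : Set G)) = 8) (hz : orderOf z = 2)
    (haC : a ∈ Subgroup.centralizer ({z} : Set G)) (ha : orderOf a = 4)
    (hbC : b ∈ Subgroup.centralizer ({z} : Set G)) (hb : orderOf b = 2)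
    (hba : b * a * b⁻¹ = a⁻¹) : IsSimpleGroup G := by
  haveI : Fact (Nat.Prime 2) := ⟨Nat.prime_two⟩
  obtain ⟨hz2, hbA, hcov, hib, hcentA, hcen⟩ := dihedral_facts rfl hC8 hz haC ha hbC hb hba
  obtain ⟨⟨S, hSC⟩, hall⟩ := dihedral_fusion hG hC8 hz haC ha hbC hb hba
  haveI : Nontrivial G := ⟨⟨z, 1, ne_one_of_orderOf_two hz⟩⟩
  refine ⟨fun N hN => ?_⟩
  by_cases heven : 2 ∣ Nat.card ↥N
  · right
    obtain ⟨u, hu⟩ := exists_prime_orderOf_dvd_card' (G := ↥N) 2 heven
    have huo : orderOf (u : G) = 2 := by rw [Subgroup.orderOf_coe, hu]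
    have hinv : ∀ v : G, orderOf v = 2 → v ∈ N := by
      intro v hv
      obtain ⟨g, hg⟩ := isConj_iff.1 ((hall _ huo).symm.trans (hall v hv))
      rw [← hg]; exact hN.conj_mem _ u.2 g
    have hbN : b ∈ N := hinv b hb
    have haN : a ∈ N := by
      have h1 := hinv _ (hib 1).1
      rw [zpow_one] at h1
      simpa using mul_mem h1 (inv_mem hbN)
    have hSN : (S : Subgroup G) ≤ N := by
      rw [hSC]
      intro s hs
      rcases hcov s hs with h | ⟨i, rfl⟩
      · exact Subgroup.zpowers_le.2 haN h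
      · exact mul_mem (Subgroup.zpow_mem _ haN _) hbN
    have hfr := Sylow.normalizer_sup_eq_top' S hSN
    rw [← top_le_iff, ← hfr]
    refine sup_le ?_ le_rfl
    intro g hg
    have hgC : ∀ s ∈ Subgroup.centralizer ({z} : Set G),
        g * s * g⁻¹ ∈ Subgroup.centralizer ({z} : Set G) := by
      intro s hs
      rw [← hSC] at hs ⊢
      exact (Subgroup.mem_normalizer_iff.1 hg s).1 hs
    have hgz : g * z * g⁻¹ = z := by
      have hzC : z ∈ Subgroup.centralizer ({z} : Set G) := Subgroup.mem_centralizer_singleton_iff.2 rfl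
      refine (hcen _ (hgC z hzC) fun t ht => ?_).resolve_left
        fun h => ne_one_of_orderOf_two hz (conj_eq_one_iff.1 h)
      have ht' : g⁻¹ * t * g ∈ Subgroup.centralizer ({z} : Set G) := by
        rw [← hSC] at ht ⊢
        have := (Subgroup.mem_normalizer_iff.1 hg (g⁻¹ * t * g)).2
        exact this (by simpa [mul_assoc] using ht)
      have h1 := Subgroup.mem_centralizer_singleton_iff.1 ht'
      calc t * (g * z * g⁻¹) = g * ((g⁻¹ * t * g) * z) * g⁻¹ := by group
        _ = g * (z * (g⁻¹ * t * g)) * g⁻¹ := by rw [h1]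
        _ = g * z * g⁻¹ * t := by group
    refine hSN ?_
    rw [hSC]
    exact Subgroup.mem_centralizer_singleton_iff.2 (mul_inv_eq_iff_eq_mul.1 hgz)
  · left
    have hfix : ∀ v : G, orderOf v = 2 → ∀ n ∈ N, v * n * v⁻¹ = n⁻¹ := by
      intro v hv
      refine CfsgLib.LocalEven.inverts_of_fixedPointFree (mul_self_of_orderOf_two hv) ?_ ?_
      · rw [Subgroup.normalizer_eq_top_iff.2 hN]; exact Subgroup.mem_top v
      · intro n hn hcomm
        have hc : Nat.card ↥(Subgroup.centralizer ({v} : Set G)) = 8 :=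
          (card_centralizer_of_isConj (hall v hv)).trans hC8
        have h1 : orderOf n ∣ 8 := by
          rw [← hc]
          exact Subgroup.orderOf_dvd_natCard _ (Subgroup.mem_centralizer_singleton_iff.2 hcomm.symm)
        have h2 : orderOf n ∣ Nat.card ↥N := Subgroup.orderOf_dvd_natCard _ hn
        have h3 : Nat.Coprime (Nat.card ↥N) 8 := by
          rw [show (8 : ℕ) = 2 ^ 3 from rfl]
          exact Nat.Coprime.pow_right 3 ((Nat.prime_two.coprime_iff_not_dvd.2 heven).symm)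
        exact orderOf_eq_one_iff.1 (Nat.eq_one_of_dvd_coprimes h3 h2 h1)
    rw [Subgroup.eq_bot_iff_forall]
    intro n hn
    have hzb : orderOf (z * b) = 2 := by
      have := (hib 2).1
      rwa [zpow_two, hz2] at this
    have e1 := hfix z hz n hn
    have e2 := hfix b hb n hn
    have e3 := hfix (z * b) hzb n hn
    have e4 : z * b * n * (z * b)⁻¹ = n := by
      calc z * b * n * (z * b)⁻¹ = z * (b * n * b⁻¹) * z⁻¹ := by group
        _ = (z * n * z⁻¹)⁻¹ := by rw [e2]; group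
        _ = n := by rw [e1, inv_inv]
    rw [e4] at e3
    have h2 : n ^ 2 = 1 := by rw [sq]; nth_rewrite 2 [e3]; exact mul_inv_cancel n
    rw [← orderOf_eq_one_iff]
    have h5 := orderOf_dvd_of_pow_eq_one h2
    have h6 : orderOf n ∣ Nat.card ↥N := Subgroup.orderOf_dvd_natCard _ hn
    rcases (Nat.dvd_prime Nat.prime_two).1 h5 with h | h
    · exact h
    · exact absurd (h ▸ h6) heven

/-- The number-theoretic core. -/
theorem order_solve {m : ℕ} {x : ℤ} (hm : Odd m) (hx : Odd x)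
    (h : (m : ℤ) * (x - 1) ^ 2 = 32 * (x * (x + 1))) (hne : x + 1 ≠ 0) : m = 21 ∨ m = 45 := by
  obtain ⟨y, rfl⟩ := hx
  have h1 : (m : ℤ) * y ^ 2 = 16 * ((2 * y + 1) * (y + 1)) := by nlinarith
  have hy4 : (4 : ℤ) ∣ y := by
    have h16 : (16 : ℕ) ∣ m * y.natAbs ^ 2 := by
      have hd : (16 : ℤ) ∣ (m : ℤ) * y ^ 2 := ⟨_, h1⟩
      have h2 := Int.natAbs_dvd_natAbs.2 hd
      simpa [Int.natAbs_mul, Int.natAbs_pow] using h2
    have hc : Nat.Coprime 16 m := by
      rw [show (16 : ℕ) = 2 ^ 4 from rfl]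
      exact Nat.Coprime.pow_left 4 (Nat.coprime_two_left.2 hm)
    have h3 : 4 ^ 2 ∣ y.natAbs ^ 2 := by simpa using hc.dvd_of_dvd_mul_left h16
    have h4 := (Nat.pow_dvd_pow_iff (by norm_num)).1 h3
    exact Int.natCast_dvd.2 h4
  obtain ⟨w, rfl⟩ := hy4
  have h5 : (m : ℤ) * w ^ 2 = (8 * w + 1) * (4 * w + 1) := by nlinarith
  have hw : w ∣ 1 := ⟨(m : ℤ) * w - 32 * w - 12, by nlinarith⟩
  rcases Int.isUnit_iff.1 (isUnit_of_dvd_one hw) with rfl | rfl
  · right; norm_num at h5; omega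
  · left; norm_num at h5; omega

set_option maxHeartbeats 1000000 in
/-- An involution with dihedral centralizer of order `8` in a group without subgroups of index `2`:
the group is simple of order `168` or `360`. -/
theorem dihedral_eight (hG : ∀ H : Subgroup G, H.index ≠ 2) {z a b : G}
    (hC8 : Nat.card ↥(Subgroup.centralizer ({z} : Set G)) = 8) (hz : orderOf z = 2)
    (haC : a ∈ Subgroup.centralizer ({z} : Set G)) (ha : orderOf a = 4)
    (hbC : b ∈ Subgroup.centralizer ({z} : Set G)) (hb : orderOf b = 2)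
    (hba : b * a * b⁻¹ = a⁻¹) : IsSimpleGroup G ∧ (Nat.card G = 168 ∨ Nat.card G = 360) := by
  classical
  haveI : Fact (Nat.Prime 2) := ⟨Nat.prime_two⟩
  refine ⟨dihedral_simple hG hC8 hz haC ha hbC hb hba, ?_⟩
  obtain ⟨hz2, hbA, hcov, hib, hcentA, hcen⟩ := dihedral_facts rfl hC8 hz haC ha hbC hb hba
  obtain ⟨⟨S, hSC⟩, hall⟩ := dihedral_fusion hG hC8 hz haC ha hbC hb hba
  set C := Subgroup.centralizer ({z} : Set G) with hC
  have hzz : z * z = 1 := mul_self_of_orderOf_two hz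
  have hz1 : z ≠ 1 := ne_one_of_orderOf_two hz
  have ha4 : a ^ 4 = 1 := ha ▸ pow_orderOf_eq_one a
  have haa : a * a * (a * a) = 1 := by rw [hz2]; exact hzz
  have ha1 : a ≠ 1 := by rintro rfl; rw [orderOf_one] at ha; norm_num at ha
  have hreal : IsConj a a⁻¹ := isConj_iff.2 ⟨b, hba⟩
  have hCa : Subgroup.centralizer ({a} : Set G) = Subgroup.zpowers a := by
    refine le_antisymm ?_ (Subgroup.zpowers_le.2 (Subgroup.mem_centralizer_singleton_iff.2 rfl))
    intro s hs
    have hsa := Subgroup.mem_centralizer_singleton_iff.1 hs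
    refine hcentA s (Subgroup.mem_centralizer_singleton_iff.2 ?_) hsa
    rw [← hz2, ← mul_assoc, hsa, mul_assoc, hsa, mul_assoc]
  have hCa4 : Nat.card ↥(Subgroup.centralizer ({a} : Set G)) = 4 := by
    rw [hCa, Nat.card_zpowers, ha]
  have hnc1 : ¬ IsConj z a := fun h => by
    have := orderOf_eq_of_isConj h; omega
  -- the value tables
  choose va hva hpar using fun χ : Cfsg.IrrCharacter G => exists_int_value_four χ ha4 hreal haa
  have hpar' : ∀ χ, Even (intVal χ hzz - va χ) := by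
    intro χ
    have h := intVal_isConj χ haa hzz (by rw [hz2])
    rw [← h]; exact hpar χ
  -- pairs of involutions with given product
  let Tset : Set G := {u | u ∈ C ∧ u ∉ Subgroup.zpowers a}
  have hT : Tset.ncard = 4 := by
    have h1 : Tset = (C : Set G) \ (Subgroup.zpowers a : Set G) := rfl
    rw [h1, Set.ncard_sdiff (SetLike.coe_subset_coe.2 (Subgroup.zpowers_le.2 haC)), ← Nat.card_coe_set_eq,
      ← Nat.card_coe_set_eq, SetLike.coe_sort_coe, SetLike.coe_sort_coe, hC8, Nat.card_zpowers, ha]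
  have hTinv : ∀ u ∈ Tset, orderOf u = 2 ∧ u * a * u⁻¹ = a⁻¹ := by
    rintro u ⟨huC, huA⟩
    rcases hcov u huC with h | ⟨i, rfl⟩
    · exact absurd h huA
    · exact hib i
  have hmove : ∀ u v c : G, IsConj z u → u * v = c → u * c = v := by
    intro u v c hu huv
    rw [← huv, ← mul_assoc, mul_self_of_orderOf_two ((orderOf_eq_of_isConj hu).symm.trans hz), one_mul]
  have pairs : ∀ c : G, (∀ u : G, orderOf u = 2 → orderOf (u * c) = 2 → u ∈ Tset) →
      (∀ u ∈ Tset, orderOf (u * c) = 2) →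
      Nat.card {p : G × G // IsConj z p.1 ∧ IsConj z p.2 ∧ p.1 * p.2 = c} = 4 := by
    intro c h1 h2
    rw [← hT, ← Nat.card_coe_set_eq]
    refine Nat.card_congr
      { toFun := fun p => ⟨p.1.1, h1 _ ((orderOf_eq_of_isConj p.2.1).symm.trans hz) (by
          rw [hmove _ _ _ p.2.1 p.2.2.2]
          exact (orderOf_eq_of_isConj p.2.2.1).symm.trans hz)⟩
        invFun := fun u => ⟨((u : G), (u : G) * c), hall _ (hTinv _ u.2).1, hall _ (h2 _ u.2), by
          rw [← mul_assoc, mul_self_of_orderOf_two (hTinv _ u.2).1, one_mul]⟩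
        left_inv := fun p => ?_
        right_inv := fun u => rfl }
    apply Subtype.ext
    refine Prod.ext rfl ?_
    show p.1.1 * c = p.1.2
    exact hmove _ _ _ p.2.1 p.2.2.2
  have pz : Nat.card {p : G × G // IsConj z p.1 ∧ IsConj z p.2 ∧ p.1 * p.2 = z} = 4 := by
    refine pairs z ?_ ?_
    · intro u hu huz
      have huC : u ∈ C := by
        refine Subgroup.mem_centralizer_singleton_iff.2 ?_
        have h3 := inv_eq_of_orderOf_two huz
        rw [mul_inv_rev, inv_eq_of_orderOf_two hu, inv_eq_of_orderOf_two hz] at h3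
        exact h3.symm
      refine ⟨huC, fun huA => ?_⟩
      have : u = z := mem_zpowers_unique_involution (r := a) huA
        (hz2 ▸ mul_mem (Subgroup.mem_zpowers a) (Subgroup.mem_zpowers a)) hu hz
      rw [this, hzz, orderOf_one] at huz; norm_num at huz
    · rintro u ⟨huC, huA⟩
      rcases hcov u huC with h | ⟨i, rfl⟩
      · exact absurd h huA
      · have h2 := (hib (i - 2)).1
        have e : a ^ i * b * z = a ^ (i - 2) * b := by
          have h3 : b * z = z⁻¹ * b := by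
            rw [inv_eq_of_orderOf_two hz]; exact Subgroup.mem_centralizer_singleton_iff.1 hbC
          rw [mul_assoc, h3, ← mul_assoc, zpow_sub, zpow_two, hz2]
        rw [e]; exact h2
  have pa : Nat.card {p : G × G // IsConj z p.1 ∧ IsConj z p.2 ∧ p.1 * p.2 = a} = 4 := by
    refine pairs a ?_ ?_
    · intro u hu hua
      have h3 := inv_eq_of_orderOf_two hua
      rw [mul_inv_rev, inv_eq_of_orderOf_two hu] at h3
      have hinv : u * a * u⁻¹ = a⁻¹ := by rw [← h3, mul_inv_cancel_right]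
      have huz : u * z * u⁻¹ = z := by
        calc u * z * u⁻¹ = (u * a * u⁻¹) * (u * a * u⁻¹) := by rw [← hz2]; group
          _ = z⁻¹ := by rw [hinv, ← mul_inv_rev, hz2]
          _ = z := inv_eq_of_orderOf_two hz
      refine ⟨Subgroup.mem_centralizer_singleton_iff.2 (mul_inv_eq_iff_eq_mul.1 huz), fun huA => ?_⟩
      obtain ⟨i, rfl⟩ := Subgroup.mem_zpowers_iff.1 huA
      have : a⁻¹ = a := by
        calc a⁻¹ = a ^ i * a * (a ^ i)⁻¹ := hinv.symm
          _ = a := by group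
      have h2 : a ^ 2 = 1 := by rw [sq]; nth_rewrite 1 [← this]; exact inv_mul_cancel a
      have := orderOf_dvd_of_pow_eq_one h2
      rw [ha] at this; norm_num at this
    · rintro u ⟨huC, huA⟩
      rcases hcov u huC with h | ⟨i, rfl⟩
      · exact absurd h huA
      · have e : a ^ i * b * a = a ^ (i - 1) * b := by
          calc a ^ i * b * a = a ^ i * (b * a * b⁻¹) * b := by group
            _ = a ^ (i - 1) * b := by rw [hba, zpow_sub_one]
        rw [e]; exact (hib (i - 1)).1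
  have Pz := pairs_eq_gen z z z (fun χ => intVal χ hzz) (fun χ => intVal χ hzz) (fun χ => intVal χ hzz)
    (fun χ => intVal_spec χ hzz) (fun χ => intVal_spec χ hzz) (fun χ => intVal_spec χ hzz)
  have Pa := pairs_eq_gen z z a (fun χ => intVal χ hzz) (fun χ => intVal χ hzz) va
    (fun χ => intVal_spec χ hzz) (fun χ => intVal_spec χ hzz) hva
  rw [hC8, pz] at Pz
  rw [hC8, pa] at Pa
  have Sz := sum_intVal_sq (G := G) hzz
  rw [hC8] at Sz
  have Dz := sum_deg_mul_intVal hzz hz1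
  have Sa : ∑ χ : Cfsg.IrrCharacter G, va χ ^ 2 = 4 := by
    haveI := Fintype.ofFinite G
    have h := CfsgLib.Char.second_orthogonality a a
    rw [if_pos (IsConj.refl a), hCa4] at h
    simp only [hva, map_intCast] at h
    have h2 : ((∑ χ : Cfsg.IrrCharacter G, va χ ^ 2 : ℤ) : ℂ) = ((4 : ℤ) : ℂ) := by
      push_cast
      rw [← show ((4 : ℕ) : ℂ) = (4 : ℂ) by norm_num, ← h]
      exact Finset.sum_congr rfl fun χ _ => sq _
    exact_mod_cast h2
  have Saz : ∑ χ : Cfsg.IrrCharacter G, intVal χ hzz * va χ = 0 := by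
    haveI := Fintype.ofFinite G
    have h := CfsgLib.Char.second_orthogonality z a
    rw [if_neg hnc1] at h
    simp only [hva, fun χ : Cfsg.IrrCharacter G => intVal_spec χ hzz, map_intCast] at h
    exact_mod_cast h
  have Da : ∑ χ : Cfsg.IrrCharacter G, (deg χ : ℤ) * va χ = 0 := by
    haveI := Fintype.ofFinite G
    have h := CfsgLib.Char.sum_degree_mul_apply a
    rw [if_neg ha1] at h
    simp only [hva, fun χ : Cfsg.IrrCharacter G => deg_spec χ] at h
    exact_mod_cast h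
  set one : Cfsg.IrrCharacter G := CfsgLib.Char.irrOne with hone
  set w : Cfsg.IrrCharacter G → ℤ := fun χ => intVal χ hzz with hwdef
  have hw1 : w one = 1 := intVal_irrOne hzz
  have hv1 : va one = 1 := by
    have h := hva one
    rw [hone, CfsgLib.Char.irrOne_apply] at h
    exact_mod_cast h.symm
  have hd1 : deg one = 1 := deg_irrOne
  set T := (Finset.univ.erase one).filter (fun χ => va χ ≠ 0) with hTdef
  set R := (Finset.univ.erase one).filter (fun χ => va χ = 0 ∧ w χ ≠ 0) with hRdef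
  have hsplit : ∀ {M : Type} [AddCommMonoid M] (F : Cfsg.IrrCharacter G → M),
      (∀ χ, va χ = 0 → w χ = 0 → F χ = 0) →
      ∑ χ, F χ = F one + (∑ χ ∈ T, F χ + ∑ χ ∈ R, F χ) := by
    intro M _ F hF
    rw [← Finset.add_sum_erase _ F (Finset.mem_univ one)]
    congr 1
    rw [← Finset.sum_filter_add_sum_filter_not (Finset.univ.erase one) (fun χ => va χ ≠ 0) F]
    congr 1
    symm
    refine Finset.sum_subset ?_ ?_
    · intro χ hχ
      simp only [R, Finset.mem_filter] at hχ ⊢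
      exact ⟨hχ.1, not_not.2 hχ.2.1⟩
    · intro χ hχ hχ'
      simp only [R, Finset.mem_filter, not_and, not_not] at hχ hχ'
      exact hF χ hχ.2 (hχ' hχ.1 hχ.2)
  have hR0 : ∀ χ ∈ R, va χ = 0 := fun χ hχ => (Finset.mem_filter.1 hχ).2.1
  have hzero : ∀ (F : Cfsg.IrrCharacter G → ℤ), (∀ χ, va χ = 0 → F χ = 0) → ∑ χ ∈ R, F χ = 0 :=
    fun F hF => Finset.sum_eq_zero fun χ hχ => hF χ (hR0 χ hχ)
  change (∑ χ, w χ ^ 2) = _ at Sz
  change (∑ χ, w χ * va χ) = _ at Saz
  change (∑ χ, (deg χ : ℤ) * w χ) = _ at Dz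
  rw [hsplit _ (fun χ h h' => by rw [h']; norm_num), hw1] at Sz
  rw [hsplit _ (fun χ h h' => by rw [h]; norm_num), hzero _ (fun χ h => by rw [h]; norm_num), hv1] at Sa
  rw [hsplit _ (fun χ h h' => by rw [h]; norm_num), hzero _ (fun χ h => by rw [h]; norm_num), hv1, hw1] at Saz
  rw [hsplit _ (fun χ h h' => by rw [h]; norm_num), hzero _ (fun χ h => by rw [h]; norm_num), hv1, hd1] at Da
  rw [hsplit _ (fun χ h h' => by rw [h']; norm_num), hw1, hd1] at Dz
  -- the values on `T`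
  have hva1 : ∀ χ ∈ T, va χ = 1 ∨ va χ = -1 := by
    intro χ hχ
    have h0 : va χ ≠ 0 := (Finset.mem_filter.1 hχ).2
    have h3 : va χ ^ 2 ≤ 3 := by
      have := Finset.single_le_sum (f := fun χ => va χ ^ 2) (fun i _ => sq_nonneg _) hχ
      omega
    have : -2 < va χ ∧ va χ < 2 := by constructor <;> nlinarith
    omega
  have hcardT : T.card = 3 := by
    have : ∑ χ ∈ T, va χ ^ 2 = T.card := by
      rw [Finset.sum_congr rfl fun χ hχ => show va χ ^ 2 = 1 by
        rcases hva1 χ hχ with h | h <;> rw [h] <;> norm_num]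
      simp
    omega
  have hwodd : ∀ χ ∈ T, Odd (w χ) := by
    intro χ hχ
    obtain ⟨k, hk⟩ := hpar' χ
    rcases hva1 χ hχ with h | h
    · exact ⟨k, by simp only [w]; omega⟩
    · exact ⟨k - 1, by simp only [w]; omega⟩
  have hRw : ∀ χ ∈ R, 4 ≤ w χ ^ 2 := by
    intro χ hχ
    obtain ⟨k, hk⟩ := hpar' χ
    rw [hR0 χ hχ, sub_zero] at hk
    have hne : w χ ≠ 0 := (Finset.mem_filter.1 hχ).2.2
    have hk' : w χ = 2 * k := by simp only [w]; omega
    have : k ≠ 0 := by rintro rfl; exact hne (by rw [hk']; norm_num)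
    rw [hk']
    nlinarith [Int.one_le_abs this, sq_abs k]
  have hTw : ∀ χ ∈ T, 1 ≤ w χ ^ 2 := by
    intro χ hχ
    obtain ⟨k, hk⟩ := hwodd χ hχ
    rw [hk]
    rcases le_or_gt 0 k with hk0 | hk0 <;> nlinarith
  have hw1T : ∀ χ ∈ T, w χ = 1 ∨ w χ = -1 := by
    intro χ hχ
    have h1 := Finset.sum_le_sum (s := T.erase χ) fun ψ hψ => hTw ψ (Finset.mem_of_mem_erase hψ)
    rw [Finset.sum_const, Finset.card_erase_of_mem hχ, hcardT] at h1
    have h2 := Finset.add_sum_erase T (fun χ => w χ ^ 2) hχ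
    have h3 : (0 : ℤ) ≤ ∑ χ ∈ R, w χ ^ 2 := Finset.sum_nonneg fun _ _ => sq_nonneg _
    norm_num at h1
    have h4 : w χ ^ 2 ≤ 5 := by omega
    obtain ⟨k, hk⟩ := hwodd χ hχ
    have : -3 < w χ ∧ w χ < 3 := by constructor <;> nlinarith
    omega
  have hR4 : ∑ χ ∈ R, w χ ^ 2 = 4 := by
    have : ∑ χ ∈ T, w χ ^ 2 = 3 := by
      rw [Finset.sum_congr rfl fun χ hχ => show w χ ^ 2 = 1 by
        rcases hw1T χ hχ with h | h <;> rw [h] <;> norm_num]
      simp [hcardT]
    omega
  have hR1 : R.card = 1 := by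
    have h1 := Finset.sum_le_sum hRw
    rw [Finset.sum_const, hR4, nsmul_eq_mul] at h1
    have h2 : R.card ≠ 0 := by
      intro h
      rw [Finset.card_eq_zero.1 h] at hR4; simp at hR4
    omega
  obtain ⟨D, hD⟩ := Finset.card_eq_one.1 hR1
  rw [hD, Finset.sum_singleton] at hR4 Dz
  have hDR : D ∈ R := hD ▸ Finset.mem_singleton_self D
  -- one element of `T` with equal values
  set P := T.filter (fun χ => w χ * va χ = 1) with hP
  have hPn : ∀ χ ∈ T.filter (fun χ => ¬ w χ * va χ = 1), w χ * va χ = -1 := by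
    intro χ hχ
    obtain ⟨hχT, hne⟩ := Finset.mem_filter.1 hχ
    rcases hw1T χ hχT with h | h <;> rcases hva1 χ hχT with h' | h' <;> rw [h, h'] at hne ⊢ <;>
      simp at hne ⊢
  have hP1 : P.card = 1 := by
    rw [← Finset.sum_filter_add_sum_filter_not T (fun χ => w χ * va χ = 1),
      Finset.sum_congr rfl (fun χ hχ => (Finset.mem_filter.1 hχ).2), Finset.sum_congr rfl hPn,
      Finset.sum_const, Finset.sum_const] at Saz
    have := Finset.card_filter_add_card_filter_not (s := T) (fun χ => w χ * va χ = 1)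
    rw [hcardT] at this
    rw [hP] at *
    simp only [nsmul_eq_mul, mul_one, mul_neg] at Saz
    omega
  obtain ⟨Cc, hCc⟩ := Finset.card_eq_one.1 hP1
  have hCT : Cc ∈ T := (Finset.mem_filter.1 (hCc ▸ Finset.mem_singleton_self Cc : Cc ∈ P)).1
  have hCeq : w Cc = va Cc := by
    have h := (Finset.mem_filter.1 (hCc ▸ Finset.mem_singleton_self Cc : Cc ∈ P)).2
    revert h
    rcases hw1T Cc hCT with h1 | h1 <;> rcases hva1 Cc hCT with h2 | h2 <;> rw [h1, h2] <;> decide
  have hE : ∀ χ ∈ T.erase Cc, w χ = -va χ := by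
    intro χ hχ
    obtain ⟨hne, hχT⟩ := Finset.mem_erase.1 hχ
    have hn : ¬ w χ * va χ = 1 := fun h => hne (Finset.mem_singleton.1
      (hCc ▸ Finset.mem_filter.2 ⟨hχT, h⟩ : χ ∈ ({Cc} : Finset _)))
    have h := hPn χ (Finset.mem_filter.2 ⟨hχT, hn⟩)
    revert h
    rcases hw1T χ hχT with h1 | h1 <;> rcases hva1 χ hχT with h2 | h2 <;> rw [h1, h2] <;> decide
  set x : ℤ := va Cc * (deg Cc : ℤ) with hxdef
  set SE : ℤ := ∑ χ ∈ T.erase Cc, (deg χ : ℤ) * va χ with hSE
  have eDa : 1 + x + SE = 0 := by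
    rw [← Finset.add_sum_erase T _ hCT, ← hSE] at Da
    rw [hxdef]; push_cast at Da; linarith
  have eDz : 1 + x - SE + w D * (deg D : ℤ) = 0 := by
    rw [← Finset.add_sum_erase T _ hCT, hCeq] at Dz
    have : ∑ χ ∈ T.erase Cc, (deg χ : ℤ) * w χ = -SE := by
      rw [hSE, ← Finset.sum_neg_distrib]
      exact Finset.sum_congr rfl fun χ hχ => by rw [hE χ hχ]; ring
    rw [this] at Dz
    rw [hxdef]; push_cast at Dz; linarith
  have eD : w D * (deg D : ℤ) = -2 * (1 + x) := by linarith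
  have hwD : w D ^ 2 = 4 := hR4
  have hx1 : x + 1 ≠ 0 := by
    intro h
    have : w D * (deg D : ℤ) = 0 := by rw [eD]; linarith
    rcases mul_eq_zero.1 this with h' | h'
    · rw [h'] at hwD; norm_num at hwD
    · exact (deg_pos D).ne' (by exact_mod_cast h')
  -- rational equations
  have fD : (0 : ℚ) < (deg D : ℚ) := by exact_mod_cast deg_pos D
  have fC : (0 : ℚ) < (deg Cc : ℚ) := by exact_mod_cast deg_pos Cc
  set RE : ℚ := ∑ χ ∈ T.erase Cc, (va χ : ℚ) / (deg χ : ℚ) with hRE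
  have eC : va Cc * va Cc = 1 := by rcases hva1 Cc hCT with h | h <;> rw [h] <;> norm_num
  have qC : (va Cc : ℚ) / (deg Cc : ℚ) = 1 / (x : ℚ) := by
    have e' : (va Cc : ℚ) * (va Cc : ℚ) = 1 := by exact_mod_cast eC
    have hx0 : (x : ℚ) = (va Cc : ℚ) * (deg Cc : ℚ) := by rw [hxdef]; push_cast; ring
    have hne : (va Cc : ℚ) ≠ 0 := left_ne_zero_of_mul_eq_one e'
    rw [hx0]
    field_simp
    linear_combination e'
  have hsum : ∀ (F : Cfsg.IrrCharacter G → ℤ),
      (∀ χ, va χ = 0 → w χ = 0 → F χ = 0) →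
      ∑ χ, (F χ : ℚ) / (deg χ : ℚ) = (F one : ℚ) +
        ((F Cc : ℚ) / (deg Cc : ℚ) + ∑ χ ∈ T.erase Cc, (F χ : ℚ) / (deg χ : ℚ) +
          (F D : ℚ) / (deg D : ℚ)) := by
    intro F hF
    rw [hsplit (fun χ => (F χ : ℚ) / (deg χ : ℚ)) (fun χ h h' => by rw [hF χ h h']; simp), hD,
      Finset.sum_singleton, ← Finset.add_sum_erase T _ hCT, hd1]
    simp
  rw [hsum (fun χ => w χ * w χ * w χ) (fun χ _ h => by rw [h]; ring)] at Pz
  rw [hsum (fun χ => w χ * w χ * va χ) (fun χ h _ => by rw [h]; ring)] at Pa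
  have s1 : ∑ χ ∈ T.erase Cc, ((w χ * w χ * w χ : ℤ) : ℚ) / (deg χ : ℚ) = -RE := by
    rw [hRE, ← Finset.sum_neg_distrib]
    refine Finset.sum_congr rfl fun χ hχ => ?_
    rw [hE χ hχ]
    rcases hva1 χ (Finset.mem_of_mem_erase hχ) with h | h <;> rw [h] <;> push_cast <;> ring
  have s2 : ∑ χ ∈ T.erase Cc, ((w χ * w χ * va χ : ℤ) : ℚ) / (deg χ : ℚ) = RE := by
    rw [hRE]
    refine Finset.sum_congr rfl fun χ hχ => ?_
    rw [hE χ hχ]
    rcases hva1 χ (Finset.mem_of_mem_erase hχ) with h | h <;> rw [h] <;> push_cast <;> ring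
  rw [s1] at Pz
  rw [s2, hR0 D hDR] at Pa
  rw [hw1, hCeq, eC] at Pz Pa
  rw [hv1] at Pa
  push_cast at Pz Pa
  simp only [one_mul, mul_zero, zero_div, add_zero] at Pz Pa
  rw [qC] at Pz Pa
  have qD : ((w D : ℚ) * (w D : ℚ) * (w D : ℚ)) / (deg D : ℚ) = -8 / (1 + (x : ℚ)) := by
    have hD' : (w D : ℚ) * (deg D : ℚ) = -2 * (1 + (x : ℚ)) := by exact_mod_cast eD
    have h4 : (w D : ℚ) * (w D : ℚ) = 4 := by
      rw [← pow_two]; exact_mod_cast hwD
    have h1x : (1 + (x : ℚ)) ≠ 0 := by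
      have : ((x + 1 : ℤ) : ℚ) ≠ 0 := by exact_mod_cast hx1
      push_cast at this
      intro h; apply this; linarith
    rw [div_eq_div_iff fD.ne' h1x]
    linear_combination ((w D : ℚ) * (1 + (x : ℚ)) - 2 * (deg D : ℚ)) * h4 + 2 * (w D : ℚ) * hD'
  rw [qD] at Pz
  have hxodd : Odd x := by
    rw [hxdef]
    obtain ⟨k, hk⟩ := intVal_parity Cc hzz
    obtain ⟨l, hl⟩ := hwodd Cc hCT
    have hodd : Odd (deg Cc : ℤ) := ⟨k + l, by simp only [w] at hl; omega⟩
    refine Int.odd_mul.2 ⟨?_, hodd⟩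
    rcases hva1 Cc hCT with h | h <;> rw [h] <;> decide
  have hcardG : 8 * (S : Subgroup G).index = Nat.card G := by
    rw [← (S : Subgroup G).card_mul_index, hSC, hC8]
  set m := (S : Subgroup G).index with hm
  have hmodd : Odd m := Nat.odd_iff.2 (Nat.two_dvd_ne_zero.1 S.not_dvd_index)
  have hx0 : (x : ℚ) ≠ 0 := by
    have : x ≠ 0 := fun h => by rw [h] at hxodd; exact (Int.not_odd_iff_even.2 (by decide)) hxodd
    exact_mod_cast this
  have h1x : (1 + (x : ℚ)) ≠ 0 := by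
    have : ((x + 1 : ℤ) : ℚ) ≠ 0 := by exact_mod_cast hx1
    push_cast at this
    intro h; apply this; linarith
  have hfin : (m : ℚ) * ((x : ℚ) - 1) ^ 2 = 32 * ((x : ℚ) * ((x : ℚ) + 1)) := by
    rw [← hcardG] at Pz Pa
    push_cast at Pz Pa
    have key : (512 : ℚ) = 8 * (m : ℚ) * (2 + 2 * (1 / (x : ℚ)) + -8 / (1 + (x : ℚ))) := by
      linarith
    have key2 : (512 : ℚ) * ((x : ℚ) * (1 + (x : ℚ))) =
        8 * (m : ℚ) * (2 * ((x : ℚ) * (1 + (x : ℚ))) + 2 * (1 + (x : ℚ)) - 8 * (x : ℚ)) := by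
      rw [key]; field_simp; ring
    linear_combination -(1 / 16) * key2
  have hfinZ : (m : ℤ) * (x - 1) ^ 2 = 32 * (x * (x + 1)) := by exact_mod_cast hfin
  rcases order_solve hmodd hxodd hfinZ hx1 with h | h
  · left; omega
  · right; omega

end CfsgLib.InvolChar
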