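import Mathlib

/-!
A criterion for a graph given by `fromRel` to be connected of diameter two.
-/

set_option autoImplicit false

namespace CfsgLib.InvolChar.DiamTwo

theorem connected_diam_two {V : Type*} (r : V → V → Prop) (hsymm : ∀ x y, r x y → r y x)
    (hcn : ∀ x y, x ≠ y → ¬ r x y → ∃ z, r x z ∧ r y z)
    (hex : ∃ x y, x ≠ y ∧ ¬ r x y) :
    (SimpleGraph.fromRel r).Connected ∧ (SimpleGraph.fromRel r).diam = 2 := by
  set H := SimpleGraph.fromRel r with hH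
  obtain ⟨a, b, hab, hnr⟩ := hex
  haveI : Nonempty V := ⟨a⟩
  have hadj : ∀ x y, H.Adj x y ↔ x ≠ y ∧ r x y := by
    intro x y
    rw [hH, SimpleGraph.fromRel_adj]
    exact ⟨fun ⟨h1, h2⟩ => ⟨h1, h2.elim id (hsymm y x)⟩, fun ⟨h1, h2⟩ => ⟨h1, Or.inl h2⟩⟩
  have key : ∀ x y, x ≠ y → ¬ r x y → H.edist x y = 2 := by
    intro x y hne hn
    rw [SimpleGraph.edist_eq_two_iff]
    refine ⟨hne, fun h => hn ((hadj x y).1 h).2, ?_⟩
    obtain ⟨z, hxz, hyz⟩ := hcn x y hne hn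
    have hzx : x ≠ z := by
      rintro rfl
      exact hn (hsymm _ _ hyz)
    have hzy : y ≠ z := by
      rintro rfl
      exact hn hxz
    exact ⟨z, (SimpleGraph.mem_commonNeighbors _).2 ⟨(hadj x z).2 ⟨hzx, hxz⟩, (hadj y z).2 ⟨hzy, hyz⟩⟩⟩
  have hle : ∀ x y, H.edist x y ≤ 2 := by
    intro x y
    rcases eq_or_ne x y with rfl | hne
    · simp
    by_cases hn : r x y
    · rw [SimpleGraph.edist_eq_one_iff_adj.2 ((hadj x y).2 ⟨hne, hn⟩)]
      norm_num
    · exact (key x y hne hn).le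
  refine ⟨⟨fun x y => SimpleGraph.reachable_of_edist_ne_top (ne_top_of_le_ne_top (by simp) (hle x y))⟩, ?_⟩
  have h2 : H.ediam = 2 :=
    le_antisymm (SimpleGraph.ediam_le_of_edist_le hle) (key a b hab hnr ▸ SimpleGraph.edist_le_ediam)
  rw [SimpleGraph.diam, h2]
  rfl

end CfsgLib.InvolChar.DiamTwo
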