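import Mathlib
import Cfsg.Agent.Lib.Solvable.UniqueSubgroup

/-!
Non-abelian groups of order 64 with a fixed-point-free automorphism of order 3.
-/

set_option autoImplicit false

namespace CfsgLib.FpfSixtyFour

open Subgroup

variable {T : Type*} [Group T] [Finite T]

/-- The commutator. -/
def κ (u v : T) : T := u * v * u⁻¹ * v⁻¹

/-- An automorphism of period three without fixed points. -/
structure Fpf (ρ : T ≃* T) : Prop where
  cube : ∀ y, ρ (ρ (ρ y)) = y
  fixed : ∀ y, ρ y = y → y = 1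

variable {ρ : T ≃* T} (h : Fpf ρ)
include h

theorem Fpf.prod_eq_one (y : T) : y * ρ y * ρ (ρ y) = 1 := by
  have hn : (ρ.toMonoidHom : T → T)^[3] = _root_.id := funext h.cube
  have := MonoidHom.FixedPointFree.prod_pow_eq_one (φ := ρ.toMonoidHom) h.fixed hn y
  simpa [List.range_succ, mul_assoc] using this

theorem Fpf.rho_two (y : T) : ρ (ρ y) = (y * ρ y)⁻¹ :=
  (inv_eq_of_mul_eq_one_right (h.prod_eq_one y)).symm

omit [Finite T] in
theorem Fpf.rho_symm : Fpf ρ.symm := by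
  refine ⟨fun y => ρ.injective (ρ.injective (ρ.injective ?_)), fun y hy => h.fixed y ?_⟩
  · simp [h.cube]
  · conv_lhs => rw [← hy, ρ.apply_symm_apply]

/-- An element commutes with its image. -/
theorem Fpf.commute_rho (y : T) : y * ρ y = ρ y * y := by
  have h1 := h.prod_eq_one y
  have h2 := (h.rho_symm).prod_eq_one y
  have e1 : ρ.symm y = ρ (ρ y) := ρ.injective (by rw [ρ.apply_symm_apply, h.cube])
  have e2 : ρ.symm (ρ.symm y) = ρ y := ρ.injective (by rw [ρ.apply_symm_apply, e1])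
  rw [e2, e1] at h2
  have h3 : ρ (ρ y) = (ρ y * y)⁻¹ := by
    refine eq_inv_of_mul_eq_one_left ?_
    calc ρ (ρ y) * (ρ y * y) = y⁻¹ * (y * ρ (ρ y) * ρ y) * y := by group
      _ = 1 := by rw [h2, mul_one, inv_mul_cancel]
  rw [h.rho_two] at h3
  exact inv_injective h3

/-- Invariant subgroups have order congruent to one modulo three. -/
theorem Fpf.card_mod_three (K : Subgroup T) (hK : ∀ y ∈ K, ρ y ∈ K) : Nat.card K % 3 = 1 := by
  classical
  haveI : Fact (Nat.Prime 3) := ⟨Nat.prime_three⟩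
  let f : Equiv.Perm ↥K :=
    ⟨fun y => ⟨ρ y, hK _ y.2⟩, fun y => ⟨ρ (ρ y), hK _ (hK _ y.2)⟩,
      fun y => Subtype.ext (h.cube _), fun y => Subtype.ext (h.cube _)⟩
  have hf3 : f ^ 3 = 1 := Equiv.ext fun y => Subtype.ext (h.cube _)
  have hp : IsPGroup 3 (Subgroup.zpowers f) := fun g => ⟨1, by
    obtain ⟨k, hk⟩ := g.2
    apply Subtype.ext
    rw [SubmonoidClass.coe_pow, ← hk, pow_one, ← zpow_natCast, ← zpow_mul, mul_comm, zpow_mul,
      zpow_natCast, hf3, one_zpow]
    rfl⟩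
  have := hp.card_modEq_card_fixedPoints ↥K
  have h1 : Nat.card (MulAction.fixedPoints (Subgroup.zpowers f) ↥K) = 1 := by
    rw [Nat.card_eq_one_iff_exists]
    have hone : f 1 = 1 := Subtype.ext (map_one ρ)
    refine ⟨⟨1, fun g => ?_⟩, fun y => Subtype.ext (Subtype.ext ?_)⟩
    · obtain ⟨k, hk⟩ := g.2
      show (g : Equiv.Perm ↥K) 1 = 1
      rw [← hk]
      exact Equiv.Perm.zpow_apply_eq_self_of_apply_eq_self hone k
    · exact h.fixed _ (congrArg Subtype.val (y.2 ⟨f, Subgroup.mem_zpowers f⟩))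
  rw [h1] at this
  exact this

theorem Fpf.abelian_gen_invariant (u : T) (K : Subgroup T) (hK : ∀ y ∈ K, ρ y ∈ K) :
    ∀ y ∈ Subgroup.closure ({u, ρ u} ∪ (K : Set T)), ρ y ∈ Subgroup.closure ({u, ρ u} ∪ (K : Set T)) := by
  intro y hy
  induction hy using Subgroup.closure_induction with
  | mem y hy =>
    rcases hy with (rfl | rfl) | hy
    · exact Subgroup.subset_closure (Or.inl (Or.inr rfl))
    · rw [h.rho_two]
      exact inv_mem (mul_mem (Subgroup.subset_closure (Or.inl (Or.inl rfl))) (Subgroup.subset_closure (Or.inl (Or.inr rfl))))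
    · exact Subgroup.subset_closure (Or.inr (hK _ hy))
  | one => rw [map_one]; exact one_mem _
  | mul a b _ _ ha hb => rw [map_mul]; exact mul_mem ha hb
  | inv a _ ha => rw [map_inv]; exact inv_mem ha

omit h [Finite T] in
theorem center_invariant (ρ : T ≃* T) : ∀ y ∈ Subgroup.center T, ρ y ∈ Subgroup.center T := fun y hy =>
  Subgroup.mem_center_iff.2 fun b => by
    obtain ⟨b', rfl⟩ := ρ.surjective b
    rw [← map_mul, ← map_mul, Subgroup.mem_center_iff.1 hy b']

theorem Fpf.commutes_gen (u : T) :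
    ∀ a ∈ ({u, ρ u} ∪ (Subgroup.center T : Set T) : Set T),
      ∀ b ∈ ({u, ρ u} ∪ (Subgroup.center T : Set T) : Set T), a * b = b * a := by
  intro a ha b hb
  rcases ha with (rfl | rfl) | ha
  · rcases hb with (rfl | rfl) | hb
    · rfl
    · exact h.commute_rho _
    · exact Subgroup.mem_center_iff.1 hb _
  · rcases hb with (rfl | rfl) | hb
    · exact (h.commute_rho _).symm
    · rfl
    · exact Subgroup.mem_center_iff.1 hb _
  · exact (Subgroup.mem_center_iff.1 ha b).symm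

omit h [Finite T] in
theorem closure_commute {S : Set T} (hS : ∀ a ∈ S, ∀ b ∈ S, a * b = b * a) :
    ∀ a ∈ Subgroup.closure S, ∀ b ∈ Subgroup.closure S, a * b = b * a := by
  have hle : Subgroup.closure S ≤ Subgroup.centralizer (Subgroup.closure S : Set T) := by
    rw [Subgroup.centralizer_closure, Subgroup.closure_le]
    exact fun a ha => Subgroup.mem_centralizer_iff.2 fun b hb => hS b hb a ha
  exact fun a ha b hb => (Subgroup.mem_centralizer_iff.1 (hle ha) b hb).symm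

omit h [Finite T] in
theorem dvd_card_cases {d : ℕ} (hd : d ∣ 64) (hm : d % 3 = 1) : d = 1 ∨ d = 4 ∨ d = 16 ∨ d = 64 := by
  have : d ≤ 64 := Nat.le_of_dvd (by norm_num) hd
  interval_cases d <;> revert hd hm <;> decide

omit [Finite T] in
theorem Fpf.invariant_card_gt [Finite T] (u : T) (K : Subgroup T) (hK : ∀ y ∈ K, ρ y ∈ K) (hu : u ∉ K)
    (hT : Nat.card T = 64) :
    4 * Nat.card K ≤ Nat.card (Subgroup.closure ({u, ρ u} ∪ (K : Set T))) := by
  set M := Subgroup.closure ({u, ρ u} ∪ (K : Set T))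
  have hM := h.card_mod_three M (h.abelian_gen_invariant u K hK)
  have hKM : K ≤ M := fun y hy => Subgroup.subset_closure (Or.inr hy)
  have huM : u ∈ M := Subgroup.subset_closure (Or.inl (Or.inl rfl))
  obtain ⟨m, hm⟩ := Subgroup.card_dvd_of_le hKM
  have hlt : Nat.card K < Nat.card M := by
    refine lt_of_le_of_ne (Subgroup.card_le_of_le hKM) fun he => hu ?_
    rw [Subgroup.eq_of_le_of_card_ge hKM he.ge]
    exact huM
  have hdK := hT ▸ K.card_subgroup_dvd_card
  have hdM := hT ▸ M.card_subgroup_dvd_card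
  rcases dvd_card_cases hdK (h.card_mod_three K hK) with e | e | e | e <;>
    rcases dvd_card_cases hdM hM with e' | e' | e' | e' <;> omega

/-- The structure forced by the automorphism. -/
theorem Fpf.structure (hT : Nat.card T = 64) (hna : ∃ a b : T, a * b ≠ b * a) :
    Nat.card (Subgroup.center T) = 4 ∧ (∀ u v : T, κ u v ∈ Subgroup.center T) ∧
      (∀ u : T, u * u ∈ Subgroup.center T) ∧ ∀ z ∈ Subgroup.center T, z * z = 1 := by
  classical
  set Z := Subgroup.center T with hZdef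
  have hZρ := center_invariant ρ
  obtain ⟨a₀, b₀, hab⟩ := hna
  have hZne : Z ≠ ⊤ := fun e =>
    hab (Subgroup.mem_center_iff.1 (show b₀ ∈ Z by rw [e]; exact Subgroup.mem_top b₀) a₀)
  obtain ⟨u₀, hu₀⟩ : ∃ u, u ∉ Z := by
    by_contra hc
    push Not at hc
    exact hZne (eq_top_iff.2 fun y _ => hc y)
  have habelian : ∀ u : T, ¬ (64 ≤ Nat.card (Subgroup.closure ({u, ρ u} ∪ (Z : Set T)))) := fun u hge => by
    have htop : Subgroup.closure ({u, ρ u} ∪ (Z : Set T)) = ⊤ := Subgroup.eq_top_of_le_card _ (hT ▸ hge)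
    exact hab (closure_commute (h.commutes_gen u) _ (by rw [htop]; trivial) _ (by rw [htop]; trivial))
  have hp : IsPGroup 2 T := IsPGroup.of_card (n := 6) (by rw [hT]; norm_num)
  haveI : Fact (Nat.Prime 2) := ⟨Nat.prime_two⟩
  haveI : Nontrivial T := ⟨⟨u₀, 1, fun e => hu₀ (e ▸ one_mem _)⟩⟩
  have hZ1 : 1 < Nat.card Z := Finite.one_lt_card_iff_nontrivial.2 hp.center_nontrivial
  have hZ4 : Nat.card Z = 4 := by
    have hu := h.invariant_card_gt u₀ Z hZρ hu₀ hT
    have := habelian u₀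
    rcases dvd_card_cases (hT ▸ Z.card_subgroup_dvd_card) (h.card_mod_three Z hZρ) with e | e | e | e <;> omega
  -- the quotient
  let Q := T ⧸ Z
  have hQ : Nat.card Q = 16 := by
    have := Z.card_eq_card_quotient_mul_card_subgroup
    rw [hT, hZ4] at this
    show Nat.card (T ⧸ Z) = 16
    omega
  let q : T →* Q := QuotientGroup.mk' Z
  have hq : ∀ y, q y = 1 ↔ y ∈ Z := fun y => QuotientGroup.eq_one_iff y
  have hqρ : ∀ y, q (ρ y) = 1 ↔ q y = 1 := fun y => by
    rw [hq, hq]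
    refine ⟨fun hy => ?_, hZρ y⟩
    rw [← h.cube y]
    exact hZρ _ (hZρ _ hy)
  have hqfix : ∀ y, q (ρ y) = q y → q y = 1 := fun y hy => by
    rw [hq]
    obtain ⟨v, hv, hvy⟩ : ∃ v ∈ Z, y⁻¹ * ρ y = v⁻¹ * ρ v := by
      have hd : y⁻¹ * ρ y ∈ Z := by rw [← hq, map_mul, hy, map_inv, inv_mul_cancel]
      let f : Z → Z := fun v => ⟨(v : T)⁻¹ * ρ v, mul_mem (inv_mem v.2) (hZρ _ v.2)⟩
      have hf : Function.Injective f := fun v w e => by
        have e1 : (v : T)⁻¹ * ρ v = (w : T)⁻¹ * ρ w := congrArg Subtype.val e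
        refine Subtype.ext (inv_mul_eq_one.1 (h.fixed ((w : T)⁻¹ * v) ?_)).symm
        have hc : ρ (v : T) = v * ((w : T)⁻¹ * ρ w) := by rw [← e1, mul_inv_cancel_left]
        rw [map_mul, map_inv, hc, ← Subgroup.mem_center_iff.1 v.2 ((w : T)⁻¹ * ρ w),
          ← Subgroup.mem_center_iff.1 (inv_mem w.2) (ρ w)]
        group
      obtain ⟨v, hv⟩ := (Finite.injective_iff_surjective.1 hf) ⟨_, hd⟩
      exact ⟨v, v.2, (congrArg Subtype.val hv).symm⟩
    have e : ρ (y * v⁻¹) = y * v⁻¹ := by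
      have hy' : ρ y = y * (v⁻¹ * ρ v) := by rw [← hvy, mul_inv_cancel_left]
      rw [map_mul, map_inv, hy', mul_assoc, mul_assoc, mul_inv_cancel, mul_one]
    rw [← eq_of_mul_inv_eq_one (h.fixed _ e)] at hv
    exact hv
  let ρQ : Q ≃* Q := QuotientGroup.congr Z Z ρ (by
    ext y
    refine ⟨fun ⟨x, hx, e⟩ => e ▸ hZρ x hx, fun hy => ⟨ρ.symm y, ?_, ρ.apply_symm_apply y⟩⟩
    rw [show ρ.symm y = ρ (ρ y) from ρ.injective (by rw [ρ.apply_symm_apply, h.cube])]
    exact hZρ _ (hZρ _ hy))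
  have hρQ : ∀ y, ρQ (q y) = q (ρ y) := fun y => rfl
  have hQfpf : Fpf ρQ := by
    refine ⟨fun x => ?_, fun x hx => ?_⟩
    · obtain ⟨y, rfl⟩ := QuotientGroup.mk'_surjective Z x
      show ρQ (ρQ (ρQ (q y))) = q y
      rw [hρQ, hρQ, hρQ, h.cube]
    · obtain ⟨y, rfl⟩ := QuotientGroup.mk'_surjective Z x
      exact hqfix y ((hρQ y).symm.trans hx)
  have hnotgen : ∀ u : T, 16 ≤ Nat.card ((Subgroup.closure ({u, ρ u} ∪ (Z : Set T))).map q) → False := by
    intro u hge
    refine habelian u ?_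
    set M := Subgroup.closure ({u, ρ u} ∪ (Z : Set T))
    have hZM : Z ≤ M := fun y hy => Subgroup.subset_closure (Or.inr hy)
    have htop : M.map q = ⊤ := Subgroup.eq_top_of_le_card _ (hQ.le.trans hge)
    have : M = ⊤ := by
      rw [eq_top_iff, ← Subgroup.comap_map_eq_self (f := q) (H := M) (by rw [QuotientGroup.ker_mk']; exact hZM), htop]
      exact le_of_eq (Subgroup.comap_top q).symm
    rw [this, Subgroup.card_top, hT]
  have hQinv : ∀ (K : Subgroup Q), (∀ y ∈ K, ρQ y ∈ K) → Nat.card K = 1 ∨ Nat.card K = 4 ∨ Nat.card K = 16 := fun K hK => by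
    have hd := hQ ▸ K.card_subgroup_dvd_card
    rcases dvd_card_cases (hd.trans (by norm_num)) (hQfpf.card_mod_three K hK) with e | e | e | e
    · left; exact e
    · right; left; exact e
    · right; right; exact e
    · exfalso
      have := Nat.le_of_dvd (by norm_num) hd
      omega
  have hmapinv : ∀ u, ∀ y ∈ (Subgroup.closure ({u, ρ u} ∪ (Z : Set T))).map q,
      ρQ y ∈ (Subgroup.closure ({u, ρ u} ∪ (Z : Set T))).map q := by
    rintro u _ ⟨y, hy, rfl⟩
    exact ⟨ρ y, h.abelian_gen_invariant u Z hZρ y hy, (hρQ y).symm⟩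
  -- the quotient is abelian
  have hQc : ∀ a b : Q, a * b = b * a := by
    by_contra hc
    push Not at hc
    obtain ⟨a, b, hne⟩ := hc
    set ZQ := Subgroup.center Q
    obtain ⟨u, hu⟩ : ∃ u : T, q u ∉ ZQ := by
      obtain ⟨b', rfl⟩ := QuotientGroup.mk'_surjective Z b
      exact ⟨b', fun hb => hne (Subgroup.mem_center_iff.1 hb a)⟩
    haveI : Nontrivial Q := Finite.one_lt_card_iff_nontrivial.1 (by omega)
    have hQp : IsPGroup 2 Q := hp.to_quotient Z
    have hc1 : 1 < Nat.card ZQ := Finite.one_lt_card_iff_nontrivial.2 hQp.center_nontrivial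
    set M := Subgroup.closure ({q u, ρQ (q u)} ∪ (ZQ : Set Q))
    have hZM : ZQ ≤ M := fun y hy => Subgroup.subset_closure (Or.inr hy)
    have hlt : Nat.card ZQ < Nat.card M := lt_of_le_of_ne (Subgroup.card_le_of_le hZM) fun he => hu (by
      rw [Subgroup.eq_of_le_of_card_ge hZM he.ge]
      exact Subgroup.subset_closure (Or.inl (Or.inl rfl)))
    have hMi : ∀ y ∈ M, ρQ y ∈ M := hQfpf.abelian_gen_invariant (q u) ZQ (center_invariant ρQ)
    rcases hQinv M hMi with e | e | e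
    · omega
    · rcases hQinv ZQ (center_invariant ρQ) with e' | e' | e' <;> omega
    · have htop : M = ⊤ := Subgroup.eq_top_of_le_card _ (by omega)
      exact hne (closure_commute (hQfpf.commutes_gen (q u)) _ (show a ∈ M by rw [htop]; trivial) _
        (show b ∈ M by rw [htop]; trivial))
  have hκ : ∀ u v, κ u v ∈ Z := fun u v => by
    rw [← hq, κ, map_mul, map_mul, map_mul, map_inv, map_inv, hQc (q u)]
    group
  -- squares are central
  have hsqQ : ∀ u : T, u * u ∈ Z := by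
    intro u
    by_contra hu
    set M := (Subgroup.closure ({u, ρ u} ∪ (Z : Set T))).map q
    let S : Subgroup Q :=
      { carrier := {y | y * y = 1}
        one_mem' := one_mul 1
        mul_mem' := fun {a b} ha hb => by
          show a * b * (a * b) = 1
          rw [mul_assoc, ← mul_assoc b, hQc b a, ← mul_assoc, ← mul_assoc, (show a * a = 1 from ha), one_mul, (show b * b = 1 from hb)]
        inv_mem' := fun {a} ha => by
          show a⁻¹ * a⁻¹ = 1
          rw [← _root_.mul_inv_rev, (show a * a = 1 from ha), inv_one] }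
    have huM : q u ∈ M := Subgroup.mem_map_of_mem q (Subgroup.subset_closure (Or.inl (Or.inl rfl)))
    have huS : q u ∉ S := fun e => hu ((hq _).1 (by rw [map_mul]; exact e))
    have hM := hQinv M (hmapinv u)
    rcases hM with e | e | e
    · rw [Subgroup.eq_bot_of_card_eq M e, Subgroup.mem_bot] at huM
      exact hu (by rw [← hq, map_mul, huM, one_mul])
    · -- an invariant subgroup of order 4 has exponent two
      obtain ⟨w, hw, hwo⟩ : ∃ w ∈ M, orderOf w = 2 := by
        obtain ⟨w, hw⟩ := exists_prime_orderOf_dvd_card' (G := M) 2 (by rw [e]; norm_num)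
        exact ⟨w, w.2, by rw [Subgroup.orderOf_coe, hw]⟩
      have hwS : w ∈ M ⊓ S := ⟨hw, by show w * w = 1; rw [← sq, ← hwo, pow_orderOf_eq_one]⟩
      have hi : ∀ y ∈ M ⊓ S, ρQ y ∈ M ⊓ S := fun y hy =>
        ⟨hmapinv u y hy.1, by show ρQ y * ρQ y = 1; rw [← map_mul, (show y * y = 1 from hy.2), map_one]⟩
      have h1 : Nat.card ↥(M ⊓ S) ≠ 1 := fun e1 => by
        rw [Subgroup.eq_bot_of_card_eq _ e1, Subgroup.mem_bot] at hwS
        rw [hwS, orderOf_one] at hwo
        omega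
      have h4 := Subgroup.card_le_of_le (inf_le_left : M ⊓ S ≤ M)
      rcases hQinv _ hi with e' | e' | e'
      · exact h1 e'
      · have := Subgroup.eq_of_le_of_card_ge (inf_le_left : M ⊓ S ≤ M) (by omega)
        rw [← this] at huM
        exact huS huM.2
      · omega
    · exact hnotgen u (le_of_eq e.symm)
  refine ⟨hZ4, hκ, hsqQ, fun z hz => ?_⟩
  let S : Subgroup T :=
    { carrier := {y | y ∈ Z ∧ y * y = 1}
      one_mem' := ⟨one_mem _, one_mul 1⟩
      mul_mem' := fun {a b} ha hb => ⟨mul_mem ha.1 hb.1, by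
        rw [mul_assoc, ← mul_assoc b, ← Subgroup.mem_center_iff.1 hb.1 a, mul_assoc, hb.2, mul_one, ha.2]⟩
      inv_mem' := fun {a} ha => ⟨inv_mem ha.1, by rw [← _root_.mul_inv_rev, ha.2, inv_one]⟩ }
  have hκS : κ a₀ b₀ ∈ S := by
    refine ⟨hκ _ _, ?_⟩
    have e : κ (a₀ * a₀) b₀ = 1 := by
      rw [κ, ← Subgroup.mem_center_iff.1 (hsqQ a₀) b₀]; group
    have e2 : κ (a₀ * a₀) b₀ = κ a₀ b₀ * κ a₀ b₀ := by
      have hc := Subgroup.mem_center_iff.1 (hκ a₀ b₀) a₀
      calc κ (a₀ * a₀) b₀ = (a₀ * κ a₀ b₀) * a₀⁻¹ * κ a₀ b₀ := by simp only [κ]; group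
        _ = κ a₀ b₀ * κ a₀ b₀ := by rw [hc, mul_inv_cancel_right]
    rw [← e2, e]
  have hSi : ∀ y ∈ S, ρ y ∈ S := fun y hy => ⟨hZρ y hy.1, by rw [← map_mul, hy.2, map_one]⟩
  have hSZ : S ≤ Z := fun y hy => hy.1
  have h1 : Nat.card S ≠ 1 := fun e1 => by
    rw [Subgroup.eq_bot_of_card_eq _ e1, Subgroup.mem_bot, κ, mul_inv_eq_one, mul_inv_eq_iff_eq_mul] at hκS
    exact hab hκS
  have h4 := Subgroup.card_le_of_le hSZ
  have := Subgroup.eq_of_le_of_card_ge hSZ (by
    rcases dvd_card_cases (hT ▸ S.card_subgroup_dvd_card) (h.card_mod_three S hSi) with e | e | e | e <;> omega)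
  rw [← this] at hz
  exact hz.2

omit h [Finite T] in
theorem κ_mul_left {a b c : T} (hc : κ b c ∈ Subgroup.center T) : κ (a * b) c = κ a c * κ b c := by
  calc κ (a * b) c = (a * κ b c) * (c * a⁻¹ * c⁻¹) := by simp only [κ]; group
    _ = (κ b c * a) * (c * a⁻¹ * c⁻¹) := by rw [Subgroup.mem_center_iff.1 hc]
    _ = κ b c * κ a c := by simp only [κ]; group
    _ = κ a c * κ b c := (Subgroup.mem_center_iff.1 hc _).symm

omit h [Finite T] in
theorem κ_inv (a b : T) : (κ a b)⁻¹ = κ b a := by simp only [κ]; group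

omit h [Finite T] in
theorem map_κ {H : Type*} [Group H] (f : T →* H) (a b : T) : f (κ a b) = κ (f a) (f b) := by
  simp [κ]

/-- The commutator values on two orbits. -/
theorem Fpf.κ_values (hc : ∀ u v : T, κ u v ∈ Subgroup.center T) (hz : ∀ z ∈ Subgroup.center T, z * z = 1)
    (a b : T) : κ (ρ a) (ρ b) = ρ (κ a b) ∧ κ (ρ a) b = κ a b * ρ (κ a b) ∧ κ a (ρ b) = κ a b * ρ (κ a b) := by
  have e0 : κ (ρ a) (ρ b) = ρ (κ a b) := (map_κ ρ.toMonoidHom a b).symm
  have hsymm : ∀ u v : T, κ u v = κ v u := fun u v => by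
    rw [← κ_inv u v]
    exact eq_inv_of_mul_eq_one_left (hz _ (hc u v))
  have hinvl : ∀ u v : T, κ u⁻¹ v = κ u v := fun u v => by
    have := κ_mul_left (a := u⁻¹) (b := u) (hc u v)
    rw [inv_mul_cancel, show κ 1 v = 1 by simp [κ]] at this
    exact (eq_inv_of_mul_eq_one_left this.symm).trans (eq_inv_of_mul_eq_one_left (hz _ (hc u v))).symm
  have hmr : ∀ u v w : T, κ u (v * w) = κ u v * κ u w := fun u v w => by
    rw [hsymm, κ_mul_left (hc w u), hsymm v u, hsymm w u]
  set w := κ (ρ a) b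
  set w' := κ a (ρ b)
  set z := κ a b
  have e1 : ρ w = w' * ρ z := by
    show ρ (κ (ρ a) b) = _
    rw [show ρ (κ (ρ a) b) = κ (ρ (ρ a)) (ρ b) from map_κ ρ.toMonoidHom _ _, h.rho_two, hinvl, κ_mul_left (hc _ _), e0]
  have e2 : ρ w' = w * ρ z := by
    show ρ (κ a (ρ b)) = _
    rw [show ρ (κ a (ρ b)) = κ (ρ a) (ρ (ρ b)) from map_κ ρ.toMonoidHom _ _, h.rho_two, hsymm (ρ a), hinvl, ← hsymm,
      hmr, e0]
  have hzc : z ∈ Subgroup.center T := hc _ _
  have hρz := center_invariant ρ z hzc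
  have hρρz := center_invariant ρ _ hρz
  have e3 : ρ (ρ z) = z * ρ z := by
    rw [h.rho_two]
    exact inv_eq_of_mul_eq_one_right (hz _ (mul_mem hzc hρz))
  have e4 : ρ (ρ w) = w * z := by
    calc ρ (ρ w) = ρ w' * ρ (ρ z) := by rw [e1, map_mul]
      _ = w * ρ z * (z * ρ z) := by rw [e2, e3]
      _ = w * z * (ρ z * ρ z) := by
          rw [mul_assoc, ← mul_assoc (ρ z) z, ← Subgroup.mem_center_iff.1 hρz z]
          simp only [mul_assoc]
      _ = w * z := by rw [hz _ hρz, mul_one]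
  have hwc : w ∈ Subgroup.center T := hc _ _
  have hρw := center_invariant ρ w hwc
  have e5 : ρ w = z := by
    have e := h.rho_two w
    rw [e4, inv_eq_of_mul_eq_one_right (hz _ (mul_mem hwc hρw))] at e
    exact (mul_left_cancel e).symm
  have e6 : w = z * ρ z := by rw [← h.cube w, e5, e3]
  refine ⟨e0, e6, ?_⟩
  calc w' = w' * ρ z * ρ z := by rw [mul_assoc, hz _ hρz, mul_one]
    _ = z * ρ z := by rw [← e1, e5]

omit h

/-- Generators with the relations of a Sylow 2-subgroup of `SL₃(4)`. -/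
structure Gen (T : Type*) [Group T] where
  a : T
  a' : T
  b : T
  b' : T
  z : T
  z' : T
  card : Nat.card T = 64
  a2 : a * a = 1
  a2' : a' * a' = 1
  b2 : b * b = 1
  b2' : b' * b' = 1
  z2 : z * z = 1
  z2' : z' * z' = 1
  aa : a' * a * a'⁻¹ = a
  bb : b' * b * b'⁻¹ = b
  zz : z' * z * z'⁻¹ = z
  za : a * z * a⁻¹ = z
  za' : a' * z * a'⁻¹ = z
  zb : b * z * b⁻¹ = z
  zb' : b' * z * b'⁻¹ = z
  za2 : a * z' * a⁻¹ = z'
  za2' : a' * z' * a'⁻¹ = z'
  zb2 : b * z' * b⁻¹ = z'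
  zb2' : b' * z' * b'⁻¹ = z'
  ab : b * a * b⁻¹ = z * a
  a'b : b * a' * b⁻¹ = z * z' * a'
  ab' : b' * a * b'⁻¹ = z * z' * a
  a'b' : b' * a' * b'⁻¹ = z' * a'
  gen : Subgroup.closure {a, a', b, b'} = ⊤

omit [Finite T] in
theorem card_sup_zpowers_le [Finite T] (H : Subgroup T) (t : T) (ht : t * t = 1)
    (hn : ∀ x ∈ H, t * x * t⁻¹ ∈ H) : Nat.card ↥(H ⊔ Subgroup.zpowers t) ≤ 2 * Nat.card H := by
  classical
  have hti : t⁻¹ = t := inv_eq_of_mul_eq_one_right ht
  let K : Subgroup T :=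
    { carrier := {y | y ∈ H ∨ y * t ∈ H}
      one_mem' := Or.inl (one_mem H)
      inv_mem' := fun {y} hy => by
        rcases hy with hy | hy
        · exact Or.inl (inv_mem hy)
        · right
          have := hn _ (inv_mem hy)
          simpa [mul_assoc, hti, ht, ← mul_assoc t t] using this
      mul_mem' := fun {x y} hx hy => by
        rcases hx with hx | hx <;> rcases hy with hy | hy
        · exact Or.inl (mul_mem hx hy)
        · exact Or.inr (by rw [mul_assoc]; exact mul_mem hx hy)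
        · refine Or.inr ?_
          rw [show x * y * t = x * t * (t * y * t⁻¹) by rw [hti]; simp [mul_assoc, ← mul_assoc t t, ht]]
          exact mul_mem hx (hn _ hy)
        · refine Or.inl ?_
          rw [show x * y = x * t * (t * (y * t) * t⁻¹) by rw [hti]; simp [mul_assoc, ← mul_assoc t t, ht]]
          exact mul_mem hx (hn _ hy) }
  have hle : H ⊔ Subgroup.zpowers t ≤ K :=
    sup_le (fun y hy => Or.inl hy) (Subgroup.zpowers_le.2 (Or.inr (by rw [ht]; exact one_mem H)))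
  have hf : Function.Surjective (fun p : H × Fin 2 => (⟨p.1.1 * t ^ (p.2 : ℕ), by
      rcases (show (p.2 : ℕ) = 0 ∨ (p.2 : ℕ) = 1 by omega) with e | e
      · left; rw [e]; simp
      · right; rw [e]; simp [mul_assoc, ht]⟩ : K)) := by
    rintro ⟨y, hy | hy⟩
    · exact ⟨(⟨y, hy⟩, 0), Subtype.ext (by simp)⟩
    · exact ⟨(⟨y * t, hy⟩, 1), Subtype.ext (by simp [mul_assoc, ht])⟩
  calc _ ≤ Nat.card K := Subgroup.card_le_of_le hle
    _ ≤ Nat.card (H × Fin 2) := Nat.card_le_card_of_surjective _ hf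
    _ = 2 * Nat.card H := by rw [Nat.card_prod, Nat.card_fin, mul_comm]

omit [Finite T] in
theorem closure_conj {S : Set T} {H : Subgroup T} (hH : H = Subgroup.closure S) {t : T}
    (hn : ∀ x ∈ S, t * x * t⁻¹ ∈ H) : ∀ x ∈ H, t * x * t⁻¹ ∈ H := by
  have hle : H ≤ H.comap (MulAut.conj t).toMonoidHom := by
    conv_lhs => rw [hH]
    rw [Subgroup.closure_le]
    exact fun x hx => hn x hx
  exact fun x hx => hle hx

omit [Finite T] in
theorem card_closure_six_le [Finite T] (a a' b b' z z' : T) (a2 : a * a = 1) (a2' : a' * a' = 1) (b2 : b * b = 1)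
    (b2' : b' * b' = 1) (z2 : z * z = 1) (z2' : z' * z' = 1) (aa : a' * a * a'⁻¹ = a) (bb : b' * b * b'⁻¹ = b)
    (zz : z' * z * z'⁻¹ = z) (za : a * z * a⁻¹ = z) (za' : a' * z * a'⁻¹ = z) (zb : b * z * b⁻¹ = z)
    (zb' : b' * z * b'⁻¹ = z) (za2 : a * z' * a⁻¹ = z') (za2' : a' * z' * a'⁻¹ = z') (zb2 : b * z' * b⁻¹ = z')
    (zb2' : b' * z' * b'⁻¹ = z') (ab : b * a * b⁻¹ = z * a) (a'b : b * a' * b⁻¹ = z * z' * a')
    (ab' : b' * a * b'⁻¹ = z * z' * a) (a'b' : b' * a' * b'⁻¹ = z' * a') :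
    Nat.card ↥(Subgroup.closure ({a, a', b, b'} : Set T)) ≤ 64 := by
  set H1 := Subgroup.closure ({z} : Set T) with e1
  set H2 := Subgroup.closure ({z, z'} : Set T) with e2
  set H3 := Subgroup.closure ({z, z', a} : Set T) with e3
  set H4 := Subgroup.closure ({z, z', a, a'} : Set T) with e4
  set H5 := Subgroup.closure ({z, z', a, a', b} : Set T) with e5
  set H6 := Subgroup.closure ({z, z', a, a', b, b'} : Set T) with e6
  have step : ∀ (S S' : Set T) (t : T), S' ⊆ S ∪ {t} → t * t = 1 → (∀ x ∈ S, t * x * t⁻¹ ∈ Subgroup.closure S) →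
      Nat.card ↥(Subgroup.closure S') ≤ 2 * Nat.card ↥(Subgroup.closure S) := by
    intro S S' t hS ht hn
    refine le_trans (Subgroup.card_le_of_le ?_) (card_sup_zpowers_le _ t ht (closure_conj rfl hn))
    rw [Subgroup.closure_le]
    intro x hx
    rcases hS hx with hx' | (rfl : x = t)
    · exact Subgroup.mem_sup_left (Subgroup.subset_closure hx')
    · exact Subgroup.mem_sup_right (Subgroup.mem_zpowers x)
  have m : ∀ (S : Set T) (x : T), x ∈ S → x ∈ Subgroup.closure S := fun S x hx => Subgroup.subset_closure hx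
  have c1 : Nat.card H1 ≤ 2 * Nat.card ↥(Subgroup.closure (∅ : Set T)) :=
    step ∅ {z} z (by simp) z2 (by simp)
  have c2 : Nat.card H2 ≤ 2 * Nat.card H1 := step {z} {z, z'} z' (by intro x; simp; tauto) z2' (by
    rintro x (rfl : x = z); rw [zz]; exact m _ _ rfl)
  have c3 : Nat.card H3 ≤ 2 * Nat.card H2 := step {z, z'} {z, z', a} a (by intro x; simp; tauto) a2 (by
    rintro x (rfl | rfl)
    · rw [za]; exact m _ _ (by simp)
    · rw [za2]; exact m _ _ (by simp))
  have c4 : Nat.card H4 ≤ 2 * Nat.card H3 := step {z, z', a} {z, z', a, a'} a' (by intro x; simp; tauto) a2' (by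
    rintro x (rfl | rfl | rfl)
    · rw [za']; exact m _ _ (by simp)
    · rw [za2']; exact m _ _ (by simp)
    · rw [aa]; exact m _ _ (by simp))
  have c5 : Nat.card H5 ≤ 2 * Nat.card H4 := step {z, z', a, a'} {z, z', a, a', b} b (by intro x; simp; tauto) b2 (by
    rintro x (rfl | rfl | rfl | rfl)
    · rw [zb]; exact m _ _ (by simp)
    · rw [zb2]; exact m _ _ (by simp)
    · rw [ab]; exact mul_mem (m _ _ (by simp)) (m _ _ (by simp))
    · rw [a'b]; exact mul_mem (mul_mem (m _ _ (by simp)) (m _ _ (by simp))) (m _ _ (by simp)))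
  have c6 : Nat.card H6 ≤ 2 * Nat.card H5 :=
    step {z, z', a, a', b} {z, z', a, a', b, b'} b' (by intro x; simp; tauto) b2' (by
    rintro x (rfl | rfl | rfl | rfl | rfl)
    · rw [zb']; exact m _ _ (by simp)
    · rw [zb2']; exact m _ _ (by simp)
    · rw [ab']; exact mul_mem (mul_mem (m _ _ (by simp)) (m _ _ (by simp))) (m _ _ (by simp))
    · rw [a'b']; exact mul_mem (m _ _ (by simp)) (m _ _ (by simp))
    · rw [bb]; exact m _ _ (by simp))
  have c0 : Nat.card ↥(Subgroup.closure (∅ : Set T)) = 1 := by rw [Subgroup.closure_empty, Subgroup.card_bot]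
  have hle : Nat.card ↥(Subgroup.closure ({a, a', b, b'} : Set T)) ≤ Nat.card H6 :=
    Subgroup.card_le_of_le (Subgroup.closure_mono (by intro x; simp; tauto))
  omega

/-- Two groups with such generators are isomorphic. -/
theorem Gen.nonempty_equiv {S : Type*} [Group S] [Finite S] (g : Gen T) (g' : Gen S) :
    Nonempty (T ≃* S) := by
  classical
  set G := Subgroup.closure ({(g.a, g'.a), (g.a', g'.a'), (g.b, g'.b), (g.b', g'.b')} : Set (T × S)) with hG
  have hc : Nat.card G ≤ 64 := card_closure_six_le (T := T × S) (g.a, g'.a) (g.a', g'.a') (g.b, g'.b) (g.b', g'.b')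
    (g.z, g'.z) (g.z', g'.z') (Prod.ext g.a2 g'.a2) (Prod.ext g.a2' g'.a2') (Prod.ext g.b2 g'.b2)
    (Prod.ext g.b2' g'.b2') (Prod.ext g.z2 g'.z2) (Prod.ext g.z2' g'.z2') (Prod.ext g.aa g'.aa)
    (Prod.ext g.bb g'.bb) (Prod.ext g.zz g'.zz) (Prod.ext g.za g'.za) (Prod.ext g.za' g'.za') (Prod.ext g.zb g'.zb)
    (Prod.ext g.zb' g'.zb') (Prod.ext g.za2 g'.za2) (Prod.ext g.za2' g'.za2') (Prod.ext g.zb2 g'.zb2)
    (Prod.ext g.zb2' g'.zb2') (Prod.ext g.ab g'.ab) (Prod.ext g.a'b g'.a'b) (Prod.ext g.ab' g'.ab')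
    (Prod.ext g.a'b' g'.a'b')
  let f₁ : G →* T := (MonoidHom.fst T S).comp G.subtype
  let f₂ : G →* S := (MonoidHom.snd T S).comp G.subtype
  have hm : ∀ x ∈ ({(g.a, g'.a), (g.a', g'.a'), (g.b, g'.b), (g.b', g'.b')} : Set (T × S)), x ∈ G :=
    fun x hx => Subgroup.subset_closure hx
  have s₁ : Function.Surjective f₁ := MonoidHom.range_eq_top.1 (eq_top_iff.2 (by
    rw [← g.gen, Subgroup.closure_le]
    rintro x (rfl | rfl | rfl | rfl)
    exacts [⟨⟨(g.a, g'.a), hm _ (by simp)⟩, rfl⟩, ⟨⟨(g.a', g'.a'), hm _ (by simp)⟩, rfl⟩,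
      ⟨⟨(g.b, g'.b), hm _ (by simp)⟩, rfl⟩, ⟨⟨(g.b', g'.b'), hm _ (by simp)⟩, rfl⟩]))
  have s₂ : Function.Surjective f₂ := MonoidHom.range_eq_top.1 (eq_top_iff.2 (by
    rw [← g'.gen, Subgroup.closure_le]
    rintro x (rfl | rfl | rfl | rfl)
    exacts [⟨⟨(g.a, g'.a), hm _ (by simp)⟩, rfl⟩, ⟨⟨(g.a', g'.a'), hm _ (by simp)⟩, rfl⟩,
      ⟨⟨(g.b, g'.b), hm _ (by simp)⟩, rfl⟩, ⟨⟨(g.b', g'.b'), hm _ (by simp)⟩, rfl⟩]))
  have b₁ := (Nat.bijective_iff_surjective_and_card f₁).2
    ⟨s₁, le_antisymm (hc.trans g.card.ge) (Nat.card_le_card_of_surjective _ s₁)⟩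
  have b₂ := (Nat.bijective_iff_surjective_and_card f₂).2
    ⟨s₂, le_antisymm (hc.trans g'.card.ge) (Nat.card_le_card_of_surjective _ s₂)⟩
  exact ⟨(MulEquiv.ofBijective f₁ b₁).symm.trans (MulEquiv.ofBijective f₂ b₂)⟩

/-- Non-commuting involutions give such generators. -/
theorem Fpf.exists_gen {ρ : T ≃* T} (h : Fpf ρ) (hT : Nat.card T = 64) (a b : T) (ha : a * a = 1)
    (hb : b * b = 1) (hab : a * b ≠ b * a) : Nonempty (Gen T) := by
  obtain ⟨hZ4, hκ, -, hz2⟩ := h.structure hT ⟨a, b, hab⟩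
  set Z := Subgroup.center T
  have hv := h.κ_values hκ hz2
  set z := κ a b with hzdef
  have hz : z ∈ Z := hκ a b
  have hρz : ρ z ∈ Z := center_invariant ρ z hz
  have hconj : ∀ (x y : T), y * x * y⁻¹ = κ y x * x := fun x y => by simp only [κ]; group
  have hsymm : ∀ u v : T, κ u v = κ v u := fun u v => by
    rw [← κ_inv u v]
    exact eq_inv_of_mul_eq_one_left (hz2 _ (hκ u v))
  have hcen : ∀ (y x : T), x ∈ Z → y * x * y⁻¹ = x := fun y x hx => by
    rw [Subgroup.mem_center_iff.1 hx y, mul_inv_cancel_right]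
  have hcomm : ∀ y, ρ y * y * (ρ y)⁻¹ = y := fun y => by rw [← h.commute_rho, mul_inv_cancel_right]
  refine ⟨⟨a, ρ a, b, ρ b, z, ρ z, hT, ha, by rw [← map_mul, ha, map_one], hb, by rw [← map_mul, hb, map_one],
    hz2 _ hz, hz2 _ hρz, hcomm a, hcomm b, hcen _ _ hz, hcen _ _ hz, hcen _ _ hz, hcen _ _ hz, hcen _ _ hz,
    hcen _ _ hρz, hcen _ _ hρz, hcen _ _ hρz, hcen _ _ hρz, by rw [hconj, hsymm],
    by rw [hconj, hsymm, (hv a b).2.1], by rw [hconj, hsymm, (hv a b).2.2],
    by rw [hconj, hsymm, (hv a b).1], ?_⟩⟩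
  set K := Subgroup.closure ({a, ρ a, b, ρ b} : Set T) with hK
  have ma : a ∈ K := Subgroup.subset_closure (by simp)
  have ma' : ρ a ∈ K := Subgroup.subset_closure (by simp)
  have mb : b ∈ K := Subgroup.subset_closure (by simp)
  have mb' : ρ b ∈ K := Subgroup.subset_closure (by simp)
  have hKi : ∀ y ∈ K, ρ y ∈ K := by
    intro y hy
    induction hy using Subgroup.closure_induction with
    | mem y hy =>
      rcases hy with rfl | rfl | rfl | rfl
      · exact ma'
      · rw [h.rho_two]; exact inv_mem (mul_mem ma ma')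
      · exact mb'
      · rw [h.rho_two]; exact inv_mem (mul_mem mb mb')
    | one => rw [map_one]; exact one_mem _
    | mul x y _ _ hx hy => rw [map_mul]; exact mul_mem hx hy
    | inv x _ hx => rw [map_inv]; exact inv_mem hx
  set L := Subgroup.closure ({a, ρ a} ∪ (Z : Set T)) with hL
  have hzK : z ∈ K := mul_mem (mul_mem (mul_mem ma mb) (inv_mem ma)) (inv_mem mb)
  have hZK : Z ≤ K := by
    have hle : Subgroup.closure ({z, ρ z} : Set T) ≤ K ⊓ Z := by
      rw [Subgroup.closure_le]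
      rintro x (rfl | rfl)
      exacts [⟨hzK, hz⟩, ⟨hKi _ hzK, hρz⟩]
    have hi : ∀ y ∈ K ⊓ Z, ρ y ∈ K ⊓ Z := fun y hy => ⟨hKi y hy.1, center_invariant ρ y hy.2⟩
    have h1 : Nat.card ↥(K ⊓ Z) ≠ 1 := fun e => by
      have : z ∈ K ⊓ Z := ⟨hzK, hz⟩
      rw [Subgroup.eq_bot_of_card_eq _ e, Subgroup.mem_bot, hzdef, κ, mul_inv_eq_one, mul_inv_eq_iff_eq_mul] at this
      exact hab this
    have h4 := Subgroup.card_le_of_le (inf_le_right : K ⊓ Z ≤ Z)
    have := Subgroup.eq_of_le_of_card_ge (inf_le_right : K ⊓ Z ≤ Z) (by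
      rcases dvd_card_cases (hT ▸ (K ⊓ Z).card_subgroup_dvd_card) (h.card_mod_three _ hi) with e | e | e | e <;> omega)
    exact this.symm.le.trans inf_le_left
  have hLK : L ≤ K := by
    rw [hL, Subgroup.closure_le]
    rintro x ((rfl | rfl) | hx)
    exacts [ma, ma', hZK hx]
  have haZ : a ∉ Z := fun e => hab (Subgroup.mem_center_iff.1 e b).symm
  have hL16 := h.invariant_card_gt a Z (center_invariant ρ) haZ hT
  have hbL : b ∉ L := fun e => hab (closure_commute (h.commutes_gen a) a (Subgroup.subset_closure (Or.inl (Or.inl rfl))) b e)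
  have h64 := h.invariant_card_gt b L (h.abelian_gen_invariant a Z (center_invariant ρ)) hbL hT
  have hle : Subgroup.closure ({b, ρ b} ∪ (L : Set T)) ≤ K := by
    rw [Subgroup.closure_le]
    rintro x ((rfl | rfl) | hx)
    exacts [mb, mb', hLK hx]
  have := Subgroup.card_le_of_le hle
  refine Subgroup.eq_top_of_le_card _ ?_
  rw [hZ4] at hL16
  change 4 * 4 ≤ Nat.card L at hL16
  omega

end CfsgLib.FpfSixtyFour
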