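import Cfsg.Prelude.Def_Spor_Mathieu
import Cfsg.Agent.Lib.Invol.QDW.SdSubgroups
import Cfsg.Agent.Lib.Golay.M24
import Cfsg.Agent.Lib.Fusion.PermCert

/-!
A Sylow 2-subgroup of the Mathieu group of degree 24 modulo its centre: the abelian subgroup of
order 64 and the centres of the maximal subgroups.
-/

set_option autoImplicit false
set_option maxRecDepth 16384

namespace CfsgLib.InvolChar.M24SylowQuot

open Cfsg

section counting

variable {S : Type*} [Group S] [Finite S] {A : Subgroup S}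

/-- A subgroup larger than twice its part in `A` has elements in two nontrivial cosets of `A`. -/
theorem exists_pair {B : Subgroup S} (h : 2 * Nat.card ↥(A ⊓ B) < Nat.card ↥B) :
    ∃ x ∈ B, ∃ y ∈ B, x ∉ A ∧ y ∉ A ∧ x⁻¹ * y ∉ A := by
  by_contra hc
  push Not at hc
  by_cases hB : B ≤ A
  · rw [inf_eq_right.2 hB] at h; omega
  obtain ⟨x, hxB, hxA⟩ := SetLike.not_le_iff_exists.1 hB
  have hsub : (B : Set S) ⊆ (↑(A ⊓ B) : Set S) ∪ (fun a => x * a) '' (↑(A ⊓ B) : Set S) := by
    intro y hy
    by_cases hyA : y ∈ A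
    · exact Or.inl ⟨hyA, hy⟩
    · exact Or.inr ⟨x⁻¹ * y, ⟨hc x hxB y hy hxA hyA, B.mul_mem (B.inv_mem hxB) hy⟩, mul_inv_cancel_left x y⟩
  have h1 := (Set.ncard_le_ncard hsub).trans (Set.ncard_union_le _ _)
  have h2 := Set.ncard_image_le (f := fun a => x * a) (s := (↑(A ⊓ B) : Set S))
  simp only [← Nat.card_coe_set_eq, SetLike.coe_sort_coe] at h1 h2
  omega

variable (hab : ∀ a ∈ A, ∀ b ∈ A, a * b = b * a) (hcA : Nat.card ↥A = 64) (hcS : Nat.card S = 512)
  (h1 : ∀ x : S, x ∉ A → Nat.card ↥(A ⊓ Subgroup.centralizer ({x} : Set S)) ≤ 16)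
  (h2 : ∀ x y : S, x ∉ A → y ∉ A → x⁻¹ * y ∉ A →
    Nat.card ↥(A ⊓ Subgroup.centralizer ({x} : Set S) ⊓ Subgroup.centralizer ({y} : Set S)) ≤ 8)
  (h3 : Nat.card ↥(A ⊓ Subgroup.center S) < 8)

include hcA hcS in
theorem eq_top_of_card {C : Subgroup S} (hAC : A ≤ C) (h : 8 ≤ A.relIndex C) : C = ⊤ := by
  apply Subgroup.eq_top_of_le_card
  rw [hcS, ← Subgroup.card_mul_index (A.subgroupOf C), Nat.card_congr (Subgroup.subgroupOfEquivOfLe hAC).toEquiv, hcA]
  exact Nat.mul_le_mul_left 64 h

include hab hcA hcS h1 h2 h3 in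
theorem eq_of_abelian {B : Subgroup S} (hB : ∀ a ∈ B, ∀ b ∈ B, a * b = b * a) (hcB : Nat.card ↥B = 64) :
    B = A := by
  by_contra hne
  have hBA : ¬ B ≤ A := fun h => hne (Subgroup.eq_of_le_of_card_ge h (by rw [hcA, hcB]))
  obtain ⟨x, hxB, hxA⟩ := SetLike.not_le_iff_exists.1 hBA
  have hcent : ∀ z ∈ B, A ⊓ B ≤ Subgroup.centralizer ({z} : Set S) := fun z hz a ha =>
    Subgroup.mem_centralizer_singleton_iff.2 (hB a ha.2 z hz)
  have hle1 : Nat.card ↥(A ⊓ B) ≤ 16 :=
    (Subgroup.card_le_of_le (le_inf inf_le_left (hcent x hxB))).trans (h1 x hxA)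
  obtain ⟨u, hu, v, hv, huA, hvA, huv⟩ := exists_pair (A := A) (B := B) (by rw [hcB]; omega)
  have hle2 : Nat.card ↥(A ⊓ B) ≤ 8 :=
    (Subgroup.card_le_of_le (le_inf (le_inf inf_le_left (hcent u hu)) (hcent v hv))).trans (h2 u v huA hvA huv)
  have hmul := Subgroup.card_mul_index (A.subgroupOf B)
  rw [← Subgroup.inf_subgroupOf_right, Nat.card_congr (Subgroup.subgroupOfEquivOfLe inf_le_right).toEquiv,
    hcB] at hmul
  have hidx : A.index = 8 := by
    have := A.card_mul_index
    rw [hcA, hcS] at this; omega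
  have hrel : A.relIndex B ≤ 8 := hidx ▸ Subgroup.relIndex_top_right A ▸
    Subgroup.relIndex_le_of_le_right le_top (by rw [Subgroup.relIndex_top_right, hidx]; norm_num)
  have hrel' : (A ⊓ B).relIndex B = A.relIndex B := Subgroup.inf_relIndex_right A B
  change Nat.card ↥(A ⊓ B) * (A ⊓ B).relIndex B = 64 at hmul
  rw [hrel'] at hmul
  have h8 : 8 ≤ A.relIndex B := by
    by_contra hlt
    have := Nat.mul_le_mul hle2 (Nat.lt_succ_iff.1 (Nat.lt_of_not_le hlt : A.relIndex B < 7 + 1))
    omega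
  have hz : A ⊓ B ≤ A ⊓ Subgroup.center S := by
    intro z hz
    refine ⟨hz.1, Subgroup.mem_center_iff.2 fun g => ?_⟩
    have hC : Subgroup.centralizer ({z} : Set S) = ⊤ := by
      refine eq_top_of_card hcA hcS (fun a ha => Subgroup.mem_centralizer_singleton_iff.2 (hab a ha z hz.1)) ?_
      refine h8.trans (Subgroup.relIndex_le_of_le_right
        (fun b hb => Subgroup.mem_centralizer_singleton_iff.2 (hB b hb z hz.2)) Subgroup.FiniteIndex.index_ne_zero)
    exact Subgroup.mem_centralizer_singleton_iff.1 (hC ▸ Subgroup.mem_top g)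
  have h64 : A.relIndex B = 8 := le_antisymm hrel h8
  have := Subgroup.card_le_of_le hz
  rw [h64] at hmul
  omega

include hab hcA hcS h1 h2 h3 in
theorem card_center_coatom (hS : IsPGroup 2 S) {M : Subgroup S} (hM : IsCoatom M) :
    Nat.card ↥(Subgroup.center ↥M) ≤ 8 := by
  have hidx := CfsgLib.Invol.QDW.Sd.index_two_of_isCoatom hS hM
  have hcM : Nat.card ↥M = 256 := by
    have := M.card_mul_index
    rw [hidx, hcS] at this; omega
  rw [← Subgroup.card_map_of_injective (K := Subgroup.center ↥M) M.subtype_injective]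
  set Z := (Subgroup.center ↥M).map M.subtype with hZ
  have hZC : ∀ z ∈ Z, ∀ m ∈ M, z * m = m * z := by
    rintro _ ⟨z, hz, rfl⟩ m hm
    exact (congrArg Subtype.val (Subgroup.mem_center_iff.1 hz ⟨m, hm⟩)).symm
  have hMA : 32 ≤ Nat.card ↥(A ⊓ M) := by
    have h' := Subgroup.card_mul_index (M.subgroupOf A)
    rw [← Subgroup.inf_subgroupOf_right, Nat.card_congr (Subgroup.subgroupOfEquivOfLe inf_le_right).toEquiv,
      hcA] at h'
    change Nat.card ↥(M ⊓ A) * (M ⊓ A).relIndex A = 64 at h'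
    rw [Subgroup.inf_relIndex_right] at h'
    have hle : M.relIndex A ≤ 2 := hidx ▸ Subgroup.relIndex_top_right M ▸
      Subgroup.relIndex_le_of_le_right le_top (by rw [Subgroup.relIndex_top_right, hidx]; norm_num)
    have := Nat.mul_le_mul_left (Nat.card ↥(M ⊓ A)) hle
    rw [inf_comm]; omega
  have hZA : Z ≤ A := by
    intro z hz
    by_contra hzA
    have hle : A ⊓ M ≤ A ⊓ Subgroup.centralizer ({z} : Set S) := fun a ha =>
      ⟨ha.1, Subgroup.mem_centralizer_singleton_iff.2 (hZC z hz a ha.2).symm⟩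
    have := (Subgroup.card_le_of_le hle).trans (h1 z hzA)
    omega
  by_cases hAM : A ≤ M
  · obtain ⟨u, hu, v, hv, huA, hvA, huv⟩ := exists_pair (A := A) (B := M) (by
      rw [inf_eq_left.2 hAM, hcA, hcM]; norm_num)
    refine (Subgroup.card_le_of_le ?_).trans (h2 u v huA hvA huv)
    exact fun z hz => ⟨⟨hZA hz, Subgroup.mem_centralizer_singleton_iff.2 (hZC z hz u hu)⟩,
      Subgroup.mem_centralizer_singleton_iff.2 (hZC z hz v hv)⟩
  · refine (Subgroup.card_le_of_le ?_).trans h3.le
    intro z hz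
    refine ⟨hZA hz, Subgroup.mem_center_iff.2 fun g => ?_⟩
    have hC : Subgroup.centralizer ({z} : Set S) = ⊤ := by
      refine hM.2 _ (lt_of_le_of_ne (fun m hm => Subgroup.mem_centralizer_singleton_iff.2 (hZC z hz m hm).symm) ?_)
      intro he
      exact hAM (he ▸ fun a ha => Subgroup.mem_centralizer_singleton_iff.2 (hab a ha z (hZA hz)))
    exact Subgroup.mem_centralizer_singleton_iff.1 (hC ▸ Subgroup.mem_top g)

end counting

open CfsgLib.Golay CfsgLib.Fusion.PermCert

/-- The central involution. -/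
def zL : List ℕ := [11, 22, 9, 6, 12, 14, 3, 7, 15, 2, 10, 0, 4, 20, 5, 8, 16, 17, 18, 19, 13, 21, 1, 23]

/-- A series through the subgroup of order 128. -/
def gensA : List (List ℕ) :=
  [zL,
   [0, 22, 2, 6, 4, 14, 3, 21, 15, 9, 18, 11, 12, 13, 5, 8, 23, 19, 10, 17, 20, 7, 1, 16],
   [0, 1, 9, 6, 4, 5, 3, 23, 15, 2, 17, 11, 12, 20, 14, 8, 21, 10, 19, 18, 13, 16, 22, 7],
   [0, 1, 2, 3, 12, 14, 6, 10, 15, 9, 7, 11, 4, 20, 5, 8, 19, 23, 21, 16, 13, 18, 22, 17],
   [4, 5, 13, 15, 0, 1, 8, 16, 6, 20, 19, 12, 11, 2, 22, 3, 7, 18, 17, 10, 9, 23, 14, 21],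
   [2, 3, 0, 1, 13, 15, 22, 18, 14, 11, 21, 9, 20, 4, 8, 5, 17, 16, 7, 23, 12, 10, 6, 19],
   [1, 0, 3, 2, 5, 4, 9, 17, 20, 6, 23, 22, 14, 15, 12, 13, 18, 7, 16, 21, 8, 19, 11, 10]]

/-- The top of the series. -/
def gensT : List (List ℕ) :=
  [[0, 5, 2, 8, 4, 1, 15, 16, 3, 9, 17, 11, 12, 13, 22, 6, 7, 10, 19, 18, 20, 23, 14, 21],
   [0, 1, 13, 8, 4, 5, 15, 21, 3, 20, 19, 11, 12, 2, 14, 6, 23, 18, 17, 10, 9, 7, 22, 16],
   [0, 3, 2, 1, 4, 8, 22, 10, 5, 9, 7, 11, 12, 13, 15, 14, 17, 16, 21, 23, 20, 18, 6, 19]]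

def one24 : List ℕ := List.range 24

/-- The elements of the subgroup of order 128. -/
def eA : List (List ℕ) := elems gensA

/-- The coset representatives. -/
def repsT : List (List ℕ) := polyList [one24] gensT

/-- The elements of `eA` commuting with `r` modulo the centre. -/
def cList (r : List ℕ) : List (List ℕ) :=
  eA.filter fun a => decide (compL a r = compL r a) || decide (compL a r = compL (compL r a) zL)

/-- The table of the seven lists. -/
def cTab : List (List ℕ × List (List ℕ)) := repsT.tail.map fun r => (r, cList r)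

def baseOk : Bool :=
  polyOk [one24] [] gensA && polyOk [one24] [] (gensA ++ gensT) && (gensA ++ gensT).all m24Test &&
  decide (elems (gensA ++ gensT) = repsT.flatMap fun r => eA.map fun a => compL a r) &&
  decide (repsT.head? = some one24) &&
  (gensA ++ gensT).all (fun g => decide (compL g zL = compL zL g)) &&
  decide ((elems (gensA ++ gensT)).filter (fun a => (gensA ++ gensT).all fun g => decide (compL a g = compL g a))
    = [one24, zL]) &&
  eA.all (fun a => decide (compL a a = one24) || decide (compL a a = zL)) &&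
  decide (zL ≠ one24)

def centOk : Bool :=
  cTab.all (fun p => decide (p.2.length ≤ 32)) &&
  cTab.all (fun p => cTab.all fun q => decide (p.1 = q.1) || decide ((p.2.filter fun a => q.2.contains a).length ≤ 16)) &&
  decide ((eA.filter fun a => cTab.all fun p => p.2.contains a).length ≤ 8)

theorem base_ok : baseOk = true := by decide +kernel

theorem cent_ok : centOk = true := by decide +kernel

theorem mem_gensAT {g : List ℕ} (h : g ∈ gensA ++ gensT) : m24Test g = true := by
  have h0 := base_ok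
  simp only [baseOk, Bool.and_eq_true, List.all_eq_true] at h0
  exact h0.1.1.1.1.1.1.2 g h

theorem commute_lists {a g : List ℕ} (ha : validL 24 a = true) (hg : validL 24 g = true) :
    compL a g = compL g a ↔ pOf a * pOf g = pOf g * pOf a := by
  constructor
  · intro h; rw [← pOf_compL ha hg, h, pOf_compL hg ha]
  · intro h
    rw [← pOf_compL ha hg, ← pOf_compL hg ha] at h
    exact eq_of_pOf_eq (validL_compL ha hg) (validL_compL hg ha) h

variable {P : Type*} [Group P] [Finite P]

theorem main (f : P →* Equiv.Perm GolayPt) (hf : Function.Injective f) (hr : f.range = genBy (gensA ++ gensT)) :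
    (∀ M : Subgroup (P ⧸ Subgroup.center P), IsCoatom M → Nat.card ↥(Subgroup.center ↥M) ≤ 8) ∧
      (∃ A : Subgroup (P ⧸ Subgroup.center P), Cfsg.IsElementaryAbelian 2 A ∧ Nat.card ↥A = 64) ∧
      ∀ A B : Subgroup (P ⧸ Subgroup.center P), IsMulCommutative ↥A → Nat.card ↥A = 64 →
        IsMulCommutative ↥B → Nat.card ↥B = 64 → A = B := by
  classical
  have : Fact (Nat.Prime 2) := ⟨Nat.prime_two⟩
  have h0 := base_ok
  simp only [baseOk, Bool.and_eq_true, List.all_eq_true, decide_eq_true_eq, Bool.or_eq_true] at h0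
  obtain ⟨⟨⟨⟨⟨⟨⟨⟨hpA, hpE⟩, -⟩, hsplit⟩, hhead⟩, hzg⟩, hcen⟩, hsq⟩, hz1⟩ := h0
  obtain ⟨hEA, -, hcardA⟩ := elems_spec hpA
  obtain ⟨hE, hgv, hcardE⟩ := elems_spec hpE
  set E := elems (gensA ++ gensT) with hEdef
  have hzv : validL 24 zL = true := hgv zL List.mem_cons_self
  have hone : validL 24 one24 = true := by decide
  -- coordinates
  have hin : ∀ p : P, ∃ a ∈ E, pOf a = f p := fun p => (hE.2 _).1 (hr ▸ ⟨p, rfl⟩)
  obtain ⟨z, hz⟩ : pOf zL ∈ f.range := hr ▸ mem_genBy List.mem_cons_self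
  have hcenter : ∀ p : P, p ∈ Subgroup.center P ↔ p = 1 ∨ p = z := by
    intro p
    constructor
    · intro hp
      obtain ⟨a, ha, hap⟩ := hin p
      have hmem : a ∈ [one24, zL] := by
        rw [← hcen, List.mem_filter, List.all_eq_true]
        refine ⟨ha, fun g hg => decide_eq_true ((commute_lists (hE.1 a ha) (hgv g hg)).2 ?_)⟩
        obtain ⟨q, hq⟩ : pOf g ∈ f.range := hr ▸ mem_genBy hg
        rw [hap, ← hq, ← map_mul, ← map_mul, (Subgroup.mem_center_iff.1 hp q)]
      rcases List.mem_cons.1 hmem with rfl | hmem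
      · exact Or.inl (hf (by rw [← hap, map_one]; exact pOf_range))
      · rw [List.mem_singleton] at hmem
        exact Or.inr (hf (by rw [← hap, hmem, hz]))
    · rintro (rfl | rfl)
      · exact one_mem _
      · refine Subgroup.mem_center_iff.2 fun q => hf ?_
        rw [map_mul, map_mul, hz]
        have hle : genBy (gensA ++ gensT) ≤ Subgroup.centralizer ({pOf zL} : Set (Equiv.Perm GolayPt)) :=
          genBy_le fun g hg => Subgroup.mem_centralizer_singleton_iff.2
            ((commute_lists (hgv g hg) hzv).1 (hzg g hg))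
        exact Subgroup.mem_centralizer_singleton_iff.1 (hle (hr ▸ ⟨q, rfl⟩))
  have hzne : z ≠ 1 := fun h => hz1 (eq_of_pOf_eq hzv hone (by rw [← hz, h, map_one]; exact pOf_range.symm))
  have hcZ : Nat.card ↥(Subgroup.center P) = 2 := by
    have : ((Subgroup.center P : Subgroup P) : Set P) = {1, z} := by
      ext p; simpa using hcenter p
    rw [← SetLike.coe_sort_coe, Nat.card_coe_set_eq, this, Set.ncard_pair (Ne.symm hzne)]
  have hcP : Nat.card P = 2 ^ 10 := by
    rw [Nat.card_congr (MonoidHom.ofInjective hf).toEquiv, hr, hcardE]; rfl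
  set π := QuotientGroup.mk' (Subgroup.center P) with hπ
  have hπs : Function.Surjective π := QuotientGroup.mk'_surjective _
  have hcS : Nat.card (P ⧸ Subgroup.center P) = 512 := by
    have := Subgroup.card_eq_card_quotient_mul_card_subgroup (Subgroup.center P)
    rw [hcP, hcZ] at this; omega
  have hker : ∀ p q : P, π p = π q ↔ q = p ∨ q = p * z := by
    intro p q
    rw [hπ, QuotientGroup.mk'_eq_mk']
    constructor
    · rintro ⟨c, hc, rfl⟩
      rcases (hcenter c).1 hc with rfl | rfl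
      · exact Or.inl (mul_one p)
      · exact Or.inr rfl
    · rintro (rfl | rfl)
      · exact ⟨1, one_mem _, mul_one _⟩
      · exact ⟨z, (hcenter z).2 (Or.inr rfl), rfl⟩
  have hmapcard : ∀ V : Subgroup P, Subgroup.center P ≤ V → 2 * Nat.card ↥(V.map π) = Nat.card ↥V := by
    intro V hV
    have h1 := Subgroup.card_mul_index ((Subgroup.center P).subgroupOf V)
    rw [Nat.card_congr (Subgroup.subgroupOfEquivOfLe hV).toEquiv, hcZ] at h1
    have h2 : (Subgroup.center P).subgroupOf V = (π.comp V.subtype).ker := by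
      rw [← MonoidHom.comap_ker, hπ, QuotientGroup.ker_mk']; rfl
    rw [h2, Subgroup.index_ker, MonoidHom.range_comp, Subgroup.range_subtype] at h1
    exact h1
  set A0 : Subgroup P := (genBy gensA).comap f with hA0
  set A : Subgroup (P ⧸ Subgroup.center P) := A0.map π with hAdef
  have hzA0 : z ∈ A0 := show f z ∈ genBy gensA by rw [hz]; exact mem_genBy List.mem_cons_self
  have hZA : Subgroup.center P ≤ A0 := fun p hp => by
    rcases (hcenter p).1 hp with rfl | rfl
    exacts [one_mem _, hzA0]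
  have hcA : Nat.card ↥A = 64 := by
    have h1 : Nat.card ↥A0 = 128 := by
      rw [← Subgroup.card_map_of_injective hf, hA0, Subgroup.map_comap_eq_self
        (hr ▸ genBy_le fun g hg => mem_genBy (List.mem_append_left _ hg)), hcardA]; rfl
    have h2 := hmapcard A0 hZA
    rw [h1] at h2
    rw [hAdef]; omega
  have hsqA : ∀ a ∈ A, a ^ 2 = 1 := by
    rintro _ ⟨p, hp, rfl⟩
    obtain ⟨a, ha, hap⟩ := (hEA.2 _).1 (show f p ∈ genBy gensA from hp)
    rw [← map_pow, ← MonoidHom.mem_ker, hπ, QuotientGroup.ker_mk', hcenter, pow_two]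
    rcases hsq a ha with h | h
    · exact Or.inl (hf (by rw [map_mul, ← hap, ← pOf_compL (hEA.1 a ha) (hEA.1 a ha), h, map_one]; exact pOf_range))
    · exact Or.inr (hf (by rw [map_mul, ← hap, ← pOf_compL (hEA.1 a ha) (hEA.1 a ha), h, hz]))
  have hab : ∀ a ∈ A, ∀ b ∈ A, a * b = b * a := by
    have hinv : ∀ a ∈ A, a⁻¹ = a := fun a ha => inv_eq_of_mul_eq_one_right (by rw [← pow_two]; exact hsqA a ha)
    intro a ha b hb
    have := hinv _ (mul_mem ha hb)
    rw [mul_inv_rev, hinv a ha, hinv b hb] at this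
    exact this.symm
  -- every element outside `A` has a coset representative in the table
  have hrep : ∀ x : P ⧸ Subgroup.center P, x ∉ A → ∃ t ∈ cTab, validL 24 t.1 = true ∧
      ∃ p : P, f p = pOf t.1 ∧ ∃ a ∈ A, x = a * π p := by
    intro x hx
    obtain ⟨q, rfl⟩ := hπs x
    obtain ⟨e, he, heq⟩ := hin q
    have hspl : e ∈ repsT.flatMap fun r => eA.map fun a => compL a r := hsplit ▸ he
    obtain ⟨r, hr', hre⟩ := List.mem_flatMap.1 hspl
    obtain ⟨a, ha, rfl⟩ := List.mem_map.1 hre
    have hrE : r ∈ E := by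
      have : compL one24 r ∈ E := by
        rw [hsplit]; exact List.mem_flatMap.2 ⟨r, hr', List.mem_map.2 ⟨one24, List.mem_cons_self, rfl⟩⟩
      revert hr'; intro hr'
      have hall : repsT.all (fun r => decide (compL one24 r = r)) = true := by decide +kernel
      rw [List.all_eq_true] at hall
      rwa [of_decide_eq_true (hall r hr')] at this
    obtain ⟨p, hp⟩ : pOf r ∈ f.range := hr ▸ (hE.2 _).2 ⟨r, hrE, rfl⟩
    obtain ⟨a', ha'⟩ : pOf a ∈ f.range := hr ▸
      genBy_le (fun g hg => mem_genBy (List.mem_append_left _ hg)) ((hEA.2 _).2 ⟨a, ha, rfl⟩)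
    have ha'A : π a' ∈ A := ⟨a', show f a' ∈ genBy gensA from ha' ▸ (hEA.2 _).2 ⟨a, ha, rfl⟩, rfl⟩
    have hq : q = a' * p := hf (by rw [← heq, map_mul, ha', hp, pOf_compL (hEA.1 a ha) (hE.1 r hrE)])
    have hrne : r ∈ repsT.tail := by
      rcases hl : repsT with _ | ⟨h, l⟩
      · rw [hl] at hhead; simp at hhead
      · rw [hl] at hhead hr'
        simp only [List.head?_cons, Option.some.injEq] at hhead
        rcases List.mem_cons.1 hr' with rfl | hr''
        · exact absurd (by rw [hq, show p = 1 from hf (by rw [hp, hhead, map_one]; exact pOf_range), mul_one]; exact ha'A) hx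
        · exact hr''
    exact ⟨(r, cList r), List.mem_map.2 ⟨r, hrne, rfl⟩, hE.1 r hrE, p, hp, π a', ha'A, by rw [hq, map_mul]⟩
  have hlist : ∀ {r : List ℕ} {p : P}, validL 24 r = true → f p = pOf r → ∀ q ∈ A0, π q * π p = π p * π q →
      ∃ e ∈ cList r, pOf e = f q := by
    intro r p hrv hp q hq hcomm
    obtain ⟨e, he, heq⟩ := (hEA.2 _).1 (show f q ∈ genBy gensA from hq)
    refine ⟨e, List.mem_filter.2 ⟨he, ?_⟩, heq⟩
    rw [← map_mul, ← map_mul, hker] at hcomm
    have hev := hEA.1 e he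
    rw [Bool.or_eq_true, decide_eq_true_eq, decide_eq_true_eq]
    rcases hcomm with h | h
    · left
      refine (commute_lists hev hrv).2 ?_
      rw [heq, ← hp, ← map_mul, ← map_mul, h]
    · right
      refine eq_of_pOf_eq (validL_compL hev hrv) (validL_compL (validL_compL hrv hev) hzv) ?_
      rw [pOf_compL hev hrv, pOf_compL (validL_compL hrv hev) hzv, pOf_compL hrv hev, heq, ← hp, ← hz,
        ← map_mul, ← map_mul, ← map_mul]
      congr 1
      have hzz : z * z = 1 := by
        rcases (hcenter (z * z)).1 (mul_mem ((hcenter z).2 (Or.inr rfl)) ((hcenter z).2 (Or.inr rfl))) with h' | h'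
        · exact h'
        · exact absurd (by simpa using h') hzne
      rw [h, mul_assoc, hzz, mul_one]
  -- the size of a subgroup covered by a list
  have hbound : ∀ (U : Subgroup (P ⧸ Subgroup.center P)) (L : List (List ℕ)), U ≤ A →
      (∀ q ∈ A0, π q ∈ U → ∃ e ∈ L, pOf e = f q) → 2 * Nat.card ↥U ≤ L.length := by
    intro U L hUA hL
    set V := U.comap π ⊓ A0 with hV
    have hVU : V.map π = U := by
      refine le_antisymm (fun u ⟨q, hq, he⟩ => he ▸ hq.1) fun u hu => ?_
      obtain ⟨q, hq, rfl⟩ := hUA hu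
      exact ⟨q, ⟨hu, hq⟩, rfl⟩
    have hcard : Nat.card ↥V = 2 * Nat.card ↥U := by
      have hle : Subgroup.center P ≤ V := fun c hc => ⟨show π c ∈ U by
        rw [show π c = 1 from (QuotientGroup.eq_one_iff c).2 hc]; exact one_mem _, hZA hc⟩
      have h1 := hmapcard V hle
      rw [hVU] at h1
      exact h1.symm
    rw [← hcard, ← SetLike.coe_sort_coe, Nat.card_coe_set_eq, ← Set.ncard_image_of_injective _ hf]
    have hsub : f '' (V : Set P) ⊆ ((L.map pOf).toFinset : Set (Equiv.Perm GolayPt)) := by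
      rintro _ ⟨q, hq, rfl⟩
      obtain ⟨e, he, heq⟩ := hL q hq.2 hq.1
      simpa using ⟨e, he, heq⟩
    refine (Set.ncard_le_ncard hsub (Finset.finite_toSet _)).trans ?_
    rw [Set.ncard_coe_finset]
    exact (List.toFinset_card_le _).trans (by simp)
  have hcommA : ∀ {r : List ℕ} {p : P}, validL 24 r = true → f p = pOf r → ∀ a ∈ A, ∀ q ∈ A0,
      π q ∈ Subgroup.centralizer ({a * π p} : Set (P ⧸ Subgroup.center P)) → ∃ e ∈ cList r, pOf e = f q := by
    intro r p hrv hp a ha q hq hc
    refine hlist hrv hp q hq ?_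
    have h := Subgroup.mem_centralizer_singleton_iff.1 hc
    rw [← mul_assoc, hab _ ⟨q, hq, rfl⟩ a ha, mul_assoc, mul_assoc] at h
    exact mul_left_cancel h
  have h0' := cent_ok
  simp only [centOk, Bool.and_eq_true, List.all_eq_true, decide_eq_true_eq, Bool.or_eq_true] at h0'
  obtain ⟨⟨ht1, ht2⟩, ht3⟩ := h0'
  have htab : ∀ t ∈ cTab, t.2 = cList t.1 := fun t ht => by
    obtain ⟨r, -, rfl⟩ := List.mem_map.1 ht; rfl
  have H1 : ∀ x : P ⧸ Subgroup.center P, x ∉ A →
      Nat.card ↥(A ⊓ Subgroup.centralizer ({x} : Set (P ⧸ Subgroup.center P))) ≤ 16 := by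
    intro x hx
    obtain ⟨t, ht, htv, p, hp, a, ha, rfl⟩ := hrep x hx
    have := hbound _ (cList t.1) inf_le_left fun q hq hqU => hcommA htv hp a ha q hq hqU.2
    have := ht1 t ht
    rw [htab t ht] at this
    omega
  have H2 : ∀ x y : P ⧸ Subgroup.center P, x ∉ A → y ∉ A → x⁻¹ * y ∉ A →
      Nat.card ↥(A ⊓ Subgroup.centralizer ({x} : Set (P ⧸ Subgroup.center P)) ⊓
        Subgroup.centralizer ({y} : Set (P ⧸ Subgroup.center P))) ≤ 8 := by
    intro x y hx hy hxy
    obtain ⟨t, ht, htv, p, hp, a, ha, rfl⟩ := hrep x hx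
    obtain ⟨t', ht', htv', p', hp', a', ha', rfl⟩ := hrep y hy
    rcases ht2 t ht t' ht' with he | hlen
    · exfalso
      have hpp : p = p' := hf (by rw [hp, hp', he])
      subst hpp
      apply hxy
      have hnorm : ∀ b ∈ A, (π p)⁻¹ * b * π p ∈ A := by
        have hN : A0.Normal := by
          have hlist' : (gensA ++ gensT).all (fun g => gensA.all fun d =>
              eA.contains (conjL g d) && conjOk g d (conjL g d)) = true := by decide +kernel
          simp only [List.all_eq_true, Bool.and_eq_true] at hlist'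
          have hle : genBy (gensA ++ gensT) ≤ Subgroup.normalizer (genBy gensA : Set (Equiv.Perm GolayPt)) := by
            refine genBy_le fun g hg => ?_
            have h1 : genBy gensA ≤ (genBy gensA).comap (MulAut.conj (pOf g)).toMonoidHom := genBy_le fun d hd => by
              show pOf g * pOf d * (pOf g)⁻¹ ∈ genBy gensA
              rw [← conjOk_spec (hgv g hg) (hgv d (List.mem_append_left _ hd)) (hlist' g hg d hd).2]
              exact hEA.mem (hlist' g hg d hd).1
            exact CfsgLib.Fusion.mem_normalizer_of_forall fun _ hy => h1 hy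
          refine ⟨fun b hb g => ?_⟩
          show f (g * b * g⁻¹) ∈ genBy gensA
          rw [map_mul, map_mul, map_inv]
          exact (Subgroup.mem_normalizer_iff.1 (hle (hr ▸ ⟨g, rfl⟩)) _).1 hb
        have : A.Normal := hN.map π hπs
        intro b hb
        exact Subgroup.Normal.conj_mem' inferInstance b hb (π p)
      have := hnorm _ (mul_mem (inv_mem ha) ha')
      simpa [mul_assoc] using this
    · have := hbound _ ((cList t.1).filter fun e => (cList t'.1).contains e) (inf_le_left.trans inf_le_left)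
        fun q hq hqU => by
          obtain ⟨e, he, heq⟩ := hcommA htv hp a ha q hq hqU.1.2
          obtain ⟨e', he', heq'⟩ := hcommA htv' hp' a' ha' q hq hqU.2
          refine ⟨e, List.mem_filter.2 ⟨he, ?_⟩, heq⟩
          rw [eq_of_pOf_eq (hEA.1 e (List.mem_filter.1 he).1) (hEA.1 e' (List.mem_filter.1 he').1) (heq.trans heq'.symm)]
          exact List.contains_iff_mem.2 he'
      rw [htab t ht, htab t' ht'] at hlen
      omega
  have H3 : Nat.card ↥(A ⊓ Subgroup.center (P ⧸ Subgroup.center P)) < 8 := by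
    have := hbound (A ⊓ Subgroup.center (P ⧸ Subgroup.center P))
      (eA.filter fun e => cTab.all fun t => t.2.contains e) inf_le_left fun q hq hqU => by
        obtain ⟨e, he, heq⟩ := (hEA.2 _).1 (show f q ∈ genBy gensA from hq)
        refine ⟨e, List.mem_filter.2 ⟨he, List.all_eq_true.2 fun t ht => ?_⟩, heq⟩
        obtain ⟨r, hr', rfl⟩ := List.mem_map.1 ht
        have hrepsV : repsT.all (fun r => validL 24 r && decide (compL one24 r = r)) = true := by decide +kernel
        rw [List.all_eq_true] at hrepsV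
        have hrv := hrepsV r (List.mem_of_mem_tail hr')
        rw [Bool.and_eq_true, decide_eq_true_eq] at hrv
        obtain ⟨p, hp⟩ : pOf r ∈ f.range := hr ▸ (hE.2 _).2 ⟨r, hsplit ▸
          List.mem_flatMap.2 ⟨r, List.mem_of_mem_tail hr', List.mem_map.2 ⟨one24, List.mem_cons_self, hrv.2⟩⟩, rfl⟩
        obtain ⟨e', he', heq'⟩ := hlist hrv.1 hp q hq ((Subgroup.mem_center_iff.1 hqU.2 (π p)).symm)
        rw [List.contains_iff_mem, eq_of_pOf_eq (hEA.1 e he) (hEA.1 e' (List.mem_filter.1 he').1) (heq.trans heq'.symm)]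
        exact he'
    omega
  have hS : IsPGroup 2 (P ⧸ Subgroup.center P) := IsPGroup.of_card (n := 9) (by rw [hcS]; norm_num)
  refine ⟨fun M hM => card_center_coatom hab hcA hcS H1 H2 H3 hS hM,
    ⟨A, ⟨⟨⟨fun a b => Subtype.ext (hab a a.2 b b.2)⟩⟩, hsqA⟩, hcA⟩, fun B C hB hcB hC hcC => ?_⟩
  have key : ∀ B : Subgroup (P ⧸ Subgroup.center P), IsMulCommutative ↥B → Nat.card ↥B = 64 → B = A :=
    fun B hB hcB => eq_of_abelian hab hcA hcS H1 H2 H3
      (fun a ha b hb => congrArg Subtype.val (hB.is_comm.comm ⟨a, ha⟩ ⟨b, hb⟩)) hcB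
  rw [key B hB hcB, key C hC hcC]

end CfsgLib.InvolChar.M24SylowQuot
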