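import Mathlib
import Cfsg.Agent.S0215
import Cfsg.Agent.S0205
import Cfsg.Agent.Lib.Solvable.MinimalNormal

/-!
# Classes of involutions all whose products have `p`-power order

If a conjugation-invariant set `D` of involutions generates `G`, all products of two members have
`p`-power order, and these products generate a solvable subgroup `M`, then `M` is a `p`-group:
on a normal `q`-subgroup of `M`, `q ≠ p`, every member of `D` acts trivially.
-/

set_option autoImplicit false

universe u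

namespace CfsgLib.InvolChar.PowerProducts

open Subgroup

variable {G : Type u} [Group G]

/-- The subgroup generated by the products of two members of `D`. -/
abbrev prods (D : Set G) : Subgroup G := closure {z : G | ∃ x ∈ D, ∃ y ∈ D, z = x * y}

theorem prods_normal {D : Set G} (hD : ∀ g : G, ∀ x ∈ D, g * x * g⁻¹ ∈ D) : (prods D).Normal := by
  refine ⟨fun n hn g => ?_⟩
  induction hn using closure_induction with
  | mem z hz =>
    obtain ⟨x, hx, y, hy, rfl⟩ := hz
    refine subset_closure ⟨g * x * g⁻¹, hD g x hx, g * y * g⁻¹, hD g y hy, ?_⟩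
    group
  | one => simp [one_mem]
  | mul a b _ _ ha hb =>
    have e : g * (a * b) * g⁻¹ = g * a * g⁻¹ * (g * b * g⁻¹) := by group
    rw [e]; exact mul_mem ha hb
  | inv a _ ha =>
    have e : g * a⁻¹ * g⁻¹ = (g * a * g⁻¹)⁻¹ := by group
    rw [e]; exact inv_mem ha

theorem map_prods {G' : Type u} [Group G'] (f : G →* G') (D : Set G) :
    (prods D).map f = prods (f '' D) := by
  rw [MonoidHom.map_closure]
  congr 1
  ext z
  constructor
  · rintro ⟨_, ⟨x, hx, y, hy, rfl⟩, rfl⟩
    exact ⟨f x, ⟨x, hx, rfl⟩, f y, ⟨y, hy, rfl⟩, map_mul f x y⟩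
  · rintro ⟨_, ⟨x, hx, rfl⟩, _, ⟨y, hy, rfl⟩, rfl⟩
    exact ⟨x * y, ⟨x, hx, y, hy, rfl⟩, map_mul f x y⟩

theorem isPGroup_prods_aux (p : ℕ) [hp : Fact p.Prime] (n : ℕ) :
    ∀ (G : Type u) [Group G] [Finite G], Nat.card G = n → ∀ D : Set G,
      (∀ g : G, ∀ x ∈ D, g * x * g⁻¹ ∈ D) → (∀ x ∈ D, x * x = 1) → closure D = ⊤ →
      (∀ x ∈ D, ∀ y ∈ D, ∃ k : ℕ, (x * y) ^ p ^ k = 1) → Group.IsSolvable ↥(prods D) →
      IsPGroup p ↥(prods D) := by
  induction n using Nat.strong_induction_on with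
  | _ n ih =>
    intro G _ _ hn D hD hsq hgen hpow hsol
    have := prods_normal hD
    by_cases hM : prods D = ⊥
    · rw [hM]; exact IsPGroup.of_bot
    obtain ⟨V, hVn, hV1, hVM, hmin⟩ := Solvable.exists_minimal_normal_le (prods D) hM
    have hVsol : Group.IsSolvable ↥V :=
      Group.isSolvable_of_isSolvable_injective (inclusion_injective hVM)
    obtain ⟨q, hq, hVq⟩ := Solvable.exists_prime_pow_eq_one_of_minimal_normal V hV1 hmin hVsol
    let π := QuotientGroup.mk' V
    have hπ : Function.Surjective π := QuotientGroup.mk'_surjective V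
    have hquot : IsPGroup p ↥((prods D).map π) := by
      rw [map_prods]
      refine ih _ (hn ▸ Solvable.card_quotient_lt V hV1) (G ⧸ V) rfl (π '' D) ?_ ?_ ?_ ?_ ?_
      · rintro g' _ ⟨x, hx, rfl⟩
        obtain ⟨g, rfl⟩ := hπ g'
        exact ⟨g * x * g⁻¹, hD g x hx, by rw [map_mul, map_mul, map_inv]⟩
      · rintro _ ⟨x, hx, rfl⟩
        rw [← map_mul, hsq x hx, map_one]
      · rw [← MonoidHom.map_closure, hgen, map_top_of_surjective π hπ]
      · rintro _ ⟨x, hx, rfl⟩ _ ⟨y, hy, rfl⟩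
        obtain ⟨k, hk⟩ := hpow x hx y hy
        exact ⟨k, by rw [← map_mul, ← map_pow, hk, map_one]⟩
      · rw [← map_prods]
        exact Group.isSolvable_of_surjective (π.subgroupMap_surjective (prods D))
    by_cases hqp : q = p
    · -- `V` is a `p`-group
      subst hqp
      intro m
      obtain ⟨k, hk⟩ := hquot ⟨π (m : G), mem_map_of_mem π m.2⟩
      have h1 : ((m : G) ^ q ^ k) ∈ V := by
        have := congrArg Subtype.val hk
        simp only [SubgroupClass.coe_pow, OneMemClass.coe_one] at this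
        rwa [← map_pow, QuotientGroup.mk'_apply, QuotientGroup.eq_one_iff] at this
      refine ⟨k + 1, Subtype.ext ?_⟩
      rw [SubgroupClass.coe_pow, OneMemClass.coe_one, pow_succ, pow_mul]
      exact hVq _ h1
    -- every member of `D` centralises `V`
    have hcentD : ∀ x ∈ D, ∀ v ∈ V, v * x * v⁻¹ = x := by
      intro x hx v hv
      have hy := hD v x hx
      have hxi : x⁻¹ = x := inv_eq_of_mul_eq_one_right (hsq x hx)
      have hw : v * x * v⁻¹ * x ∈ V := by
        have e : v * x * v⁻¹ * x = v * (x * v⁻¹ * x⁻¹) := by rw [hxi]; group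
        rw [e]
        exact mul_mem hv (hVn.conj_mem _ (inv_mem hv) x)
      obtain ⟨k, hk⟩ := hpow _ hy x hx
      have h1 : orderOf (v * x * v⁻¹ * x) ∣ p ^ k := orderOf_dvd_of_pow_eq_one hk
      have h2 : orderOf (v * x * v⁻¹ * x) ∣ q := orderOf_dvd_of_pow_eq_one (hVq _ hw)
      have hco : Nat.Coprime (p ^ k) q :=
        Nat.Coprime.pow_left _ ((Nat.coprime_primes hp.out hq).2 (Ne.symm hqp))
      have h3 : v * x * v⁻¹ * x = 1 :=
        orderOf_eq_one_iff.1 (Nat.dvd_one.1 (hco.gcd_eq_one ▸ Nat.dvd_gcd h1 h2))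
      calc v * x * v⁻¹ = v * x * v⁻¹ * x * x⁻¹ := by group
        _ = x := by rw [h3, one_mul, hxi]
    have hcen : ∀ v ∈ V, ∀ g : G, g * v = v * g := by
      intro v hv g
      have hg : g ∈ centralizer ({v} : Set G) := by
        have hle : closure D ≤ centralizer ({v} : Set G) := by
          rw [closure_le]
          intro x hx
          rw [SetLike.mem_coe, mem_centralizer_singleton_iff]
          have h := hcentD x hx v hv
          calc x * v = v * x * v⁻¹ * v := by rw [h]
            _ = v * x := by group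
        exact hle (hgen ▸ mem_top g)
      exact mem_centralizer_singleton_iff.1 hg
    -- the Sylow `p`-subgroup of `M` is normal and contains all the generators
    obtain ⟨P⟩ : Nonempty (Sylow p ↥(prods D)) := inferInstance
    let V' : Subgroup ↥(prods D) := V.subgroupOf (prods D)
    have hcenV : V' ≤ Subgroup.center ↥(prods D) := fun v hv =>
      mem_center_iff.2 fun g => Subtype.ext (hcen (v : G) hv (g : G))
    have hV'q : ∀ v ∈ V', (v : ↥(prods D)) ^ q = 1 := fun v hv => Subtype.ext (hVq _ hv)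
    have hidx : ∃ k, V'.index = p ^ k := by
      obtain ⟨k, hk⟩ := IsPGroup.iff_card.1 hquot
      refine ⟨k, ?_⟩
      have hker : (π.subgroupMap (prods D)).ker = V' := by
        ext m
        rw [MonoidHom.mem_ker, mem_subgroupOf, Subtype.ext_iff]
        exact QuotientGroup.eq_one_iff (m : G)
      rw [← hker, Subgroup.index_ker, MonoidHom.range_eq_top.2 (π.subgroupMap_surjective (prods D)),
        card_top, hk]
    have htop : V' ⊔ (P : Subgroup ↥(prods D)) = ⊤ := by
      obtain ⟨k, hk⟩ := hidx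
      have h1 : (V' ⊔ (P : Subgroup ↥(prods D))).index ∣ p ^ k :=
        hk ▸ index_dvd_of_le le_sup_left
      have h2 : (V' ⊔ (P : Subgroup ↥(prods D))).index ∣ (P : Subgroup ↥(prods D)).index :=
        index_dvd_of_le le_sup_right
      have hco : Nat.Coprime (p ^ k) (P : Subgroup ↥(prods D)).index :=
        Nat.Coprime.pow_left _ ((hp.out.coprime_iff_not_dvd).2 P.not_dvd_index)
      exact index_eq_one.1 (Nat.dvd_one.1 (hco.gcd_eq_one ▸ Nat.dvd_gcd h1 h2))
    have hPn : (P : Subgroup ↥(prods D)).Normal := by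
      rw [← normalizer_eq_top_iff, eq_top_iff, ← htop, sup_le_iff]
      exact ⟨hcenV.trans (Subgroup.center_le_normalizer _), le_normalizer⟩
    have hMP : prods D ≤ (P : Subgroup ↥(prods D)).map (prods D).subtype := by
      rw [closure_le]
      rintro z ⟨x, hx, y, hy, rfl⟩
      have hz : x * y ∈ prods D := subset_closure ⟨x, hx, y, hy, rfl⟩
      obtain ⟨k, hk⟩ := hpow x hx y hy
      have hzp : IsPGroup p ↥(zpowers (⟨x * y, hz⟩ : ↥(prods D))) := by
        have hdvd : Nat.card ↥(zpowers (⟨x * y, hz⟩ : ↥(prods D))) ∣ p ^ k := by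
          rw [Nat.card_zpowers]
          exact orderOf_dvd_of_pow_eq_one (Subtype.ext (by simpa using hk))
        obtain ⟨j, _, hj⟩ := (Nat.dvd_prime_pow hp.out).1 hdvd
        exact IsPGroup.of_card hj
      obtain ⟨Q, hQ⟩ := hzp.exists_le_sylow
      have := Sylow.unique_of_normal P hPn
      have hQP : Q = P := Subsingleton.elim _ _
      exact ⟨⟨x * y, hz⟩, hQP ▸ hQ (mem_zpowers _), rfl⟩
    exact (P.2.map _).to_le hMP

/-- The products of two members generate a `p`-group. -/
theorem isPGroup_prods [Finite G] {p : ℕ} [Fact p.Prime] {D : Set G}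
    (hD : ∀ g : G, ∀ x ∈ D, g * x * g⁻¹ ∈ D) (hsq : ∀ x ∈ D, x * x = 1) (hgen : closure D = ⊤)
    (hpow : ∀ x ∈ D, ∀ y ∈ D, ∃ k : ℕ, (x * y) ^ p ^ k = 1)
    (hsol : Group.IsSolvable ↥(prods D)) : IsPGroup p ↥(prods D) :=
  isPGroup_prods_aux p (Nat.card G) G rfl D hD hsq hgen hpow hsol

/-- A class of involutions all whose products have `p`-power order, `p` odd, generates a group with
nilpotent commutator subgroup. -/
theorem isNilpotent_commutator [Finite G] {p : ℕ} [hp : Fact p.Prime] (hodd : p ≠ 2) {D : Set G}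
    (hinv : ∀ d ∈ D, orderOf d = 2) {d : G} (hdD : d ∈ D) (hcl : ∀ x, x ∈ D ↔ IsConj d x)
    (hgen : closure D = ⊤) (hprod : ∀ x ∈ D, ∀ y ∈ D, x ≠ y → ∃ k : ℕ, orderOf (x * y) = p ^ k) :
    Group.IsNilpotent ↥(_root_.commutator G) := by
  have hsq : ∀ x ∈ D, x * x = 1 := fun x hx => by
    rw [← pow_two]; exact orderOf_dvd_iff_pow_eq_one.1 (hinv x hx ▸ dvd_rfl)
  have hD : ∀ g : G, ∀ x ∈ D, g * x * g⁻¹ ∈ D := fun g x hx =>
    (hcl _).2 (((hcl x).1 hx).trans (isConj_iff.2 ⟨g, rfl⟩))
  have hpow : ∀ x ∈ D, ∀ y ∈ D, ∃ k : ℕ, (x * y) ^ p ^ k = 1 := by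
    intro x hx y hy
    by_cases h : x = y
    · exact ⟨0, by rw [h, hsq y hy, one_pow]⟩
    · obtain ⟨k, hk⟩ := hprod x hx y hy h
      exact ⟨k, by rw [← hk, pow_orderOf_eq_one]⟩
  -- `d` is isolated in a Sylow 2-subgroup containing it
  have hd2 : IsPGroup 2 ↥(zpowers d) := IsPGroup.of_card (n := 1) (by
    rw [Nat.card_zpowers, hinv d hdD, pow_one])
  have : Fact (Nat.Prime 2) := ⟨Nat.prime_two⟩
  obtain ⟨P, hP⟩ := hd2.exists_le_sylow
  have hdP : d ∈ P := hP (mem_zpowers d)
  obtain ⟨N, hNn, hNodd, hN⟩ := Cfsg.Agent.S0215.result P d (hinv d hdD) hdP (by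
    intro g hg
    obtain ⟨k, hk⟩ := hpow _ (hD g d hdD) d hdD
    obtain ⟨j, hj⟩ := P.2 ⟨g * d * g⁻¹ * d, mul_mem hg hdP⟩
    have h1 : orderOf (g * d * g⁻¹ * d) ∣ p ^ k := orderOf_dvd_of_pow_eq_one hk
    have h2 : orderOf (g * d * g⁻¹ * d) ∣ 2 ^ j :=
      orderOf_dvd_of_pow_eq_one (congrArg Subtype.val hj)
    have hco : Nat.Coprime (p ^ k) (2 ^ j) :=
      Nat.Coprime.pow k j ((Nat.coprime_primes hp.out Nat.prime_two).2 hodd)
    have h3 : g * d * g⁻¹ * d = 1 :=
      orderOf_eq_one_iff.1 (Nat.dvd_one.1 (hco.gcd_eq_one ▸ Nat.dvd_gcd h1 h2))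
    exact mul_right_cancel (h3.trans (hsq d hdD).symm))
  have hdi : d⁻¹ = d := inv_eq_of_mul_eq_one_right (hsq d hdD)
  have hMN : prods D ≤ N := by
    rw [closure_le]
    rintro z ⟨x, hx, y, hy, rfl⟩
    obtain ⟨g, rfl⟩ := isConj_iff.1 ((hcl x).1 hx)
    obtain ⟨h, rfl⟩ := isConj_iff.1 ((hcl y).1 hy)
    have e : g * d * g⁻¹ * (h * d * h⁻¹) = (d * g * d⁻¹ * g⁻¹)⁻¹ * (d * h * d⁻¹ * h⁻¹) := by
      have hdd : d * d = 1 := hsq d hdD
      rw [hdi]
      calc g * d * g⁻¹ * (h * d * h⁻¹)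
          = g * d * g⁻¹ * (d⁻¹ * (d * h * d * h⁻¹)) * 1 := by group
        _ = (d * g * d * g⁻¹)⁻¹ * (d * h * d * h⁻¹) := by
          rw [hdi]
          have : (d * g * d * g⁻¹)⁻¹ = g * d * g⁻¹ * d := by
            rw [mul_inv_rev, mul_inv_rev, mul_inv_rev, inv_inv, hdi]; group
          rw [this]; group
    rw [e]
    exact mul_mem (inv_mem (hN g)) (hN h)
  have hsol : Group.IsSolvable ↥(prods D) := Cfsg.Agent.S0205.result
    (hNodd.of_dvd_nat (card_dvd_of_le hMN))
  have hM := isPGroup_prods hD hsq hgen hpow hsol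
  have := prods_normal hD
  -- the quotient by the products is generated by the image of `d`
  have hle : _root_.commutator G ≤ prods D := by
    have hcyc : (zpowers (QuotientGroup.mk' (prods D) d)) = ⊤ := by
      rw [eq_top_iff, ← map_top_of_surjective _ (QuotientGroup.mk'_surjective (prods D)), ← hgen,
        MonoidHom.map_closure, closure_le]
      rintro _ ⟨x, hx, rfl⟩
      have : QuotientGroup.mk' (prods D) x = QuotientGroup.mk' (prods D) d := by
        rw [QuotientGroup.mk'_eq_mk']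
        refine ⟨x⁻¹ * d, ?_, by group⟩
        rw [inv_eq_of_mul_eq_one_right (hsq x hx)]
        exact subset_closure ⟨x, hx, d, hdD, rfl⟩
      rw [this]; exact mem_zpowers _
    have : IsCyclic (G ⧸ prods D) := isCyclic_iff_exists_zpowers_eq_top.2 ⟨_, hcyc⟩
    rw [← QuotientGroup.ker_mk' (prods D)]
    let cg : CommGroup (G ⧸ prods D) := IsCyclic.commGroup
    exact Abelianization.commutator_subset_ker (A := G ⧸ prods D) (QuotientGroup.mk' (prods D))
  exact (hM.to_le hle).isNilpotent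

end CfsgLib.InvolChar.PowerProducts
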