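import Mathlib
import Cfsg.Agent.Lib.Solvable.UniqueSubgroup

/-!
2-groups with a generalized quaternion quotient by a central subgroup.
-/

set_option autoImplicit false

namespace CfsgLib.InvolChar

open Subgroup

variable {S : Type*} [Group S] [Finite S]

/-- Data of a quotient isomorphic to a generalized quaternion group: `a` maps onto the cyclic part. -/
theorem quaternion_data (hS : IsPGroup 2 S) (C : Subgroup S) [C.Normal]
    (hna : ¬ IsMulCommutative (S ⧸ C)) (hu : ∃! x : S ⧸ C, orderOf x = 2) :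
    ∃ n : ℕ, 0 < n ∧ ∃ e : S ⧸ C ≃* QuaternionGroup (2 ^ n), True := by
  haveI : Fact (Nat.Prime 2) := ⟨Nat.prime_two⟩
  obtain ⟨x₀, -, huniq⟩ := hu
  rcases CfsgLib.Solvable.isCyclic_or_quaternion (hS.to_quotient C)
      (fun x y hx hy => by rw [huniq x hx, ← huniq y hy]; exact mem_zpowers y) with h | ⟨-, n, ⟨e⟩⟩
  · exact absurd (inferInstance : IsMulCommutative (S ⧸ C)) hna
  · refine ⟨n, Nat.pos_of_ne_zero fun h0 => ?_, e, trivial⟩
    subst h0
    refine hna ⟨⟨fun a b => e.injective ?_⟩⟩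
    rw [map_mul, map_mul]
    generalize e a = u
    generalize e b = v
    revert u v
    decide

omit [Finite S] in
/-- The normal form in the preimage: `g = aⁱ c` or `g = aⁱ b c`. -/
theorem exists_normal_form {n : ℕ} (C : Subgroup S) [C.Normal] (e : S ⧸ C ≃* QuaternionGroup (2 ^ n))
    {a b : S} (ha : e (QuotientGroup.mk' C a) = QuaternionGroup.a 1)
    (hb : e (QuotientGroup.mk' C b) = QuaternionGroup.xa 0) (g : S) :
    ∃ (i : ℕ), ∃ c ∈ C, g = a ^ i * c ∨ g = b * a ^ i * c := by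
  obtain ⟨i, h⟩ : ∃ i : ℕ, e (QuotientGroup.mk' C g) = QuaternionGroup.a (i : ZMod (2 * 2 ^ n)) ∨
      e (QuotientGroup.mk' C g) = QuaternionGroup.xa (i : ZMod (2 * 2 ^ n)) := by
    cases e (QuotientGroup.mk' C g) with
    | a i => exact ⟨i.val, Or.inl (by rw [ZMod.natCast_zmod_val])⟩
    | xa i => exact ⟨i.val, Or.inr (by rw [ZMod.natCast_zmod_val])⟩
  refine ⟨i, ?_⟩
  rcases h with h | h
  · refine ⟨(a ^ i)⁻¹ * g, ?_, Or.inl (by group)⟩
    refine QuotientGroup.eq.mp (e.injective ?_)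
    show e (QuotientGroup.mk' C (a ^ i)) = e (QuotientGroup.mk' C g)
    rw [map_pow, map_pow, ha, h, QuaternionGroup.a_one_pow]
  · refine ⟨(b * a ^ i)⁻¹ * g, ?_, Or.inr (by group)⟩
    refine QuotientGroup.eq.mp (e.injective ?_)
    show e (QuotientGroup.mk' C (b * a ^ i)) = e (QuotientGroup.mk' C g)
    rw [map_mul, map_mul, map_pow, map_pow, ha, hb, h, QuaternionGroup.a_one_pow, QuaternionGroup.xa_mul_a, zero_add]

end CfsgLib.InvolChar
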