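import Mathlib

/-!
Two involutive permutations with the same number of fixed points, on more than four points, have a conjugate
involution whose products with both of them have odd order.
-/

set_option autoImplicit false
set_option maxHeartbeats 1000000

namespace CfsgLib.InvolChar.Switch

open Equiv Equiv.Perm

variable {α : Type*} [Fintype α] [DecidableEq α]

/-- The period of a point. -/
noncomputable def per (g : Perm α) (w : α) : ℕ := Function.minimalPeriod g w

theorem pow_iter (g : Perm α) (n : ℕ) (w : α) : (g ^ n) w = g^[n] w := by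
  rw [Equiv.Perm.coe_pow]

theorem pow_per (g : Perm α) (w : α) : (g ^ per g w) w = w := by
  rw [pow_iter]; exact Function.iterate_minimalPeriod

theorem per_dvd {g : Perm α} {w : α} {n : ℕ} (h : (g ^ n) w = w) : per g w ∣ n := by
  rw [pow_iter] at h
  exact Function.IsPeriodicPt.minimalPeriod_dvd h

theorem per_pos (g : Perm α) (w : α) : 0 < per g w := by
  apply Function.IsPeriodicPt.minimalPeriod_pos (n := orderOf g) (orderOf_pos g)
  show g^[orderOf g] w = w
  rw [← pow_iter, pow_orderOf_eq_one]; rfl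

theorem ne_of_lt_per {g : Perm α} {w : α} {i : ℕ} (h0 : 0 < i) (h : i < per g w) : (g ^ i) w ≠ w :=
  fun e => absurd (Nat.le_of_dvd h0 (per_dvd e)) (not_le.2 h)

theorem pow_inj_lt {g : Perm α} {w : α} {i j : ℕ} (hij : i < j) (hj : j < i + per g w) :
    (g ^ i) w ≠ (g ^ j) w := by
  intro e
  have : (g ^ i) ((g ^ (j - i)) w) = (g ^ i) w := by
    rw [← Perm.mul_apply, ← pow_add, show i + (j - i) = j by omega]; exact e.symm
  exact ne_of_lt_per (by omega) (by omega) ((g ^ i).injective this)

theorem per_zpow (g : Perm α) (k : ℤ) (w : α) : per g ((g ^ k) w) = per g w := by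
  apply Nat.dvd_antisymm <;> apply per_dvd
  · rw [← Perm.mul_apply, ← zpow_natCast, ← zpow_add, add_comm, zpow_add, Perm.mul_apply, zpow_natCast, pow_per]
  · apply (g ^ k).injective
    rw [← Perm.mul_apply, ← zpow_natCast, ← zpow_add, add_comm, zpow_add, Perm.mul_apply, zpow_natCast, pow_per]

theorem per_sc {g : Perm α} {v w : α} (h : g.SameCycle v w) : per g v = per g w := by
  obtain ⟨k, rfl⟩ := h
  rw [per_zpow]

/-- A point whose period is odd. -/
def Good (g : Perm α) (w : α) : Prop := Odd (per g w)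

theorem good_of_return {g : Perm α} {w : α} {n : ℕ} (hn : Odd n) (h : (g ^ n) w = w) : Good g w :=
  Odd.of_dvd_nat hn (per_dvd h)

theorem good_apply {g : Perm α} {w : α} : Good g (g w) ↔ Good g w := by
  have h := per_zpow g 1 w
  rw [zpow_one] at h
  rw [Good, Good, h]

theorem good_pow {g : Perm α} {w : α} (n : ℕ) : Good g ((g ^ n) w) ↔ Good g w := by
  rw [Good, Good, ← zpow_natCast, per_zpow]

theorem odd_orderOf_of_good {g : Perm α} (h : ∀ w, Good g w) : Odd (orderOf g) := by
  refine Odd.of_dvd_nat ?_ (orderOf_dvd_of_pow_eq_one (n := ∏ w, per g w) ?_)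
  · exact Finset.prod_induction _ Odd (fun a b => Odd.mul) odd_one (fun w _ => h w)
  · ext w
    obtain ⟨c, hc⟩ := Finset.dvd_prod_of_mem (fun w => per g w) (Finset.mem_univ w)
    rw [hc, pow_mul, Perm.one_apply]
    clear hc
    induction c with
    | zero => simp
    | succ c ih => rw [pow_succ, Perm.mul_apply, pow_per, ih]

/-! ### three-cycles -/

/-- The three-cycle `p → q → s → p`. -/
def cyc (p q s : α) : Perm α := swap p q * swap q s

variable {p q s : α}

theorem cyc_p (hpq : p ≠ q) (hps : p ≠ s) : cyc p q s p = q := by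
  simp [cyc, swap_apply_of_ne_of_ne hpq hps]
theorem cyc_q (hps : p ≠ s) (hqs : q ≠ s) : cyc p q s q = s := by
  simp [cyc, swap_apply_of_ne_of_ne hps.symm hqs.symm]
theorem cyc_s : cyc p q s s = p := by simp [cyc]
theorem cyc_fix {w : α} (h1 : w ≠ p) (h2 : w ≠ q) (h3 : w ≠ s) : cyc p q s w = w := by
  simp [cyc, swap_apply_of_ne_of_ne h2 h3, swap_apply_of_ne_of_ne h1 h2]

theorem cyc_cube (hpq : p ≠ q) (hps : p ≠ s) (hqs : q ≠ s) : cyc p q s ^ 3 = 1 := by
  ext w
  simp only [pow_succ, pow_zero, one_mul, Perm.mul_apply, Perm.one_apply]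
  by_cases h1 : w = p
  · subst h1; rw [cyc_p hpq hps, cyc_q hps hqs, cyc_s]
  by_cases h2 : w = q
  · subst h2; rw [cyc_q hps hqs, cyc_s, cyc_p hpq hps]
  by_cases h3 : w = s
  · subst h3; rw [cyc_s, cyc_p hpq hps, cyc_q hps hqs]
  rw [cyc_fix h1 h2 h3, cyc_fix h1 h2 h3, cyc_fix h1 h2 h3]

theorem cyc_inv : (cyc p q s)⁻¹ = swap q s * swap p q := by simp [cyc, mul_inv_rev]

theorem cyc_inv' (hpq : p ≠ q) (hps : p ≠ s) (hqs : q ≠ s) : (cyc p q s)⁻¹ = cyc s q p := by
  rw [cyc_inv, cyc, swap_comm s q, swap_comm q p]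

theorem cyc_rot (hpq : p ≠ q) (hps : p ≠ s) (hqs : q ≠ s) : cyc p q s = cyc q s p := by
  ext w
  by_cases h1 : w = p
  · subst h1; rw [cyc_p hpq hps, cyc_s]
  by_cases h2 : w = q
  · subst h2; rw [cyc_q hps hqs, cyc_p hqs hpq.symm]
  by_cases h3 : w = s
  · subst h3; rw [cyc_s, cyc_q hpq.symm hps.symm]
  rw [cyc_fix h1 h2 h3, cyc_fix h2 h3 h1]

theorem conj_cyc {z : Perm α} (hz : z * z = 1) (p q s : α) : z * cyc p q s * z = cyc (z p) (z q) (z s) := by
  have hzi : z⁻¹ = z := inv_eq_of_mul_eq_one_right hz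
  rw [cyc, cyc, swap_apply_apply, swap_apply_apply, hzi]
  simp only [mul_assoc]
  rw [← mul_assoc z z, hz, one_mul]

/-! ### moves -/

/-- An admissible switch for the involution `z`, supported in `S`. -/
structure IsMove (z d : Perm α) (S : Finset α) : Prop where
  fix : ∀ w, w ∉ S → d w = w
  cube : d ^ 3 = 1
  inv : z * d * z = d⁻¹
  clo : ∀ w ∈ S, z w ∈ S

theorem IsMove.mem {z d : Perm α} {S : Finset α} (h : IsMove z d S) {w : α} (hw : w ∈ S) : d w ∈ S := by
  by_contra h'
  have e : d w = w := d.injective (h.fix _ h')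
  exact h' (e.symm ▸ hw)

/-- Switch of one edge with a fixed point. -/
theorem move_single {z : Perm α} (hz : z * z = 1) {a e : α} (he : z e = e) (ha : z a ≠ a) :
    IsMove z (cyc a e (z a)) {a, e, z a} := by
  have hzz : ∀ w, z (z w) = w := fun w => by rw [← Perm.mul_apply, hz, Perm.one_apply]
  have h1 : a ≠ e := fun h => ha (by rw [h, he])
  have h2 : a ≠ z a := Ne.symm ha
  have h3 : e ≠ z a := fun h => h1 (by rw [← hzz a, ← h, he])
  refine ⟨fun w hw => ?_, cyc_cube h1 h2 h3, ?_, fun w hw => ?_⟩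
  · simp only [Finset.mem_insert, Finset.mem_singleton, not_or] at hw
    exact cyc_fix hw.1 hw.2.1 hw.2.2
  · rw [conj_cyc hz, hzz, he, cyc_inv' h1 h2 h3]
  · simp only [Finset.mem_insert, Finset.mem_singleton] at hw ⊢
    rcases hw with rfl | rfl | rfl
    · simp
    · simp [he]
    · simp [hzz]

theorem disjoint_of_supp {d₁ d₂ : Perm α} {S₁ S₂ : Finset α} (h1 : ∀ w, w ∉ S₁ → d₁ w = w)
    (h2 : ∀ w, w ∉ S₂ → d₂ w = w) (h : Disjoint S₁ S₂) : Perm.Disjoint d₁ d₂ := fun w => by
  by_cases hw : w ∈ S₁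
  · exact Or.inr (h2 w (Finset.disjoint_left.1 h hw))
  · exact Or.inl (h1 w hw)

/-- Switch of three edges. -/
theorem move_triple {z : Perm α} (hz : z * z = 1) {p q s : α}
    (hnd : [p, q, s, z s, z q, z p].Nodup) :
    IsMove z (cyc p q s * cyc (z s) (z q) (z p)) {p, q, s, z s, z q, z p} := by
  have hzz : ∀ w, z (z w) = w := fun w => by rw [← Perm.mul_apply, hz, Perm.one_apply]
  simp only [List.nodup_cons, List.mem_cons, List.not_mem_nil, or_false, not_or, List.nodup_nil, and_true,
    not_false_iff] at hnd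
  obtain ⟨⟨a1, a2, a3, a4, a5⟩, ⟨b1, b2, b3, b4⟩, ⟨c1, c2, c3⟩, ⟨d1, d2⟩, e1⟩ := hnd
  have hdisj : Perm.Disjoint (cyc p q s) (cyc (z s) (z q) (z p)) := by
    refine disjoint_of_supp (S₁ := {p, q, s}) (S₂ := {z s, z q, z p}) ?_ ?_ ?_
    · intro w hw
      simp only [Finset.mem_insert, Finset.mem_singleton, not_or] at hw
      exact cyc_fix hw.1 hw.2.1 hw.2.2
    · intro w hw
      simp only [Finset.mem_insert, Finset.mem_singleton, not_or] at hw
      exact cyc_fix hw.1 hw.2.1 hw.2.2
    · rw [Finset.disjoint_left]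
      intro w hw
      simp only [Finset.mem_insert, Finset.mem_singleton, not_or] at hw ⊢
      rcases hw with rfl | rfl | rfl <;> exact ⟨by assumption, by assumption, by assumption⟩
  refine ⟨fun w hw => ?_, ?_, ?_, fun w hw => ?_⟩
  · simp only [Finset.mem_insert, Finset.mem_singleton, not_or] at hw
    rw [Perm.mul_apply, cyc_fix hw.2.2.2.1 hw.2.2.2.2.1 hw.2.2.2.2.2, cyc_fix hw.1 hw.2.1 hw.2.2.1]
  · rw [hdisj.commute.mul_pow, cyc_cube a1 a2 b1, cyc_cube d1 d2 e1, one_mul]
  · rw [show z * (cyc p q s * cyc (z s) (z q) (z p)) * z = z * cyc p q s * z * (z * cyc (z s) (z q) (z p) * z) by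
      simp only [mul_assoc]; rw [← mul_assoc z z, hz, one_mul]]
    rw [conj_cyc hz, conj_cyc hz, hzz, hzz, hzz, mul_inv_rev, cyc_inv' a1 a2 b1, cyc_inv' d1 d2 e1]
  · simp only [Finset.mem_insert, Finset.mem_singleton] at hw ⊢
    rcases hw with rfl | rfl | rfl | rfl | rfl | rfl <;> simp [hzz]

theorem move_mul {z : Perm α} (hz : z * z = 1) {d₁ d₂ : Perm α} {S₁ S₂ : Finset α} (h1 : IsMove z d₁ S₁)
    (h2 : IsMove z d₂ S₂) (h : Disjoint S₁ S₂) : IsMove z (d₁ * d₂) (S₁ ∪ S₂) := by
  have hd := disjoint_of_supp h1.fix h2.fix h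
  refine ⟨fun w hw => ?_, ?_, ?_, fun w hw => ?_⟩
  · simp only [Finset.mem_union, not_or] at hw
    rw [Perm.mul_apply, h2.fix w hw.2, h1.fix w hw.1]
  · rw [hd.commute.mul_pow, h1.cube, h2.cube, one_mul]
  · rw [show z * (d₁ * d₂) * z = z * d₁ * z * (z * d₂ * z) by
      simp only [mul_assoc]; rw [← mul_assoc z z, hz, one_mul], h1.inv, h2.inv, ← mul_inv_rev, hd.commute.eq]
  · simp only [Finset.mem_union] at hw ⊢
    exact hw.imp (h1.clo w) (h2.clo w)

/-! ### iterating a switched permutation -/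

theorem jump {g d : Perm α} {u a b : α} {n : ℕ} (hn : 0 < n) (h : d u = a) (hb : (g ^ n) a = b)
    (hfix : ∀ i, 0 < i → i < n → d ((g ^ i) a) = (g ^ i) a) : ((g * d) ^ n) u = b := by
  have key : ∀ i, i < n → ((g * d) ^ (i + 1)) u = (g ^ (i + 1)) a := by
    intro i
    induction i with
    | zero => intro _; simp [h]
    | succ i ih =>
      intro hi
      rw [pow_succ' (g * d), Perm.mul_apply, ih (by omega), Perm.mul_apply, hfix _ (by omega) hi,
        ← Perm.mul_apply, ← pow_succ']
  obtain ⟨m, rfl⟩ : ∃ m, n = m + 1 := ⟨n - 1, by omega⟩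
  rw [key m (by omega), hb]

theorem jump_one {g d : Perm α} {u a b : α} (h : d u = a) (hb : g a = b) : (g * d) u = b := by
  rw [Perm.mul_apply, h, hb]

theorem chain {g : Perm α} {u v w : α} {m n : ℕ} (h1 : (g ^ m) u = v) (h2 : (g ^ n) v = w) :
    (g ^ (n + m)) u = w := by
  rw [pow_add, Perm.mul_apply, h1, h2]

theorem good_touched {z g d : Perm α} {S : Finset α} (h : IsMove z d S) (hS : ∀ a ∈ S, Good (g * d) a)
    {w : α} (hw : ∃ a ∈ S, g.SameCycle a w) : Good (g * d) w := by
  obtain ⟨a, ha, hsc⟩ := hw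
  obtain ⟨i, -, -, rfl⟩ := hsc.exists_pow_eq g
  clear hsc
  induction i with
  | zero => simpa using hS a ha
  | succ i ih =>
    rw [pow_succ', Perm.mul_apply]
    generalize (g ^ i) a = v at ih ⊢
    by_cases hv : v ∈ S
    · have hd : d (d (d v)) = v := by
        have := congrArg (fun f : Perm α => f v) h.cube
        simpa [pow_succ] using this
      have h2 : Good (g * d) (d (d v)) := hS _ (h.mem (h.mem hv))
      rw [← good_apply, Perm.mul_apply, hd] at h2
      exact h2
    · rw [← good_apply, Perm.mul_apply, h.fix v hv] at ih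
      exact ih

theorem untouched {z g d : Perm α} {S : Finset α} (h : IsMove z d S) {w : α}
    (hw : ∀ a ∈ S, ¬ g.SameCycle a w) (i : ℕ) : ((g * d) ^ i) w = (g ^ i) w := by
  induction i with
  | zero => simp
  | succ i ih =>
    rw [pow_succ', pow_succ', Perm.mul_apply, ih, Perm.mul_apply, Perm.mul_apply, h.fix]
    intro hmem
    exact hw _ hmem ((Perm.sameCycle_pow_left).2 (Perm.SameCycle.refl g w))

theorem untouched_zpow {z g d : Perm α} {S : Finset α} (h : IsMove z d S) {w : α}
    (hw : ∀ a ∈ S, ¬ g.SameCycle a w) {v : α} : (g * d).SameCycle w v ↔ g.SameCycle w v := by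
  constructor <;> intro hv <;> obtain ⟨i, -, -, rfl⟩ := hv.exists_pow_eq _
  · rw [untouched h hw]; exact Perm.sameCycle_pow_right.2 (Perm.SameCycle.refl g w)
  · rw [← untouched h hw]; exact Perm.sameCycle_pow_right.2 (Perm.SameCycle.refl _ w)

theorem untouched_per {z g d : Perm α} {S : Finset α} (h : IsMove z d S) {w : α}
    (hw : ∀ a ∈ S, ¬ g.SameCycle a w) : per (g * d) w = per g w := by
  apply Nat.dvd_antisymm <;> apply per_dvd
  · rw [untouched h hw, pow_per]
  · rw [← untouched h hw, pow_per]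

/-! ### the setting -/

/-- A partial solution. -/
structure State (t x y z : Perm α) : Prop where
  hy : y * y = 1
  hz : z * z = 1
  conj : IsConj t z
  cube : (x * z) ^ 3 = 1
  ext : ∀ w, ¬ Good (y * z) w → x w = z w

variable {t x y z : Perm α}

theorem State.zz (h : State t x y z) (w : α) : z (z w) = w := by rw [← Perm.mul_apply, h.hz, Perm.one_apply]
theorem State.yy (h : State t x y z) (w : α) : y (y w) = w := by rw [← Perm.mul_apply, h.hy, Perm.one_apply]

theorem State.rev (h : State t x y z) (n : ℤ) (w : α) : z (((y * z) ^ n) w) = ((y * z) ^ (-n)) (z w) := by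
  have hzi : z⁻¹ = z := inv_eq_of_mul_eq_one_right h.hz
  have hyi : y⁻¹ = y := inv_eq_of_mul_eq_one_right h.hy
  have e : z * (y * z) * z⁻¹ = (y * z)⁻¹ := by
    rw [mul_inv_rev, hzi, hyi, mul_assoc, mul_assoc, h.hz, mul_one]
  have e2 : z * (y * z) ^ n * z⁻¹ = (y * z) ^ (-n) := by rw [← conj_zpow, e, inv_zpow']
  rw [← e2, hzi]
  simp [h.zz]

theorem State.rev_nat (h : State t x y z) (n : ℕ) (w : α) :
    ((y * z) ^ n) (z (((y * z) ^ n) w)) = z w := by
  rw [← zpow_natCast, h.rev, ← Perm.mul_apply, ← zpow_add, add_neg_cancel, zpow_zero, Perm.one_apply]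

theorem State.g_zg (h : State t x y z) (w : α) : (y * z) (z ((y * z) w)) = z w := by
  simp [h.zz, h.yy]

theorem State.per_z (h : State t x y z) (w : α) : per (y * z) (z w) = per (y * z) w := by
  have key : ∀ v, per (y * z) (z v) ∣ per (y * z) v := by
    intro v
    apply per_dvd
    have := h.rev_nat (per (y * z) v) v
    rwa [pow_per] at this
  refine Nat.dvd_antisymm (key w) ?_
  have := key (z w)
  rwa [h.zz] at this

theorem State.sc_z (h : State t x y z) {v w : α} :
    (y * z).SameCycle (z v) (z w) ↔ (y * z).SameCycle v w := by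
  have key : ∀ a b, (y * z).SameCycle a b → (y * z).SameCycle (z a) (z b) := by
    rintro a b ⟨n, rfl⟩
    exact ⟨-n, (h.rev n a).symm⟩
  refine ⟨fun hh => ?_, key v w⟩
  have := key _ _ hh
  rwa [h.zz, h.zz] at this

theorem State.good_z (h : State t x y z) (w : α) : Good (y * z) (z w) ↔ Good (y * z) w := by
  rw [Good, Good, h.per_z]

/-- A switch keeps the state and makes the touched orbits good. -/
theorem State.apply (h : State t x y z) {d : Perm α} {S : Finset α} (hm : IsMove z d S)
    (hU : ∀ w ∈ S, x w = z w) (hS : ∀ a ∈ S, Good ((y * z) * d) a) :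
    State t x y (z * d) ∧ ∀ w, ¬ Good (y * (z * d)) w →
      (∀ a ∈ S, ¬ (y * z).SameCycle a w) ∧ ¬ Good (y * z) w ∧ (z * d) w = z w ∧
      (∀ v, (y * (z * d)).SameCycle w v ↔ (y * z).SameCycle w v) ∧
      per (y * (z * d)) w = per (y * z) w := by
  have hg : y * (z * d) = y * z * d := (mul_assoc _ _ _).symm
  have hmain : ∀ w, ¬ Good (y * (z * d)) w →
      (∀ a ∈ S, ¬ (y * z).SameCycle a w) ∧ ¬ Good (y * z) w ∧ (z * d) w = z w ∧
      (∀ v, (y * (z * d)).SameCycle w v ↔ (y * z).SameCycle w v) ∧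
      per (y * (z * d)) w = per (y * z) w := by
    intro w hw
    rw [hg] at hw ⊢
    have hns : ∀ a ∈ S, ¬ (y * z).SameCycle a w := fun a ha hsc => hw (good_touched hm hS ⟨a, ha, hsc⟩)
    refine ⟨hns, fun hgo => hw (by rw [Good, untouched_per hm hns]; exact hgo), ?_,
      fun v => untouched_zpow hm hns, untouched_per hm hns⟩
    rw [Perm.mul_apply, hm.fix w (fun hmem => hns w hmem (Perm.SameCycle.refl _ _))]
  refine ⟨⟨h.hy, ?_, ?_, ?_, ?_⟩, hmain⟩
  · calc z * d * (z * d) = z * d * z * d := by simp [mul_assoc]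
      _ = 1 := by rw [hm.inv, inv_mul_cancel]
  · have h4 : d ^ 4 = d := by rw [pow_succ, hm.cube, one_mul]
    have hdz : d * z = z * d⁻¹ := by
      rw [← hm.inv]
      simp only [← mul_assoc, h.hz, one_mul]
    refine h.conj.trans (isConj_iff.2 ⟨(d ^ 2)⁻¹, ?_⟩)
    rw [inv_inv]
    have h2 : (d ^ 2)⁻¹ = d := inv_eq_of_mul_eq_one_right (by rw [← pow_succ, hm.cube])
    have hdd : d ^ 2 = d⁻¹ := eq_inv_of_mul_eq_one_left (by rw [← pow_succ, hm.cube])
    rw [h2, hdz, mul_assoc, hdd, ← mul_inv_rev, ← pow_two, hdd, inv_inv]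
  · have hdisj : Perm.Disjoint (x * z) d := by
      intro w
      by_cases hw : w ∈ S
      · left
        have h1 : x (z w) = z (z w) := hU _ (hm.clo w hw)
        rw [Perm.mul_apply, h1, h.zz]
      · exact Or.inr (hm.fix w hw)
    rw [← mul_assoc, hdisj.commute.mul_pow, h.cube, hm.cube, one_mul]
  · intro w hw
    obtain ⟨-, h1, h2, -, -⟩ := hmain w hw
    rw [h2, h.ext w h1]

/-! ### the individual switches -/

local notation "SC" => Equiv.Perm.SameCycle

/-- A bad two-cycle pair is absorbed by an odd self-paired orbit. -/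
theorem State.absorb_path (h : State t x y z) {a e : α} (ha : ¬ SC (y * z) a (z a))
    (hae : ¬ SC (y * z) e a) (he : z e = e) (heo : Good (y * z) e) :
    IsMove z (cyc a e (z a)) {a, e, z a} ∧ ∀ u ∈ ({a, e, z a} : Finset α), Good (y * z * cyc a e (z a)) u := by
  set g := y * z with hgdef
  have haze : ¬ SC g e (z a) := fun hh => hae (by
    have h2 : SC g (z e) (z (z a)) := (h.sc_z).2 hh
    rwa [he, h.zz] at h2)
  have hza : z a ≠ a := fun hh => ha (by rw [hh])
  have h1 : a ≠ e := fun hh => hae (hh ▸ Perm.SameCycle.refl g a)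
  have h2 : a ≠ z a := Ne.symm hza
  have h3 : e ≠ z a := fun hh => haze (hh ▸ Perm.SameCycle.refl g e)
  refine ⟨move_single h.hz he hza, ?_⟩
  set d := cyc a e (z a)
  have hfix : ∀ v, (¬ SC g a v ∨ v ≠ a) → (¬ SC g e v ∨ v ≠ e) → (¬ SC g (z a) v ∨ v ≠ z a) → d v = v := by
    intro v p1 p2 p3
    refine cyc_fix ?_ ?_ ?_ <;> rintro rfl
    · exact p1.elim (fun q => q (Perm.SameCycle.refl g _)) (fun q => q rfl)
    · exact p2.elim (fun q => q (Perm.SameCycle.refl g _)) (fun q => q rfl)
    · exact p3.elim (fun q => q (Perm.SameCycle.refl g _)) (fun q => q rfl)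
  have sp : ∀ (v : α) (i : ℕ), SC g v ((g ^ i) v) := fun v i =>
    Perm.sameCycle_pow_right.2 (Perm.SameCycle.refl g v)
  have ja : ((g * d) ^ per g e) a = e := jump (per_pos g e) (cyc_p h1 h2) (pow_per g e) fun i i0 i1 =>
    hfix _ (Or.inl fun hh => hae ((sp e i).trans hh.symm)) (Or.inr (ne_of_lt_per i0 i1))
      (Or.inl fun hh => haze ((sp e i).trans hh.symm))
  have je : ((g * d) ^ per g (z a)) e = z a := jump (per_pos g _) (cyc_q h2 h3) (pow_per g _) fun i i0 i1 =>
    hfix _ (Or.inl fun hh => ha (hh.trans (sp (z a) i).symm))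
      (Or.inl fun hh => haze (hh.trans (sp (z a) i).symm)) (Or.inr (ne_of_lt_per i0 i1))
  have jz : ((g * d) ^ per g a) (z a) = a := jump (per_pos g _) cyc_s (pow_per g _) fun i i0 i1 =>
    hfix _ (Or.inr (ne_of_lt_per i0 i1))
      (Or.inl fun hh => hae (hh.trans (sp a i).symm))
      (Or.inl fun hh => ha ((sp a i).trans hh.symm))
  have hga : Good (g * d) a := by
    refine good_of_return ?_ (chain (chain ja je) jz)
    rw [h.per_z]
    obtain ⟨k, hk⟩ := heo
    exact ⟨per g a + k, by rw [← hgdef, hk]; ring⟩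
  intro u hu
  simp only [Finset.mem_insert, Finset.mem_singleton] at hu
  rcases hu with rfl | rfl | rfl
  · exact hga
  · rw [← ja, good_pow]; exact hga
  · rw [← je, good_pow, ← ja, good_pow]; exact hga

/-- Avoiding membership in an explicitly known orbit. -/
theorem ne_sc {g : Perm α} {u v w : α} (h : g.SameCycle u v) (h' : ¬ g.SameCycle u w) : v ≠ w :=
  fun e => h' (e ▸ h)

theorem sc_pow (g : Perm α) (v : α) (i : ℕ) : g.SameCycle v ((g ^ i) v) :=
  Perm.sameCycle_pow_right.2 (Perm.SameCycle.refl g v)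

theorem sc_apply (g : Perm α) (v : α) : g.SameCycle v (g v) := by simpa using sc_pow g v 1

theorem back_pow (g : Perm α) (u : α) : (g ^ (per g u - 1)) (g u) = u := by
  have h : (g ^ (per g u - 1)) ((g ^ 1) u) = u := by
    rw [← Perm.mul_apply, ← pow_add, Nat.sub_add_cancel (per_pos g u), pow_per]
  simpa using h

theorem back_two (g : Perm α) (u : α) (h : 2 ≤ per g u) : (g ^ (per g u - 2)) (g (g u)) = u := by
  have h : (g ^ (per g u - 2)) ((g ^ 2) u) = u := by
    rw [← Perm.mul_apply, ← pow_add, Nat.sub_add_cancel h, pow_per]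
  simpa [pow_succ] using h

theorem back_ne (g : Perm α) (u : α) {k i : ℕ} (h0 : 0 < i) (hi : i + k < per g u) {j : ℕ} (hj : j ≤ k) :
    (g ^ i) ((g ^ k) u) ≠ (g ^ j) u := by
  rw [← Perm.mul_apply, ← pow_add]
  exact (pow_inj_lt (by omega) (by omega)).symm

theorem good_trans {g : Perm α} {u v : α} {n : ℕ} (h : (g ^ n) u = v) (hu : Good g u) : Good g v := by
  rw [← h, good_pow]; exact hu

theorem pair_values {p q s a b c : α} (hnd : [p, q, s, a, b, c].Nodup) :
    (cyc p q s * cyc a b c) p = q ∧ (cyc p q s * cyc a b c) q = s ∧ (cyc p q s * cyc a b c) s = p ∧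
    (cyc p q s * cyc a b c) a = b ∧ (cyc p q s * cyc a b c) b = c ∧ (cyc p q s * cyc a b c) c = a := by
  simp only [List.nodup_cons, List.mem_cons, List.not_mem_nil, or_false, not_or, List.nodup_nil, and_true,
    not_false_iff] at hnd
  obtain ⟨⟨a1, a2, a3, a4, a5⟩, ⟨b1, b2, b3, b4⟩, ⟨c1, c2, c3⟩, ⟨d1, d2⟩, e1⟩ := hnd
  refine ⟨?_, ?_, ?_, ?_, ?_, ?_⟩ <;> rw [Perm.mul_apply]
  · rw [cyc_fix a3 a4 a5, cyc_p a1 a2]
  · rw [cyc_fix b2 b3 b4, cyc_q a2 b1]
  · rw [cyc_fix c1 c2 c3, cyc_s]
  · rw [cyc_p d1 d2, cyc_fix (Ne.symm a4) (Ne.symm b3) (Ne.symm c2)]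
  · rw [cyc_q d2 e1, cyc_fix (Ne.symm a5) (Ne.symm b4) (Ne.symm c3)]
  · rw [cyc_s, cyc_fix (Ne.symm a3) (Ne.symm b2) (Ne.symm c1)]

/-- `a` and `b` lie in two different pairs of mirror orbits. -/
def Apart (g z : Perm α) (a b : α) : Prop :=
  ¬ g.SameCycle a (z a) ∧ ¬ g.SameCycle b (z b) ∧ ¬ g.SameCycle a b ∧ ¬ g.SameCycle a (z b)

theorem State.apart_ext (h : State t x y z) {a b : α} (hab : Apart (y * z) z a b) :
    ¬ SC (y * z) (z a) b ∧ ¬ SC (y * z) (z a) (z b) := by
  obtain ⟨-, -, h3, h4⟩ := hab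
  exact ⟨fun hh => h4 (by have := (h.sc_z).2 hh; rwa [h.zz] at this), fun hh => h3 ((h.sc_z).1 hh)⟩

theorem State.sc_zg (h : State t x y z) (a : α) : SC (y * z) (z ((y * z) a)) (z a) :=
  (h.sc_z).2 (sc_apply _ a).symm

/-- An even pair of orbits joined with an odd pair of orbits. -/
theorem State.join_odd (h : State t x y z) {a b : α} (hab : Apart (y * z) z a b)
    (ha : ¬ Good (y * z) a) (hb : Good (y * z) b) :
    ∃ d S, IsMove z d S ∧ (∀ u ∈ S, Good ((y * z) * d) u) ∧ a ∈ S ∧
      (∀ u ∈ S, SC (y * z) a u ∨ SC (y * z) (z a) u ∨ SC (y * z) b u ∨ SC (y * z) (z b) u) := by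
  obtain ⟨hzab, hzazb⟩ := h.apart_ext hab
  obtain ⟨haza, hbzb, hnab, hnazb⟩ := hab
  have rev := h.g_zg a
  have scz := h.sc_zg a
  have hpz := h.per_z
  generalize hgdef : y * z = g at *
  have hm : 2 ≤ per g a := by
    rcases Nat.lt_or_ge (per g a) 2 with h' | h'
    · have := per_pos g a
      exact absurd (show Good g a by rw [Good, show per g a = 1 by omega]; exact odd_one) ha
    · exact h'
  have hga : g a ≠ a := by simpa using ne_of_lt_per (g := g) (w := a) (i := 1) one_pos (by omega)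
  have sA : SC g a (g a) := sc_apply g a
  have sA' : SC g (z a) (z (g a)) := scz.symm
  have hpu : per g (z (g a)) = per g a := by rw [hpz, ← per_sc sA]
  have hzga : z (g a) ≠ z a := z.injective.ne hga
  have hnd : [a, z (g a), b, z b, z (z (g a)), z a].Nodup := by
    rw [h.zz]
    simp only [List.nodup_cons, List.mem_cons, List.not_mem_nil, or_false, not_or, List.nodup_nil, and_true,
      not_false_iff]
    exact ⟨⟨(ne_sc sA' fun q => haza q.symm).symm, fun e => hnab (e ▸ .refl g a), fun e => hnazb (e ▸ .refl g a),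
        hga.symm, fun e => haza (e ▸ .refl g a)⟩,
      ⟨ne_sc sA' hzab, ne_sc sA' hzazb, fun e => haza (sA.trans ((e ▸ sA').symm)), hzga⟩,
      ⟨fun e => hbzb (e ▸ .refl g b), fun e => hnab (sA.trans (e ▸ .refl g _)),
        fun e => hzab (e ▸ .refl g b)⟩,
      ⟨fun e => hnazb (sA.trans (e ▸ .refl g _)), fun e => hzazb (e ▸ .refl g (z b))⟩,
      fun e => haza (e ▸ sA)⟩
  have hmove := move_triple h.hz hnd
  obtain ⟨v1, v2, v3, v4, v5, v6⟩ := pair_values hnd
  generalize hd : cyc a (z (g a)) b * cyc (z b) (z (z (g a))) (z a) = d at *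
  refine ⟨d, _, hmove, ?_, by simp, ?_⟩
  swap
  · rw [h.zz]
    intro u hu
    simp only [Finset.mem_insert, Finset.mem_singleton] at hu
    rcases hu with rfl | rfl | rfl | rfl | rfl | rfl
    · exact .inl (.refl g u)
    · exact .inr (.inl sA')
    · exact .inr (.inr (.inl (.refl g u)))
    · exact .inr (.inr (.inr (.refl g _)))
    · exact .inl sA
    · exact .inr (.inl (.refl g _))
  rw [h.zz] at v4 v5 hmove ⊢
  have hfix : ∀ v, v ≠ a → v ≠ z (g a) → v ≠ b → v ≠ z b → v ≠ g a → v ≠ z a → d v = v :=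
    fun v p1 p2 p3 p4 p5 p6 => hmove.fix v (by
      simp only [Finset.mem_insert, Finset.mem_singleton, not_or]
      exact ⟨p1, p2, p3, p4, p5, p6⟩)
  have r1 : ((g * d) ^ 1) a = z a := by rw [pow_one]; exact jump_one v1 rev
  have r2 : ((g * d) ^ per g (z b)) (z a) = z b := jump (per_pos g _) v6 (pow_per g _) fun i i0 i1 => by
    have s := sc_pow g (z b) i
    exact hfix _ (ne_sc s fun e => hnazb e.symm) (ne_sc s fun e => hzazb (sA'.trans e.symm))
      (ne_sc s fun e => hbzb e.symm) (ne_of_lt_per i0 i1) (ne_sc s fun e => hnazb (sA.trans e.symm))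
      (ne_sc s fun e => hzazb e.symm)
  have r3 : ((g * d) ^ (per g a - 1)) (z b) = a := jump (by omega) v4 (back_pow g a) fun i i0 i1 => by
    have s := sA.trans (sc_pow g (g a) i)
    have n0 := back_ne g a (k := 1) i0 (by omega) (j := 0) (by omega)
    have n1 := back_ne g a (k := 1) i0 (by omega) (j := 1) le_rfl
    simp only [pow_one, pow_zero, Perm.one_apply] at n0 n1
    exact hfix _ n0 (ne_sc s fun e => haza (e.trans scz)) (ne_sc s hnab) (ne_sc s hnazb) n1 (ne_sc s haza)
  have r4 : ((g * d) ^ per g b) (z (g a)) = b := jump (per_pos g _) v2 (pow_per g _) fun i i0 i1 => by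
    have s := sc_pow g b i
    exact hfix _ (ne_sc s fun e => hnab e.symm) (ne_sc s fun e => hzab (sA'.trans e.symm))
      (ne_of_lt_per i0 i1) (ne_sc s hbzb) (ne_sc s fun e => hnab (sA.trans e.symm))
      (ne_sc s fun e => hzab e.symm)
  have r5 : ((g * d) ^ 1) b = g a := by rw [pow_one]; exact jump_one v3 rfl
  have r6 : ((g * d) ^ (per g a - 1)) (g a) = z (g a) := by
    refine jump (by omega) v5 ?_ fun i i0 i1 => ?_
    · conv_rhs => rw [← back_pow g (z (g a)), rev, hpu]
    · have s := sc_pow g (z a) i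
      have n0 := back_ne g (z (g a)) (k := 1) i0 (by omega) (j := 0) (by omega)
      have n1 := back_ne g (z (g a)) (k := 1) i0 (by omega) (j := 1) le_rfl
      simp only [pow_one, pow_zero, Perm.one_apply, rev] at n0 n1
      exact hfix _ (ne_sc s fun e => haza e.symm) n0 (ne_sc s hzab) (ne_sc s hzazb)
        (ne_sc s fun e => haza (sA.trans e.symm)) n1
  have hme : Even (per g a) := Nat.not_odd_iff_even.1 ha
  have hmb : Odd (per g b) := hb
  have g1 : Good (g * d) a := by
    refine good_of_return ?_ (chain (chain r1 r2) r3)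
    obtain ⟨k, hk⟩ := hme; obtain ⟨l, hl⟩ := hmb
    exact ⟨k + l, by have := hpz b; omega⟩
  have g2 : Good (g * d) (z (g a)) := by
    refine good_of_return ?_ (chain (chain r4 r5) r6)
    obtain ⟨k, hk⟩ := hme; obtain ⟨l, hl⟩ := hmb
    exact ⟨k + l, by omega⟩
  intro u hu
  simp only [Finset.mem_insert, Finset.mem_singleton] at hu
  rcases hu with rfl | rfl | rfl | rfl | rfl | rfl
  · exact g1
  · exact g2
  · exact good_trans r4 g2
  · exact good_trans r2 (good_trans r1 g1)
  · exact good_trans r5 (good_trans r4 g2)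
  · exact good_trans r1 g1

/-- Two even pairs of orbits. -/
theorem State.join_even (h : State t x y z) {a b : α} (hab : Apart (y * z) z a b)
    (ha : ¬ Good (y * z) a) (hb : ¬ Good (y * z) b) :
    ∃ d S, IsMove z d S ∧ (∀ u ∈ S, Good ((y * z) * d) u) ∧ a ∈ S ∧ b ∈ S ∧
      (∀ u ∈ S, SC (y * z) a u ∨ SC (y * z) (z a) u ∨ SC (y * z) b u ∨ SC (y * z) (z b) u) := by
  obtain ⟨hzab, hzazb⟩ := h.apart_ext hab
  obtain ⟨haza, hbzb, hnab, hnazb⟩ := hab
  have rev := h.g_zg b
  have scz := h.sc_zg b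
  have hpz := h.per_z
  generalize hgdef : y * z = g at *
  have hm : 2 ≤ per g b := by
    rcases Nat.lt_or_ge (per g b) 2 with h' | h'
    · have := per_pos g b
      exact absurd (show Good g b by rw [Good, show per g b = 1 by omega]; exact odd_one) hb
    · exact h'
  have hgb : g b ≠ b := by simpa using ne_of_lt_per (g := g) (w := b) (i := 1) one_pos (by omega)
  have sB : SC g b (g b) := sc_apply g b
  have sB' : SC g (z b) (z (g b)) := scz.symm
  have hpu : per g (z (g b)) = per g b := by rw [hpz, ← per_sc sB]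
  have hnd : [a, z b, z (g b), z (z (g b)), z (z b), z a].Nodup := by
    rw [h.zz, h.zz]
    simp only [List.nodup_cons, List.mem_cons, List.not_mem_nil, or_false, not_or, List.nodup_nil, and_true,
      not_false_iff]
    exact ⟨⟨ne_sc (.refl g a) hnazb, fun e => hnazb ((e ▸ .refl g a : SC g a (z (g b))).trans scz),
        fun e => hnab ((e ▸ .refl g a : SC g a (g b)).trans sB.symm), ne_sc (.refl g a) hnab,
        ne_sc (.refl g a) haza⟩,
      ⟨(z.injective.ne hgb).symm, ne_sc (.refl g _) fun q => hbzb (sB.trans q.symm),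
        ne_sc (.refl g _) fun q => hbzb q.symm, ne_sc (.refl g _) fun q => hzazb q.symm⟩,
      ⟨ne_sc sB' fun e => hbzb (sB.trans e.symm), ne_sc sB' fun e => hbzb e.symm,
        ne_sc sB' fun e => hzazb e.symm⟩,
      ⟨hgb, ne_sc sB fun e => hzab e.symm⟩,
      ne_sc (.refl g b) fun e => hzab e.symm⟩
  have hmove := move_triple h.hz hnd
  obtain ⟨v1, v2, v3, v4, v5, v6⟩ := pair_values hnd
  generalize hd : cyc a (z b) (z (g b)) * cyc (z (z (g b))) (z (z b)) (z a) = d at *
  refine ⟨d, _, hmove, ?_, by simp, by simp [h.zz], ?_⟩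
  swap
  · rw [h.zz, h.zz]
    intro u hu
    simp only [Finset.mem_insert, Finset.mem_singleton] at hu
    rcases hu with rfl | rfl | rfl | rfl | rfl | rfl
    · exact .inl (.refl g u)
    · exact .inr (.inr (.inr (.refl g _)))
    · exact .inr (.inr (.inr sB'))
    · exact .inr (.inr (.inl sB))
    · exact .inr (.inr (.inl (.refl g _)))
    · exact .inr (.inl (.refl g _))
  rw [h.zz, h.zz] at hmove ⊢
  rw [h.zz] at v4 v5 v6
  rw [h.zz] at v4
  have hfix : ∀ v, v ≠ a → v ≠ z b → v ≠ z (g b) → v ≠ g b → v ≠ b → v ≠ z a → d v = v :=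
    fun v p1 p2 p3 p4 p5 p6 => hmove.fix v (by
      simp only [Finset.mem_insert, Finset.mem_singleton, not_or]
      exact ⟨p1, p2, p3, p4, p5, p6⟩)
  have r1 : ((g * d) ^ 1) (z b) = z b := by rw [pow_one]; exact jump_one v2 rev
  have r2 : ((g * d) ^ 1) (g b) = g b := by rw [pow_one]; exact jump_one v4 rfl
  have r3 : ((g * d) ^ (per g b - 1)) a = z (g b) := by
    refine jump (by omega) v1 ?_ fun i i0 i1 => ?_
    · conv_rhs => rw [← back_pow g (z (g b)), rev, hpu]
    · have s := sc_pow g (z b) i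
      have n0 := back_ne g (z (g b)) (k := 1) i0 (by omega) (j := 0) (by omega)
      have n1 := back_ne g (z (g b)) (k := 1) i0 (by omega) (j := 1) le_rfl
      simp only [pow_one, pow_zero, Perm.one_apply, rev] at n0 n1
      exact hfix _ (ne_sc s fun e => hnazb e.symm) n1 n0 (ne_sc s fun e => hbzb (sB.trans e.symm))
        (ne_sc s fun e => hbzb e.symm) (ne_sc s fun e => hzazb e.symm)
  have r4 : ((g * d) ^ per g a) (z (g b)) = a := jump (per_pos g _) v3 (pow_per g _) fun i i0 i1 => by
    have s := sc_pow g a i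
    exact hfix _ (ne_of_lt_per i0 i1) (ne_sc s hnazb) (ne_sc s fun e => hnazb (e.trans scz))
      (ne_sc s fun e => hnab (e.trans sB.symm)) (ne_sc s hnab) (ne_sc s haza)
  have r5 : ((g * d) ^ per g (z a)) b = z a := jump (per_pos g _) v5 (pow_per g _) fun i i0 i1 => by
    have s := sc_pow g (z a) i
    exact hfix _ (ne_sc s fun e => haza e.symm) (ne_sc s hzazb) (ne_sc s fun e => hzazb (e.trans scz))
      (ne_sc s fun e => hzab (e.trans sB.symm)) (ne_sc s hzab) (ne_of_lt_per i0 i1)
  have r6 : ((g * d) ^ (per g b - 1)) (z a) = b := jump (by omega) v6 (back_pow g b) fun i i0 i1 => by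
    have s := sB.trans (sc_pow g (g b) i)
    have n0 := back_ne g b (k := 1) i0 (by omega) (j := 0) (by omega)
    have n1 := back_ne g b (k := 1) i0 (by omega) (j := 1) le_rfl
    simp only [pow_one, pow_zero, Perm.one_apply] at n0 n1
    exact hfix _ (ne_sc s fun e => hnab e.symm) (ne_sc s hbzb) (ne_sc s fun e => hbzb (e.trans scz)) n1 n0
      (ne_sc s fun e => hzab e.symm)
  obtain ⟨k, hk⟩ := Nat.not_odd_iff_even.1 ha
  obtain ⟨l, hl⟩ := Nat.not_odd_iff_even.1 hb
  have g1 : Good (g * d) a := good_of_return ⟨k + l - 1, by omega⟩ (chain r3 r4)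
  have g2 : Good (g * d) b := good_of_return ⟨k + l - 1, by rw [hpz]; omega⟩ (chain r5 r6)
  intro u hu
  simp only [Finset.mem_insert, Finset.mem_singleton] at hu
  rcases hu with rfl | rfl | rfl | rfl | rfl | rfl
  · exact g1
  · exact good_of_return odd_one r1
  · exact good_trans r3 g1
  · exact good_of_return odd_one r2
  · exact g2
  · exact good_trans r5 g2

/-- A long even pair of orbits by itself. -/
theorem State.self_even (h : State t x y z) {a : α} (haza : ¬ SC (y * z) a (z a))
    (ha : ¬ Good (y * z) a) (h3 : 3 ≤ per (y * z) a) :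
    ∃ d S, IsMove z d S ∧ (∀ u ∈ S, Good ((y * z) * d) u) ∧ a ∈ S ∧
      (∀ u ∈ S, SC (y * z) a u ∨ SC (y * z) (z a) u) := by
  have rev := h.g_zg a
  have rev2 := h.g_zg ((y * z) a)
  have scz := h.sc_zg a
  have scz2 := h.sc_zg ((y * z) a)
  have hpz := h.per_z
  generalize hgdef : y * z = g at *
  have sA : SC g a (g a) := sc_apply g a
  have sA2 : SC g a (g (g a)) := sA.trans (sc_apply g (g a))
  have sB : SC g (z a) (z (g a)) := scz.symm
  have sB2 : SC g (z a) (z (g (g a))) := (scz2.trans scz).symm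
  have n10 : g a ≠ a := by simpa using ne_of_lt_per (g := g) (w := a) (i := 1) one_pos (by omega)
  have n20 : g (g a) ≠ a := by simpa [pow_succ] using ne_of_lt_per (g := g) (w := a) (i := 2) two_pos (by omega)
  have n21 : g (g a) ≠ g a := g.injective.ne n10
  have hpu : per g (z (g (g a))) = per g a := by rw [hpz, ← per_sc sA2]
  have hnd : [a, z (g a), z (g (g a)), z (z (g (g a))), z (z (g a)), z a].Nodup := by
    rw [h.zz, h.zz]
    simp only [List.nodup_cons, List.mem_cons, List.not_mem_nil, or_false, not_or, List.nodup_nil, and_true,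
      not_false_iff]
    exact ⟨⟨(ne_sc sB fun e => haza e.symm).symm, (ne_sc sB2 fun e => haza e.symm).symm, n20.symm, n10.symm,
        ne_sc (.refl g a) haza⟩,
      ⟨z.injective.ne n21.symm, ne_sc sB fun e => haza (sA2.trans e.symm), ne_sc sB fun e => haza (sA.trans e.symm),
        z.injective.ne n10⟩,
      ⟨ne_sc sB2 fun e => haza (sA2.trans e.symm), ne_sc sB2 fun e => haza (sA.trans e.symm), z.injective.ne n20⟩,
      ⟨n21, ne_sc sA2 haza⟩, ne_sc sA haza⟩
  have hmove := move_triple h.hz hnd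
  obtain ⟨v1, v2, v3, v4, v5, v6⟩ := pair_values hnd
  generalize hd : cyc a (z (g a)) (z (g (g a))) * cyc (z (z (g (g a)))) (z (z (g a))) (z a) = d at *
  rw [h.zz, h.zz] at hmove
  refine ⟨d, _, hmove, ?_, by simp, ?_⟩
  swap
  · intro u hu
    simp only [Finset.mem_insert, Finset.mem_singleton] at hu
    rcases hu with rfl | rfl | rfl | rfl | rfl | rfl
    · exact .inl (.refl g u)
    · exact .inr sB
    · exact .inr sB2
    · exact .inl sA2
    · exact .inl sA
    · exact .inr (.refl g _)
  rw [h.zz] at v4 v5 v6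
  rw [h.zz] at v4
  have hfix : ∀ v, v ≠ a → v ≠ z (g a) → v ≠ z (g (g a)) → v ≠ g (g a) → v ≠ g a → v ≠ z a → d v = v :=
    fun v p1 p2 p3 p4 p5 p6 => hmove.fix v (by
      simp only [Finset.mem_insert, Finset.mem_singleton, not_or]
      exact ⟨p1, p2, p3, p4, p5, p6⟩)
  have r1 : ((g * d) ^ 1) a = z a := by rw [pow_one]; exact jump_one v1 rev
  have r2 : ((g * d) ^ (per g a - 2)) (z a) = a := jump (by omega) v6 (back_two g a (by omega)) fun i i0 i1 => by
    have s := sA2.trans (sc_pow g (g (g a)) i)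
    have n0 := back_ne g a (k := 2) i0 (by omega) (j := 0) (by omega)
    have n1 := back_ne g a (k := 2) i0 (by omega) (j := 1) (by omega)
    have n2 := back_ne g a (k := 2) i0 (by omega) (j := 2) le_rfl
    simp only [pow_succ, pow_zero, one_mul, Perm.one_apply, Perm.mul_apply] at n0 n1 n2
    exact hfix _ n0 (ne_sc s fun e => haza (e.trans scz)) (ne_sc s fun e => haza (e.trans sB2.symm)) n2 n1
      (ne_sc s haza)
  have r3 : ((g * d) ^ 1) (z (g a)) = z (g a) := by rw [pow_one]; exact jump_one v2 rev2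
  have r4 : ((g * d) ^ 1) (g (g a)) = g (g a) := by rw [pow_one]; exact jump_one v4 rfl
  have r5 : ((g * d) ^ 1) (z (g (g a))) = g a := by rw [pow_one]; exact jump_one v3 rfl
  have r6 : ((g * d) ^ (per g a - 2)) (g a) = z (g (g a)) := by
    refine jump (by omega) v5 ?_ fun i i0 i1 => ?_
    · conv_rhs => rw [← back_two g (z (g (g a))) (by omega), rev2, rev, hpu]
    · have s := sc_pow g (z a) i
      have n0 := back_ne g (z (g (g a))) (k := 2) i0 (by omega) (j := 0) (by omega)
      have n1 := back_ne g (z (g (g a))) (k := 2) i0 (by omega) (j := 1) (by omega)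
      have n2 := back_ne g (z (g (g a))) (k := 2) i0 (by omega) (j := 2) le_rfl
      simp only [pow_succ, pow_zero, one_mul, Perm.one_apply, Perm.mul_apply, rev2, rev] at n0 n1 n2
      exact hfix _ (ne_sc s fun e => haza e.symm) n1 n0 (ne_sc s fun e => haza (sA2.trans e.symm))
        (ne_sc s fun e => haza (sA.trans e.symm)) n2
  obtain ⟨k, hk⟩ := Nat.not_odd_iff_even.1 ha
  have g1 : Good (g * d) a := good_of_return ⟨k - 1, by omega⟩ (chain r1 r2)
  have g2 : Good (g * d) (z (g (g a))) := good_of_return ⟨k - 1, by omega⟩ (chain r5 r6)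
  intro u hu
  simp only [Finset.mem_insert, Finset.mem_singleton] at hu
  rcases hu with rfl | rfl | rfl | rfl | rfl | rfl
  · exact g1
  · exact good_of_return odd_one r3
  · exact g2
  · exact good_of_return odd_one r4
  · exact good_trans r5 g2
  · exact good_trans r1 g1

theorem State.fix_data (h : State t x y z) {c : α} (hc : y c = c) (hcb : ¬ Good (y * z) c) :
    (y * z) (z c) = c ∧ z c ≠ c ∧ per (y * z) (z c) = per (y * z) c := by
  have h1 : (y * z) (z c) = c := by rw [Perm.mul_apply, h.zz, hc]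
  refine ⟨h1, fun e => ?_, h.per_z c⟩
  rw [e] at h1
  exact hcb (good_of_return odd_one (by rw [pow_one]; exact h1))

theorem State.fix_apart (h : State t x y z) {c e : α} (hc : y c = c) (he : z e = e)
    (heb : ¬ Good (y * z) e) : ¬ SC (y * z) e c := by
  intro hsc
  obtain ⟨i, -, -, rfl⟩ := hsc.exists_pow_eq (y * z)
  obtain ⟨m, hm⟩ := Nat.not_odd_iff_even.1 heb
  have hpos := per_pos (y * z) e
  have e1 : (y * z) (z (((y * z) ^ i) e)) = ((y * z) ^ i) e := by rw [Perm.mul_apply, h.zz, hc]
  have e2 : ((y * z) ^ (2 * i + per (y * z) e)) e = ((y * z) ^ 1) e := by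
    rw [pow_add, Perm.mul_apply, pow_per, two_mul, pow_add, Perm.mul_apply]
    conv_lhs => rw [← e1]
    rw [← Perm.mul_apply, ← pow_succ, pow_succ', Perm.mul_apply, h.rev_nat, he, pow_one]
  have e3 : ((y * z) ^ (2 * i + per (y * z) e - 1)) e = e := by
    apply ((y * z) ^ 1).injective
    rw [← Perm.mul_apply, ← pow_add, show 1 + (2 * i + per (y * z) e - 1) = 2 * i + per (y * z) e by omega, e2]
  obtain ⟨q, hq⟩ := per_dvd e3
  have h2 : 2 ∣ 2 * i + per (y * z) e - 1 := hq ▸ Dvd.dvd.mul_right ⟨m, by omega⟩ q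
  omega

/-- An orbit with two fixed points of `y` and one with two fixed points of `z`. -/
theorem State.pair_paths (h : State t x y z) {c e : α} (hc : y c = c) (he : z e = e)
    (hcb : ¬ Good (y * z) c) (heb : ¬ Good (y * z) e) :
    IsMove z (cyc c e (z c)) {c, e, z c} ∧
      ∀ u ∈ ({c, e, z c} : Finset α), Good ((y * z) * cyc c e (z c)) u := by
  obtain ⟨hgc, hzc, hpc⟩ := h.fix_data hc hcb
  have hap := h.fix_apart hc he heb
  generalize hgdef : y * z = g at *
  have scc : SC g (z c) c := by simpa [hgc] using sc_apply g (z c)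
  have h1 : c ≠ e := fun q => hap (q ▸ .refl g c)
  have h2 : c ≠ z c := Ne.symm hzc
  have h3 : e ≠ z c := ne_sc (.refl g e) fun q => hap (q.trans scc)
  refine ⟨move_single h.hz he hzc, ?_⟩
  have rz : ((g * cyc c e (z c)) ^ (per g c - 1)) (z c) = z c := by
    have hm : 2 ≤ per g c := by
      have := per_pos g c
      by_contra hlt
      exact hcb (by rw [Good, show per g c = 1 by omega]; exact odd_one)
    refine jump (by omega) cyc_s ?_ fun i i0 i1 => ?_
    · have := back_pow g (z c)
      rwa [hgc, hpc] at this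
    · have n0 := back_ne g (z c) (k := 1) i0 (by omega) (j := 0) (by omega)
      have n1 := back_ne g (z c) (k := 1) i0 (by omega) (j := 1) le_rfl
      simp only [pow_one, pow_zero, Perm.one_apply, hgc] at n0 n1
      exact cyc_fix n1 (ne_sc (sc_pow g c i) fun q => hap q.symm) n0
  have rc : ((g * cyc c e (z c)) ^ per g e) c = e := jump (per_pos g e) (cyc_p h1 h2) (pow_per g e) fun i i0 i1 =>
    cyc_fix (ne_sc (sc_pow g e i) hap) (ne_of_lt_per i0 i1) (ne_sc (sc_pow g e i) fun q => hap (q.trans scc))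
  have re : ((g * cyc c e (z c)) ^ 1) e = c := by rw [pow_one]; exact jump_one (cyc_q h2 h3) hgc
  obtain ⟨k, hk⟩ := Nat.not_odd_iff_even.1 hcb
  obtain ⟨l, hl⟩ := Nat.not_odd_iff_even.1 heb
  have gc : Good (g * cyc c e (z c)) c := good_of_return ⟨l, by omega⟩ (chain rc re)
  have := per_pos g c
  have gz : Good (g * cyc c e (z c)) (z c) := good_of_return ⟨k - 1, by omega⟩ rz
  intro u hu
  simp only [Finset.mem_insert, Finset.mem_singleton] at hu
  rcases hu with rfl | rfl | rfl
  · exact gc
  · exact good_trans rc gc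
  · exact gz

/-- A bad pair of orbits absorbed by two bad self-paired orbits. -/
theorem State.absorb_paths (h : State t x y z) {a c e : α} (haza : ¬ SC (y * z) a (z a))
    (hc : y c = c) (he : z e = e) (hcb : ¬ Good (y * z) c) (heb : ¬ Good (y * z) e) :
    ∃ d S, IsMove z d S ∧ (∀ u ∈ S, Good ((y * z) * d) u) ∧ a ∈ S := by
  obtain ⟨hgc, hzc, hpc⟩ := h.fix_data hc hcb
  have hap := h.fix_apart hc he heb
  obtain ⟨k, hk⟩ := Nat.not_odd_iff_even.1 heb
  have hkpos : 0 < k := by have := per_pos (y * z) e; omega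
  set f := ((y * z) ^ k) e with hf
  have hzf : z f = f := by
    have h1 := h.rev_nat k e
    rw [← hf, he] at h1
    apply ((y * z) ^ k).injective
    rw [h1, hf, ← Perm.mul_apply, ← pow_add, ← hk, pow_per]
  have scf : SC (y * z) e f := sc_pow _ e k
  have hfe : f ≠ e := ne_of_lt_per hkpos (by omega)
  have hz' : ∀ {v w : α}, SC (y * z) (z v) (z w) ↔ SC (y * z) v w := fun {v w} => h.sc_z
  have hpz := h.per_z
  clear_value f
  generalize hgdef : y * z = g at *
  have scc : SC g (z c) c := by simpa [hgc] using sc_apply g (z c)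
  have hae : ¬ SC g a e := fun q => haza (q.trans (by
    have h2 : SC g (z a) (z e) := hz'.2 q
    rw [he] at h2
    exact h2.symm))
  have hzae : ¬ SC g (z a) e := fun q => by
    have h2 : SC g (z (z a)) (z e) := hz'.2 q
    rw [h.zz, he] at h2
    exact hae h2
  have hac : ¬ SC g a c := fun q => haza (q.trans (scc.symm.trans (hz'.2 q).symm))
  have hzac : ¬ SC g (z a) c := fun q => haza ((by
    have h2 : SC g (z (z a)) (z c) := hz'.2 q
    rw [h.zz] at h2
    exact h2.trans scc : SC g a c).trans q.symm)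
  have hza : z a ≠ a := fun q => haza (q.symm ▸ .refl g a)
  have hm1 := move_single h.hz he hza
  have hm2 := move_single h.hz hzf hzc
  have hdis : Disjoint ({a, e, z a} : Finset α) {c, f, z c} := by
    rw [Finset.disjoint_left]
    intro w hw
    simp only [Finset.mem_insert, Finset.mem_singleton, not_or] at hw ⊢
    rcases hw with rfl | rfl | rfl
    · exact ⟨ne_sc (.refl g w) hac, ne_sc (.refl g w) fun q => hae (q.trans scf.symm),
        ne_sc (.refl g w) fun q => hac (q.trans scc)⟩
    · exact ⟨ne_sc (.refl g w) hap, hfe.symm, ne_sc (.refl g w) fun q => hap (q.trans scc)⟩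
    · exact ⟨ne_sc (.refl g _) hzac, ne_sc (.refl g _) fun q => hzae (q.trans scf.symm),
        ne_sc (.refl g _) fun q => hzac (q.trans scc)⟩
  have hmove := move_mul h.hz hm1 hm2 hdis
  have w1 : ∀ w ∈ ({a, e, z a} : Finset α), (cyc a e (z a) * cyc c f (z c)) w = cyc a e (z a) w := fun w hw => by
    rw [Perm.mul_apply, hm2.fix w (Finset.disjoint_left.1 hdis hw)]
  have w2 : ∀ w ∈ ({c, f, z c} : Finset α), (cyc a e (z a) * cyc c f (z c)) w = cyc c f (z c) w := fun w hw => by
    rw [Perm.mul_apply, hm1.fix _ (Finset.disjoint_right.1 hdis (hm2.mem hw))]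
  have h1 : a ≠ e := ne_sc (.refl g a) hae
  have h2 : a ≠ z a := hza.symm
  have h3 : e ≠ z a := ne_sc (.refl g e) fun q => hzae q.symm
  have k1 : c ≠ f := ne_sc (.refl g c) fun q => hap (scf.trans q.symm)
  have k2 : c ≠ z c := hzc.symm
  have k3 : f ≠ z c := ne_sc scf fun q => hap (q.trans scc)
  have v1 := (w1 a (by simp)).trans (cyc_p h1 h2)
  have v2 := (w1 e (by simp)).trans (cyc_q h2 h3)
  have v3 := (w1 (z a) (by simp)).trans cyc_s
  have v4 := (w2 c (by simp)).trans (cyc_p k1 k2)
  have v5 := (w2 f (by simp)).trans (cyc_q k2 k3)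
  have v6 := (w2 (z c) (by simp)).trans cyc_s
  generalize cyc a e (z a) * cyc c f (z c) = d at *
  refine ⟨d, _, hmove, ?_, by simp⟩
  have hfix : ∀ v, v ≠ a → v ≠ e → v ≠ z a → v ≠ c → v ≠ f → v ≠ z c → d v = v :=
    fun v p1 p2 p3 p4 p5 p6 => hmove.fix v (by
      simp only [Finset.mem_union, Finset.mem_insert, Finset.mem_singleton, not_or]
      exact ⟨⟨p1, p2, p3⟩, p4, p5, p6⟩)
  have hfk : (g ^ k) f = e := by rw [hf, ← Perm.mul_apply, ← pow_add, ← hk, pow_per]
  have r1 : ((g * d) ^ k) a = f := jump hkpos v1 hf.symm fun i i0 i1 => by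
    have s := sc_pow g e i
    refine hfix _ (ne_sc s fun q => hae q.symm) (ne_of_lt_per i0 (by omega)) (ne_sc s fun q => hzae q.symm)
      (ne_sc s hap) ?_ (ne_sc s fun q => hap (q.trans scc))
    rw [hf]; exact pow_inj_lt i1 (by omega)
  have r2 : ((g * d) ^ 1) f = c := by rw [pow_one]; exact jump_one v5 hgc
  have r3 : ((g * d) ^ k) c = e := jump hkpos v4 hfk fun i i0 i1 => by
    have s := scf.trans (sc_pow g f i)
    have n0 : (g ^ i) f ≠ e := by
      rw [hf, ← Perm.mul_apply, ← pow_add]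
      exact ne_of_lt_per (by omega) (by omega)
    have n1 : (g ^ i) f ≠ f := ne_of_lt_per i0 (by rw [← per_sc scf]; omega)
    exact hfix _ (ne_sc s fun q => hae q.symm) n0 (ne_sc s fun q => hzae q.symm) (ne_sc s hap) n1
      (ne_sc s fun q => hap (q.trans scc))
  have r4 : ((g * d) ^ per g (z a)) e = z a := jump (per_pos g _) v2 (pow_per g _) fun i i0 i1 => by
    have s := sc_pow g (z a) i
    exact hfix _ (ne_sc s fun q => haza q.symm) (ne_sc s hzae) (ne_of_lt_per i0 i1) (ne_sc s hzac)
      (ne_sc s fun q => hzae (q.trans scf.symm)) (ne_sc s fun q => hzac (q.trans scc))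
  have r5 : ((g * d) ^ per g a) (z a) = a := jump (per_pos g _) v3 (pow_per g _) fun i i0 i1 => by
    have s := sc_pow g a i
    exact hfix _ (ne_of_lt_per i0 i1) (ne_sc s hae) (ne_sc s haza) (ne_sc s hac)
      (ne_sc s fun q => hae (q.trans scf.symm)) (ne_sc s fun q => hac (q.trans scc))
  obtain ⟨l, hl⟩ := Nat.not_odd_iff_even.1 hcb
  have := per_pos g c
  have r6 : ((g * d) ^ (per g c - 1)) (z c) = z c := by
    refine jump (by omega) v6 ?_ fun i i0 i1 => ?_
    · have := back_pow g (z c)
      rwa [hgc, hpc] at this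
    · have n0 := back_ne g (z c) (k := 1) i0 (by omega) (j := 0) (by omega)
      have n1 := back_ne g (z c) (k := 1) i0 (by omega) (j := 1) le_rfl
      simp only [pow_one, pow_zero, Perm.one_apply, hgc] at n0 n1
      have s := sc_pow g c i
      exact hfix _ (ne_sc s fun q => hac q.symm) (ne_sc s fun q => hap q.symm) (ne_sc s fun q => hzac q.symm)
        n1 (ne_sc s fun q => hap (scf.trans q.symm)) n0
  have g1 : Good (g * d) a := by
    refine good_of_return ?_ (chain (chain (chain (chain r1 r2) r3) r4) r5)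
    rw [hpz]
    exact ⟨per g a + k, by ring⟩
  intro u hu
  simp only [Finset.mem_union, Finset.mem_insert, Finset.mem_singleton] at hu
  rcases hu with (rfl | rfl | rfl) | rfl | rfl | rfl
  · exact g1
  · exact good_trans r3 (good_trans r2 (good_trans r1 g1))
  · exact good_trans r4 (good_trans r3 (good_trans r2 (good_trans r1 g1)))
  · exact good_trans r2 (good_trans r1 g1)
  · exact good_trans r1 g1
  · exact good_of_return ⟨l - 1, by omega⟩ r6

/-- A point in a pair of two-element orbits. -/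
def Two (g z : Perm α) (p : α) : Prop := per g p = 2 ∧ ¬ g.SameCycle p (z p)

/-- `q` is outside the component of `p`. -/
def Other (g z : Perm α) (p q : α) : Prop := ¬ g.SameCycle p q ∧ ¬ g.SameCycle p (z q)

theorem Two.bad {g : Perm α} {p : α} (hp : Two g z p) : ¬ Good g p := by
  rw [Good, hp.1]; decide

theorem Two.gg {g : Perm α} {p : α} (hp : Two g z p) : g (g p) = p := by
  have := pow_per g p
  rwa [hp.1, pow_two, Perm.mul_apply] at this

theorem Two.cases {g : Perm α} {p v : α} (hp : Two g z p) (hv : g.SameCycle p v) : v = p ∨ v = g p := by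
  obtain ⟨i, -, -, rfl⟩ := hv.exists_pow_eq g
  induction i with
  | zero => left; simp
  | succ i ih =>
    rw [pow_succ', Perm.mul_apply]
    rcases ih (sc_pow g p i) with e | e <;> rw [e]
    · exact Or.inr rfl
    · exact Or.inl hp.gg

theorem Two.of_other {g : Perm α} {p q : α} (hp : Two g z p) (hq : Two g z q) (h : Other g z p q) :
    Apart g z p q := ⟨hp.2, hq.2, h.1, h.2⟩

/-- Three pairs of two-element orbits. -/
theorem State.triple (h : State t x y z) {a b c : α} (ha : Two (y * z) z a) (hb : Two (y * z) z b)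
    (hc : Two (y * z) z c) (hab : Other (y * z) z a b) (hac : Other (y * z) z a c)
    (hbc : Other (y * z) z b c) :
    ∃ d S, IsMove z d S ∧ (∀ u ∈ S, Good ((y * z) * d) u) ∧ a ∈ S ∧ b ∈ S ∧ c ∈ S ∧
      ∀ u ∈ S, ∃ v ∈ [a, b, c], SC (y * z) v u ∨ SC (y * z) (z v) u := by
  obtain ⟨zab, zazb⟩ := h.apart_ext (ha.of_other hb hab)
  obtain ⟨zac, zazc⟩ := h.apart_ext (ha.of_other hc hac)
  obtain ⟨zbc, zbzc⟩ := h.apart_ext (hb.of_other hc hbc)
  have revA := h.g_zg a
  have revB := h.g_zg b
  have revC := h.g_zg c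
  have sA' := (h.sc_zg a).symm
  have sB' := (h.sc_zg b).symm
  have sC' := (h.sc_zg c).symm
  have gzb : (y * z) (z b) = z ((y * z) b) := by
    have := h.g_zg ((y * z) b)
    rwa [hb.gg] at this
  generalize hgdef : y * z = g at *
  have sA : SC g a (g a) := sc_apply g a
  have sB : SC g b (g b) := sc_apply g b
  have sC : SC g c (g c) := sc_apply g c
  have hne : ∀ {p : α}, Two g z p → g p ≠ p := fun {p} hp => by
    simpa using ne_of_lt_per (g := g) (w := p) (i := 1) one_pos (by rw [hp.1]; norm_num)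
  have hnA := hne ha
  have hnB := hne hb
  have hnC := hne hc
  have r := Perm.SameCycle.refl g
  have nd1 : [a, z (g a), b, z b, z (z (g a)), z a].Nodup := by
    rw [h.zz]
    simp only [List.nodup_cons, List.mem_cons, List.not_mem_nil, or_false, not_or, List.nodup_nil, and_true,
      not_false_iff]
    exact ⟨⟨(ne_sc sA' fun q => ha.2 q.symm).symm, ne_sc (r a) hab.1, ne_sc (r a) hab.2, hnA.symm, ne_sc (r a) ha.2⟩,
      ⟨ne_sc sA' zab, ne_sc sA' zazb, ne_sc sA' fun q => ha.2 (sA.trans q.symm), z.injective.ne hnA⟩,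
      ⟨ne_sc (r b) hb.2, ne_sc (r b) fun q => hab.1 (sA.trans q.symm), ne_sc (r b) fun q => zab q.symm⟩,
      ⟨ne_sc (r _) fun q => hab.2 (sA.trans q.symm), ne_sc (r _) fun q => zazb q.symm⟩,
      ne_sc sA ha.2⟩
  have nd2 : [g b, z c, z (g c), z (z (g c)), z (z c), z (g b)].Nodup := by
    rw [h.zz, h.zz]
    simp only [List.nodup_cons, List.mem_cons, List.not_mem_nil, or_false, not_or, List.nodup_nil, and_true,
      not_false_iff]
    exact ⟨⟨ne_sc sB hbc.2, ne_sc sB fun q => hbc.2 (q.trans sC'.symm), ne_sc sB fun q => hbc.1 (q.trans sC.symm),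
        ne_sc sB hbc.1, ne_sc sB fun q => hb.2 (q.trans sB'.symm)⟩,
      ⟨z.injective.ne hnC.symm, ne_sc (r _) fun q => hc.2 (sC.trans q.symm), ne_sc (r _) fun q => hc.2 q.symm,
        ne_sc (r _) fun q => zbzc (sB'.trans q.symm)⟩,
      ⟨ne_sc sC' fun q => hc.2 (sC.trans q.symm), ne_sc sC' fun q => hc.2 q.symm,
        ne_sc sC' fun q => zbzc (sB'.trans q.symm)⟩,
      ⟨hnC, ne_sc sC fun q => zbc (sB'.trans q.symm)⟩,
      ne_sc (r c) fun q => zbc (sB'.trans q.symm)⟩
  have m1 := move_triple h.hz nd1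
  have m2 := move_triple h.hz nd2
  obtain ⟨u1, u2, u3, u4, u5, u6⟩ := pair_values nd1
  obtain ⟨v1, v2, v3, v4, v5, v6⟩ := pair_values nd2
  have hdis : Disjoint ({a, z (g a), b, z b, z (z (g a)), z a} : Finset α)
      {g b, z c, z (g c), z (z (g c)), z (z c), z (g b)} := by
    rw [h.zz, h.zz, h.zz, Finset.disjoint_left]
    intro w hw
    simp only [Finset.mem_insert, Finset.mem_singleton, not_or] at hw ⊢
    rcases hw with rfl | rfl | rfl | rfl | rfl | rfl
    · exact ⟨ne_sc (r w) fun q => hab.1 (q.trans sB.symm), ne_sc (r w) hac.2, ne_sc (r w) fun q => hac.2 (q.trans sC'.symm),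
        ne_sc (r w) fun q => hac.1 (q.trans sC.symm), ne_sc (r w) hac.1, ne_sc (r w) fun q => hab.2 (q.trans sB'.symm)⟩
    · exact ⟨ne_sc sA' fun q => zab (q.trans sB.symm), ne_sc sA' zazc, ne_sc sA' fun q => zazc (q.trans sC'.symm),
        ne_sc sA' fun q => zac (q.trans sC.symm), ne_sc sA' zac, ne_sc sA' fun q => zazb (q.trans sB'.symm)⟩
    · exact ⟨hnB.symm, ne_sc (r w) hbc.2, ne_sc (r w) fun q => hbc.2 (q.trans sC'.symm),
        ne_sc (r w) fun q => hbc.1 (q.trans sC.symm), ne_sc (r w) hbc.1, ne_sc (r w) fun q => hb.2 (q.trans sB'.symm)⟩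
    · exact ⟨ne_sc (r _) fun q => hb.2 (sB.trans q.symm), ne_sc (r _) zbzc, ne_sc (r _) fun q => zbzc (q.trans sC'.symm),
        ne_sc (r _) fun q => zbc (q.trans sC.symm), ne_sc (r _) zbc, z.injective.ne hnB.symm⟩
    · exact ⟨ne_sc sA fun q => hab.1 (q.trans sB.symm), ne_sc sA hac.2, ne_sc sA fun q => hac.2 (q.trans sC'.symm),
        ne_sc sA fun q => hac.1 (q.trans sC.symm), ne_sc sA hac.1, ne_sc sA fun q => hab.2 (q.trans sB'.symm)⟩
    · exact ⟨ne_sc (r _) fun q => zab (q.trans sB.symm), ne_sc (r _) zazc, ne_sc (r _) fun q => zazc (q.trans sC'.symm),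
        ne_sc (r _) fun q => zac (q.trans sC.symm), ne_sc (r _) zac, ne_sc (r _) fun q => zazb (q.trans sB'.symm)⟩
  have hmove := move_mul h.hz m1 m2 hdis
  generalize hd1 : cyc a (z (g a)) b * cyc (z b) (z (z (g a))) (z a) = d1 at *
  generalize hd2 : cyc (g b) (z c) (z (g c)) * cyc (z (z (g c))) (z (z c)) (z (g b)) = d2 at *
  simp only [h.zz] at u4 u5 u6 v4 v5 v6 m1 m2 hdis hmove
  have f1 : ∀ w ∈ ({a, z (g a), b, z b, g a, z a} : Finset α), (d1 * d2) w = d1 w := fun w hw => by
    rw [Perm.mul_apply, m2.fix w (Finset.disjoint_left.1 hdis hw)]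
  have f2 : ∀ w ∈ ({g b, z c, z (g c), g c, c, z (g b)} : Finset α), (d1 * d2) w = d2 w := fun w hw => by
    rw [Perm.mul_apply, m1.fix _ (Finset.disjoint_right.1 hdis (m2.mem hw))]
  have x1 := (f1 a (by simp)).trans u1
  have x2 := (f1 (z (g a)) (by simp)).trans u2
  have x3 := (f1 b (by simp)).trans u3
  have x4 := (f1 (z b) (by simp)).trans u4
  have x5 := (f1 (g a) (by simp)).trans u5
  have x6 := (f1 (z a) (by simp)).trans u6
  have y1 := (f2 (g b) (by simp)).trans v1
  have y2 := (f2 (z c) (by simp)).trans v2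
  have y3 := (f2 (z (g c)) (by simp)).trans v3
  have y4 := (f2 (g c) (by simp)).trans v4
  have y5 := (f2 c (by simp)).trans v5
  have y6 := (f2 (z (g b)) (by simp)).trans v6
  clear f1 f2
  generalize d1 * d2 = d at *
  refine ⟨d, _, hmove, ?_, by simp, by simp, by simp, ?_⟩
  swap
  · intro u hu
    simp only [Finset.mem_union, Finset.mem_insert, Finset.mem_singleton] at hu
    rcases hu with (rfl | rfl | rfl | rfl | rfl | rfl) | rfl | rfl | rfl | rfl | rfl | rfl
    · exact ⟨u, by simp, .inl (r u)⟩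
    · exact ⟨a, by simp, .inr sA'⟩
    · exact ⟨u, by simp, .inl (r u)⟩
    · exact ⟨b, by simp, .inr (r _)⟩
    · exact ⟨a, by simp, .inl sA⟩
    · exact ⟨a, by simp, .inr (r _)⟩
    · exact ⟨b, by simp, .inl sB⟩
    · exact ⟨c, by simp, .inr (r _)⟩
    · exact ⟨c, by simp, .inr sC'⟩
    · exact ⟨c, by simp, .inl sC⟩
    · exact ⟨u, by simp, .inl (r u)⟩
    · exact ⟨b, by simp, .inr sB'⟩
  have e1 : (g * d) a = z a := jump_one x1 revA
  have e2 : (g * d) (z a) = z (g b) := jump_one x6 gzb
  have e3 : (g * d) (z (g b)) = c := jump_one y6 hc.gg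
  have e4 : (g * d) c = z b := jump_one y5 revB
  have e5 : (g * d) (z b) = a := jump_one x4 ha.gg
  have e6 : (g * d) (g c) = g c := jump_one y4 rfl
  have e7 : (g * d) (z c) = z c := jump_one y2 revC
  have e8 : (g * d) (g b) = z (g c) := by
    refine jump_one y1 ?_
    have := h.g_zg (g c)
    rw [hgdef, hc.gg] at this
    exact this
  have e9 : (g * d) (z (g c)) = b := jump_one y3 hb.gg
  have e10 : (g * d) b = g a := jump_one x3 rfl
  have e11 : (g * d) (g a) = z (g a) := by
    refine jump_one x5 ?_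
    have := h.g_zg (g a)
    rw [hgdef, ha.gg] at this
    exact this
  have e12 : (g * d) (z (g a)) = g b := jump_one x2 rfl
  have p1 : ((g * d) ^ 5) a = a := by simp only [pow_succ, pow_zero, one_mul, Perm.mul_apply] at *; simp only [e1, e2, e3, e4, e5]
  have p2 : ((g * d) ^ 5) b = b := by simp only [pow_succ, pow_zero, one_mul, Perm.mul_apply] at *; simp only [e10, e11, e12, e8, e9]
  have g1 : Good (g * d) a := good_of_return ⟨2, rfl⟩ p1
  have g2 : Good (g * d) b := good_of_return ⟨2, rfl⟩ p2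
  have o1 : ∀ {v w : α}, (g * d) v = w → Good (g * d) v → Good (g * d) w :=
    fun {v w} e hv => e ▸ good_apply.2 hv
  intro u hu
  simp only [Finset.mem_union, Finset.mem_insert, Finset.mem_singleton] at hu
  rcases hu with (rfl | rfl | rfl | rfl | rfl | rfl) | rfl | rfl | rfl | rfl | rfl | rfl
  · exact g1
  · exact o1 e11 (o1 e10 g2)
  · exact g2
  · exact o1 e4 (o1 e3 (o1 e2 (o1 e1 g1)))
  · exact o1 e10 g2
  · exact o1 e1 g1
  · exact o1 e12 (o1 e11 (o1 e10 g2))
  · exact good_of_return odd_one (by rw [pow_one]; exact e7)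
  · exact o1 e8 (o1 e12 (o1 e11 (o1 e10 g2)))
  · exact good_of_return odd_one (by rw [pow_one]; exact e6)
  · exact o1 e3 (o1 e2 (o1 e1 g1))
  · exact o1 e2 (o1 e1 g1)

/-! ### classification and counting -/

theorem State.self_cases (h : State t x y z) {w : α} (hw : SC (y * z) w (z w)) :
    (∃ e, SC (y * z) w e ∧ z e = e) ∨ (¬ Good (y * z) w ∧ ∃ c, SC (y * z) w c ∧ y c = c) := by
  obtain ⟨n, -, -, hn⟩ := hw.exists_pow_eq (y * z)
  have zfix : ∀ m, Even m → ((y * z) ^ m) w = z w → ∃ e, SC (y * z) w e ∧ z e = e := by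
    rintro m ⟨k, rfl⟩ hm
    refine ⟨((y * z) ^ k) w, sc_pow _ w k, ((y * z) ^ k).injective ?_⟩
    rw [h.rev_nat, ← Perm.mul_apply, ← pow_add, hm]
  rcases Nat.even_or_odd n with he | ho
  · exact Or.inl (zfix n he hn)
  by_cases hg : Good (y * z) w
  · refine Or.inl (zfix (n + per (y * z) w) (ho.add_odd hg) ?_)
    rw [pow_add, Perm.mul_apply, pow_per, hn]
  obtain ⟨k, rfl⟩ := ho
  refine Or.inr ⟨hg, ((y * z) ^ (k + 1)) w, sc_pow _ w _, ((y * z) ^ k).injective ?_⟩
  have e : y (((y * z) ^ (k + 1)) w) = (y * z) (z (((y * z) ^ (k + 1)) w)) := by rw [Perm.mul_apply, h.zz]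
  rw [e, ← Perm.mul_apply, ← pow_succ, h.rev_nat, ← Perm.mul_apply, ← pow_add, show k + (k + 1) = 2 * k + 1 by omega, hn]

theorem State.balance (h : State t x y z) (hty : IsConj t y) :
    (∃ e, z e = e ∧ ¬ Good (y * z) e) ↔ (∃ c, y c = c ∧ ¬ Good (y * z) c) := by
  obtain ⟨q, hq⟩ := isConj_iff.1 (h.conj.symm.trans hty)
  have hcard : (Finset.univ.filter fun v => z v = v).card = (Finset.univ.filter fun v => y v = v).card := by
    refine Finset.card_equiv q ?_
    intro v
    simp [← hq]
  set g := y * z with hgdef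
  constructor
  · rintro ⟨e, he, heb⟩
    by_contra hno
    push_neg at hno
    set φ : α → α := fun c => (g ^ (per g c / 2)) c with hφ
    have hle : (Finset.univ.filter fun v => y v = v).card ≤
        ((Finset.univ.filter fun v => z v = v).erase e).card := by
      refine Finset.card_le_card_of_injOn φ ?_ ?_
      · intro c hc
        have hc' : y c = c := by simpa using hc
        obtain ⟨k, hk⟩ := hno c hc'
        have hk2 : per g c / 2 = k := by omega
        simp only [Finset.coe_erase, Set.mem_diff, Set.mem_singleton_iff, Finset.coe_filter, Finset.mem_univ,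
          true_and, Set.mem_setOf_eq, hφ, hk2]
        refine ⟨(g ^ k).injective ?_, fun q => heb ?_⟩
        · rw [h.rev_nat, ← Perm.mul_apply, ← pow_add]
          apply g.injective
          conv_rhs => rw [← Perm.mul_apply, ← pow_succ', show k + k + 1 = per g c by omega, pow_per]
          rw [hgdef, Perm.mul_apply, h.zz, hc']
        · rw [← q, good_pow]; exact hno c hc'
      · intro c _ c' _ hcc
        have hp : per g c = per g c' := by
          rw [per_sc (sc_pow g c (per g c / 2)), per_sc (sc_pow g c' (per g c' / 2))]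
          exact congrArg (per g) hcc
        simp only [hφ, hp] at hcc
        exact (g ^ (per g c' / 2)).injective hcc
    have := Finset.card_erase_lt_of_mem (show e ∈ Finset.univ.filter fun v => z v = v by simpa using he)
    omega
  · rintro ⟨c, hc, hcb⟩
    by_contra hno
    push_neg at hno
    set φ : α → α := fun e => (g ^ (per g e / 2 + 1)) e with hφ
    have hle : (Finset.univ.filter fun v => z v = v).card ≤
        ((Finset.univ.filter fun v => y v = v).erase c).card := by
      refine Finset.card_le_card_of_injOn φ ?_ ?_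
      · intro e he
        have he' : z e = e := by simpa using he
        obtain ⟨k, hk⟩ := hno e he'
        have hk2 : per g e / 2 = k := by omega
        simp only [Finset.coe_erase, Set.mem_diff, Set.mem_singleton_iff, Finset.coe_filter, Finset.mem_univ,
          true_and, Set.mem_setOf_eq, hφ, hk2]
        refine ⟨(g ^ k).injective ?_, fun q => hcb ?_⟩
        · have e1 : y ((g ^ (k + 1)) e) = g (z ((g ^ (k + 1)) e)) := by rw [hgdef, Perm.mul_apply, h.zz]
          rw [e1, ← Perm.mul_apply (g ^ k), ← pow_succ, h.rev_nat, he', ← Perm.mul_apply, ← pow_add,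
            show k + (k + 1) = per g e by omega, pow_per]
        · rw [← q, good_pow]; exact hno e he'
      · intro e _ e' _ hee
        have hp : per g e = per g e' := by
          rw [per_sc (sc_pow g e (per g e / 2 + 1)), per_sc (sc_pow g e' (per g e' / 2 + 1))]
          exact congrArg (per g) hee
        simp only [hφ, hp] at hee
        exact (g ^ (per g e' / 2 + 1)).injective hee
    have := Finset.card_erase_lt_of_mem (show c ∈ Finset.univ.filter fun v => y v = v by simpa using hc)
    omega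

/-! ### the main induction -/

/-- No component with two-element orbits is lonely. -/
def NoLonely (g z : Perm α) : Prop := ∀ p, Two g z p → ∃ q, Two g z q ∧ Other g z p q

open Classical in
/-- The number of bad points. -/
noncomputable def badCard (g : Perm α) : ℕ := (Finset.univ.filter fun w => ¬ Good g w).card

theorem two_old {g g' : Perm α} {z' : Perm α} {w : α} (hsc : ∀ v, g'.SameCycle w v ↔ g.SameCycle w v)
    (hz' : z' w = z w) (hp : per g' w = per g w) : Two g' z' w ↔ Two g z w := by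
  rw [Two, Two, hp, hz', hsc]

theorem State.old_to_new (h : State t x y z) {d : Perm α} {S : Finset α} (hm : IsMove z d S) {w : α}
    (hw : ∀ u ∈ S, ¬ SC (y * z) u w) :
    (Two (y * (z * d)) (z * d) w ↔ Two (y * z) z w) ∧ (z * d) w = z w ∧
      ∀ v, SC (y * (z * d)) w v ↔ SC (y * z) w v := by
  have hg : y * (z * d) = y * z * d := (mul_assoc _ _ _).symm
  have hz' : (z * d) w = z w := by
    rw [Perm.mul_apply, hm.fix w fun hmem => hw w hmem (.refl _ w)]
  refine ⟨two_old (fun v => ?_) hz' ?_, hz', fun v => ?_⟩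
  · rw [hg]; exact untouched_zpow hm hw
  · rw [hg]; exact untouched_per hm hw
  · rw [hg]; exact untouched_zpow hm hw

theorem State.new_old (h : State t x y z) {d : Perm α} {S : Finset α} (hm : IsMove z d S)
    (hS : ∀ u ∈ S, Good (y * z * d) u) {w : α} (hw : Two (y * (z * d)) (z * d) w) :
    Two (y * z) z w ∧ (∀ u ∈ S, ¬ SC (y * z) u w) := by
  have hg : y * (z * d) = y * z * d := (mul_assoc _ _ _).symm
  have hns : ∀ u ∈ S, ¬ SC (y * z) u w := fun u hu hsc =>
    hw.bad (hg ▸ good_touched hm hS ⟨u, hu, hsc⟩)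
  exact ⟨(h.old_to_new hm hns).1.1 hw, hns⟩

/-- In a touched component, the two-orbit point and its mirror are touched. -/
theorem State.other_of_untouched (h : State t x y z) {d : Perm α} {S : Finset α} (hm : IsMove z d S) {a w : α}
    (ha : a ∈ S) (hw : ∀ u ∈ S, ¬ SC (y * z) u w) : Other (y * z) z a w :=
  ⟨hw a ha, fun q => hw (z a) (hm.clo a ha) (by
    have := (h.sc_z).2 q
    rwa [h.zz] at this)⟩

theorem State.apply' (h : State t x y z) {d : Perm α} {S : Finset α} (hm : IsMove z d S)
    (hS : ∀ u ∈ S, Good (y * z * d) u) {a : α} (ha : a ∈ S) (hab : ¬ Good (y * z) a)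
    (hU : ∀ u ∈ S, x u = z u) :
    State t x y (z * d) ∧ badCard (y * (z * d)) < badCard (y * z) := by
  classical
  obtain ⟨hst, hbad⟩ := h.apply hm hU hS
  refine ⟨hst, Finset.card_lt_card ((Finset.ssubset_iff_of_subset ?_).2 ⟨a, by simpa using hab, ?_⟩)⟩
  · intro w hw
    simp only [Finset.mem_filter, Finset.mem_univ, true_and] at hw ⊢
    exact (hbad w hw).2.1
  · simp only [Finset.mem_filter, Finset.mem_univ, true_and, not_not]
    by_contra hg
    exact (hbad a hg).1 a ha (.refl _ a)

theorem State.finish (hty : IsConj t y) : ∀ (n : ℕ) (z : Perm α), badCard (y * z) ≤ n → State t x y z →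
    NoLonely (y * z) z → ∃ z', State t x y z' ∧ ∀ w, Good (y * z') w := by
  classical
  intro n
  induction n with
  | zero =>
    intro z hn hz _
    refine ⟨z, hz, fun w => by_contra fun hw => ?_⟩
    have := Finset.card_eq_zero.1 (Nat.le_zero.1 hn)
    exact Finset.notMem_empty w (this ▸ by simpa using hw)
  | succ n ih =>
    intro z hn h hl
    -- a point with the same image under `x` and `z`
    have extSC : ∀ {v w : α}, ¬ Good (y * z) v → (SC (y * z) v w ∨ SC (y * z) (z v) w) → x w = z w := by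
      intro v w hv hw
      refine h.ext w fun hg => hv ?_
      rcases hw with hw | hw
      · rw [Good, per_sc hw]; exact hg
      · rw [← h.good_z, Good, per_sc hw]; exact hg
    by_cases htwo : ∃ p, Two (y * z) z p
    · obtain ⟨p, hp⟩ := htwo
      obtain ⟨q, hq, hpq⟩ := hl p hp
      by_cases h3 : ∃ r, Two (y * z) z r ∧ Other (y * z) z p r ∧ Other (y * z) z q r ∧
          ∀ s, Two (y * z) z s → ¬ (Other (y * z) z p s ∧ Other (y * z) z q s ∧ Other (y * z) z r s)
      · obtain ⟨r, hr, hpr, hqr, hall⟩ := h3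
        obtain ⟨d, S, hm, hS, hpS, hqS, hrS, hcov⟩ := h.triple hp hq hr hpq hpr hqr
        have hU : ∀ u ∈ S, x u = z u := fun u hu => by
          obtain ⟨v, hv, e⟩ := hcov u hu
          simp only [List.mem_cons, List.not_mem_nil, or_false] at hv
          rcases hv with rfl | rfl | rfl
          · exact extSC hp.bad e
          · exact extSC hq.bad e
          · exact extSC hr.bad e
        obtain ⟨hst, hlt⟩ := h.apply' hm hS hpS hp.bad hU
        refine ih (z * d) (by omega) hst fun w hw => ?_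
        obtain ⟨hw', hns⟩ := h.new_old hm hS hw
        exact absurd ⟨h.other_of_untouched hm hpS hns, h.other_of_untouched hm hqS hns,
          h.other_of_untouched hm hrS hns⟩ (hall w hw')
      · obtain ⟨d, S, hm, hS, hpS, hqS, hcov⟩ := h.join_even (hp.of_other hq hpq) hp.bad hq.bad
        have hU : ∀ u ∈ S, x u = z u := fun u hu => by
          rcases hcov u hu with e | e | e | e
          · exact extSC hp.bad (Or.inl e)
          · exact extSC hp.bad (Or.inr e)
          · exact extSC hq.bad (Or.inl e)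
          · exact extSC hq.bad (Or.inr e)
        obtain ⟨hst, hlt⟩ := h.apply' hm hS hpS hp.bad hU
        refine ih (z * d) (by omega) hst fun w hw => ?_
        obtain ⟨hw', hns⟩ := h.new_old hm hS hw
        push_neg at h3
        obtain ⟨s, hs, hps, hqs, hws⟩ := h3 w hw' (h.other_of_untouched hm hpS hns) (h.other_of_untouched hm hqS hns)
        have hns' : ∀ u ∈ S, ¬ SC (y * z) u s := fun u hu e => by
          rcases hcov u hu with q' | q' | q' | q'
          · exact hps.1 (q'.trans e)
          · exact hps.2 (by have := (h.sc_z).2 (q'.trans e); rwa [h.zz] at this)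
          · exact hqs.1 (q'.trans e)
          · exact hqs.2 (by have := (h.sc_z).2 (q'.trans e); rwa [h.zz] at this)
        obtain ⟨hnew, hzs, -⟩ := h.old_to_new hm hns'
        obtain ⟨-, -, hscw⟩ := h.old_to_new hm hns
        refine ⟨s, hnew.2 hs, ?_, ?_⟩
        · rw [hscw]; exact hws.1
        · rw [hscw, hzs]; exact hws.2
    · push_neg at htwo
      have hvac : ∀ {d : Perm α} {S : Finset α}, IsMove z d S → (∀ u ∈ S, Good (y * z * d) u) →
          NoLonely (y * (z * d)) (z * d) :=
        fun hm hS w hw => absurd (h.new_old hm hS hw).1 (htwo w)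
      by_cases hbad : ∀ w, Good (y * z) w
      · exact ⟨z, h, hbad⟩
      push_neg at hbad
      obtain ⟨a, ha⟩ := hbad
      by_cases hself : SC (y * z) a (z a)
      · have hboth : (∃ e, z e = e ∧ ¬ Good (y * z) e) ∨ (∃ c, y c = c ∧ ¬ Good (y * z) c) := by
          rcases h.self_cases hself with ⟨e, he, hze⟩ | ⟨-, c, hc, hyc⟩
          · exact Or.inl ⟨e, hze, by rw [Good, ← per_sc he]; exact ha⟩
          · exact Or.inr ⟨c, hyc, by rw [Good, ← per_sc hc]; exact ha⟩
        have hbal := h.balance hty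
        obtain ⟨e, hze, heb⟩ := hboth.elim id hbal.2
        obtain ⟨c, hyc, hcb⟩ := hbal.1 ⟨e, hze, heb⟩
        obtain ⟨hm, hS⟩ := h.pair_paths hyc hze hcb heb
        have hU : ∀ u ∈ ({c, e, z c} : Finset α), x u = z u := fun u hu => by
          simp only [Finset.mem_insert, Finset.mem_singleton] at hu
          rcases hu with rfl | rfl | rfl
          · exact h.ext _ hcb
          · exact h.ext _ heb
          · exact h.ext _ (by rwa [h.good_z])
        obtain ⟨hst, hlt⟩ := h.apply' hm hS (by simp : c ∈ _) hcb hU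
        exact ih _ (by omega) hst (hvac hm hS)
      · have h3 : 3 ≤ per (y * z) a := by
          have := per_pos (y * z) a
          have h2 : per (y * z) a ≠ 2 := fun e => htwo a ⟨e, hself⟩
          have h1 : per (y * z) a ≠ 1 := fun e => ha (by rw [Good, e]; exact odd_one)
          omega
        obtain ⟨d, S, hm, hS, haS, hcov⟩ := h.self_even hself ha h3
        obtain ⟨hst, hlt⟩ := h.apply' hm hS haS ha fun u hu => extSC ha (hcov u hu)
        exact ih _ (by omega) hst (hvac hm hS)

theorem exists_common (t x y : Perm α) (hx : x * x = 1) (hy : y * y = 1) (htx : IsConj t x) (hty : IsConj t y)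
    (hn : 5 ≤ Fintype.card α) : ∃ z, IsConj t z ∧ Odd (orderOf (x * z)) ∧ Odd (orderOf (y * z)) := by
  classical
  have h : State t x y x := ⟨hy, hx, htx, by rw [hx, one_pow], fun w _ => rfl⟩
  suffices ∃ z, State t x y z ∧ ∀ w, Good (y * z) w by
    obtain ⟨z, hz, hall⟩ := this
    exact ⟨z, hz.conj, Odd.of_dvd_nat (by decide) (orderOf_dvd_of_pow_eq_one hz.cube), odd_orderOf_of_good hall⟩
  by_cases hl : NoLonely (y * x) x
  · exact State.finish hty _ x le_rfl h hl
  simp only [NoLonely] at hl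
  push_neg at hl
  obtain ⟨p, hp, hlonely⟩ := hl
  have go : ∀ {d : Perm α} {S : Finset α}, IsMove x d S → (∀ u ∈ S, Good (y * x * d) u) → p ∈ S →
      ∃ z, State t x y z ∧ ∀ w, Good (y * z) w := by
    intro d S hm hS hpS
    obtain ⟨hst, -⟩ := h.apply' hm hS hpS hp.bad fun _ _ => rfl
    refine State.finish hty _ _ le_rfl hst fun w hw => ?_
    obtain ⟨hw', hns⟩ := h.new_old hm hS hw
    exact absurd (h.other_of_untouched hm hpS hns) (hlonely w hw')
  obtain ⟨w, hw⟩ : ∃ w, w ∉ ({p, (y * x) p, x p, x ((y * x) p)} : Finset α) := by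
    by_contra hno
    push_neg at hno
    have h4 : Fintype.card α ≤ 4 := (Finset.card_le_card (fun w _ => hno w : Finset.univ ⊆ _)).trans Finset.card_le_four
    omega
  simp only [Finset.mem_insert, Finset.mem_singleton, not_or] at hw
  have hother : Other (y * x) x p w := by
    refine ⟨fun e => ?_, fun e => ?_⟩
    · rcases hp.cases e with q | q
      · exact hw.1 q
      · exact hw.2.1 q
    · rcases hp.cases e with q | q
      · exact hw.2.2.1 (by rw [← q, h.zz])
      · exact hw.2.2.2 (by rw [← q, h.zz])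
  by_cases hself : SC (y * x) w (x w)
  · rcases h.self_cases hself with ⟨e, he, hze⟩ | ⟨hwb, c, hc, hyc⟩
    · by_cases hwg : Good (y * x) w
      · have hpe : ¬ SC (y * x) e p := fun q => hother.1 (q.symm.trans he.symm)
        obtain ⟨hm, hS⟩ := h.absorb_path hp.2 hpe hze (by rw [Good, ← per_sc he]; exact hwg)
        exact go hm hS (by simp)
      · have heb : ¬ Good (y * x) e := by rw [Good, ← per_sc he]; exact hwg
        obtain ⟨c, hyc, hcb⟩ := (h.balance hty).1 ⟨e, hze, heb⟩
        obtain ⟨d, S, hm, hS, hpS⟩ := h.absorb_paths hp.2 hyc hze hcb heb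
        exact go hm hS hpS
    · have hcb : ¬ Good (y * x) c := by rw [Good, ← per_sc hc]; exact hwb
      obtain ⟨e, hze, heb⟩ := (h.balance hty).2 ⟨c, hyc, hcb⟩
      obtain ⟨d, S, hm, hS, hpS⟩ := h.absorb_paths hp.2 hyc hze hcb heb
      exact go hm hS hpS
  · have hap : Apart (y * x) x p w := ⟨hp.2, hself, hother.1, hother.2⟩
    by_cases hwg : Good (y * x) w
    · obtain ⟨d, S, hm, hS, hpS, -⟩ := h.join_odd hap hp.bad hwg
      exact go hm hS hpS
    · obtain ⟨d, S, hm, hS, hpS, -, -⟩ := h.join_even hap hp.bad hwg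
      exact go hm hS hpS

end CfsgLib.InvolChar.Switch
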