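import Mathlib
import Cfsg.Agent.Lib.PGroup.Basic
import Cfsg.Agent.Lib.InvolChar.A8Section

/-!
A 2-group with `|Z₄| = 16` whose subgroup `W = C(Z₃)` has a small Frattini subgroup lying in every
subgroup of index at most sixteen.
-/

set_option autoImplicit false
set_option linter.style.haveILetI false
set_option linter.unusedSectionVars false

namespace CfsgLib.InvolChar.TwoGroupW

open Subgroup
open scoped commutatorElement

variable {T : Type*} [Group T] [Finite T]

/-- The terms of the upper central series. -/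
abbrev Z (T : Type*) [Group T] (n : ℕ) : Subgroup T := Subgroup.upperCentralSeries T n

/-- The hypotheses. -/
structure Hyp (W : Subgroup T) : Prop where
  hT : IsPGroup 2 T
  ha : 2 ^ 14 ≤ Nat.card T
  hb : Nat.card (Z T 4) = 16
  hW : W = centralizer ((Z T 3 : Subgroup T) : Set T)
  hc : Nat.card (frattini W) ≤ 8
  hd : ∀ U : Subgroup W, U.index ≤ 16 → frattini W ≤ U

/-- A linear form on a subgroup which is elementary abelian modulo `N`. -/
theorem exists_form (Ω N : Subgroup T) (hNΩ : N ≤ Ω) (hsq : ∀ w ∈ Ω, w * w ∈ N)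
    (hN : ∀ w ∈ Ω, ∀ n ∈ N, w * n * w⁻¹ ∈ N) {z : T} (hz : z ∈ Ω) (hzN : z ∉ N) :
    ∃ φ : T → ZMod 2, (∀ v ∈ Ω, ∀ w ∈ Ω, φ (v * w) = φ v + φ w) ∧ (∀ n ∈ N, φ n = 0) ∧ φ z = 1 := by
  classical
  haveI : (N.subgroupOf Ω).Normal := ⟨fun n hn w => mem_subgroupOf.2 (by
    simpa using hN w w.2 n (mem_subgroupOf.1 hn))⟩
  have h2 : ∀ v : Ω ⧸ N.subgroupOf Ω, v ^ 2 = 1 := fun v => by
    induction v using QuotientGroup.induction_on with
    | _ w => rw [← QuotientGroup.mk_pow, QuotientGroup.eq_one_iff, mem_subgroupOf, sq]; exact hsq w w.2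
  obtain ⟨d, L, -, -, hL, -, -⟩ := A8Section.exists_linear_model h2
  have hL1 : L 1 = 0 := by
    have := hL 1 1
    rw [mul_one] at this
    exact add_eq_left.1 this.symm
  obtain ⟨i, hi⟩ : ∃ i, L ((⟨z, hz⟩ : Ω) : Ω ⧸ N.subgroupOf Ω) i = 1 := by
    by_contra hno
    push Not at hno
    refine hzN (mem_subgroupOf.1 ((QuotientGroup.eq_one_iff (⟨z, hz⟩ : Ω)).1 (L.injective (funext fun i => ?_))))
    rw [(A8.zmod_two_cases _).resolve_right (hno i), hL1]; rfl
  refine ⟨fun w => if h : w ∈ Ω then L ((⟨w, h⟩ : Ω) : Ω ⧸ N.subgroupOf Ω) i else 0,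
    fun v hv w hw => ?_, fun n hn => ?_, ?_⟩
  · simp only [dif_pos hv, dif_pos hw, dif_pos (mul_mem hv hw)]
    rw [← Pi.add_apply, ← hL]
    rfl
  · simp only [dif_pos (hNΩ hn)]
    rw [(QuotientGroup.eq_one_iff (⟨n, hNΩ hn⟩ : Ω)).2 (mem_subgroupOf.2 hn), hL1]; rfl
  · simp only [dif_pos hz]
    exact hi

theorem step (hT : IsPGroup 2 T) {j : ℕ} {M : Subgroup T} [M.Normal] (hle : Z T j ≤ M)
    (hne : M ≠ Z T j) : ∃ x ∈ M, x ∉ Z T j ∧ x ∈ Z T (j + 1) := by
  haveI : Fact (Nat.Prime 2) := ⟨Nat.prime_two⟩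
  set π := QuotientGroup.mk' (Z T j)
  haveI : (M.map π).Normal := (inferInstance : M.Normal).map π (QuotientGroup.mk'_surjective _)
  have hb : M.map π ≠ ⊥ := by
    rw [Ne, Subgroup.map_eq_bot_iff, QuotientGroup.ker_mk']
    exact fun h => hne (le_antisymm h hle)
  obtain ⟨C, hCM, hCc, -, hC2⟩ := CfsgLib.PGroup.exists_card_eq_le_center (p := 2) (hT.to_quotient _) _ hb
  obtain ⟨⟨c, hc⟩, hc1⟩ : ∃ c : C, c ≠ 1 := by
    haveI : Nontrivial C := Finite.one_lt_card_iff_nontrivial.1 (by rw [hC2]; norm_num)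
    exact exists_ne 1
  obtain ⟨x, hxM, hx⟩ := hCM hc
  refine ⟨x, hxM, fun h => hc1 (Subtype.ext (hx.symm.trans ((QuotientGroup.eq_one_iff x).2 h))), ?_⟩
  refine Subgroup.mem_upperCentralSeries_succ_iff.2 fun y => ?_
  rw [← QuotientGroup.eq_one_iff]
  show π ⁅x, y⁆ = 1
  rw [map_commutatorElement, commutatorElement_eq_one_iff_mul_comm, hx]
  exact (mem_center_iff.1 (hCc hc) (π y)).symm

theorem Z_le_succ (j : ℕ) : Z T j ≤ Z T (j + 1) := Subgroup.upperCentralSeries_mono T (Nat.le_succ j)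

theorem card_Z {W : Subgroup T} (h : Hyp W) : ∀ j ≤ 4, Nat.card (Z T j) = 2 ^ j := by
  haveI : Fact (Nat.Prime 2) := ⟨Nat.prime_two⟩
  have hlt : ∀ j ≤ 3, 2 * Nat.card (Z T j) ≤ Nat.card (Z T (j + 1)) := by
    intro j hj
    have hne : (⊤ : Subgroup T) ≠ Z T j := by
      intro e
      have h1 : Nat.card (Z T j) ≤ 16 :=
        h.hb ▸ card_le_of_le (Subgroup.upperCentralSeries_mono T (by omega))
      rw [← e, card_top] at h1
      have := h.ha
      omega
    obtain ⟨x, -, hx, hx'⟩ := step h.hT le_top hne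
    obtain ⟨c, hc⟩ := card_dvd_of_le (Z_le_succ (T := T) j)
    have h2 : 2 ≤ c := by
      rcases Nat.lt_or_ge c 2 with h2 | h2
      · interval_cases c
        · rw [mul_zero] at hc; exact absurd hc Nat.card_pos.ne'
        · exact absurd (eq_of_le_of_card_ge (Z_le_succ (T := T) j) (le_of_eq (by rw [hc, mul_one])))
            (fun e => hx (e ▸ hx'))
      · exact h2
    rw [hc, mul_comm 2]; exact Nat.mul_le_mul_left _ h2
  have h0 : Nat.card (Z T 0) = 1 := by
    show Nat.card (Subgroup.upperCentralSeries T 0) = 1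
    rw [Subgroup.upperCentralSeries_zero, card_bot]
  have h1 := hlt 0 (by norm_num)
  have h2 := hlt 1 (by norm_num)
  have h3 := hlt 2 (by norm_num)
  have h4 := hlt 3 le_rfl
  have hb := h.hb
  intro j hj
  interval_cases j <;> simp only [zero_add, Nat.reduceAdd] at * <;> omega

theorem Z_cases {W : Subgroup T} (h : Hyp W) {j : ℕ} (hj : j ≤ 3) {x z : T} (hx : x ∈ Z T (j + 1))
    (hxj : x ∉ Z T j) (hz : z ∈ Z T (j + 1)) : z ∈ Z T j ∨ x⁻¹ * z ∈ Z T j := by
  by_cases hzj : z ∈ Z T j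
  · exact Or.inl hzj
  have hidx : ((Z T j).subgroupOf (Z T (j + 1))).index = 2 := by
    have h1 := card_mul_index ((Z T j).subgroupOf (Z T (j + 1)))
    rw [Nat.card_congr (subgroupOfEquivOfLe (Z_le_succ (T := T) j)).toEquiv, card_Z h j (by omega),
      card_Z h (j + 1) (by omega), pow_succ] at h1
    exact Nat.eq_of_mul_eq_mul_left (by positivity) h1
  have := mul_mem_iff_of_index_two hidx (a := ⟨x⁻¹, inv_mem hx⟩) (b := ⟨z, hz⟩)
  simp only [mem_subgroupOf, Subgroup.coe_mul, inv_mem_iff] at this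
  exact Or.inr (this.2 ⟨fun h => absurd h hxj, fun h => absurd h hzj⟩)

theorem Z_succ_le {W : Subgroup T} (h : Hyp W) {j : ℕ} (hj : j ≤ 3) {M : Subgroup T} [M.Normal]
    (hle : Z T j ≤ M) (hne : M ≠ Z T j) : Z T (j + 1) ≤ M := by
  obtain ⟨x, hxM, hxj, hx⟩ := step h.hT hle hne
  intro z hz
  rcases Z_cases h hj hx hxj hz with h' | h'
  · exact hle h'
  · have := mul_mem hxM (hle h')
    rwa [mul_inv_cancel_left] at this

theorem Z_le_of_card {W : Subgroup T} (h : Hyp W) (M : Subgroup T) [M.Normal] :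
    ∀ j ≤ 4, 2 ^ j ≤ Nat.card M → Z T j ≤ M := by
  intro j
  induction j with
  | zero => intro _ _; show Subgroup.upperCentralSeries T 0 ≤ M; rw [Subgroup.upperCentralSeries_zero]; exact bot_le
  | succ j ih =>
    intro hj hcard
    have hle := ih (by omega) (le_trans (Nat.pow_le_pow_right (by norm_num) (Nat.le_succ j)) hcard)
    refine Z_succ_le h (by omega) hle fun e => ?_
    rw [e, card_Z h j (by omega), pow_succ] at hcard
    have := Nat.one_le_two_pow (n := j)
    omega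

theorem normal_eq_Z {W : Subgroup T} (h : Hyp W) (N : Subgroup T) [N.Normal] (hN : Nat.card N ≤ 8) :
    ∃ j ≤ 3, N = Z T j := by
  haveI : Fact (Nat.Prime 2) := ⟨Nat.prime_two⟩
  obtain ⟨j, hj⟩ := (h.hT.to_subgroup N).exists_card_eq
  have hj3 : j ≤ 3 := (Nat.pow_le_pow_iff_right (by norm_num : 1 < 2)).1 (hj ▸ hN)
  exact ⟨j, hj3, (eq_of_le_of_card_ge (Z_le_of_card h N j (by omega) hj.ge)
    (by rw [hj, card_Z h j (by omega)])).symm⟩

theorem exists_gen {W : Subgroup T} (h : Hyp W) {j : ℕ} (hj : j ≤ 3) : ∃ x ∈ Z T (j + 1), x ∉ Z T j := by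
  by_contra hno
  push Not at hno
  have h1 := card_le_of_le (show Z T (j + 1) ≤ Z T j from fun x hx => hno x hx)
  rw [card_Z h (j + 1) (by omega), card_Z h j (by omega), pow_succ] at h1
  have := Nat.one_le_two_pow (n := j)
  omega

theorem Z_one_le_center : Z T 1 ≤ center T := (Subgroup.upperCentralSeries_one T).le

theorem W_normal {W : Subgroup T} (h : Hyp W) : W.Normal := by
  rw [h.hW]; infer_instance

theorem conj_mem_Z (j : ℕ) (t : T) {x : T} (hx : x ∈ Z T j) : t * x * t⁻¹ ∈ Z T j :=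
  (inferInstance : (Z T j).Normal).conj_mem x hx t

theorem conj_mul_inv_mem (j : ℕ) (t : T) {x : T} (hx : x ∈ Z T (j + 1)) : x⁻¹ * (t * x * t⁻¹) ∈ Z T j := by
  have := Subgroup.mem_upperCentralSeries_succ_iff.1 (inv_mem hx) t
  simpa [commutatorElement_def, mul_assoc] using this

theorem index_le {W : Subgroup T} (h : Hyp W) : W.index ≤ 8 := by
  obtain ⟨x2, hx2, hx2'⟩ := exists_gen h (j := 1) (by norm_num)
  obtain ⟨x3, hx3, hx3'⟩ := exists_gen h (j := 2) (by norm_num)
  let F : T → Z T 1 × Z T 2 := fun t =>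
    (⟨x2⁻¹ * (t * x2 * t⁻¹), conj_mul_inv_mem 1 t hx2⟩, ⟨x3⁻¹ * (t * x3 * t⁻¹), conj_mul_inv_mem 2 t hx3⟩)
  have hF : ∀ a b : T, F a = F b → a⁻¹ * b ∈ W := by
    intro a b hab
    rw [h.hW, mem_centralizer_iff]
    intro z hz
    set K := centralizer ({a⁻¹ * b} : Set T)
    have h2 : a * x2 * a⁻¹ = b * x2 * b⁻¹ :=
      mul_left_cancel (congrArg (fun p : Z T 1 × Z T 2 => (p.1 : T)) hab)
    have h3 : a * x3 * a⁻¹ = b * x3 * b⁻¹ :=
      mul_left_cancel (congrArg (fun p : Z T 1 × Z T 2 => (p.2 : T)) hab)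
    have hk : ∀ x, a * x * a⁻¹ = b * x * b⁻¹ → x ∈ K := fun x hx => mem_centralizer_singleton_iff.2 (by
      calc x * (a⁻¹ * b) = a⁻¹ * (a * x * a⁻¹) * b := by group
        _ = a⁻¹ * (b * x * b⁻¹) * b := by rw [hx]
        _ = a⁻¹ * b * x := by group)
    have hK1 : Z T 1 ≤ K := fun x hx => mem_centralizer_singleton_iff.2
      (mem_center_iff.1 (Z_one_le_center hx) _).symm
    have hK2 : Z T 2 ≤ K := fun x hx => by
      rcases Z_cases h (by norm_num) hx2 hx2' hx with h' | h'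
      · exact hK1 h'
      · have := mul_mem (hk x2 h2) (hK1 h'); rwa [mul_inv_cancel_left] at this
    have hK3 : Z T 3 ≤ K := fun x hx => by
      rcases Z_cases h (by norm_num) hx3 hx3' hx with h' | h'
      · exact hK2 h'
      · have := mul_mem (hk x3 h3) (hK2 h'); rwa [mul_inv_cancel_left] at this
    exact mem_centralizer_singleton_iff.1 (hK3 hz)
  let G : T ⧸ W → Z T 1 × Z T 2 := fun q => F q.out
  have hG : Function.Injective G := fun q q' hq => by
    rw [← QuotientGroup.out_eq' q, ← QuotientGroup.out_eq' q']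
    exact QuotientGroup.eq.2 (hF _ _ hq)
  have := Nat.card_le_card_of_injective G hG
  rw [Nat.card_prod, card_Z h 1 (by norm_num), card_Z h 2 (by norm_num)] at this
  exact this

theorem card_W_ge {W : Subgroup T} (h : Hyp W) : 2 ^ 11 ≤ Nat.card W := by
  have h1 := card_mul_index W
  have h2 := Nat.mul_le_mul_left (Nat.card W) (index_le h)
  have h3 := h.ha
  omega

theorem Z_le_W {W : Subgroup T} (h : Hyp W) {j : ℕ} (hj : j ≤ 4) : Z T j ≤ W := by
  haveI := W_normal h
  exact Z_le_of_card h W j hj (le_trans (Nat.pow_le_pow_right (by norm_num) (show j ≤ 11 by omega)) (card_W_ge h))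

theorem Z3_comm {W : Subgroup T} (h : Hyp W) {w z : T} (hw : w ∈ W) (hz : z ∈ Z T 3) : z * w = w * z := by
  rw [h.hW] at hw
  exact mem_centralizer_iff.1 hw z hz

/-- A form detecting the next term. -/
theorem kernel_le {W : Subgroup T} (h : Hyp W) {j : ℕ} (hj : j ≤ 3) (hsq : ∀ w ∈ W, w * w ∈ Z T j)
    {x : T} (hx : x ∈ Z T (j + 1)) (φ : T → ZMod 2) (hadd : ∀ v ∈ W, ∀ w ∈ W, φ (v * w) = φ v + φ w)
    (h0 : ∀ n ∈ Z T j, φ n = 0) (h1 : φ x = 1) :
    ∀ w ∈ W, (∀ t, φ (t * w * t⁻¹) = 0) → w ∈ Z T j := by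
  haveI := W_normal h
  let M : Subgroup T :=
    { carrier := {w | w ∈ W ∧ ∀ t, φ (t * w * t⁻¹) = 0}
      one_mem' := ⟨one_mem W, fun t => by
        rw [mul_one, mul_inv_cancel]; exact h0 1 (one_mem _)⟩
      mul_mem' := fun {a b} ha hb => ⟨mul_mem ha.1 hb.1, fun t => by
        have e : t * (a * b) * t⁻¹ = (t * a * t⁻¹) * (t * b * t⁻¹) := by group
        rw [e, hadd _ ((inferInstance : W.Normal).conj_mem a ha.1 t) _
          ((inferInstance : W.Normal).conj_mem b hb.1 t), ha.2, hb.2, add_zero]⟩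
      inv_mem' := fun {a} ha => ⟨inv_mem ha.1, fun t => by
        have hm := (inferInstance : W.Normal).conj_mem a ha.1 t
        have := hadd _ hm _ (inv_mem hm)
        rw [mul_inv_cancel, h0 1 (one_mem _), ha.2, zero_add] at this
        have e : t * a⁻¹ * t⁻¹ = (t * a * t⁻¹)⁻¹ := by group
        rw [e, ← this]⟩ }
  haveI hMn : M.Normal := ⟨fun w hw g => ⟨(inferInstance : W.Normal).conj_mem w hw.1 g, fun t => by
    have e : t * (g * w * g⁻¹) * t⁻¹ = (t * g) * w * (t * g)⁻¹ := by group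
    rw [e]; exact hw.2 _⟩⟩
  have hle : Z T j ≤ M := fun n hn => ⟨Z_le_W h (by omega) hn, fun t => h0 _ (conj_mem_Z j t hn)⟩
  have hM : M = Z T j := by
    by_contra hne
    have := (Z_succ_le h hj hle hne hx).2 1
    simp only [one_mul, inv_one, mul_one] at this
    rw [h1] at this
    exact one_ne_zero this
  intro w hw hwt
  exact hM ▸ (show w ∈ M from ⟨hw, hwt⟩)

theorem phi_congr {W : Subgroup T} (h : Hyp W) (φ : T → ZMod 2)
    (hadd : ∀ v ∈ W, ∀ w ∈ W, φ (v * w) = φ v + φ w) {t t' : T} (ht : t⁻¹ * t' ∈ W) {w : T} (hw : w ∈ W) :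
    φ (t'⁻¹ * w * t') = φ (t⁻¹ * w * t) := by
  haveI := W_normal h
  have hv : t⁻¹ * w * t ∈ W := by simpa using (inferInstance : W.Normal).conj_mem w hw t⁻¹
  have e : t'⁻¹ * w * t' = (t⁻¹ * t')⁻¹ * ((t⁻¹ * w * t) * (t⁻¹ * t')) := by group
  rw [e, hadd _ (inv_mem ht) _ (mul_mem hv ht), hadd _ hv _ ht]
  have h1 := hadd 1 (one_mem W) 1 (one_mem W)
  have h2 := hadd _ ht _ (inv_mem ht)
  rw [mul_inv_cancel] at h2
  rw [mul_one] at h1
  linear_combination -h2 - h1

theorem frattini_map_eq_Z {W : Subgroup T} (h : Hyp W) :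
    (∃ j ≤ 3, (frattini W).map W.subtype = Z T j) := by
  haveI := W_normal h
  haveI : ((frattini W).map W.subtype).Normal := inferInstance
  refine normal_eq_Z h _ ?_
  rw [card_map_of_injective W.subtype_injective]
  exact h.hc

theorem sq_mem_frattini {W : Subgroup T} (h : Hyp W) {w : T} (hw : w ∈ W) :
    w * w ∈ (frattini W).map W.subtype := by
  haveI : Fact (Nat.Prime 2) := ⟨Nat.prime_two⟩
  exact ⟨⟨w, hw⟩ ^ 2, CfsgLib.PGroup.pow_mem_frattini (h.hT.to_subgroup W) _, sq w⟩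

theorem basic {W : Subgroup T} (h : Hyp W) :
    Nat.card T = 2 ^ 14 ∧ Nat.card W = 2 ^ 11 ∧ W.index = 8 ∧ (frattini W).map W.subtype = Z T 3 := by
  classical
  haveI : Fact (Nat.Prime 2) := ⟨Nat.prime_two⟩
  haveI := W_normal h
  obtain ⟨j, hj, hΦ⟩ := frattini_map_eq_Z h
  have hsq : ∀ w ∈ W, w * w ∈ Z T j := fun w hw => hΦ ▸ sq_mem_frattini h hw
  obtain ⟨x, hx, hxj⟩ := exists_gen h hj
  obtain ⟨φ, hadd, h0, h1⟩ := exists_form W (Z T j) (Z_le_W h (by omega)) hsq
    (fun w _ n hn => conj_mem_Z j w hn) (Z_le_W h (by omega) hx) hxj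
  have hker := kernel_le h hj hsq hx φ hadd h0 h1
  let E : W →* (T ⧸ W → Multiplicative (ZMod 2)) :=
    { toFun := fun w q => Multiplicative.ofAdd (φ (q.out⁻¹ * w * q.out))
      map_one' := funext fun q => by
        show Multiplicative.ofAdd (φ (q.out⁻¹ * ((1 : W) : T) * q.out)) = 1
        rw [OneMemClass.coe_one, mul_one, inv_mul_cancel, h0 1 (one_mem _)]; rfl
      map_mul' := fun v w => funext fun q => by
        show Multiplicative.ofAdd (φ (q.out⁻¹ * ((v * w : W) : T) * q.out)) =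
          Multiplicative.ofAdd (φ (q.out⁻¹ * v * q.out)) * Multiplicative.ofAdd (φ (q.out⁻¹ * w * q.out))
        have e : q.out⁻¹ * ((v * w : W) : T) * q.out = (q.out⁻¹ * v * q.out) * (q.out⁻¹ * w * q.out) := by
          rw [Subgroup.coe_mul]; group
        rw [e, hadd _ (by simpa using (inferInstance : W.Normal).conj_mem _ v.2 q.out⁻¹) _
          (by simpa using (inferInstance : W.Normal).conj_mem _ w.2 q.out⁻¹)]
        rfl }
  have hE : E.ker.map W.subtype ≤ Z T j := by
    rintro _ ⟨w, hw, rfl⟩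
    refine hker _ w.2 fun t => ?_
    have h3 : Multiplicative.ofAdd (φ ((QuotientGroup.mk t⁻¹ : T ⧸ W).out⁻¹ * w *
        (QuotientGroup.mk t⁻¹ : T ⧸ W).out)) = 1 := congrFun (MonoidHom.mem_ker.1 hw) _
    have h4 := phi_congr h φ hadd (t := (QuotientGroup.mk t⁻¹ : T ⧸ W).out) (t' := t⁻¹)
      (QuotientGroup.eq.1 (QuotientGroup.out_eq' _)) w.2
    rw [inv_inv] at h4
    rw [Subgroup.coe_subtype, h4]
    exact h3
  have hk := card_le_of_le hE
  rw [card_map_of_injective W.subtype_injective, card_Z h j (by omega)] at hk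
  have hr : E.ker.index ≤ 2 ^ W.index := by
    rw [index_ker]
    refine le_trans (card_le_card_group _) (le_of_eq ?_)
    rw [Nat.card_fun, index_eq_card]
    simp
  have hWle : Nat.card W ≤ 2 ^ j * 2 ^ W.index := by
    rw [← card_mul_index E.ker]
    exact Nat.mul_le_mul hk hr
  have hidx := index_le h
  obtain ⟨a, ha⟩ := (h.hT.to_subgroup W).exists_card_eq
  obtain ⟨i, hi⟩ : ∃ i, W.index = 2 ^ i := (h.hT.to_quotient W).exists_card_eq
  have hT' : 2 ^ a * 2 ^ i = Nat.card T := by rw [← ha, ← hi]; exact card_mul_index W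
  have h14 : 14 ≤ a + i := (Nat.pow_le_pow_iff_right (by norm_num : 1 < 2)).1 (by
    rw [pow_add, hT']; exact h.ha)
  have hai : a ≤ j + 2 ^ i := (Nat.pow_le_pow_iff_right (by norm_num : 1 < 2)).1 (by
    rw [← ha, pow_add, ← hi]; exact hWle)
  have hi3 : i ≤ 3 := (Nat.pow_le_pow_iff_right (by norm_num : 1 < 2)).1 (hi ▸ hidx)
  have : i = 3 ∧ a = 11 ∧ j = 3 := by interval_cases i <;> omega
  obtain ⟨rfl, rfl, rfl⟩ := this
  exact ⟨hT'.symm, ha, hi, hΦ⟩

theorem sq_mem_Z3 {W : Subgroup T} (h : Hyp W) {w : T} (hw : w ∈ W) : w * w ∈ Z T 3 :=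
  (basic h).2.2.2 ▸ sq_mem_frattini h hw

theorem comm_mem_Z3 {W : Subgroup T} (h : Hyp W) {v w : T} (hv : v ∈ W) (hw : w ∈ W) : ⁅v, w⁆ ∈ Z T 3 := by
  haveI : Fact (Nat.Prime 2) := ⟨Nat.prime_two⟩
  rw [← (basic h).2.2.2]
  refine ⟨⁅(⟨v, hv⟩ : W), ⟨w, hw⟩⁆, CfsgLib.PGroup.commutator_le_frattini (h.hT.to_subgroup W)
    (commutator_mem_commutator (mem_top _) (mem_top _)), ?_⟩
  exact map_commutatorElement W.subtype _ _

/-- No large subgroup containing `Z₃` is elementary abelian modulo `Z₂`. -/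
theorem no_split {W : Subgroup T} (h : Hyp W) (Ω : Subgroup T) (hΩW : Ω ≤ W) (h3 : Z T 3 ≤ Ω)
    (hsq : ∀ w ∈ Ω, w * w ∈ Z T 2) (hcard : 2 ^ 8 ≤ Nat.card Ω) : False := by
  classical
  obtain ⟨x, hx, hx'⟩ := exists_gen h (j := 2) (by norm_num)
  obtain ⟨φ, hadd, h0, h1⟩ := exists_form Ω (Z T 2) ((Z_le_succ (T := T) 2).trans h3) hsq
    (fun w _ n hn => conj_mem_Z 2 w hn) (h3 hx) hx'
  let f : Ω →* Multiplicative (ZMod 2) :=
    MonoidHom.mk' (fun w => Multiplicative.ofAdd (φ w)) (fun v w => by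
      show Multiplicative.ofAdd (φ ((v * w : Ω) : T)) = _
      rw [Subgroup.coe_mul, hadd _ v.2 _ w.2]; rfl)
  let U : Subgroup W := (f.ker.map Ω.subtype).subgroupOf W
  have hUW : f.ker.map Ω.subtype ≤ W := (map_subtype_le _).trans hΩW
  have hidx : U.index ≤ 16 := by
    have hc : Nat.card U = Nat.card f.ker :=
      (Nat.card_congr (subgroupOfEquivOfLe hUW).toEquiv).trans (card_map_of_injective Ω.subtype_injective)
    have h2 : f.ker.index ≤ 2 := by
      rw [index_ker]
      exact le_trans (card_le_card_group _) (by simp)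
    have h4 := card_mul_index f.ker
    have h5 := card_mul_index U
    rw [(basic h).2.1, hc] at h5
    have h6 := Nat.mul_le_mul_left (Nat.card f.ker) h2
    rw [h4] at h6
    have h7 : 2 ^ 7 * U.index ≤ Nat.card f.ker * U.index := Nat.mul_le_mul_right _ (by omega)
    rw [h5] at h7
    omega
  have hx3 : x ∈ (frattini W).map W.subtype := (basic h).2.2.2.symm ▸ hx
  obtain ⟨w, hw, rfl⟩ := hx3
  obtain ⟨v, hv, hve⟩ := mem_subgroupOf.1 (h.hd U hidx hw)
  have hv' : Multiplicative.ofAdd (φ (v : T)) = 1 := MonoidHom.mem_ker.1 hv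
  have hv0 : φ (v : T) = 0 := Multiplicative.ofAdd.injective hv'
  rw [show (v : T) = (w : T) from hve] at hv0
  exact one_ne_zero (h1.symm.trans hv0)

theorem commutator_map_eq {W : Subgroup T} (h : Hyp W) : (commutator W).map W.subtype = Z T 3 := by
  classical
  haveI : Fact (Nat.Prime 2) := ⟨Nat.prime_two⟩
  haveI := W_normal h
  set D := (commutator W).map W.subtype with hD
  haveI : D.Normal := inferInstance
  have hD3 : D ≤ Z T 3 := (basic h).2.2.2 ▸
    map_mono (CfsgLib.PGroup.commutator_le_frattini (h.hT.to_subgroup W))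
  obtain ⟨j, hj, hDj⟩ := normal_eq_Z h D ((card_le_of_le hD3).trans (le_of_eq (card_Z h 3 (by norm_num))))
  by_contra hne
  have hj2 : j ≤ 2 := by
    by_contra hh
    exact hne (hDj.trans (by rw [show j = 3 by omega]))
  have hcomm : ∀ v ∈ W, ∀ w ∈ W, ⁅v, w⁆ ∈ Z T 2 := fun v hv w hw => by
    refine Subgroup.upperCentralSeries_mono T hj2 (?_ : ⁅v, w⁆ ∈ Z T j)
    rw [← hDj]
    exact ⟨⁅(⟨v, hv⟩ : W), ⟨w, hw⟩⁆, commutator_mem_commutator (mem_top _) (mem_top _),
      map_commutatorElement W.subtype _ _⟩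
  obtain ⟨x, hx, hx'⟩ := exists_gen h (j := 2) (by norm_num)
  let π := QuotientGroup.mk' (Z T 2)
  let s : W →* T ⧸ Z T 2 := MonoidHom.mk' (fun w => π (w * w)) (fun v w => by
    show π (((v * w : W) : T) * (v * w : W)) = π (v * v) * π (w * w)
    have hc : π w * π v = π v * π w := by
      rw [← commutatorElement_eq_one_iff_mul_comm, ← map_commutatorElement]
      exact (QuotientGroup.eq_one_iff _).2 (hcomm _ w.2 _ v.2)
    rw [Subgroup.coe_mul]
    simp only [map_mul]
    rw [mul_assoc (π v) (π w), ← mul_assoc (π w) (π v), hc]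
    group)
  let Ω := s.ker.map W.subtype
  have hidx : s.ker.index ≤ 2 := by
    rw [index_ker]
    have hsub : (s.range : Set (T ⧸ Z T 2)) ⊆ {1, π x} := by
      rintro _ ⟨w, rfl⟩
      rcases Z_cases h (by norm_num) hx hx' (sq_mem_Z3 h w.2) with h' | h'
      · exact Or.inl ((QuotientGroup.eq_one_iff _).2 h')
      · exact Or.inr (QuotientGroup.eq.2 h').symm
    calc Nat.card s.range ≤ Nat.card ({1, π x} : Set (T ⧸ Z T 2)) :=
          Nat.card_mono (Set.toFinite _) hsub
      _ ≤ 2 := by rw [Nat.card_coe_set_eq]; exact (Set.ncard_insert_le _ _).trans (by simp)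
  refine no_split h Ω (map_subtype_le _) (fun z hz => ?_) (fun w hw => ?_) ?_
  · refine ⟨⟨z, Z_le_W h (by norm_num) hz⟩, MonoidHom.mem_ker.2 ((QuotientGroup.eq_one_iff _).2 ?_), rfl⟩
    show z * z ∈ Z T 2
    by_cases hz2 : z ∈ Z T 2
    · exact mul_mem hz2 hz2
    · rcases Z_cases h (by norm_num) hz hz2 (mul_mem hz hz) with h' | h'
      · exact h'
      · exact absurd (by simpa using h') hz2
  · obtain ⟨w, hw, rfl⟩ := hw
    exact (QuotientGroup.eq_one_iff _).1 (MonoidHom.mem_ker.1 hw)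
  · have h4 := card_mul_index s.ker
    rw [(basic h).2.1] at h4
    have h6 := Nat.mul_le_mul_left (Nat.card s.ker) hidx
    rw [h4] at h6
    rw [card_map_of_injective W.subtype_injective]
    omega

theorem sq_one {W : Subgroup T} (h : Hyp W) {z : T} (hz : z ∈ Z T 3) : z * z = 1 := by
  have h3W : Z T 3 ≤ W := Z_le_W h (by norm_num)
  have hcen : ∀ y : W, (y : T) ∈ Z T 3 → y ∈ center W := fun y hy => mem_center_iff.2 fun g =>
    Subtype.ext (Z3_comm h g.2 hy).symm
  let S : Subgroup W :=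
    { carrier := {y | (y : T) ∈ Z T 3 ∧ y * y = 1}
      one_mem' := ⟨one_mem _, one_mul 1⟩
      mul_mem' := fun {a b} ha hb => ⟨mul_mem ha.1 hb.1, by
        have hc := mem_center_iff.1 (hcen a ha.1) b
        calc a * b * (a * b) = a * (b * a) * b := by group
          _ = a * (a * b) * b := by rw [hc]
          _ = (a * a) * (b * b) := by group
          _ = 1 := by rw [ha.2, hb.2, one_mul]⟩
      inv_mem' := fun {a} ha => ⟨inv_mem ha.1, by rw [← _root_.mul_inv_rev, ha.2, inv_one]⟩ }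
  have hS : commutator W ≤ S := by
    rw [commutator_def, commutator_le]
    intro a _ b _
    have hab : (⁅a, b⁆ : W) ∈ center W := hcen _ (by
      rw [show ((⁅a, b⁆ : W) : T) = ⁅(a : T), (b : T)⁆ from map_commutatorElement W.subtype a b]
      exact comm_mem_Z3 h a.2 b.2)
    refine ⟨?_, ?_⟩
    · rw [show ((⁅a, b⁆ : W) : T) = ⁅(a : T), (b : T)⁆ from map_commutatorElement W.subtype a b]
      exact comm_mem_Z3 h a.2 b.2
    · rw [← sq, ← CfsgLib.PGroup.comm_pow_left hab, commutatorElement_eq_one_iff_mul_comm, sq]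
      exact (mem_center_iff.1 (hcen (a * a) (sq_mem_Z3 h a.2)) b).symm
  rw [← commutator_map_eq h] at hz
  obtain ⟨y, hy, rfl⟩ := hz
  exact congrArg Subtype.val (hS hy).2

/-! ### The action on `Z₃` -/

/-- Composition of unitriangular triples. -/
def mulT (u v : ZMod 2 × ZMod 2 × ZMod 2) : ZMod 2 × ZMod 2 × ZMod 2 :=
  (u.1 + v.1, u.2.1 + v.2.1, u.2.2 + v.2.2 + v.2.1 * u.1)

/-- Unitriangular triples as elements of the dihedral group. -/
def dD (u : ZMod 2 × ZMod 2 × ZMod 2) : DihedralGroup 4 :=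
  if u.2.1 = 0 then
    (if u.1 = 0 then DihedralGroup.r (if u.2.2 = 0 then 0 else 2)
      else DihedralGroup.sr (if u.2.2 = 0 then 0 else 2))
  else
    (if u.1 = 0 then DihedralGroup.sr (if u.2.2 = 0 then 3 else 1)
      else DihedralGroup.r (if u.2.2 = 0 then 1 else 3))

theorem dD_mul : ∀ u v, dD (mulT u v) = dD u * dD v := by decide +kernel

theorem dD_eq_one : ∀ u, dD u = 1 → u = (0, 0, 0) := by decide +kernel

theorem dD_special : ∀ u, (dD u = DihedralGroup.r 2 ∨ dD u = DihedralGroup.sr 1 ∨ dD u = DihedralGroup.sr 3) →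
    u.2.1 = 1 ∨ (u.1 = 0 ∧ u.2.2 = 1) := by decide +kernel

/-- The action data: a homomorphism onto the dihedral group with kernel `W`. -/
theorem exists_hom {W : Subgroup T} (h : Hyp W) :
    ∃ π : T →* DihedralGroup 4, π.ker = W ∧ Function.Surjective π ∧
      ∀ t x, x ∈ Z T 3 → x ∉ Z T 2 → t * x * t⁻¹ = x →
        π t ≠ DihedralGroup.r 2 ∧ π t ≠ DihedralGroup.sr 1 ∧ π t ≠ DihedralGroup.sr 3 := by
  classical
  obtain ⟨z1, hz1, hz1'⟩ := exists_gen h (j := 0) (by norm_num)
  obtain ⟨x2, hx2, hx2'⟩ := exists_gen h (j := 1) (by norm_num)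
  obtain ⟨x3, hx3, hx3'⟩ := exists_gen h (j := 2) (by norm_num)
  have hz1n : z1 ≠ 1 := fun e => hz1' (e ▸ one_mem _)
  have h13 : ∀ {z}, z ∈ Z T 1 → z ∈ Z T 3 := fun hz => Subgroup.upperCentralSeries_mono T (by norm_num) hz
  have h23 : ∀ {z}, z ∈ Z T 2 → z ∈ Z T 3 := fun hz => Z_le_succ 2 hz
  let pw : T → ZMod 2 → T := fun x a => if a = 0 then 1 else x
  have pw_add : ∀ x ∈ Z T 3, ∀ a b, pw x a * pw x b = pw x (a + b) := by
    intro x hx a b
    rcases A8.zmod_two_cases a with rfl | rfl <;> rcases A8.zmod_two_cases b with rfl | rfl <;>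
      simp [pw, sq_one h hx, show (1 : ZMod 2) + 1 = 0 from rfl]
  have pw_mem : ∀ {j : ℕ} {x}, x ∈ Z T j → ∀ a, pw x a ∈ Z T j := fun hx a => by
    show (if a = 0 then 1 else _) ∈ _
    split_ifs
    · exact one_mem _
    · exact hx
  have hZ1 : ∀ z ∈ Z T 1, ∃ a, z = pw z1 a := by
    intro z hz
    rcases Z_cases h (by norm_num) hz1 hz1' hz with h' | h'
    · exact ⟨0, (mem_bot.1 h').trans (if_pos rfl).symm⟩
    · exact ⟨1, (inv_mul_eq_one.1 (mem_bot.1 h')).symm.trans (if_neg one_ne_zero).symm⟩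
  have hpz_inj : ∀ a b, pw z1 a = pw z1 b → a = b := by
    intro a b e
    rcases A8.zmod_two_cases a with rfl | rfl <;> rcases A8.zmod_two_cases b with rfl | rfl <;>
      simp [pw, hz1n, Ne.symm hz1n] at e ⊢
  have hex : ∀ t : T, ∃ u : ZMod 2 × ZMod 2 × ZMod 2,
      t * x2 * t⁻¹ = x2 * pw z1 u.1 ∧ t * x3 * t⁻¹ = x3 * (pw x2 u.2.1 * pw z1 u.2.2) := by
    intro t
    obtain ⟨A, hA⟩ := hZ1 _ (conj_mul_inv_mem 1 t hx2)
    rcases Z_cases h (by norm_num) hx2 hx2' (conj_mul_inv_mem 2 t hx3) with h' | h'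
    · obtain ⟨C, hC⟩ := hZ1 _ h'
      refine ⟨(A, 0, C), by rw [← hA, mul_inv_cancel_left], ?_⟩
      rw [← hC, show pw x2 0 = 1 from if_pos rfl, one_mul, mul_inv_cancel_left]
    · obtain ⟨C, hC⟩ := hZ1 _ h'
      refine ⟨(A, 1, C), by rw [← hA, mul_inv_cancel_left], ?_⟩
      rw [← hC, show pw x2 1 = x2 from if_neg one_ne_zero, mul_inv_cancel_left, mul_inv_cancel_left]
  have huniq : ∀ u v : ZMod 2 × ZMod 2 × ZMod 2, x2 * pw z1 u.1 = x2 * pw z1 v.1 →
      x3 * (pw x2 u.2.1 * pw z1 u.2.2) = x3 * (pw x2 v.2.1 * pw z1 v.2.2) → u = v := by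
    intro u v e1 e2
    have a1 := hpz_inj _ _ (mul_left_cancel e1)
    have e3 := mul_left_cancel e2
    have hx2c : x2 ∉ center T := fun e => hx2' ((Subgroup.upperCentralSeries_one T).ge e)
    have a2 : u.2.1 = v.2.1 := by
      have hd : (pw x2 v.2.1)⁻¹ * pw x2 u.2.1 ∈ Z T 1 := by
        have : (pw x2 v.2.1)⁻¹ * pw x2 u.2.1 = pw z1 v.2.2 * (pw z1 u.2.2)⁻¹ := by
          rw [eq_mul_inv_iff_mul_eq, mul_assoc, e3, inv_mul_cancel_left]
        rw [this]; exact mul_mem (pw_mem hz1 _) (inv_mem (pw_mem hz1 _))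
      rcases A8.zmod_two_cases u.2.1 with a | a <;> rcases A8.zmod_two_cases v.2.1 with b | b <;>
        rw [a, b] at hd ⊢ <;> simp [pw, hx2', hx2c] at hd ⊢
    have a3 : u.2.2 = v.2.2 := by rw [a2] at e3; exact hpz_inj _ _ (mul_left_cancel e3)
    exact Prod.ext a1 (Prod.ext a2 a3)
  choose τ hτ2 hτ3 using hex
  have hconjz : ∀ (t : T) a, t * pw z1 a * t⁻¹ = pw z1 a := fun t a => by
    rw [mem_center_iff.1 (Z_one_le_center (pw_mem hz1 a)) t, mul_inv_cancel_right]
  have hτmul : ∀ s t, τ (s * t) = mulT (τ s) (τ t) := by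
    intro s t
    refine huniq _ _ ?_ ?_
    · rw [← hτ2]
      calc s * t * x2 * (s * t)⁻¹ = (s * (t * x2 * t⁻¹) * s⁻¹) := by group
        _ = (s * x2 * s⁻¹) * (s * pw z1 (τ t).1 * s⁻¹) := by rw [hτ2]; group
        _ = x2 * (pw z1 (τ s).1 * pw z1 (τ t).1) := by rw [hτ2, hconjz, mul_assoc]
        _ = _ := by rw [pw_add _ (h13 hz1)]; rfl
    · rw [← hτ3]
      have hpow : s * pw x2 (τ t).2.1 * s⁻¹ = pw x2 (τ t).2.1 * pw z1 ((τ t).2.1 * (τ s).1) := by
        rcases A8.zmod_two_cases (τ t).2.1 with e | e <;> rw [e]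
        · simp [pw]
        · simp only [show pw x2 1 = x2 from if_neg one_ne_zero, one_mul]
          exact hτ2 s
      have hz1c : ∀ a y, pw z1 a * y = y * pw z1 a := fun a y =>
        (mem_center_iff.1 (Z_one_le_center (pw_mem hz1 a)) y).symm
      calc s * t * x3 * (s * t)⁻¹ = s * (t * x3 * t⁻¹) * s⁻¹ := by group
        _ = (s * x3 * s⁻¹) * (s * pw x2 (τ t).2.1 * s⁻¹) * (s * pw z1 (τ t).2.2 * s⁻¹) := by rw [hτ3]; group
        _ = x3 * (pw x2 (τ s).2.1 * pw z1 (τ s).2.2) * (pw x2 (τ t).2.1 * pw z1 ((τ t).2.1 * (τ s).1))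
            * pw z1 (τ t).2.2 := by rw [hτ3, hpow, hconjz]
        _ = x3 * ((pw x2 (τ s).2.1 * pw x2 (τ t).2.1) *
            (pw z1 (τ s).2.2 * pw z1 (τ t).2.2 * pw z1 ((τ t).2.1 * (τ s).1))) := by
          rw [mul_assoc x3, mul_assoc x3]
          congr 1
          rw [mul_assoc (pw z1 (τ s).2.2), ← hz1c ((τ t).2.1 * (τ s).1) (pw z1 (τ t).2.2)]
          calc pw x2 (τ s).2.1 * pw z1 (τ s).2.2 * (pw x2 (τ t).2.1 * pw z1 ((τ t).2.1 * (τ s).1)) * pw z1 (τ t).2.2
              = pw x2 (τ s).2.1 * (pw z1 (τ s).2.2 * pw x2 (τ t).2.1) *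
                  (pw z1 ((τ t).2.1 * (τ s).1) * pw z1 (τ t).2.2) := by group
            _ = pw x2 (τ s).2.1 * (pw x2 (τ t).2.1 * pw z1 (τ s).2.2) *
                  (pw z1 ((τ t).2.1 * (τ s).1) * pw z1 (τ t).2.2) := by rw [hz1c]
            _ = _ := by group
        _ = _ := by rw [pw_add _ (h23 hx2), pw_add _ (h13 hz1), pw_add _ (h13 hz1)]; rfl
  let π : T →* DihedralGroup 4 := MonoidHom.mk' (fun t => dD (τ t)) (fun s t => by rw [hτmul, dD_mul])
  have hker : π.ker = W := by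
    ext t
    constructor
    · intro ht
      have hu := dD_eq_one _ (MonoidHom.mem_ker.1 ht)
      have e2 := hτ2 t
      have e3 := hτ3 t
      rw [hu] at e2 e3
      simp only [pw, if_true, mul_one] at e2 e3
      rw [h.hW, mem_centralizer_iff]
      intro z hz
      set K := centralizer ({t} : Set T)
      have hk : ∀ x, t * x * t⁻¹ = x → x ∈ K := fun x hx =>
        mem_centralizer_singleton_iff.2 (mul_inv_eq_iff_eq_mul.1 hx).symm
      have hK1 : Z T 1 ≤ K := fun x hx => mem_centralizer_singleton_iff.2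
        (mem_center_iff.1 (Z_one_le_center hx) t).symm
      have hK2 : Z T 2 ≤ K := fun x hx => by
        rcases Z_cases h (by norm_num) hx2 hx2' hx with h' | h'
        · exact hK1 h'
        · have := mul_mem (hk x2 e2) (hK1 h'); rwa [mul_inv_cancel_left] at this
      have hK3 : Z T 3 ≤ K := fun x hx => by
        rcases Z_cases h (by norm_num) hx3 hx3' hx with h' | h'
        · exact hK2 h'
        · have := mul_mem (hk x3 e3) (hK2 h'); rwa [mul_inv_cancel_left] at this
      exact mem_centralizer_singleton_iff.1 (hK3 hz)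
    · intro ht
      have hc : ∀ x ∈ Z T 3, t * x * t⁻¹ = x := fun x hx => by
        rw [← Z3_comm h ht hx, mul_inv_cancel_right]
      have hu : τ t = (0, 0, 0) := huniq _ _
        (by rw [← hτ2, hc _ (h23 hx2)]; simp [pw]) (by rw [← hτ3, hc _ hx3]; simp [pw])
      refine MonoidHom.mem_ker.2 ?_
      show dD (τ t) = 1
      rw [hu]; rfl
  refine ⟨π, hker, ?_, ?_⟩
  · refine MonoidHom.range_eq_top.1 ((card_eq_iff_eq_top _).1 ?_)
    rw [← index_ker, hker, (basic h).2.2.1, DihedralGroup.nat_card]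
  · intro t x hx hx' hfix
    suffices hsuff : ¬ ((τ t).2.1 = 1 ∨ ((τ t).1 = 0 ∧ (τ t).2.2 = 1)) from
      ⟨fun e => hsuff (dD_special _ (Or.inl e)), fun e => hsuff (dD_special _ (Or.inr (Or.inl e))),
        fun e => hsuff (dD_special _ (Or.inr (Or.inr e)))⟩
    have hr : x3⁻¹ * x ∈ Z T 2 := (Z_cases h (by norm_num) hx3 hx3' hx).resolve_left hx'
    set r := x3⁻¹ * x
    set d := r⁻¹ * (t * r * t⁻¹)
    have hd : d ∈ Z T 1 := conj_mul_inv_mem 1 t hr
    have h1 : x3 * r = x3 * (pw x2 (τ t).2.1 * pw z1 (τ t).2.2) * (r * d) := by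
      conv_lhs => rw [show x3 * r = x from mul_inv_cancel_left x3 x, ← hfix]
      rw [← hτ3]
      simp only [r, d]; group
    have hcomm : pw x2 (τ t).2.1 * pw z1 (τ t).2.2 * r = r * (pw x2 (τ t).2.1 * pw z1 (τ t).2.2) :=
      Z3_comm h (Z_le_W h (by norm_num) (h23 hr))
        (mul_mem (pw_mem (h23 hx2) _) (pw_mem (h13 hz1) _))
    have h2 : pw x2 (τ t).2.1 * pw z1 (τ t).2.2 * d = 1 := by
      rw [mul_assoc x3, ← mul_assoc (pw x2 _ * pw z1 _), hcomm, mul_assoc r] at h1
      exact (left_eq_mul.1 (mul_left_cancel h1))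
    rintro (hB | ⟨hA, hC⟩)
    · rw [hB, show pw x2 1 = x2 from if_neg one_ne_zero] at h2
      refine hx2' ?_
      rw [mul_assoc] at h2
      rw [eq_inv_of_mul_eq_one_left h2]
      exact inv_mem (mul_mem (pw_mem hz1 _) hd)
    · have hB : (τ t).2.1 = 0 := by
        rcases A8.zmod_two_cases (τ t).2.1 with e | e
        · exact e
        · rw [e, show pw x2 1 = x2 from if_neg one_ne_zero] at h2
          refine absurd ?_ hx2'
          rw [mul_assoc] at h2
          rw [eq_inv_of_mul_eq_one_left h2]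
          exact inv_mem (mul_mem (pw_mem hz1 _) hd)
      have hd1 : d = 1 := by
        have hfix2 : t * x2 * t⁻¹ = x2 := by
          rw [hτ2, hA, show pw z1 0 = 1 from if_pos rfl, mul_one]
        have hfr : t * r * t⁻¹ = r := by
          rcases Z_cases h (by norm_num) hx2 hx2' hr with h' | h'
          · rw [mem_center_iff.1 (Z_one_le_center h') t, mul_inv_cancel_right]
          · have hfs : t * (x2⁻¹ * r) * t⁻¹ = x2⁻¹ * r := by
              rw [mem_center_iff.1 (Z_one_le_center h') t, mul_inv_cancel_right]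
            calc t * r * t⁻¹ = (t * x2 * t⁻¹) * (t * (x2⁻¹ * r) * t⁻¹) := by group
              _ = r := by rw [hfix2, hfs, mul_inv_cancel_left]
        show r⁻¹ * (t * r * t⁻¹) = 1
        rw [hfr, inv_mul_cancel]
      rw [hB, hC, hd1, show pw x2 0 = 1 from if_pos rfl, show pw z1 1 = z1 from if_neg one_ne_zero,
        one_mul, mul_one] at h2
      exact hz1n h2

/-! ### The centre of `W` -/

/-- Value of the quadratic form on a product of translates. -/
def Qlist (c : ZMod 2) (f : DihedralGroup 4 → ZMod 2) : List (DihedralGroup 4) → ZMod 2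
  | [] => 0
  | g :: l => c + Qlist c f l + (l.map fun h => f (g⁻¹ * h)).sum

/-- Value of the bilinear form on two products of translates. -/
def Blist (f : DihedralGroup 4 → ZMod 2) (l m : List (DihedralGroup 4)) : ZMod 2 :=
  (l.map fun g => (m.map fun h => f (g⁻¹ * h)).sum).sum

/-- The coordinate vector of a product of translates. -/
def Elist (l : List (DihedralGroup 4)) (g : DihedralGroup 4) : ZMod 2 :=
  (l.map fun h => if h = g then (1 : ZMod 2) else 0).sum

/-- The possible bilinear forms. -/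
def form (a b : ZMod 2) : DihedralGroup 4 → ZMod 2
  | .r i => if i = 1 ∨ i = 3 then a else 0
  | .sr i => if i = 0 ∨ i = 2 then b else 0

/-- Element numbers. -/
def el (i : Fin 8) : DihedralGroup 4 :=
  if i.val < 4 then DihedralGroup.r (i.val : ZMod 4) else DihedralGroup.sr ((i.val - 4 : ℕ) : ZMod 4)

/-- A basis of a totally singular subspace in each case. -/
def wit (c a b : ZMod 2) : Fin 5 → List (DihedralGroup 4) :=
  let v : Fin 5 → List (Fin 8) :=
    if c = 0 then
      (if a = 0 then (if b = 0 then ![[0], [1], [2], [3], [4]] else ![[0], [1], [2], [3], [4, 6]])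
       else (if b = 0 then ![[0], [2], [1, 3], [4], [6]] else ![[0], [2], [1, 3], [1, 4], [5]]))
    else
      (if a = 0 then
        (if b = 0 then ![[0, 1], [0, 2], [0, 3], [0, 4], [0, 5]] else ![[0, 1], [0, 2], [0, 3], [4, 5], [4, 6]])
       else (if b = 0 then ![[0, 2], [1, 3], [0, 4], [1, 5], [0, 6]] else ![[0, 2], [1, 3], [1, 4], [0, 5], [1, 6]]))
  fun i => (v i).map el

theorem wit_good : ∀ c a b, (∀ i, Qlist c (form a b) (wit c a b i) = 0) ∧
    (∀ i j, Blist (form a b) (wit c a b i) (wit c a b j) = 0) := by decide +kernel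

theorem wit_indep : ∀ c a b, ∀ s : Fin 5 → ZMod 2,
    (∀ g, ∑ i, s i * Elist (wit c a b i) g = 0) → ∀ i, s i = 0 := by decide +kernel

theorem Elist_all : ∀ k, Elist ((List.finRange 8).map el) k = 1 := by decide +kernel

theorem forms : ∀ g : DihedralGroup 4, g = .r 0 ∨ g = .r 1 ∨ g = .r 2 ∨ g = .r 3 ∨ g = .sr 0 ∨ g = .sr 1 ∨
    g = .sr 2 ∨ g = .sr 3 := by decide

set_option maxHeartbeats 4000000 in
theorem center_eq {W : Subgroup T} (h : Hyp W) : (center W).map W.subtype = Z T 3 := by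
  classical
  haveI : Fact (Nat.Prime 2) := ⟨Nat.prime_two⟩
  haveI := W_normal h
  have h3W : Z T 3 ≤ W := Z_le_W h (by norm_num)
  have hle : Z T 3 ≤ (center W).map W.subtype := fun z hz =>
    ⟨⟨z, h3W hz⟩, mem_center_iff.2 fun g => Subtype.ext (Z3_comm h g.2 hz).symm, rfl⟩
  haveI : ((center W).map W.subtype).Normal := inferInstance
  by_contra hne
  obtain ⟨z4, hz4, hz4'⟩ := exists_gen h (j := 3) le_rfl
  have hz4c : ∀ v ∈ W, v * z4 = z4 * v := by
    obtain ⟨z, hzc, rfl⟩ := Z_succ_le h le_rfl hle hne hz4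
    exact fun v hv => congrArg Subtype.val (mem_center_iff.1 hzc ⟨v, hv⟩)
  have hz4W : z4 ∈ W := Z_le_W h le_rfl hz4
  obtain ⟨φ, hadd, h0, h1⟩ := exists_form W (Z T 3) h3W (fun w hw => sq_mem_Z3 h hw)
    (fun w _ n hn => conj_mem_Z 3 w hn) hz4W hz4'
  have hker := kernel_le h le_rfl (fun w hw => sq_mem_Z3 h hw) hz4 φ hadd h0 h1
  obtain ⟨π, hπ, hπs, hπfix⟩ := exists_hom h
  choose tg htg using hπs
  have hcW : ∀ (t : T) {w : T}, w ∈ W → t⁻¹ * w * t ∈ W := fun t w hw => by
    simpa using (inferInstance : W.Normal).conj_mem w hw t⁻¹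
  let E : W →* (DihedralGroup 4 → Multiplicative (ZMod 2)) :=
    { toFun := fun w g => Multiplicative.ofAdd (φ ((tg g)⁻¹ * w * tg g))
      map_one' := funext fun g => by
        show Multiplicative.ofAdd (φ ((tg g)⁻¹ * ((1 : W) : T) * tg g)) = 1
        rw [OneMemClass.coe_one, mul_one, inv_mul_cancel, h0 1 (one_mem _)]; rfl
      map_mul' := fun v w => funext fun g => by
        show Multiplicative.ofAdd (φ ((tg g)⁻¹ * ((v * w : W) : T) * tg g)) =
          Multiplicative.ofAdd (φ ((tg g)⁻¹ * v * tg g)) * Multiplicative.ofAdd (φ ((tg g)⁻¹ * w * tg g))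
        have e : (tg g)⁻¹ * ((v * w : W) : T) * tg g = ((tg g)⁻¹ * v * tg g) * ((tg g)⁻¹ * w * tg g) := by
          rw [Subgroup.coe_mul]; group
        rw [e, hadd _ (hcW _ v.2) _ (hcW _ w.2)]
        rfl }
  have hcongr : ∀ {t t' : T}, π t = π t' → t⁻¹ * t' ∈ W := fun {t t'} e => by
    rw [← hπ, MonoidHom.mem_ker, map_mul, map_inv, e, inv_mul_cancel]
  have hEker : E.ker.map W.subtype ≤ Z T 3 := by
    rintro _ ⟨w, hw, rfl⟩
    refine hker _ w.2 fun t => ?_
    have h3 : Multiplicative.ofAdd (φ ((tg (π t⁻¹))⁻¹ * w * tg (π t⁻¹))) = 1 :=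
      congrFun (MonoidHom.mem_ker.1 hw) (π t⁻¹)
    have h4 := phi_congr h φ hadd (t := tg (π t⁻¹)) (t' := t⁻¹) (hcongr (htg _)) w.2
    rw [inv_inv] at h4
    rw [Subgroup.coe_subtype, h4]
    exact h3
  have hEsurj : Function.Surjective E := by
    refine MonoidHom.range_eq_top.1 (eq_top_of_le_card _ ?_)
    rw [Nat.card_fun, DihedralGroup.nat_card, Nat.card_congr (Multiplicative.toAdd), Nat.card_zmod,
      ← index_ker]
    have h5 := card_mul_index E.ker
    rw [(basic h).2.1] at h5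
    have h6 : Nat.card E.ker ≤ 8 := by
      have := card_le_of_le hEker
      rwa [card_map_of_injective W.subtype_injective, card_Z h 3 (by norm_num)] at this
    have h7 := Nat.mul_le_mul_right E.ker.index h6
    rw [h5] at h7
    omega
  obtain ⟨w1, hw1⟩ := hEsurj (fun g => Multiplicative.ofAdd (if g = 1 then (1 : ZMod 2) else 0))
  let wg : DihedralGroup 4 → W := fun g =>
    ⟨tg g * w1 * (tg g)⁻¹, (inferInstance : W.Normal).conj_mem _ w1.2 _⟩
  have hEwg : ∀ g k, E (wg g) k = Multiplicative.ofAdd (if g = k then (1 : ZMod 2) else 0) := by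
    intro g k
    show Multiplicative.ofAdd (φ ((tg k)⁻¹ * (tg g * w1 * (tg g)⁻¹) * tg k)) = _
    have e : (tg k)⁻¹ * (tg g * w1 * (tg g)⁻¹) * tg k =
        ((tg g)⁻¹ * tg k)⁻¹ * w1 * ((tg g)⁻¹ * tg k) := by group
    rw [e, phi_congr h φ hadd (t := tg (g⁻¹ * k)) (t' := (tg g)⁻¹ * tg k)
      (hcongr (by rw [htg, map_mul, map_inv, htg, htg])) w1.2]
    have h8 := congrFun hw1 (g⁻¹ * k)
    change Multiplicative.ofAdd (φ _) = _ at h8
    rw [h8]
    simp only [inv_mul_eq_one]
  obtain ⟨x3, hx3, hx3'⟩ := exists_gen h (j := 2) (by norm_num)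
  let bit : T → ZMod 2 := fun x => if x ∈ Z T 2 then 0 else 1
  have bit_mul : ∀ a ∈ Z T 3, ∀ b ∈ Z T 3, bit (a * b) = bit a + bit b := by
    intro a ha b hb
    simp only [bit]
    by_cases ha2 : a ∈ Z T 2
    · simp only [mul_mem_cancel_left ha2, ha2, if_true, zero_add]
    · by_cases hb2 : b ∈ Z T 2
      · simp only [mul_mem_cancel_right hb2, ha2, hb2, if_true, if_false, add_zero]
      · have hab : a * b ∈ Z T 2 := by
          rcases Z_cases h (by norm_num) (inv_mem ha) (fun e => ha2 (inv_mem_iff.1 e)) hb with h' | h'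
          · exact absurd h' hb2
          · rwa [inv_inv] at h'
        simp only [hab, ha2, hb2, if_true, if_false]
        rfl
  have bit_conj : ∀ (t x : T), bit (t * x * t⁻¹) = bit x := by
    intro t x
    have hi : t * x * t⁻¹ ∈ Z T 2 ↔ x ∈ Z T 2 :=
      ⟨fun e => by simpa [mul_assoc] using conj_mem_Z 2 t⁻¹ e, conj_mem_Z 2 t⟩
    simp only [bit, hi]
  have hcen : ∀ {a b : W}, (⁅a, b⁆ : W) ∈ center W := fun {a b} => mem_center_iff.2 fun g =>
    Subtype.ext (Z3_comm h g.2 (by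
      show ((⁅a, b⁆ : W) : T) ∈ Z T 3
      rw [show ((⁅a, b⁆ : W) : T) = ⁅(a : T), (b : T)⁆ from map_commutatorElement W.subtype a b]
      exact comm_mem_Z3 h a.2 b.2)).symm
  have hcm : ∀ a b : W, ((⁅a, b⁆ : W) : T) ∈ Z T 3 := fun a b => by
    rw [show ((⁅a, b⁆ : W) : T) = ⁅(a : T), (b : T)⁆ from map_commutatorElement W.subtype a b]
    exact comm_mem_Z3 h a.2 b.2
  let B : W → W → ZMod 2 := fun a b => bit ((⁅a, b⁆ : W) : T)
  let q : W → ZMod 2 := fun a => bit ((a : T) * a)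
  have Bl : ∀ a b c, B (a * b) c = B a c + B b c := fun a b c => by
    show bit _ = _
    rw [CfsgLib.PGroup.comm_mul_left hcen, Subgroup.coe_mul, bit_mul _ (hcm a c) _ (hcm b c)]
  have Br : ∀ a b c, B a (b * c) = B a b + B a c := fun a b c => by
    show bit _ = _
    rw [CfsgLib.PGroup.comm_mul_right hcen, Subgroup.coe_mul, bit_mul _ (hcm a b) _ (hcm a c)]
  have B1l : ∀ c, B 1 c = 0 := fun c => by
    show bit _ = _
    rw [commutatorElement_one_left]
    simp [bit]
  have B1r : ∀ c, B c 1 = 0 := fun c => by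
    show bit _ = _
    rw [commutatorElement_one_right]
    simp [bit]
  have Bsym : ∀ a b, B a b = B b a := fun a b => by
    show bit _ = bit _
    rw [← commutatorElement_inv b a, Subgroup.coe_inv]
    simp [bit]
  have hqmul : ∀ a b, q (a * b) = q a + q b + B b a := fun a b => by
    show bit _ = _
    have e : ((a * b : W) : T) * ((a * b : W) : T) = ((a : T) * a) * ((b : T) * b) * ((⁅b, a⁆ : W) : T) := by
      have hc := Z3_comm h (mul_mem a.2 (mul_mem b.2 b.2)) (hcm b a)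
      rw [show ((⁅b, a⁆ : W) : T) = ⁅(b : T), (a : T)⁆ from map_commutatorElement W.subtype b a,
        commutatorElement_def] at hc ⊢
      rw [Subgroup.coe_mul]
      calc (a : T) * b * ((a : T) * b) = a * (((b : T) * a * (b : T)⁻¹ * (a : T)⁻¹) * (a * (b * b))) := by group
        _ = a * ((a * (b * b)) * ((b : T) * a * (b : T)⁻¹ * (a : T)⁻¹)) := by rw [hc]
        _ = _ := by group
    rw [e, bit_mul _ (mul_mem (sq_mem_Z3 h a.2) (sq_mem_Z3 h b.2)) _ (hcm b a),
      bit_mul _ (sq_mem_Z3 h a.2) _ (sq_mem_Z3 h b.2)]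
  have hBcongr : ∀ a b b' : W, E b = E b' → B a b = B a b' := by
    intro a b b' e
    have hz : ((b'⁻¹ * b : W) : T) ∈ Z T 3 :=
      hEker ⟨b'⁻¹ * b, MonoidHom.mem_ker.2 (by rw [map_mul, map_inv, e, inv_mul_cancel]), rfl⟩
    have hcz : (⁅a, b'⁻¹ * b⁆ : W) = 1 := commutatorElement_eq_one_iff_mul_comm.2
      (Subtype.ext (Z3_comm h a.2 hz).symm)
    have e' : B a b = B a b' + B a (b'⁻¹ * b) := by rw [← Br, mul_inv_cancel_left]
    rw [e']
    show B a b' + bit _ = _
    rw [hcz]; simp [bit]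
  let f : DihedralGroup 4 → ZMod 2 := fun g => B (wg 1) (wg g)
  let cj : T → W → W := fun t a => ⟨t * a * t⁻¹, (inferInstance : W.Normal).conj_mem _ a.2 t⟩
  have hBconj : ∀ t a b, B (cj t a) (cj t b) = B a b := fun t a b => by
    show bit _ = bit _
    rw [show ((⁅cj t a, cj t b⁆ : W) : T) = t * ((⁅a, b⁆ : W) : T) * t⁻¹ from by
      rw [show ((⁅cj t a, cj t b⁆ : W) : T) = ⁅(cj t a : T), (cj t b : T)⁆ from map_commutatorElement W.subtype _ _,
        show ((⁅a, b⁆ : W) : T) = ⁅(a : T), (b : T)⁆ from map_commutatorElement W.subtype a b]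
      simp only [cj, commutatorElement_def]; group, bit_conj]
  have hEcj : ∀ g k, E (cj (tg g) (wg k)) = E (wg (g * k)) := by
    intro g k
    funext m
    rw [hEwg]
    show Multiplicative.ofAdd (φ ((tg m)⁻¹ * (tg g * (tg k * w1 * (tg k)⁻¹) * (tg g)⁻¹) * tg m)) = _
    have e : (tg m)⁻¹ * (tg g * (tg k * w1 * (tg k)⁻¹) * (tg g)⁻¹) * tg m =
        ((tg k)⁻¹ * (tg g)⁻¹ * tg m)⁻¹ * w1 * ((tg k)⁻¹ * (tg g)⁻¹ * tg m) := by group
    rw [e, phi_congr h φ hadd (t := tg ((g * k)⁻¹ * m)) (t' := (tg k)⁻¹ * (tg g)⁻¹ * tg m)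
      (hcongr (by rw [htg, map_mul, map_mul, map_inv, map_inv, htg, htg, htg, _root_.mul_inv_rev])) w1.2]
    have h8 := congrFun hw1 ((g * k)⁻¹ * m)
    change Multiplicative.ofAdd (φ _) = _ at h8
    rw [h8]
    simp only [inv_mul_eq_one]
  have hf : ∀ g k, B (wg g) (wg k) = f (g⁻¹ * k) := by
    intro g k
    show _ = B (wg 1) (wg (g⁻¹ * k))
    rw [← hBconj (tg g) (wg 1) (wg (g⁻¹ * k)), hBcongr _ (cj _ (wg (g⁻¹ * k))) (wg k) (by
      rw [hEcj, mul_inv_cancel_left]), Bsym (cj (tg g) (wg 1)),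
      hBcongr _ (cj _ (wg 1)) (wg g) (by rw [hEcj, mul_one]), Bsym (wg k)]
  let prd : List (DihedralGroup 4) → W := fun l => (l.map wg).prod
  have hBgl : ∀ g l, B (wg g) (prd l) = (l.map fun k => f (g⁻¹ * k)).sum := by
    intro g l
    induction l with
    | nil => exact B1r _
    | cons a l ih =>
      show B _ (wg a * prd l) = _
      rw [Br, ih, hf, List.map_cons, List.sum_cons]
  have hBll : ∀ l m, B (prd l) (prd m) = Blist f l m := by
    intro l m
    induction l with
    | nil => exact B1l _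
    | cons a l ih =>
      show B (wg a * prd l) _ = _
      rw [Bl, ih, hBgl]
      simp [Blist]
  have hEprd : ∀ l k, E (prd l) k = Multiplicative.ofAdd (Elist l k) := by
    intro l k
    induction l with
    | nil => show E 1 k = _; rw [map_one]; rfl
    | cons a l ih =>
      show E (wg a * prd l) k = _
      rw [map_mul, Pi.mul_apply, hEwg, ih, ← ofAdd_add]
      simp [Elist]
  have hqg : ∀ g, q (wg g) = q w1 := fun g => by
    show bit _ = bit _
    rw [← bit_conj (tg g) ((w1 : T) * w1)]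
    congr 1
    simp only [wg]; group
  have hqprd : ∀ l, q (prd l) = Qlist (q w1) f l := by
    intro l
    induction l with
    | nil => show bit (((1 : W) : T) * ((1 : W) : T)) = 0; simp [bit]
    | cons a l ih =>
      show q (wg a * prd l) = _
      rw [hqmul, hqg, ih, Bsym, hBgl]
      rfl
  -- the shape of the form
  have hf1 : f 1 = 0 := by
    show bit _ = 0
    rw [commutatorElement_self]; simp [bit]
  have hinv : ∀ g, f g⁻¹ = f g := fun g => by
    have := hf g 1
    rw [mul_one] at this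
    rw [← this, Bsym]
  have hfix0 : ∀ g : DihedralGroup 4, g * g = 1 →
      (g = .r 2 ∨ g = .sr 1 ∨ g = .sr 3) → f g = 0 := by
    intro g hgg hg
    by_contra hne'
    set x := ((⁅wg 1, wg g⁆ : W) : T) with hx
    have hx2 : x ∉ Z T 2 := fun e => hne' (if_pos e)
    have hfix : tg g * x * (tg g)⁻¹ = x := by
      have e1 : tg g * x * (tg g)⁻¹ = ((⁅cj (tg g) (wg 1), cj (tg g) (wg g)⁆ : W) : T) := by
        rw [hx, show ((⁅cj (tg g) (wg 1), cj (tg g) (wg g)⁆ : W) : T) =
            ⁅(cj (tg g) (wg 1) : T), (cj (tg g) (wg g) : T)⁆ from map_commutatorElement W.subtype _ _,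
          show ((⁅wg 1, wg g⁆ : W) : T) = ⁅(wg 1 : T), (wg g : T)⁆ from map_commutatorElement W.subtype _ _]
        simp only [cj, commutatorElement_def]; group
      have hcz : ∀ a a' : W, E a = E a' → ∃ z : W, z ∈ center W ∧ a = a' * z := by
        intro a a' e
        refine ⟨a'⁻¹ * a, mem_center_iff.2 fun k => Subtype.ext (Z3_comm h k.2 ?_).symm,
          (mul_inv_cancel_left a' a).symm⟩
        exact hEker ⟨a'⁻¹ * a, MonoidHom.mem_ker.2 (by rw [map_mul, map_inv, e, inv_mul_cancel]), rfl⟩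
      obtain ⟨z, hz, ez⟩ := hcz _ (wg g) (show E (cj (tg g) (wg 1)) = E (wg g) by rw [hEcj, mul_one])
      obtain ⟨z', hz', ez'⟩ := hcz _ (wg 1) (show E (cj (tg g) (wg g)) = E (wg 1) by rw [hEcj, hgg])
      have e2 : (⁅wg g * z, wg 1 * z'⁆ : W) = ⁅wg g, wg 1⁆ := by
        rw [CfsgLib.PGroup.comm_mul_left hcen, CfsgLib.PGroup.comm_mul_right hcen,
          CfsgLib.PGroup.comm_mul_right hcen]
        have c1 : ∀ y : W, (⁅y, z'⁆ : W) = 1 := fun y =>
          commutatorElement_eq_one_iff_mul_comm.2 (mem_center_iff.1 hz' y)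
        have c2 : ∀ y : W, (⁅z, y⁆ : W) = 1 := fun y =>
          commutatorElement_eq_one_iff_mul_comm.2 (mem_center_iff.1 hz y).symm
        rw [c1, c2, c2, mul_one, mul_one, mul_one]
      rw [e1, ez, ez', e2, ← commutatorElement_inv (wg 1) (wg g), Subgroup.coe_inv]
      exact inv_eq_of_mul_eq_one_right (sq_one h (hcm _ _))
    obtain ⟨a, b, c⟩ := hπfix (tg g) x (hcm _ _) hx2 hfix
    rw [htg] at a b c
    rcases hg with e | e | e
    · exact a e
    · exact b e
    · exact c e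
  have hsum : f (.sr 0) = f (.sr 2) := by
    let all := (List.finRange 8).map el
    have hzE : E ⟨z4, hz4W⟩ = E (prd all) := by
      funext k
      rw [hEprd, show Elist all k = 1 from Elist_all k]
      show Multiplicative.ofAdd (φ ((tg k)⁻¹ * z4 * tg k)) = _
      have hd := conj_mul_inv_mem 3 (tg k)⁻¹ hz4
      rw [inv_inv] at hd
      have e : (tg k)⁻¹ * z4 * tg k = z4 * (z4⁻¹ * ((tg k)⁻¹ * z4 * tg k)) := by group
      rw [e, hadd _ hz4W _ (h3W hd), h1, h0 _ hd, add_zero]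
    have h9 : B (wg 1) ⟨z4, hz4W⟩ = 0 := by
      show bit _ = 0
      rw [commutatorElement_eq_one_iff_mul_comm.2 (Subtype.ext (hz4c _ (wg 1).2))]
      simp [bit]
    rw [hBcongr _ _ _ hzE, hBgl] at h9
    have e : all = [.r 0, .r 1, .r 2, .r 3, .sr 0, .sr 1, .sr 2, .sr 3] := by decide
    rw [e] at h9
    simp only [List.map_cons, List.map_nil, List.sum_cons, List.sum_nil, inv_one, one_mul] at h9
    rw [show f (.r 0) = 0 from hf1, hfix0 _ (by decide) (Or.inl rfl), hfix0 _ (by decide) (Or.inr (Or.inl rfl)),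
      hfix0 _ (by decide) (Or.inr (Or.inr rfl)),
      show f (.r 3) = f (.r 1) from hinv (.r 1)] at h9
    linear_combination h9 - (add_self_two' (f (.r 1))) - add_self_two' (f (.sr 2))
  have hform : f = form (f (.r 1)) (f (.sr 0)) := by
    funext g
    rcases forms g with rfl | rfl | rfl | rfl | rfl | rfl | rfl | rfl
    · exact hf1
    · rfl
    · exact hfix0 _ (by decide) (Or.inl rfl)
    · exact hinv (.r 1)
    · rfl
    · exact hfix0 _ (by decide) (Or.inr (Or.inl rfl))
    · exact hsum.symm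
    · exact hfix0 _ (by decide) (Or.inr (Or.inr rfl))
  obtain ⟨hQ, hB0⟩ := wit_good (q w1) (f (.r 1)) (f (.sr 0))
  have hindep := wit_indep (q w1) (f (.r 1)) (f (.sr 0))
  rw [← hform] at hQ hB0
  let u : Fin 5 → W := fun i => prd (wit (q w1) (f (.r 1)) (f (.sr 0)) i)
  let gens : Set W := Set.range u ∪ {z | (z : T) ∈ Z T 3}
  let C := closure gens
  have hz0 : ∀ z : W, (z : T) ∈ Z T 3 → ∀ a, B z a = 0 := fun z hz a => by
    show bit _ = 0
    rw [commutatorElement_eq_one_iff_mul_comm.2 (Subtype.ext (Z3_comm h a.2 hz))]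
    simp [bit]
  have hgg : ∀ a ∈ gens, ∀ b ∈ gens, B a b = 0 := by
    rintro a (⟨i, rfl⟩ | ha) b (⟨j, rfl⟩ | hb)
    · exact (hBll _ _).trans (hB0 i j)
    · rw [Bsym]; exact hz0 b hb _
    · exact hz0 a ha _
    · exact hz0 a ha _
  have hB2 : ∀ a ∈ C, ∀ b ∈ C, B a b = 0 := by
    let perp : W → Subgroup W := fun b =>
      { carrier := {a | B a b = 0}
        one_mem' := B1l b
        mul_mem' := fun {x y} hx hy => show B (x * y) b = 0 by rw [Bl, show B x b = 0 from hx, show B y b = 0 from hy, add_zero]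
        inv_mem' := fun {x} hx => show B x⁻¹ b = 0 by
          have := Bl x x⁻¹ b
          rw [mul_inv_cancel, B1l, show B x b = 0 from hx, zero_add] at this
          exact this.symm }
    have step1 : ∀ b ∈ gens, C ≤ perp b := fun b hb => (closure_le _).2 fun a ha => hgg a ha b hb
    intro a ha b hb
    have : C ≤ perp a := (closure_le _).2 fun b hb => by
      show B b a = 0
      rw [Bsym]; exact step1 b hb ha
    rw [Bsym]; exact this hb
  have hq0 : ∀ a ∈ C, q a = 0 := by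
    intro a ha
    refine closure_induction (p := fun a _ => q a = 0) ?_ ?_ ?_ ?_ ha
    · rintro a (⟨i, rfl⟩ | ha)
      · exact (hqprd _).trans (hQ i)
      · show bit _ = 0
        rw [sq_one h ha]; simp [bit]
    · show bit _ = 0
      simp [bit]
    · intro a b ha hb qa qb
      rw [hqmul, qa, qb, hB2 b hb a ha]; rfl
    · intro a ha qa
      have := hqmul a a⁻¹
      rw [mul_inv_cancel, qa, hB2 _ (inv_mem ha) a ha, zero_add, add_zero,
        show q 1 = 0 by show bit _ = 0; simp [bit]] at this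
      exact this.symm
  refine no_split h (C.map W.subtype) (map_subtype_le _)
    (fun z hz => ⟨⟨z, h3W hz⟩, subset_closure (Or.inr hz), rfl⟩) ?_ ?_
  · rintro _ ⟨a, ha, rfl⟩
    have := hq0 a ha
    by_contra hne'
    have h1' : q a = 1 := if_neg hne'
    rw [h1'] at this
    exact one_ne_zero this
  rw [card_map_of_injective W.subtype_injective]
  let G : (Fin 5 → ZMod 2) × Z T 3 → C := fun p =>
    ⟨(List.ofFn fun i => if p.1 i = 0 then 1 else u i).prod * ⟨p.2, h3W p.2.2⟩,
      mul_mem (list_prod_mem fun x hx => by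
        obtain ⟨i, rfl⟩ := List.mem_ofFn.1 hx
        split_ifs
        · exact one_mem _
        · exact subset_closure (Or.inl ⟨i, rfl⟩)) (subset_closure (Or.inr p.2.2))⟩
  have hEG : ∀ p k, E (G p : W) k =
      Multiplicative.ofAdd (∑ i, p.1 i * Elist (wit (q w1) (f (.r 1)) (f (.sr 0)) i) k) := by
    intro p k
    have hz : E ⟨p.2, h3W p.2.2⟩ = 1 := by
      funext m
      show Multiplicative.ofAdd (φ ((tg m)⁻¹ * (p.2 : T) * tg m)) = 1
      have := conj_mem_Z 3 (tg m)⁻¹ p.2.2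
      rw [inv_inv] at this
      rw [h0 _ this]; rfl
    show E (_ * _) k = _
    rw [map_mul, hz, mul_one, map_list_prod, List.map_ofFn, List.prod_ofFn, Finset.prod_apply,
      ofAdd_sum]
    refine Finset.prod_congr rfl fun i _ => ?_
    show E (if p.1 i = 0 then 1 else u i) k = _
    rcases A8.zmod_two_cases (p.1 i) with e | e <;> rw [e]
    · rw [if_pos rfl, map_one, zero_mul]; rfl
    · rw [if_neg one_ne_zero, one_mul]; exact hEprd _ k
  have hG : Function.Injective G := by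
    intro p p' e
    have h1' : p.1 = p'.1 := by
      funext i
      have := hindep (fun i => p.1 i + p'.1 i) (fun k => by
        have e1 := hEG p k
        rw [e, hEG p' k] at e1
        have e2 := Multiplicative.ofAdd.injective e1
        simp only [add_mul, Finset.sum_add_distrib]
        rw [← e2]
        exact add_self_two' _) i
      linear_combination this - add_self_two' (p'.1 i)
    refine Prod.ext h1' (Subtype.ext ?_)
    have e' := congrArg (fun c : C => (c : W)) e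
    simp only [G, h1'] at e'
    have e2 := congrArg Subtype.val (mul_left_cancel e')
    exact e2
  have hle' := Nat.card_le_card_of_injective G hG
  rw [Nat.card_prod, Nat.card_fun, Nat.card_zmod, Nat.card_fin, card_Z h 3 (by norm_num)] at hle'
  exact hle'
where
  add_self_two' : ∀ a : ZMod 2, a + a = 0 := by decide

theorem main {W : Subgroup T} (h : Hyp W) :
    Nat.card T = 2 ^ 14 ∧
      (commutator W).map W.subtype = Z T 3 ∧
      (frattini W).map W.subtype = Z T 3 ∧
      Nat.card (center W) = 8 ∧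
      Nat.card (Z T 3) = 8 ∧ (∀ z ∈ Z T 3, z ^ 2 = 1) ∧
      (∃ (_ : W.Normal), Nonempty (T ⧸ W ≃* DihedralGroup 4)) ∧
      Nat.card (W ⧸ commutator W) = 2 ^ 8 ∧ (∀ x : W ⧸ commutator W, x ^ 2 = 1) := by
  obtain ⟨hcT, hcW, -, hΦ⟩ := basic h
  have hD := commutator_map_eq h
  have h8 : Nat.card (Z T 3) = 8 := card_Z h 3 (by norm_num)
  haveI := W_normal h
  obtain ⟨π, hπ, hπs, -⟩ := exists_hom h
  refine ⟨hcT, hD, hΦ, ?_, h8, fun z hz => by rw [sq]; exact sq_one h hz,
    ⟨inferInstance, ⟨(QuotientGroup.quotientMulEquivOfEq hπ.symm).trans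
      (QuotientGroup.quotientKerEquivOfSurjective π hπs)⟩⟩, ?_, ?_⟩
  · rw [← card_map_of_injective W.subtype_injective, center_eq h, h8]
  · have h1 := card_eq_card_quotient_mul_card_subgroup (commutator W)
    rw [hcW, ← card_map_of_injective W.subtype_injective (K := commutator W), hD, h8] at h1
    omega
  · intro x
    induction x using QuotientGroup.induction_on with
    | _ w =>
      rw [← QuotientGroup.mk_pow, QuotientGroup.eq_one_iff]
      have : ((w ^ 2 : W) : T) ∈ (commutator W).map W.subtype := by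
        rw [hD, SubmonoidClass.coe_pow, sq]; exact sq_mem_Z3 h w.2
      obtain ⟨v, hv, he⟩ := this
      rwa [← Subtype.ext he]

end CfsgLib.InvolChar.TwoGroupW
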