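import Cfsg.Agent.Lib.InvolChar.TwoGroupW
import Cfsg.Agent.Lib.Transfer.Critical
import Cfsg.Agent.Lib.Solvable.CoprimeAction

/-!
Weak closure of `W` and odd-order automorphisms of a 2-group as in `TwoGroupW`.
-/

set_option autoImplicit false
set_option linter.style.haveILetI false
set_option linter.unusedSectionVars false

namespace CfsgLib.InvolChar.TwoGroupW

open Subgroup
open scoped commutatorElement

variable {T : Type*} [Group T] [Finite T]

/-- Two subgroups isomorphic to `W` coincide. -/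
theorem eq_of_mulEquiv {W : Subgroup T} (h : Hyp W) (W1 : Subgroup T) (e : W ≃* W1) : W1 = W := by
  classical
  haveI : Fact (Nat.Prime 2) := ⟨Nat.prime_two⟩
  haveI := W_normal h
  obtain ⟨hcT, hcW, hiW, hΦ⟩ := basic h
  have hc1 : Nat.card W1 = 2 ^ 11 := (Nat.card_congr e.toEquiv).symm.trans hcW
  have hΦ1 : (frattini W).map e.toMonoidHom = frattini W1 := e.mapSubgroup.map_radical
  set I := W ⊓ W1 with hI
  have hI8 : 2 ^ 8 ≤ Nat.card I := by
    have h1 := index_inf_le (H := W) (K := W1)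
    have h2 := card_mul_index W1
    rw [hc1, hcT] at h2
    rw [hiW, show W1.index = 8 by omega] at h1
    have h3 := Nat.mul_le_mul_left (Nat.card I) h1
    rw [card_mul_index, hcT] at h3
    omega
  have hidx : ∀ (A : Subgroup T), I ≤ A → Nat.card A = 2 ^ 11 → ∀ M : Subgroup I, IsCoatom M →
      ((M.map I.subtype).subgroupOf A).index ≤ 16 := by
    intro A hA hcA M hM
    have hM2 := CfsgLib.PGroup.index_of_isCoatom (h.hT.to_subgroup I) hM
    have h2 := card_mul_index M
    rw [hM2] at h2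
    have hle : M.map I.subtype ≤ A := (map_subtype_le M).trans hA
    have hc : Nat.card ((M.map I.subtype).subgroupOf A) = Nat.card M :=
      (Nat.card_congr (subgroupOfEquivOfLe hle).toEquiv).trans (card_map_of_injective I.subtype_injective)
    have h3 := card_mul_index ((M.map I.subtype).subgroupOf A)
    rw [hc, hcA] at h3
    have h4 : 2 ^ 7 * ((M.map I.subtype).subgroupOf A).index ≤
        Nat.card M * ((M.map I.subtype).subgroupOf A).index := Nat.mul_le_mul_right _ (by omega)
    rw [h3] at h4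
    omega
  set D := (frattini W1).map W1.subtype with hD
  have hsub : ∀ z : T, z ∈ Z T 3 ∨ z ∈ D → z ∈ (frattini I).map I.subtype := by
    intro z hz
    have hM : ∀ M : Subgroup I, IsCoatom M → z ∈ M.map I.subtype := by
      intro M hM
      rcases hz with hz | hz
      · rw [← hΦ] at hz
        obtain ⟨w, hw, rfl⟩ := hz
        exact mem_subgroupOf.1 (h.hd _ (hidx W inf_le_left hcW M hM) hw)
      · obtain ⟨_, hw, rfl⟩ := hz
        rw [← hΦ1] at hw
        obtain ⟨w, hw, rfl⟩ := hw
        have hU := h.hd (((M.map I.subtype).subgroupOf W1).comap e.toMonoidHom)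
          (by rw [index_comap_of_surjective _ e.surjective]; exact hidx W1 inf_le_right hc1 M hM) hw
        exact mem_subgroupOf.1 hU
    have hzI : z ∈ I := by
      rcases hz with hz | hz
      · refine mem_inf.2 ⟨Z_le_W h (by norm_num) hz, ?_⟩
        by_cases htriv : Nontrivial I
        · obtain ⟨M, hM'⟩ : ∃ M : Subgroup I, IsCoatom M := (IsCoatomic.exists_coatom (α := Subgroup I))
          obtain ⟨v, -, rfl⟩ := hM M hM'
          exact v.2.2
        · exact absurd (Finite.one_lt_card_iff_nontrivial.1 (by omega)) htriv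
      · haveI : Nontrivial I := Finite.one_lt_card_iff_nontrivial.1 (by omega)
        obtain ⟨M, hM'⟩ : ∃ M : Subgroup I, IsCoatom M := (IsCoatomic.exists_coatom (α := Subgroup I))
        obtain ⟨v, -, rfl⟩ := hM M hM'
        exact v.2
    refine ⟨⟨z, hzI⟩, ?_, rfl⟩
    show (⟨z, hzI⟩ : I) ∈ frattini I
    rw [frattini, Order.radical, mem_iInf]
    intro M
    rw [mem_iInf]
    intro hM'
    obtain ⟨v, hv, hve⟩ := hM M hM'
    rwa [show (⟨z, hzI⟩ : I) = v from Subtype.ext hve.symm]
  have hup1 : (frattini I).map I.subtype ≤ Z T 3 := by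
    rintro _ ⟨v, hv, rfl⟩
    have h1 : frattini I ≤ (Z T 3).subgroupOf I :=
      CfsgLib.Transfer.frattini_le_of_commutator_pow (p := 2) _
        (fun a b => by
          rw [mem_subgroupOf, show ((⁅a, b⁆ : I) : T) = ⁅(a : T), (b : T)⁆ from map_commutatorElement I.subtype a b]
          exact comm_mem_Z3 h a.2.1 b.2.1)
        (fun a => by rw [mem_subgroupOf, SubmonoidClass.coe_pow, sq]; exact sq_mem_Z3 h a.2.1)
    exact mem_subgroupOf.1 (h1 hv)
  have hDZ : D ≤ Z T 3 := fun z hz => hup1 (hsub z (Or.inr hz))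
  have hcD : Nat.card D = Nat.card (Z T 3) := by
    rw [hD, card_map_of_injective W1.subtype_injective, ← hΦ1, card_map_of_injective e.injective,
      ← hΦ, card_map_of_injective W.subtype_injective]
  have hDeq : D = Z T 3 := eq_of_le_of_card_ge hDZ hcD.ge
  have hle : W1 ≤ W := by
    intro x hx
    rw [h.hW, mem_centralizer_iff]
    intro z hz
    rw [SetLike.mem_coe] at hz
    change z ∈ Z T 3 at hz
    rw [← hDeq, hD] at hz
    obtain ⟨_, hw, rfl⟩ := hz
    rw [← hΦ1] at hw
    obtain ⟨w, hw, rfl⟩ := hw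
    have hwZ : (w : T) ∈ Z T 3 := hΦ ▸ mem_map_of_mem W.subtype hw
    obtain ⟨v, hv⟩ := e.surjective ⟨x, hx⟩
    have hcomm : w * v = v * w := Subtype.ext (Z3_comm h v.2 hwZ)
    have h2 := congrArg (fun u => ((e u : W1) : T)) hcomm
    simp only [map_mul, hv] at h2
    exact h2
  exact eq_of_le_of_card_ge hle (by rw [hcW, hc1])

/-- `W` is cyclic modulo the Frattini subgroup of `T`. -/
theorem W_le_zpowers_sup {W : Subgroup T} (h : Hyp W) :
    ∃ w1 ∈ W, W ≤ zpowers w1 ⊔ frattini T := by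
  classical
  haveI : Fact (Nat.Prime 2) := ⟨Nat.prime_two⟩
  haveI := W_normal h
  have h3W : Z T 3 ≤ W := Z_le_W h (by norm_num)
  obtain ⟨z4, hz4, hz4'⟩ := exists_gen h (j := 3) le_rfl
  obtain ⟨φ, hadd, h0, h1⟩ := exists_form W (Z T 3) h3W (fun w hw => sq_mem_Z3 h hw)
    (fun w _ n hn => conj_mem_Z 3 w hn) (Z_le_W h le_rfl hz4) hz4'
  have hker := kernel_le h le_rfl (fun w hw => sq_mem_Z3 h hw) hz4 φ hadd h0 h1
  have hcW : ∀ (t : T) {w : T}, w ∈ W → t⁻¹ * w * t ∈ W := fun t w hw => by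
    simpa using (inferInstance : W.Normal).conj_mem w hw t⁻¹
  let E : W →* (T ⧸ W → Multiplicative (ZMod 2)) :=
    { toFun := fun w q => Multiplicative.ofAdd (φ (q.out⁻¹ * w * q.out))
      map_one' := funext fun q => by
        show Multiplicative.ofAdd (φ (q.out⁻¹ * ((1 : W) : T) * q.out)) = 1
        rw [OneMemClass.coe_one, mul_one, inv_mul_cancel, h0 1 (one_mem _)]; rfl
      map_mul' := fun v w => funext fun q => by
        show Multiplicative.ofAdd (φ (q.out⁻¹ * ((v * w : W) : T) * q.out)) =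
          Multiplicative.ofAdd (φ (q.out⁻¹ * v * q.out)) * Multiplicative.ofAdd (φ (q.out⁻¹ * w * q.out))
        have e : q.out⁻¹ * ((v * w : W) : T) * q.out = (q.out⁻¹ * v * q.out) * (q.out⁻¹ * w * q.out) := by
          rw [Subgroup.coe_mul]; group
        rw [e, hadd _ (hcW _ v.2) _ (hcW _ w.2)]
        rfl }
  have hcongr : ∀ t : T, (QuotientGroup.mk t : T ⧸ W).out⁻¹ * t ∈ W := fun t =>
    QuotientGroup.eq.1 (QuotientGroup.out_eq' _)
  have hEker : E.ker.map W.subtype ≤ Z T 3 := by
    rintro _ ⟨w, hw, rfl⟩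
    refine hker _ w.2 fun t => ?_
    have h3 : Multiplicative.ofAdd (φ ((QuotientGroup.mk t⁻¹ : T ⧸ W).out⁻¹ * w *
        (QuotientGroup.mk t⁻¹ : T ⧸ W).out)) = 1 := congrFun (MonoidHom.mem_ker.1 hw) _
    have h4 := phi_congr h φ hadd (hcongr t⁻¹) w.2
    rw [inv_inv] at h4
    rw [Subgroup.coe_subtype, h4]
    exact h3
  obtain ⟨hcT, hcWc, hiW, hΦ⟩ := basic h
  have hEsurj : Function.Surjective E := by
    refine MonoidHom.range_eq_top.1 (eq_top_of_le_card _ ?_)
    rw [Nat.card_fun, ← index_eq_card, hiW, Nat.card_congr (Multiplicative.toAdd), Nat.card_zmod, ← index_ker]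
    have h5 := card_mul_index E.ker
    rw [hcWc] at h5
    have h6 : Nat.card E.ker ≤ 8 := by
      have := card_le_of_le hEker
      rwa [card_map_of_injective W.subtype_injective, card_Z h 3 (by norm_num)] at this
    have h7 := Nat.mul_le_mul_right E.ker.index h6
    rw [h5] at h7
    omega
  obtain ⟨w1, hw1⟩ := hEsurj (Pi.mulSingle ((1 : T) : T ⧸ W) (Multiplicative.ofAdd (1 : ZMod 2)))
  refine ⟨w1, w1.2, ?_⟩
  set U := (zpowers (w1 : T) ⊔ frattini T).subgroupOf W
  have hZΦ : Z T 3 ≤ frattini T := by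
    rw [← commutator_map_eq h]
    refine le_trans ?_ (CfsgLib.PGroup.commutator_le_frattini h.hT)
    rw [commutator_def, map_commutator, commutator_def]
    exact commutator_mono le_top le_top
  have hwg : ∀ g : T, ∀ hg : g * w1 * g⁻¹ ∈ W, (⟨g * w1 * g⁻¹, hg⟩ : W) ∈ U := fun g _ => by
    refine mem_subgroupOf.2 ?_
    show g * (w1 : T) * g⁻¹ ∈ _
    rw [show g * (w1 : T) * g⁻¹ = ⁅g, (w1 : T)⁆ * w1 by rw [commutatorElement_def]; group]
    exact mul_mem (mem_sup_right (CfsgLib.PGroup.commutator_le_frattini h.hT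
      (commutator_mem_commutator (mem_top _) (mem_top _)))) (mem_sup_left (mem_zpowers _))
  have hUtop : U.map E = ⊤ := by
    refine eq_top_iff.2 fun x _ => pi_mem_of_mulSingle_mem x fun q => ?_
    suffices hm : Pi.mulSingle q (Multiplicative.ofAdd (1 : ZMod 2)) ∈ U.map E by
      rcases A8.zmod_two_cases (x q).toAdd with e | e
      · rw [show x q = 1 from e, Pi.mulSingle_one]; exact one_mem _
      · rw [show x q = Multiplicative.ofAdd (1 : ZMod 2) from e]; exact hm
    refine ⟨⟨q.out * w1 * q.out⁻¹, (inferInstance : W.Normal).conj_mem _ w1.2 _⟩, hwg _ _, funext fun k => ?_⟩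
    show Multiplicative.ofAdd (φ (k.out⁻¹ * (q.out * w1 * q.out⁻¹) * k.out)) = _
    have e : k.out⁻¹ * (q.out * w1 * q.out⁻¹) * k.out = (q.out⁻¹ * k.out)⁻¹ * w1 * (q.out⁻¹ * k.out) := by
      group
    rw [e, phi_congr h φ hadd (hcongr (q.out⁻¹ * k.out)) w1.2]
    have h8 := congrFun hw1 ((q.out⁻¹ * k.out : T) : T ⧸ W)
    change Multiplicative.ofAdd (φ _) = _ at h8
    rw [h8]
    rw [QuotientGroup.mk_mul, QuotientGroup.mk_inv, QuotientGroup.out_eq', QuotientGroup.out_eq',
      QuotientGroup.mk_one]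
    by_cases hqk : k = q
    · subst hqk; rw [inv_mul_cancel, Pi.mulSingle_eq_same, Pi.mulSingle_eq_same]
    · rw [Pi.mulSingle_eq_of_ne hqk, Pi.mulSingle_eq_of_ne]
      intro e'
      exact hqk (inv_mul_eq_one.1 e').symm
  intro x hx
  obtain ⟨u, hu, hue⟩ := (hUtop ▸ mem_top (E ⟨x, hx⟩) : E ⟨x, hx⟩ ∈ U.map E)
  have hz : ((u⁻¹ * ⟨x, hx⟩ : W) : T) ∈ Z T 3 :=
    hEker ⟨u⁻¹ * ⟨x, hx⟩, MonoidHom.mem_ker.2 (by rw [map_mul, map_inv, hue, inv_mul_cancel]), rfl⟩
  have := mul_mem (mem_subgroupOf.1 hu) (mem_sup_right (S := zpowers (w1 : T)) (hZΦ hz))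
  simpa using this

/-- An automorphism of odd order fixes `Z₃` pointwise. -/
theorem aut_fix_Z {W : Subgroup T} (h : Hyp W) (a : MulAut T) {n : ℕ} (hn : Odd n) (ha : a ^ n = 1) :
    ∀ z ∈ Z T 3, a z = z := by
  suffices ∀ j ≤ 3, ∀ z ∈ Z T j, a z = z from this 3 le_rfl
  intro j
  induction j with
  | zero =>
    intro _ z hz
    rw [show z = 1 from mem_bot.1 hz, map_one]
  | succ j ih =>
    intro hj z hz
    by_cases hzj : z ∈ Z T j
    · exact ih (by omega) z hzj
    have hchar : ∀ i, ∀ y, a y ∈ Z T i ↔ y ∈ Z T i := fun i y => by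
      have := characteristic_iff_comap_eq.1 (inferInstance : (Z T i).Characteristic) a
      exact ⟨fun hy => this ▸ hy, fun hy => by rw [← this] at hy; exact hy⟩
    rcases Z_cases h (by omega) hz hzj ((hchar (j + 1) z).2 hz) with h' | h'
    · exact absurd ((hchar j z).1 h') hzj
    · set c := z⁻¹ * a z with hc
      have hc' : a c = c := ih (by omega) c h'
      have hpow : ∀ m : ℕ, (a ^ m) z = z * c ^ m := by
        intro m
        induction m with
        | zero => simp
        | succ m ihm =>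
          rw [pow_succ', MulAut.mul_apply, ihm, map_mul, map_pow, hc', pow_succ',
            show a z = z * c by rw [hc, mul_inv_cancel_left], mul_assoc]
      have h2 := hpow n
      rw [ha, MulAut.one_apply] at h2
      have h3 : c ^ n = 1 := left_eq_mul.1 h2
      have hc3 : c ∈ Z T 3 := Subgroup.upperCentralSeries_mono T (by omega) h'
      obtain ⟨k, rfl⟩ := hn
      rw [pow_succ, pow_mul, sq, sq_one h hc3, one_pow, one_mul] at h3
      exact (inv_mul_eq_one.1 h3).symm

/-- An automorphism of odd order is trivial modulo the Frattini subgroup. -/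
theorem aut_mod_frattini {W : Subgroup T} (h : Hyp W) (a : MulAut T) {n : ℕ} (hn : Odd n)
    (ha : a ^ n = 1) (t : T) : t⁻¹ * a t ∈ frattini T := by
  haveI : Fact (Nat.Prime 2) := ⟨Nat.prime_two⟩
  have hfix := aut_fix_Z h a hn ha
  have haW : ∀ w ∈ W, a w ∈ W := fun w hw => by
    rw [h.hW, mem_centralizer_iff]
    intro z hz
    rw [← hfix z hz, ← map_mul, ← map_mul, Z3_comm h hw hz]
  have haT : ∀ y, y⁻¹ * a y ∈ W := fun y => by
    rw [h.hW, mem_centralizer_iff]
    intro z hz
    have h1 : a y * z * (a y)⁻¹ = y * z * y⁻¹ := by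
      rw [← hfix _ (conj_mem_Z 3 y hz), map_mul, map_mul, map_inv, hfix z hz]
    calc z * (y⁻¹ * a y) = y⁻¹ * (y * z * y⁻¹) * a y := by group
      _ = y⁻¹ * (a y * z * (a y)⁻¹) * a y := by rw [h1]
      _ = y⁻¹ * a y * z := by group
  have hchar : ∀ y, a y ∈ frattini T ↔ y ∈ frattini T := fun y => by
    have := characteristic_iff_comap_eq.1 (inferInstance : (frattini T).Characteristic) a
    exact ⟨fun hy => this ▸ hy, fun hy => by rw [← this] at hy; exact hy⟩
  obtain ⟨w1, hw1, hWle⟩ := W_le_zpowers_sup h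
  let π := QuotientGroup.mk' (frattini T)
  have hW2 : ∀ w ∈ W, π w = 1 ∨ π w = π w1 := by
    intro w hw
    obtain ⟨_, ⟨i, rfl⟩, f, hf, e⟩ := mem_sup_of_normal_left.1 (sup_comm (zpowers w1) _ ▸ hWle hw) |>.elim
      (fun f ⟨hf, y, hy, e⟩ => (⟨y, hy, y⁻¹ * f * y, (inferInstance : (frattini T).Normal).conj_mem' f hf y,
        by rw [← e]; group⟩ : ∃ y ∈ zpowers w1, ∃ f ∈ frattini T, y * f = w))
    change w1 ^ i * f = w at e
    rw [← e, map_mul, map_zpow, show π f = 1 from (QuotientGroup.eq_one_iff f).2 hf, mul_one]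
    have h2 : π w1 ^ (2 : ℤ) = 1 := by
      rw [show (2 : ℤ) = ((2 : ℕ) : ℤ) from rfl, zpow_natCast]
      exact CfsgLib.PGroup.quotient_frattini_pow h.hT _
    rcases Int.even_or_odd' i with ⟨k, rfl | rfl⟩
    · exact Or.inl (by rw [zpow_mul, h2, one_zpow])
    · exact Or.inr (by rw [zpow_add, zpow_mul, h2, one_zpow, one_mul, zpow_one])
  have hfixW : ∀ w ∈ W, π (a w) = π w := by
    intro w hw
    rcases hW2 w hw with e | e
    · rw [e]
      exact (QuotientGroup.eq_one_iff _).2 ((hchar w).2 ((QuotientGroup.eq_one_iff _).1 e))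
    · by_cases h1 : π w = 1
      · rw [h1]
        exact (QuotientGroup.eq_one_iff _).2 ((hchar w).2 ((QuotientGroup.eq_one_iff _).1 h1))
      · rcases hW2 _ (haW w hw) with e' | e'
        · exact absurd ((QuotientGroup.eq_one_iff _).2 ((hchar w).1 ((QuotientGroup.eq_one_iff _).1 e'))) h1
        · rw [e', e]
  set c := t⁻¹ * a t
  have hpow : ∀ m : ℕ, π ((a ^ m) t) = π t * π c ^ m := by
    intro m
    induction m with
    | zero => simp
    | succ m ihm =>
      have e : (a ^ m) t = t * (t⁻¹ * (a ^ m) t) := (mul_inv_cancel_left _ _).symm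
      have hm : t⁻¹ * (a ^ m) t ∈ W := by
        clear ihm e
        induction m with
        | zero => simp
        | succ m ih =>
          have := mul_mem ih (haT ((a ^ m) t))
          rw [pow_succ', MulAut.mul_apply]
          simpa [mul_assoc] using this
      have h2 : π (a (t⁻¹ * (a ^ m) t)) = π c ^ m := by
        rw [hfixW _ hm, map_mul, map_inv, ihm, inv_mul_cancel_left]
      rw [pow_succ', MulAut.mul_apply, e, map_mul, map_mul, h2,
        show π (a t) = π t * π c by rw [← map_mul, mul_inv_cancel_left], mul_assoc, ← pow_succ']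
  have h2 := hpow n
  rw [ha, MulAut.one_apply] at h2
  have h3 : π c ^ n = 1 := left_eq_mul.1 h2
  obtain ⟨k, rfl⟩ := hn
  rw [pow_succ, pow_mul, CfsgLib.PGroup.quotient_frattini_pow h.hT, one_pow, one_mul] at h3
  exact (QuotientGroup.eq_one_iff _).1 h3

end CfsgLib.InvolChar.TwoGroupW
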