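import Mathlib
import Cfsg.Agent.Lib.Classical.FiniteFieldSq

/-!
Two commuting copies of `SL₂(q)`, `q` odd, meeting in their common central involution.
-/

set_option autoImplicit false

namespace CfsgLib.InvolChar

open Matrix

section SL2

variable {F : Type*} [Field F] [Finite F]

local notation "SL" => Matrix.SpecialLinearGroup (Fin 2) F

omit [Finite F] in
theorem ch_two (M : Matrix (Fin 2) (Fin 2) F) : M * M = M.trace • M - M.det • 1 := by
  ext i j
  fin_cases i <;> fin_cases j <;>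
    simp [Matrix.mul_apply, Fin.sum_univ_two, Matrix.trace_fin_two, Matrix.det_fin_two] <;> ring

omit [Finite F] in
theorem sl_sq (M : SL) : (M : Matrix (Fin 2) (Fin 2) F).trace • (M : Matrix (Fin 2) (Fin 2) F) =
    ((M * M : SL) : Matrix (Fin 2) (Fin 2) F) + 1 := by
  rw [Matrix.SpecialLinearGroup.coe_mul, ch_two, M.2, one_smul, sub_add_cancel]

omit [Finite F] in
theorem sl_inv_only (h2 : (2 : F) ≠ 0) (M : SL) (h : M * M = 1) : M = 1 ∨ M = -1 := by
  have h1 := sl_sq M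
  rw [h, Matrix.SpecialLinearGroup.coe_one] at h1
  set t := (M : Matrix (Fin 2) (Fin 2) F).trace with ht
  have ht0 : t ≠ 0 := by
    intro h0
    rw [h0, zero_smul] at h1
    have := congrFun (congrFun h1 0) 0
    simp at this
    exact h2 (by rw [show (2 : F) = 1 + 1 by norm_num]; exact this.symm)
  have hM : (M : Matrix (Fin 2) (Fin 2) F) = (2 / t) • 1 := by
    calc (M : Matrix (Fin 2) (Fin 2) F) = t⁻¹ • (t • (M : Matrix (Fin 2) (Fin 2) F)) := by
          rw [smul_smul, inv_mul_cancel₀ ht0, one_smul]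
      _ = t⁻¹ • ((1 : Matrix (Fin 2) (Fin 2) F) + 1) := by rw [h1]
      _ = (2 / t) • 1 := by rw [← two_smul F (1 : Matrix (Fin 2) (Fin 2) F), smul_smul, div_eq_inv_mul]
  have hsq : (2 / t) * (2 / t) = 1 := by
    have := congrArg (fun X : SL => (X : Matrix (Fin 2) (Fin 2) F) 0 0) h
    simpa [hM, Matrix.mul_apply, Fin.sum_univ_two] using this
  rcases mul_self_eq_one_iff.1 hsq with h' | h'
  · left; apply Subtype.ext; rw [hM, h', one_smul]; rfl
  · right; apply Subtype.ext; rw [hM, h', neg_smul, one_smul]; simp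

omit [Finite F] in
theorem sl_trace_zero (M : SL) (h : M * M = -1) : (M : Matrix (Fin 2) (Fin 2) F).trace = 0 := by
  have h1 := sl_sq M
  rw [h] at h1
  simp at h1
  rcases h1 with h1 | h1
  · exact h1
  · exfalso
    have := M.2
    rw [h1] at this
    simp at this

omit [Finite F] in
theorem sl_roots (h2 : (2 : F) ≠ 0) (M N : SL) (h : M * M * (M * M) = -1) (hN : N * N = M * M) :
    N = M ∨ N = M * -1 := by
  have hA := sl_trace_zero (M * M) h
  have h1 := sl_sq M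
  have h3 := sl_sq N
  rw [hN] at h3
  set A := ((M * M : SL) : Matrix (Fin 2) (Fin 2) F) with hAdef
  have hts : ∀ X : SL, (X : Matrix (Fin 2) (Fin 2) F).trace • (X : Matrix (Fin 2) (Fin 2) F) = A + 1 →
      (X : Matrix (Fin 2) (Fin 2) F).trace * (X : Matrix (Fin 2) (Fin 2) F).trace = 2 := by
    intro X hX
    have := congrArg Matrix.trace hX
    rw [Matrix.trace_smul, Matrix.trace_add, hA, Matrix.trace_one, zero_add] at this
    simpa using this
  have t1 := hts M h1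
  have t3 := hts N h3
  have ht0 : (M : Matrix (Fin 2) (Fin 2) F).trace ≠ 0 := fun h0 => h2 (by rw [h0, zero_mul] at t1; exact t1.symm)
  rcases mul_self_eq_mul_self_iff.1 (t3.trans t1.symm) with ht | ht
  · left
    rw [ht] at h3
    exact Subtype.ext (smul_right_injective _ ht0 (h3.trans h1.symm))
  · right
    rw [ht] at h3
    refine Subtype.ext (smul_right_injective _ ht0 ?_)
    have := h3.trans h1.symm
    rw [neg_smul, neg_eq_iff_eq_neg] at this
    simpa using this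

theorem sl_conj_J (h2 : (2 : F) ≠ 0) (M : SL) (h : M * M = -1) :
    ∃ P : SL, (P : Matrix (Fin 2) (Fin 2) F) * !![0, -1; 1, 0] = (M : Matrix (Fin 2) (Fin 2) F) * (P : Matrix (Fin 2) (Fin 2) F) := by
  have ht := sl_trace_zero M h
  rw [Matrix.trace_fin_two] at ht
  set a := (M : Matrix (Fin 2) (Fin 2) F) 0 0 with ha
  set b := (M : Matrix (Fin 2) (Fin 2) F) 0 1 with hb
  set c := (M : Matrix (Fin 2) (Fin 2) F) 1 0 with hc
  have hd : (M : Matrix (Fin 2) (Fin 2) F) 1 1 = -a := eq_neg_of_add_eq_zero_right ht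
  have hdet : a * -a - b * c = 1 := by
    have := M.2
    rw [Matrix.det_fin_two, hd] at this
    exact this
  obtain ⟨x, y, hxy⟩ : ∃ x y : F, c * x ^ 2 - 2 * a * x * y - b * y ^ 2 = 1 := by
    by_cases hc0 : c = 0
    · have ha0 : a ≠ 0 := fun h0 => by rw [h0, hc0] at hdet; simp at hdet
      have h2a : -(2 * a) ≠ 0 := neg_ne_zero.2 (mul_ne_zero h2 ha0)
      refine ⟨(1 + b) / -(2 * a), 1, ?_⟩
      rw [hc0]
      calc 0 * ((1 + b) / -(2 * a)) ^ 2 - 2 * a * ((1 + b) / -(2 * a)) * 1 - b * 1 ^ 2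
          = -(2 * a) * ((1 + b) / -(2 * a)) - b := by ring
        _ = 1 := by rw [mul_div_cancel₀ _ h2a]; ring
    · obtain ⟨X, Y, hXY⟩ := Classical.exists_mul_sq_add_mul_sq h2 hc0 (inv_ne_zero hc0) (1 : F)
      refine ⟨X + a / c * Y, Y, ?_⟩
      rw [← hXY]
      field_simp
      linear_combination Y ^ 2 * hdet
  refine ⟨⟨!![x, a * x + b * y; y, c * x + -a * y], ?_⟩, ?_⟩
  · rw [Matrix.det_fin_two_of]
    linear_combination hxy
  · ext i j
    fin_cases i <;> fin_cases j <;>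
      simp [Matrix.mul_apply, Fin.sum_univ_two, ← ha, ← hb, ← hc, hd]
    · linear_combination x * hdet
    · linear_combination y * hdet

theorem sl_conj (h2 : (2 : F) ≠ 0) (M N : SL) (hM : M * M = -1) (hN : N * N = -1) : ∃ g : SL, g * M * g⁻¹ = N := by
  obtain ⟨P, hP⟩ := sl_conj_J h2 M hM
  obtain ⟨Q, hQ⟩ := sl_conj_J h2 N hN
  let J : SL := ⟨!![0, -1; 1, 0], by simp [Matrix.det_fin_two_of]⟩
  have e1 : P * J = M * P := Subtype.ext hP
  have e2 : Q * J = N * Q := Subtype.ext hQ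
  refine ⟨Q * P⁻¹, ?_⟩
  calc Q * P⁻¹ * M * (Q * P⁻¹)⁻¹ = Q * P⁻¹ * (M * P) * Q⁻¹ := by group
    _ = Q * J * Q⁻¹ := by rw [← e1]; group
    _ = N := by rw [e2]; group

end SL2

/-- The properties used of a copy of `SL₂(q)`, `q` odd, with central involution `j`. -/
structure IsSLTwoLike {G : Type*} [Group G] (L : Subgroup G) (j : G) : Prop where
  inv : ∀ u ∈ L, u * u = 1 → u = 1 ∨ u = j
  conj : ∀ u ∈ L, ∀ v ∈ L, u * u = j → v * v = j → ∃ g ∈ L, g * u * g⁻¹ = v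
  exists_root : ∃ a ∈ L, a * a = j
  roots : ∀ u ∈ L, ∀ v ∈ L, u * u * (u * u) = j → v * v = u * u → v = u ∨ v = u * j

theorem isSLTwoLike {G : Type*} [Group G] {F : Type*} [Field F] [Fintype F] (hF : Odd (Fintype.card F))
    (L : Subgroup G) (e : ↥L ≃* Matrix.SpecialLinearGroup (Fin 2) F) (j : G) (hj : orderOf j = 2)
    (hjL : j ∈ L) : IsSLTwoLike L j := by
  have h2 : (2 : F) ≠ 0 := Classical.two_ne_zero_of_odd_card hF
  have hej : e ⟨j, hjL⟩ = -1 := by
    have hj2 : (⟨j, hjL⟩ : ↥L) * ⟨j, hjL⟩ = 1 := Subtype.ext (by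
      show j * j = 1
      rw [← sq, ← hj]; exact pow_orderOf_eq_one j)
    refine (sl_inv_only h2 _ (by rw [← map_mul, hj2, map_one])).resolve_left fun h => ?_
    have : (⟨j, hjL⟩ : ↥L) = 1 := e.injective (h.trans (map_one e).symm)
    have h' : j = 1 := congrArg Subtype.val this
    rw [h', orderOf_one] at hj
    norm_num at hj
  have hval : ∀ (u : ↥L) (M : Matrix.SpecialLinearGroup (Fin 2) F), e u = M → (u : G) = (e.symm M : G) := by
    rintro u M rfl; rw [e.symm_apply_apply]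
  refine ⟨?_, ?_, ?_, ?_⟩
  · intro u hu h
    have h' : e ⟨u, hu⟩ * e ⟨u, hu⟩ = 1 := by
      rw [← map_mul, show (⟨u, hu⟩ : ↥L) * ⟨u, hu⟩ = 1 from Subtype.ext h, map_one]
    rcases sl_inv_only h2 _ h' with h3 | h3
    · exact Or.inl (congrArg Subtype.val (e.injective (h3.trans (map_one e).symm)))
    · exact Or.inr (congrArg Subtype.val (e.injective (h3.trans hej.symm)))
  · intro u hu v hv h1 h3
    have hh : ∀ w (hw : w ∈ L), w * w = j → e ⟨w, hw⟩ * e ⟨w, hw⟩ = -1 := fun w hw h => by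
      rw [← map_mul, show (⟨w, hw⟩ : ↥L) * ⟨w, hw⟩ = ⟨j, hjL⟩ from Subtype.ext h, hej]
    obtain ⟨g, hg⟩ := sl_conj h2 _ _ (hh u hu h1) (hh v hv h3)
    refine ⟨e.symm g, (e.symm g).2, ?_⟩
    have : e.symm g * ⟨u, hu⟩ * (e.symm g)⁻¹ = ⟨v, hv⟩ := e.injective (by
      rw [map_mul, map_mul, map_inv, e.apply_symm_apply, hg])
    exact congrArg Subtype.val this
  · let J : Matrix.SpecialLinearGroup (Fin 2) F := ⟨!![0, -1; 1, 0], by simp [Matrix.det_fin_two_of]⟩
    refine ⟨e.symm J, (e.symm J).2, ?_⟩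
    have : e.symm J * e.symm J = ⟨j, hjL⟩ := e.injective (by
      rw [map_mul, e.apply_symm_apply, hej]
      apply Subtype.ext
      rw [Matrix.SpecialLinearGroup.coe_mul, Matrix.SpecialLinearGroup.coe_neg, Matrix.SpecialLinearGroup.coe_one]
      ext i k
      fin_cases i <;> fin_cases k <;> simp [J, Matrix.mul_apply, Fin.sum_univ_two])
    exact congrArg Subtype.val this
  · intro u hu v hv h1 h3
    have hM : e ⟨u, hu⟩ * e ⟨u, hu⟩ * (e ⟨u, hu⟩ * e ⟨u, hu⟩) = -1 := by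
      rw [← map_mul, ← map_mul, show (⟨u, hu⟩ : ↥L) * ⟨u, hu⟩ * (⟨u, hu⟩ * ⟨u, hu⟩) = ⟨j, hjL⟩ from Subtype.ext h1, hej]
    have hN : e ⟨v, hv⟩ * e ⟨v, hv⟩ = e ⟨u, hu⟩ * e ⟨u, hu⟩ := by
      rw [← map_mul, ← map_mul, show (⟨v, hv⟩ : ↥L) * ⟨v, hv⟩ = ⟨u, hu⟩ * ⟨u, hu⟩ from Subtype.ext h3]
    rcases sl_roots h2 _ _ hM hN with h | h
    · exact Or.inl (congrArg Subtype.val (e.injective h))
    · rw [← hej, ← map_mul] at h
      exact Or.inr (congrArg Subtype.val (e.injective h))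

section Pair

variable {G : Type*} [Group G] {L₁ L₂ : Subgroup G}

theorem exists_mul_of_mem_sup (hc : ∀ x ∈ L₁, ∀ y ∈ L₂, x * y = y * x) {g : G} (hg : g ∈ L₁ ⊔ L₂) :
    ∃ u ∈ L₁, ∃ v ∈ L₂, g = u * v := by
  let μ : ↥L₁ × ↥L₂ →* G := MonoidHom.noncommCoprod L₁.subtype L₂.subtype (fun a b => hc a a.2 b b.2)
  have hle : L₁ ⊔ L₂ ≤ μ.range := by
    refine sup_le (fun a ha => ⟨(⟨a, ha⟩, 1), ?_⟩) (fun b hb => ⟨(1, ⟨b, hb⟩), ?_⟩)
    · show a * ((1 : ↥L₂) : G) = a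
      simp
    · show ((1 : ↥L₁) : G) * b = b
      simp
  obtain ⟨⟨u, v⟩, h⟩ := hle hg
  exact ⟨u, u.2, v, v.2, h.symm⟩

theorem sq_of_commute (hc : ∀ x ∈ L₁, ∀ y ∈ L₂, x * y = y * x) {u v : G} (hu : u ∈ L₁) (hv : v ∈ L₂) :
    u * v * (u * v) = u * u * (v * v) := by
  calc u * v * (u * v) = u * (v * u) * v := by group
    _ = u * (u * v) * v := by rw [hc u hu v hv]
    _ = _ := by group

/-- The involutions of the product other than `j` form one class. -/
theorem pair_involutions (hc : ∀ x ∈ L₁, ∀ y ∈ L₂, x * y = y * x) {j : G} (hj : j * j = 1)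
    (hm : L₁ ⊓ L₂ = Subgroup.zpowers j) (h₁ : IsSLTwoLike L₁ j) (h₂ : IsSLTwoLike L₂ j)
    {a b : G} (ha : a ∈ L₁) (haa : a * a = j) (hb : b ∈ L₂) (hbb : b * b = j) {y : G} (hy : y ∈ L₁ ⊔ L₂)
    (hy2 : y * y = 1) : y = 1 ∨ y = j ∨ ∃ g ∈ L₁ ⊔ L₂, g * (a * b) * g⁻¹ = y := by
  obtain ⟨u, hu, v, hv, rfl⟩ := exists_mul_of_mem_sup hc hy
  rw [sq_of_commute hc hu hv] at hy2
  have hzj : ∀ w ∈ Subgroup.zpowers j, w = 1 ∨ w = j := by
    intro w hw
    obtain ⟨k, rfl⟩ := Subgroup.mem_zpowers_iff.1 hw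
    rcases Int.even_or_odd k with ⟨i, rfl⟩ | ⟨i, rfl⟩
    · left; rw [← two_mul, _root_.zpow_mul, zpow_two, hj, _root_.one_zpow]
    · right; rw [_root_.zpow_add, _root_.zpow_mul, zpow_two, hj, _root_.one_zpow, one_mul, zpow_one]
  have huu : u * u ∈ L₁ ⊓ L₂ := Subgroup.mem_inf.2 ⟨mul_mem hu hu, by
    rw [eq_inv_of_mul_eq_one_left hy2]; exact inv_mem (mul_mem hv hv)⟩
  rw [hm] at huu
  rcases hzj _ huu with h | h
  · rw [h, one_mul] at hy2
    have hjj : ∀ p q : G, (p = 1 ∨ p = j) → (q = 1 ∨ q = j) → p * q = 1 ∨ p * q = j := by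
      rintro p q (rfl | rfl) (rfl | rfl) <;> simp [hj]
    rcases hjj u v (h₁.inv u hu h) (h₂.inv v hv hy2) with h' | h'
    · exact Or.inl h'
    · exact Or.inr (Or.inl h')
  · right; right
    rw [h] at hy2
    have hvv : v * v = j := by rw [← inv_eq_of_mul_eq_one_right hy2, inv_eq_of_mul_eq_one_right hj]
    obtain ⟨g, hg, hgu⟩ := h₁.conj a ha u hu haa h
    obtain ⟨k, hk, hkv⟩ := h₂.conj b hb v hv hbb hvv
    refine ⟨g * k, mul_mem (Subgroup.mem_sup_left hg) (Subgroup.mem_sup_right hk), ?_⟩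
    have e1 : Commute k a := (hc a ha k hk).symm
    have e2 : Commute g (k * b * k⁻¹) := hc g hg _ (mul_mem (mul_mem hk hb) (inv_mem hk))
    calc g * k * (a * b) * (g * k)⁻¹ = g * (k * a) * b * k⁻¹ * g⁻¹ := by group
      _ = g * (a * k) * b * k⁻¹ * g⁻¹ := by rw [e1.eq]
      _ = (g * a * g⁻¹) * (g * (k * b * k⁻¹) * g⁻¹) := by group
      _ = u * v := by rw [e2.eq, hgu, hkv, mul_inv_cancel_right]

end Pair

end CfsgLib.InvolChar
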