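import Mathlib
import Cfsg.Prelude.Def_Transfer
import Cfsg.Agent.Lib.InvolChar.CosetClosed
import Cfsg.Agent.Lib.Invol.ZStarFinal
import Cfsg.Agent.Lib.Invol.Sylow
import Cfsg.Agent.Lib.Fusion.GroupSystem

/-!
Non-simplicity from a weakly closed central subgroup `W` and an involution coset `W t`
with `W ≤ O_{2',2}` of every centralizer in the coset.
-/

set_option autoImplicit false

namespace CfsgLib.InvolChar.WeakClosureCoset

open Cfsg CfsgLib.Invol
open CfsgLib.Fusion (conjSub conjSub_conjSub conjSub_one conjSub_mono card_conjSub conj_mem_conjSub)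

variable {G : Type*} [Group G] [Finite G] {T : Sylow 2 G} {W : Subgroup G}

omit [Finite G] in
/-- A weakly closed subgroup is the only conjugate of itself inside a conjugate of the Sylow subgroup
containing it. -/
theorem eq_of_le_conj (hwc : IsWeaklyClosed W (T : Subgroup G)) {h a : G}
    (hW : W ≤ conjSub h (T : Subgroup G)) (ha : conjSub a W ≤ conjSub h (T : Subgroup G)) : conjSub a W = W := by
  have key : ∀ b : G, conjSub b W ≤ conjSub h (T : Subgroup G) → conjSub b W = conjSub h W := by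
    intro b hb
    have h1 : conjSub (h⁻¹ * b) W ≤ (T : Subgroup G) := by
      rw [← conjSub_conjSub]
      refine (conjSub_mono _ hb).trans ?_
      rw [conjSub_conjSub, inv_mul_cancel, conjSub_one]
    have h2 : conjSub (h⁻¹ * b) W = W := hwc.2 _ h1
    calc conjSub b W = conjSub h (conjSub (h⁻¹ * b) W) := by rw [conjSub_conjSub, mul_inv_cancel_left]
      _ = conjSub h W := by rw [h2]
  rw [key a ha, ← key 1 (by rwa [conjSub_one]), conjSub_one]

variable (hWZ : W ≤ (T : Subgroup G) ⊓ Subgroup.centralizer ((T : Subgroup G) : Set G))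
  (hwc : IsWeaklyClosed W (T : Subgroup G))

include hWZ hwc in
/-- A conjugate of an element of `W` lying in `T` lies in `W`. -/
theorem mem_of_conj_mem {w g : G} (hw : w ∈ W) (hy : g * w * g⁻¹ ∈ (T : Subgroup G)) : g * w * g⁻¹ ∈ W := by
  classical
  haveI : Fact (Nat.Prime 2) := ⟨Nat.prime_two⟩
  set y := g * w * g⁻¹ with hy'
  set C := Subgroup.centralizer ({y} : Set G) with hC
  have hWC : W ≤ C := fun v hv => Subgroup.mem_centralizer_singleton_iff.2
    (Subgroup.mem_centralizer_iff.1 (hWZ hv).2 y hy).symm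
  have hgWC : conjSub g W ≤ C := by
    rintro _ ⟨v, hv, rfl⟩
    refine Subgroup.mem_centralizer_singleton_iff.2 ?_
    show g * v * g⁻¹ * y = y * (g * v * g⁻¹)
    have hvw : w * v = v * w := Subgroup.mem_centralizer_iff.1 (hWZ hv).2 w (hWZ hw).1
    rw [hy']
    calc g * v * g⁻¹ * (g * w * g⁻¹) = g * (v * w) * g⁻¹ := by group
      _ = g * (w * v) * g⁻¹ := by rw [hvw]
      _ = g * w * g⁻¹ * (g * v * g⁻¹) := by group
  have hWp : IsPGroup 2 W := T.2.to_le fun v hv => (hWZ hv).1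
  obtain ⟨R, hR⟩ := (hWp.comap_subtype (K := C)).exists_le_sylow
  set R' := (R : Subgroup C).map C.subtype with hR'
  have hWR : W ≤ R' := fun v hv => ⟨⟨v, hWC hv⟩, hR hv, rfl⟩
  have hRi : ¬ 2 ∣ R'.relIndex C := by
    rw [hR', Subgroup.relIndex, Subgroup.subgroupOf,
      Subgroup.comap_map_eq_self_of_injective C.subtype_injective]
    exact R.not_dvd_index
  obtain ⟨c, hc, hcR⟩ := CfsgLib.Fusion.exists_conj_mem_of_le (hWp.map (MulAut.conj g).toMonoidHom) (R.2.map _)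
    hgWC (Subgroup.map_subtype_le _) hRi
  obtain ⟨T1, hT1⟩ := (R.2.map C.subtype).exists_le_sylow
  obtain ⟨h, hh⟩ := CfsgLib.Invol.sylow_exists_conj T T1
  have hTh : R' ≤ conjSub h (T : Subgroup G) := fun x hx =>
    ⟨h⁻¹ * x * h, (hh x).1 (hT1 hx), show h * (h⁻¹ * x * h) * h⁻¹ = x by group⟩
  have hle : conjSub (c * g) W ≤ conjSub h (T : Subgroup G) := by
    rw [← conjSub_conjSub]
    rintro _ ⟨x, hx, rfl⟩
    exact hTh (hcR x hx)
  have heq := eq_of_le_conj hwc (hWR.trans hTh) hle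
  have h1 : (c * g) * w * (c * g)⁻¹ ∈ W := heq.le (conj_mem_conjSub hw)
  have hcy : (c * g) * w * (c * g)⁻¹ = y := by
    calc (c * g) * w * (c * g)⁻¹ = c * y * c⁻¹ := by rw [hy']; group
      _ = y := by rw [Subgroup.mem_centralizer_singleton_iff.1 hc, mul_inv_cancel_right]
  rwa [hcy] at h1

include hWZ hwc in
/-- A conjugate of an element of `W` is central in every 2-group containing it. -/
theorem commute_of_isPGroup {w g : G} (hw : w ∈ W) {R : Subgroup G} (hR : IsPGroup 2 R)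
    (hy : g * w * g⁻¹ ∈ R) {r : G} (hr : r ∈ R) : Commute (g * w * g⁻¹) r := by
  haveI : Fact (Nat.Prime 2) := ⟨Nat.prime_two⟩
  obtain ⟨T1, hT1⟩ := hR.exists_le_sylow
  obtain ⟨h, hh⟩ := CfsgLib.Invol.sylow_exists_conj T T1
  have h1 : (h⁻¹ * g) * w * (h⁻¹ * g)⁻¹ ∈ (T : Subgroup G) := by
    have := (hh _).1 (hT1 hy)
    simpa [mul_assoc] using this
  have h2 := mem_of_conj_mem hWZ hwc hw h1
  have h3 := Subgroup.mem_centralizer_iff.1 (hWZ h2).2 (h⁻¹ * r * h) ((hh r).1 (hT1 hr))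
  show g * w * g⁻¹ * r = r * (g * w * g⁻¹)
  calc g * w * g⁻¹ * r = h * (h⁻¹ * g * w * (h⁻¹ * g)⁻¹ * (h⁻¹ * r * h)) * h⁻¹ := by group
    _ = h * (h⁻¹ * r * h * (h⁻¹ * g * w * (h⁻¹ * g)⁻¹)) * h⁻¹ := by rw [h3]
    _ = r * (g * w * g⁻¹) := by group

include hWZ hwc in
theorem not_simple (hW1 : W ≠ ⊥) {t : G} (ht : orderOf t = 2) (htT : t ∈ (T : Subgroup G)) (htW : t ∉ W)
    (hcos : ∀ w ∈ W, orderOf (w * t) = 2 →
      W.subgroupOf (Subgroup.centralizer ({w * t} : Set G)) ≤ pPrimePCore 2 ↥(Subgroup.centralizer ({w * t} : Set G))) :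
    ¬ IsSimpleGroup G := by
  classical
  intro hsimp
  haveI : Fact (Nat.Prime 2) := ⟨Nat.prime_two⟩
  haveI := Fintype.ofFinite G
  obtain ⟨M, hM⟩ := CfsgLib.Invol.exists_isPModular 2 Nat.prime_two
  -- an involution of `W`
  obtain ⟨w, hwW, hw⟩ : ∃ w ∈ W, orderOf w = 2 := by
    obtain ⟨k, hk⟩ := (T.2.to_le fun v hv => (hWZ hv).1 : IsPGroup 2 W).exists_card_eq
    have hk0 : k ≠ 0 := by rintro rfl; rw [pow_zero] at hk; exact hW1 (Subgroup.card_eq_one.1 hk)
    obtain ⟨w, hw⟩ := exists_prime_orderOf_dvd_card' (G := W) 2 (hk ▸ dvd_pow_self 2 hk0)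
    exact ⟨w, w.2, by rwa [Subgroup.orderOf_coe]⟩
  set Ω : Set G := {b | ∃ v ∈ W, v * t = b ∧ orderOf b = 2} with hΩ
  refine CosetClosed.false_of_closed hM (w := w) (fun h => by simp [h] at hw) Ω
    ⟨t, 1, W.one_mem, one_mul t, ht⟩ (fun b ⟨_, _, _, hb⟩ => hb) fun x hxΩ g => ?_
  obtain ⟨v₁, hv₁, hxt, hx⟩ := hxΩ
  set s := g * w * g⁻¹ with hs'
  have hs : orderOf s = 2 := (orderOf_conj_eq g w).trans hw
  have hxT : x ∈ (T : Subgroup G) := hxt ▸ (T : Subgroup G).mul_mem (hWZ hv₁).1 htT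
  have hxW : x ∉ W := fun h => htW (by simpa [← hxt] using W.mul_mem (W.inv_mem hv₁) h)
  have hnc : ¬ IsConj x s := by
    intro h
    obtain ⟨a, ha⟩ := isConj_iff.1 h
    have e : (a⁻¹ * g) * w * (a⁻¹ * g)⁻¹ = x := by
      calc (a⁻¹ * g) * w * (a⁻¹ * g)⁻¹ = a⁻¹ * (g * w * g⁻¹) * a := by group
        _ = a⁻¹ * (a * x * a⁻¹) * a := by rw [ha, ← hs']
        _ = x := by group
    exact hxW (e ▸ mem_of_conj_mem hWZ hwc hwW (by rw [e]; exact hxT))
  have hev := even_of_not_isConj hx hs hnc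
  have h4 : ¬ 4 ∣ orderOf (x * s) := by
    intro h4
    obtain ⟨m, hm⟩ := h4
    set q := (x * s) ^ m with hq
    have hmpos : 0 < m := by have := orderOf_pos (x * s); omega
    have hqo : orderOf q = 4 := by
      rw [hq, orderOf_pow' _ hmpos.ne', hm, Nat.gcd_eq_right (Dvd.intro_left 4 rfl),
        Nat.mul_div_cancel _ hmpos]
    have hsq : s * q * s⁻¹ = q⁻¹ := by
      have h1 : s * (x * s) * s⁻¹ = (x * s)⁻¹ := by
        have hsx : (x * s)⁻¹ = s * x := by
          rw [mul_inv_rev, inv_eq_of_orderOf_two hx, inv_eq_of_orderOf_two hs]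
        rw [hsx, mul_assoc, mul_inv_cancel_right]
      rw [hq, ← conj_pow, h1, inv_pow]
    have hsn : s ∈ Subgroup.normalizer ((Subgroup.zpowers q : Subgroup G) : Set G) := by
      refine CfsgLib.Fusion.mem_normalizer_of_forall fun y hy => ?_
      obtain ⟨i, rfl⟩ := Subgroup.mem_zpowers_iff.1 hy
      rw [conj_zpow_eq_inv hsq]
      exact Subgroup.zpow_mem_zpowers q _
    have hR : IsPGroup 2 ↥(Subgroup.zpowers q ⊔ Subgroup.zpowers s) :=
      IsPGroup.to_sup_of_normal_left' (IsPGroup.of_card (n := 2) (by rw [Nat.card_zpowers, hqo]; norm_num))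
        (IsPGroup.of_card (n := 1) (by rw [Nat.card_zpowers, hs, pow_one])) (Subgroup.zpowers_le.2 hsn)
    have hc : Commute s q := commute_of_isPGroup hWZ hwc hwW hR
      (Subgroup.mem_sup_right (Subgroup.mem_zpowers s)) (Subgroup.mem_sup_left (Subgroup.mem_zpowers q))
    rw [hc.eq, mul_inv_cancel_right] at hsq
    have : q ^ 2 = 1 := by rw [pow_two]; nth_rw 2 [hsq]; exact mul_inv_cancel q
    have := orderOf_dvd_of_pow_eq_one this
    rw [hqo] at this
    norm_num at this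
  obtain ⟨d, -, hd⟩ := conj_half_of_not_four_dvd hx hs hev h4
  obtain ⟨m, hm⟩ : ∃ m, orderOf (x * s) = m + m := id hev
  have hmodd : Odd m := by
    rcases Nat.even_or_odd m with ⟨j, hj⟩ | h
    · exact absurd ⟨j, by omega⟩ h4
    · exact h
  have hm2 : orderOf (x * s) / 2 = m := by omega
  set u := (x * s) ^ m with hu
  have hou : orderOf u = 2 := by rw [hu, ← hm2]; exact orderOf_half hev
  have hux : Commute u x := by rw [hu, ← hm2]; exact commute_half_left hx hs hev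
  rw [hm2, ← hu] at hd
  set s' := x * u with hs''
  -- move `s'` into `W` inside `C(x)`
  set Cx := Subgroup.centralizer ({x} : Set G) with hCx
  have hWCx : W ≤ Cx := fun v hv => Subgroup.mem_centralizer_singleton_iff.2
    (Subgroup.mem_centralizer_iff.1 (hWZ hv).2 x hxT).symm
  have hs'C : s' ∈ Cx := Subgroup.mem_centralizer_singleton_iff.2 ((Commute.refl x).mul_left hux).eq
  have hs'e : (d * g) * w * (d * g)⁻¹ = s' := by rw [← hd, hs']; group
  have hs'o : orderOf s' = 2 := by rw [← hd, orderOf_conj_eq]; exact hs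
  obtain ⟨R, hR⟩ := ((T.2.to_le fun v hv => (hWZ hv).1 : IsPGroup 2 W).comap_subtype (K := Cx)).exists_le_sylow
  set R' := (R : Subgroup Cx).map Cx.subtype with hR'
  have hRi : ¬ 2 ∣ R'.relIndex Cx := by
    rw [hR', Subgroup.relIndex, Subgroup.subgroupOf,
      Subgroup.comap_map_eq_self_of_injective Cx.subtype_injective]
    exact R.not_dvd_index
  obtain ⟨c, hc, hcR⟩ := CfsgLib.Fusion.exists_conj_mem_of_le
    (IsPGroup.of_card (n := 1) (by rw [Nat.card_zpowers, hs'o, pow_one]) : IsPGroup 2 (Subgroup.zpowers s'))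
    (R.2.map _) (Subgroup.zpowers_le.2 hs'C) (Subgroup.map_subtype_le _) hRi
  set w'' := c * s' * c⁻¹ with hw''
  have hw''R : w'' ∈ R' := hcR _ (Subgroup.mem_zpowers s')
  have hw''W : w'' ∈ W := by
    obtain ⟨T1, hT1⟩ := (R.2.map Cx.subtype).exists_le_sylow
    obtain ⟨h, hh⟩ := CfsgLib.Invol.sylow_exists_conj T T1
    have h1 : (h⁻¹ * c * d * g) * w * (h⁻¹ * c * d * g)⁻¹ ∈ (T : Subgroup G) := by
      have := (hh _).1 (hT1 hw''R)
      rw [hw'', ← hs'e] at this
      simpa [mul_assoc] using this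
    have h2 := mem_of_conj_mem hWZ hwc hwW h1
    have hWT1 : W ≤ conjSub h (T : Subgroup G) := fun v hv =>
      ⟨h⁻¹ * v * h, (hh v).1 (hT1 ⟨⟨v, hWCx hv⟩, hR hv, rfl⟩), show h * (h⁻¹ * v * h) * h⁻¹ = v by group⟩
    have h3 : conjSub h W = W := eq_of_le_conj hwc hWT1 (conjSub_mono h fun v hv => (hWZ hv).1)
    refine h3.le ⟨_, h2, ?_⟩
    show h * (h⁻¹ * c * d * g * w * (h⁻¹ * c * d * g)⁻¹) * h⁻¹ = w''
    rw [hw'', ← hs'e]; group
  have hcx : c * x * c⁻¹ = x := by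
    rw [Subgroup.mem_centralizer_singleton_iff.1 hc, mul_inv_cancel_right]
  set x' := c * u * c⁻¹ with hx'
  have hx'o : orderOf x' = 2 := (orderOf_conj_eq c u).trans hou
  have hx'e : w'' * x = x' := by
    have hcomm : Commute w'' x := by
      have := hWCx hw''W
      exact Subgroup.mem_centralizer_singleton_iff.1 this
    rw [hcomm.eq]
    calc x * w'' = (c * x * c⁻¹) * (c * s' * c⁻¹) := by rw [hcx, hw'']
      _ = c * (x * s') * c⁻¹ := by group
      _ = c * (x * (x * u)) * c⁻¹ := by rw [hs'']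
      _ = x' := by rw [← mul_assoc x, mul_self_of_orderOf_two hx, one_mul, hx']
  have hx'X : x' = w'' * v₁ * t := by rw [← hx'e, ← hxt]; exact (mul_assoc w'' v₁ t).symm
  refine ⟨x', ⟨w'' * v₁, W.mul_mem hw''W hv₁, hx'X.symm, hx'o⟩, fun χ hχ => ?_⟩
  -- the odd part
  set v := (x * s) ^ (m + 1) with hv
  have hvu : u * v = x * s := by
    rw [hu, hv, ← pow_add, show m + (m + 1) = orderOf (x * s) + 1 by omega, pow_succ, pow_orderOf_eq_one, one_mul]
  have hvo : v ^ m = 1 := by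
    obtain ⟨j, hj⟩ := hmodd
    rw [hv, ← pow_mul, show (m + 1) * m = orderOf (x * s) * (j + 1) by rw [hm, hj]; ring, pow_mul,
      pow_orderOf_eq_one, one_pow]
  set y := c * v * c⁻¹ with hy
  have hyodd : y ^ m = 1 := by rw [hy, conj_pow, hvo]; simp
  have hx'y : Commute x' y := (Commute.pow_pow (Commute.refl (x * s)) m (m + 1)).conj c
  -- `w''` inverts `y`
  have hwy : w'' * y * w''⁻¹ = y⁻¹ := by
    have h1 : x * v * x⁻¹ = v⁻¹ := by
      rw [hv, ← conj_pow, conj_mul_eq_inv hx hs, inv_pow]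
    have huv : Commute u v := Commute.pow_pow (Commute.refl (x * s)) m (m + 1)
    calc w'' * y * w''⁻¹ = c * (x * (u * v) * u⁻¹ * x⁻¹) * c⁻¹ := by rw [hw'', hy, hs'']; group
      _ = c * (x * v * x⁻¹) * c⁻¹ := by rw [huv.eq, mul_assoc x, mul_assoc v, mul_inv_cancel, mul_one]
      _ = y⁻¹ := by rw [h1, hy]; group
  set C' := Subgroup.centralizer ({x'} : Set G) with hC'
  have hyC : y ∈ C' := Subgroup.mem_centralizer_singleton_iff.2 hx'y.eq.symm
  have hw''C : w'' ∈ C' := by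
    refine Subgroup.mem_centralizer_singleton_iff.2 ?_
    rw [← hx'e]
    exact ((Commute.refl w'').mul_right (Subgroup.mem_centralizer_singleton_iff.1 (hWCx hw''W))).eq
  have hP : W.subgroupOf C' ≤ pPrimePCore 2 ↥C' := by
    have := hcos (w'' * v₁) (W.mul_mem hw''W hv₁) (hx'X ▸ hx'o)
    rw [← hx'X] at this
    exact this
  set ω : ↥C' := ⟨w'', hw''C⟩
  set η : ↥C' := ⟨y, hyC⟩
  set π := QuotientGroup.mk' (pPrimeCore 2 ↥C') with hπ
  have hωP : π ω ∈ pCore 2 (↥C' ⧸ pPrimeCore 2 ↥C') := hP (show ω ∈ W.subgroupOf C' from hw''W)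
  have hη2 : π (η * η) ∈ pCore 2 (↥C' ⧸ pPrimeCore 2 ↥C') := by
    have hn : (pCore 2 (↥C' ⧸ pPrimeCore 2 ↥C')).Normal := inferInstance
    have h1 := hn.conj_mem _ hωP (π η)
    have h2 := mul_mem h1 ((pCore 2 (↥C' ⧸ pPrimeCore 2 ↥C')).inv_mem hωP)
    have e : η * ω * η⁻¹ * ω⁻¹ = η * η := by
      apply Subtype.ext
      show y * w'' * y⁻¹ * w''⁻¹ = y * y
      calc y * w'' * y⁻¹ * w''⁻¹ = y * (w'' * y * w''⁻¹)⁻¹ := by group
        _ = y * y := by rw [hwy, inv_inv]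
    rwa [← map_inv, ← map_inv, ← map_mul, ← map_mul, ← map_mul, e] at h2
  have hηm : η ^ m = 1 := Subtype.ext hyodd
  have hηO : η ∈ pPrimeCore 2 ↥C' := by
    obtain ⟨k, hk⟩ := (CfsgLib.Cores.isPGroup_pCore 2 : IsPGroup 2 ↥(pCore 2 (↥C' ⧸ pPrimeCore 2 ↥C'))) ⟨_, hη2⟩
    have hk' : π (η * η) ^ (2 ^ k) = 1 := congrArg Subtype.val hk
    rw [map_mul, ← pow_two, ← pow_mul, ← pow_succ'] at hk'
    have hm' : π η ^ m = 1 := by rw [← map_pow, hηm, map_one]
    have hcop : Nat.Coprime (2 ^ (k + 1)) m := Nat.Coprime.pow_left _ (Nat.coprime_two_left.2 hmodd)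
    have : π η = 1 := orderOf_eq_one_iff.1
      (Nat.eq_one_of_dvd_coprimes hcop (orderOf_dvd_of_pow_eq_one hk') (orderOf_dvd_of_pow_eq_one hm'))
    exact (QuotientGroup.eq_one_iff η).1 this
  have hcore : y ∈ centralizerPPrimeCore 2 x' := ⟨η, hηO, rfl⟩
  have h5 := CfsgLib.Invol.constTwo G M hM x' y ⟨1, by rw [hx'o, pow_one]⟩ hcore χ hχ
  have hcf := CfsgLib.Char.isClassFunction_of_isIrr χ.2
  rw [← h5, hx', hy, show c * u * c⁻¹ * (c * v * c⁻¹) = c * (u * v) * c⁻¹ by group, hvu, hcf]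
  rw [show g * w * g⁻¹ * x = x⁻¹ * (x * s) * x⁻¹⁻¹ by rw [← hs']; group]
  exact hcf _ _

end CfsgLib.InvolChar.WeakClosureCoset
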